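import Mathlib.RepresentationTheory.Character
import Mathlib.RepresentationTheory.Maschke
import Mathlib.RepresentationTheory.Semisimple
import Mathlib.LinearAlgebra.Eigenspace.Semisimple
import Mathlib.LinearAlgebra.Eigenspace.Triangularizable
import Mathlib.LinearAlgebra.FiniteDimensional.Basic
import Mathlib.FieldTheory.Separable
import Mathlib.Analysis.Complex.Polynomial.Basic
import Mathlib.RingTheory.IntegralClosure.IsIntegral.Basic
import Cfsg.Prelude.Def_Characters

/-!
# Ordinary characters: basic closure properties and eigenvalues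

Characters in the sense of `Cfsg.IsCharacter`, related to representations on arbitrary
finite-dimensional spaces.
-/

set_option autoImplicit false
set_option linter.unusedSectionVars false

namespace Cfsg.Lib.Char

open Cfsg Module
open scoped ComplexConjugate

universe u v w

variable {G : Type u} [Group G]

/-- Transport of a representation along a linear equivalence. -/
noncomputable def transportRep {V : Type v} [AddCommGroup V] [Module ℂ V] {W : Type w}
    [AddCommGroup W] [Module ℂ W] (e : V ≃ₗ[ℂ] W) (ρ : Representation ℂ G V) :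
    Representation ℂ G W where
  toFun g := e.conj (ρ g)
  map_one' := by ext x; simp
  map_mul' a b := by ext x; simp [map_mul]

theorem transportRep_apply {V : Type v} [AddCommGroup V] [Module ℂ V] {W : Type w}
    [AddCommGroup W] [Module ℂ W] (e : V ≃ₗ[ℂ] W) (ρ : Representation ℂ G V) (g : G) (x : W) :
    transportRep e ρ g x = e (ρ g (e.symm x)) := rfl

noncomputable def transportEquiv {V : Type v} [AddCommGroup V] [Module ℂ V] {W : Type w}
    [AddCommGroup W] [Module ℂ W] (e : V ≃ₗ[ℂ] W) (ρ : Representation ℂ G V) :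
    ρ.Equiv (transportRep e ρ) :=
  Representation.Equiv.mk e (fun g => by ext x; simp [transportRep_apply])

theorem character_transportRep {V : Type v} [AddCommGroup V] [Module ℂ V] {W : Type w}
    [AddCommGroup W] [Module ℂ W] (e : V ≃ₗ[ℂ] W) (ρ : Representation ℂ G V) :
    (transportRep e ρ).character = ρ.character := by
  ext g
  exact LinearMap.trace_conj' (ρ g) e

/-- Characterisation of irreducibility by invariant submodules. -/
theorem isIrreducible_iff_submodule {k : Type*} [Field k] {V : Type v} [AddCommGroup V]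
    [Module k V] (ρ : Representation k G V) :
    ρ.IsIrreducible ↔ Nontrivial V ∧
      ∀ p : Submodule k V, (∀ g, ∀ x ∈ p, ρ g x ∈ p) → p = ⊥ ∨ p = ⊤ := by
  constructor
  · intro h
    refine ⟨?_, fun p hp => ?_⟩
    · rcases subsingleton_or_nontrivial V with hV | hV
      · exfalso
        obtain ⟨a, b, hab⟩ := h.toNontrivial
        exact hab (Subrepresentation.toSubmodule_injective (Subsingleton.elim _ _))
      · exact hV
    · rcases h.eq_bot_or_eq_top ⟨p, fun g x hx => hp g x hx⟩ with h | h
      · exact Or.inl (congrArg Subrepresentation.toSubmodule h)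
      · exact Or.inr (congrArg Subrepresentation.toSubmodule h)
  · rintro ⟨hV, h⟩
    have hne : Nontrivial (Subrepresentation ρ) :=
      ⟨⊥, ⊤, fun h' => bot_ne_top (α := Submodule k V)
        (congrArg Subrepresentation.toSubmodule h')⟩
    exact ⟨fun q => (h q.toSubmodule fun g x hx => q.apply_mem_toSubmodule g hx).imp
      (fun h' => Subrepresentation.toSubmodule_injective h')
      (fun h' => Subrepresentation.toSubmodule_injective h')⟩

theorem isIrreducible_of_equiv {k : Type*} [Field k] {V : Type v} [AddCommGroup V] [Module k V]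
    {W : Type w} [AddCommGroup W] [Module k W] {ρ : Representation k G V}
    {σ : Representation k G W} (φ : ρ.Equiv σ) (h : ρ.IsIrreducible) : σ.IsIrreducible := by
  rw [isIrreducible_iff_submodule] at h ⊢
  refine ⟨φ.toLinearEquiv.symm.toEquiv.nontrivial_congr.mpr h.1, fun p hp => ?_⟩
  have key := h.2 (p.comap φ.toLinearEquiv.toLinearMap) (fun g x hx => by
    have he : φ.toLinearEquiv (ρ g x) = σ g (φ.toLinearEquiv x) :=
      LinearMap.congr_fun (φ.toIntertwiningMap.isIntertwining' g) x
    show φ.toLinearEquiv (ρ g x) ∈ p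
    rw [he]
    exact hp g _ hx)
  have hmap : (p.comap φ.toLinearEquiv.toLinearMap).map φ.toLinearEquiv.toLinearMap = p :=
    Submodule.map_comap_eq_of_surjective φ.toLinearEquiv.surjective p
  rcases key with key | key
  · left; rw [← hmap, key, Submodule.map_bot]
  · right; rw [← hmap, key, Submodule.map_top]
    exact LinearMap.range_eq_top.mpr φ.toLinearEquiv.surjective

theorem irreducible_finrank_pos {V : Type v} [AddCommGroup V] [Module ℂ V]
    [FiniteDimensional ℂ V] (ρ : Representation ℂ G V) [ρ.IsIrreducible] :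
    0 < finrank ℂ V := by
  have := ((isIrreducible_iff_submodule ρ).mp inferInstance).1
  exact Module.finrank_pos

/-- The character of any finite-dimensional representation is a character. -/
theorem isCharacter_character {V : Type v} [AddCommGroup V] [Module ℂ V]
    [FiniteDimensional ℂ V] (ρ : Representation ℂ G V) : IsCharacter G ρ.character :=
  ⟨finrank ℂ V, transportRep (Module.finBasis ℂ V).equivFun ρ, character_transportRep _ ρ⟩

/-- The character of an irreducible finite-dimensional representation is irreducible. -/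
theorem isIrrCharacter_character {V : Type v} [AddCommGroup V] [Module ℂ V]
    [FiniteDimensional ℂ V] (ρ : Representation ℂ G V) [hρ : ρ.IsIrreducible] :
    IsIrrCharacter G ρ.character :=
  ⟨finrank ℂ V, transportRep (Module.finBasis ℂ V).equivFun ρ,
    isIrreducible_of_equiv (transportEquiv _ ρ) hρ, character_transportRep _ ρ⟩

theorem _root_.Cfsg.IsIrrCharacter.isCharacter {χ : G → ℂ} (h : IsIrrCharacter G χ) : IsCharacter G χ :=
  let ⟨n, ρ, _, h'⟩ := h
  ⟨n, ρ, h'⟩

theorem isCharacter_zero : IsCharacter G (0 : G → ℂ) :=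
  ⟨0, Representation.trivial ℂ G (Fin 0 → ℂ), by
    ext g
    have h0 : (Representation.trivial ℂ G (Fin 0 → ℂ)) g = 0 := Subsingleton.elim _ _
    simp [Representation.character, h0]⟩

theorem _root_.Cfsg.IsCharacter.add {χ ψ : G → ℂ} (hχ : IsCharacter G χ) (hψ : IsCharacter G ψ) :
    IsCharacter G (χ + ψ) := by
  obtain ⟨n, ρ, rfl⟩ := hχ
  obtain ⟨m, σ, rfl⟩ := hψ
  have h := isCharacter_character (ρ.prod σ)
  have he : (ρ.prod σ).character = ρ.character + σ.character := by
    ext g
    show LinearMap.trace ℂ _ ((ρ.prod σ) g) = _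
    have : (ρ.prod σ) g = LinearMap.prodMap (ρ g) (σ g) := rfl
    rw [this, LinearMap.trace_prodMap']
    rfl
  rwa [he] at h

theorem _root_.Cfsg.IsCharacter.mul {χ ψ : G → ℂ} (hχ : IsCharacter G χ) (hψ : IsCharacter G ψ) :
    IsCharacter G (χ * ψ) := by
  obtain ⟨n, ρ, rfl⟩ := hχ
  obtain ⟨m, σ, rfl⟩ := hψ
  have h := isCharacter_character (ρ.tprod σ)
  rwa [Representation.char_tensor] at h

theorem _root_.Cfsg.IsCharacter.sum {ι : Type*} (s : Finset ι) (f : ι → G → ℂ)
    (h : ∀ i ∈ s, IsCharacter G (f i)) : IsCharacter G (∑ i ∈ s, f i) :=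
  Finset.sum_induction f (IsCharacter G) (fun _ _ => IsCharacter.add) isCharacter_zero h

theorem _root_.Cfsg.IsCharacter.nsmul {χ : G → ℂ} (hχ : IsCharacter G χ) (n : ℕ) :
    IsCharacter G (n • χ) := by
  induction n with
  | zero => rw [zero_smul]; exact isCharacter_zero
  | succ k ih => rw [succ_nsmul]; exact ih.add hχ

theorem _root_.Cfsg.IsCharacter.natCast_smul {χ : G → ℂ} (hχ : IsCharacter G χ) (n : ℕ) :
    IsCharacter G ((n : ℂ) • χ) := by
  rw [Nat.cast_smul_eq_nsmul ℂ]; exact hχ.nsmul n

theorem _root_.Cfsg.IsCharacter.comp {H : Type w} [Group H] {χ : G → ℂ} (hχ : IsCharacter G χ)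
    (f : H →* G) : IsCharacter H (fun h => χ (f h)) := by
  obtain ⟨n, ρ, rfl⟩ := hχ
  exact ⟨n, ρ.comp f, rfl⟩

/-- Irreducibility is preserved by composition with a surjection. -/
theorem _root_.Cfsg.IsIrrCharacter.comp_surjective {H : Type w} [Group H] {χ : G → ℂ}
    (hχ : IsIrrCharacter G χ) (f : H →* G) (hf : Function.Surjective f) :
    IsIrrCharacter H (fun h => χ (f h)) := by
  obtain ⟨n, ρ, hρ, rfl⟩ := hχ
  refine ⟨n, ρ.comp f, ?_, rfl⟩
  rw [isIrreducible_iff_submodule] at hρ ⊢
  refine ⟨hρ.1, fun p hp => hρ.2 p fun g x hx => ?_⟩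
  obtain ⟨h, rfl⟩ := hf g
  exact hp h x hx

/-- The representation of degree one attached to a homomorphism into `ℂˣ`. -/
noncomputable def linearRep (φ : G →* ℂˣ) : Representation ℂ G ℂ where
  toFun g := (φ g : ℂ) • LinearMap.id
  map_one' := by ext; simp
  map_mul' a b := by ext; simp [mul_comm]

theorem linearRep_character (φ : G →* ℂˣ) : (linearRep φ).character = fun g => (φ g : ℂ) := by
  ext g
  simp [Representation.character, linearRep]

theorem linearRep_isIrreducible (φ : G →* ℂˣ) : (linearRep φ).IsIrreducible := by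
  rw [isIrreducible_iff_submodule]
  exact ⟨inferInstance, fun p _ => Ideal.eq_bot_or_top p⟩

theorem isIrrCharacter_linear (φ : G →* ℂˣ) : IsIrrCharacter G (fun g => (φ g : ℂ)) := by
  have := linearRep_isIrreducible φ
  rw [← linearRep_character φ]
  exact isIrrCharacter_character (linearRep φ)

theorem isIrrCharacter_one : IsIrrCharacter G (fun _ => (1 : ℂ)) := by
  simpa using! isIrrCharacter_linear (1 : G →* ℂˣ)

theorem isCharacter_one : IsCharacter G (fun _ => (1 : ℂ)) :=
  (isIrrCharacter_one).isCharacter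

theorem _root_.Cfsg.IsCharacter.conj_invariant {χ : G → ℂ} (hχ : IsCharacter G χ) (g h : G) :
    χ (h * g * h⁻¹) = χ g := by
  obtain ⟨n, ρ, rfl⟩ := hχ
  exact ρ.char_conj g h

theorem _root_.Cfsg.IsCharacter.isClassFunction {χ : G → ℂ} (hχ : IsCharacter G χ) :
    IsClassFunction G χ := fun g h => hχ.conj_invariant g h

theorem _root_.Cfsg.IsIrrCharacter.isClassFunction {χ : G → ℂ} (hχ : IsIrrCharacter G χ) :
    IsClassFunction G χ := hχ.isCharacter.isClassFunction

section Eigen

variable [Finite G] {V : Type v} [AddCommGroup V] [Module ℂ V] [FiniteDimensional ℂ V]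

theorem exists_eigenbasis (ρ : Representation ℂ G V) (g : G) :
    ∃ (b : Basis (Fin (finrank ℂ V)) ℂ V) (μ : Fin (finrank ℂ V) → ℂ),
      (∀ i, ρ g (b i) = μ i • b i) ∧ ∀ i, μ i ^ orderOf g = 1 := by
  classical
  set f : Module.End ℂ V := ρ g with hf
  have hn : (orderOf g : ℂ) ≠ 0 := by exact_mod_cast (orderOf_pos g).ne'
  have hfpow : f ^ orderOf g = 1 := by rw [hf, ← map_pow, pow_orderOf_eq_one, map_one]
  have hss : f.IsSemisimple :=
    Module.End.isSemisimple_of_squarefree_aeval_eq_zero
      (Polynomial.separable_X_pow_sub_C (1 : ℂ) hn one_ne_zero).squarefree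
      (by simp [hfpow])
  have hint : DirectSum.IsInternal (fun μ : ℂ => f.eigenspace μ) :=
    DirectSum.isInternal_submodule_of_iSupIndep_of_iSup_eq_top f.eigenspaces_iSupIndep
      hss.iSup_eigenspace_eq_top
  let v : ∀ μ : ℂ, Basis (Fin (finrank ℂ (f.eigenspace μ))) ℂ (f.eigenspace μ) :=
    fun μ => Module.finBasis ℂ _
  let B := hint.collectedBasis v
  have : Fintype (Σ μ : ℂ, Fin (finrank ℂ (f.eigenspace μ))) :=
    FiniteDimensional.fintypeBasisIndex B
  let e := Fintype.equivFinOfCardEq (Module.finrank_eq_card_basis B).symm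
  refine ⟨B.reindex e, fun i => (e.symm i).1, fun i => ?_, fun i => ?_⟩
  · have := hint.collectedBasis_mem v (e.symm i)
    rw [Module.End.mem_eigenspace_iff] at this
    simpa [B] using! this
  · have hmem := hint.collectedBasis_mem v (e.symm i)
    rw [Module.End.mem_eigenspace_iff] at hmem
    have hne : B (e.symm i) ≠ 0 := B.ne_zero _
    have key : ∀ k : ℕ, (f ^ k) (B (e.symm i)) = (e.symm i).1 ^ k • B (e.symm i) := by
      intro k
      induction k with
      | zero => simp
      | succ m ih =>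
        rw [pow_succ', Module.End.mul_apply, ih, map_smul]
        rw [show f (B (e.symm i)) = (e.symm i).1 • B (e.symm i) from hmem, smul_smul, pow_succ]
    have h1 := key (orderOf g)
    rw [hfpow, Module.End.one_apply] at h1
    have h2 : ((e.symm i).1 ^ orderOf g - 1) • B (e.symm i) = 0 := by
      rw [sub_smul, one_smul, ← h1, sub_self]
    exact sub_eq_zero.mp ((smul_eq_zero.mp h2).resolve_right hne)

theorem trace_eq_sum_of_eigenbasis {ι : Type*} [Fintype ι] (f : V →ₗ[ℂ] V)
    (b : Basis ι ℂ V) (μ : ι → ℂ) (h : ∀ i, f (b i) = μ i • b i) :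
    LinearMap.trace ℂ V f = ∑ i, μ i := by
  classical
  rw [LinearMap.trace_eq_matrix_trace ℂ b, Matrix.trace]
  refine Finset.sum_congr rfl fun i _ => ?_
  simp [LinearMap.toMatrix_apply, h]

theorem norm_eq_one_of_pow_orderOf {g : G} {z : ℂ} (h : z ^ orderOf g = 1) : ‖z‖ = 1 :=
  Complex.norm_eq_one_of_pow_eq_one h (orderOf_pos g).ne'

/-- A character value is a sum of roots of unity, with the value at the inverse their conjugates. -/
theorem character_eq_sum_roots (ρ : Representation ℂ G V) (g : G) :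
    ∃ μ : Fin (finrank ℂ V) → ℂ, (∀ i, μ i ^ orderOf g = 1) ∧
      ρ.character g = ∑ i, μ i ∧ ρ.character g⁻¹ = ∑ i, conj (μ i) ∧
      (∀ k : ℕ, ρ.character (g ^ k) = ∑ i, μ i ^ k) ∧
      ((∀ i, μ i = 1) → ρ g = LinearMap.id) ∧
      ∀ c, (∀ i, μ i = c) → ρ g = c • LinearMap.id := by
  obtain ⟨b, μ, hb, hμ⟩ := exists_eigenbasis ρ g
  have hinv : ∀ i, ρ g⁻¹ (b i) = conj (μ i) • b i := by
    intro i
    have h1 : ‖μ i‖ = 1 := norm_eq_one_of_pow_orderOf (hμ i)
    have h2 : conj (μ i) = (μ i)⁻¹ := (Complex.inv_eq_conj h1).symm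
    have h3 : μ i ≠ 0 := norm_ne_zero_iff.mp (h1 ▸ one_ne_zero)
    have h4 := congrArg (ρ g⁻¹) (hb i)
    rw [Representation.inv_self_apply, map_smul] at h4
    rw [h2]
    conv_rhs => rw [h4, smul_smul, inv_mul_cancel₀ h3, one_smul]
  have hpow : ∀ (k : ℕ) i, ρ (g ^ k) (b i) = μ i ^ k • b i := by
    intro k i
    induction k with
    | zero => simp
    | succ m ih =>
      rw [pow_succ, map_mul, Module.End.mul_apply, hb, map_smul, ih, smul_smul, pow_succ']
  have hscal : ∀ c, (∀ i, μ i = c) → ρ g = c • LinearMap.id := fun c hc =>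
    b.ext fun i => by simp [hb, hc]
  exact ⟨μ, hμ, trace_eq_sum_of_eigenbasis _ b μ hb,
    trace_eq_sum_of_eigenbasis _ b _ hinv,
    fun k => trace_eq_sum_of_eigenbasis _ b _ (hpow k),
    fun h => (hscal 1 h).trans (one_smul _ _), hscal⟩

theorem character_inv (ρ : Representation ℂ G V) (g : G) :
    ρ.character g⁻¹ = conj (ρ.character g) := by
  obtain ⟨μ, -, h1, h2, -⟩ := character_eq_sum_roots ρ g
  rw [h1, h2, map_sum]

theorem norm_character_le (ρ : Representation ℂ G V) (g : G) :
    ‖ρ.character g‖ ≤ (finrank ℂ V : ℝ) := by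
  obtain ⟨μ, hμ, h1, -⟩ := character_eq_sum_roots ρ g
  rw [h1]
  refine (norm_sum_le _ _).trans ?_
  simp [fun i => norm_eq_one_of_pow_orderOf (hμ i)]

theorem isIntegral_character (ρ : Representation ℂ G V) (g : G) :
    IsIntegral ℤ (ρ.character g) := by
  obtain ⟨μ, hμ, h1, -⟩ := character_eq_sum_roots ρ g
  rw [h1]
  refine IsIntegral.sum _ fun i _ => IsIntegral.of_pow (orderOf_pos g) ?_
  rw [hμ i]
  exact isIntegral_one

/-- Equality case of the triangle inequality for unit complex numbers. -/
theorem eq_of_norm_sum_eq_card {ι : Type*} [Fintype ι] (μ : ι → ℂ) (hμ : ∀ i, ‖μ i‖ = 1)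
    (h : ‖∑ i, μ i‖ = Fintype.card ι) (i : ι) :
    μ i = (∑ j, μ j) / (Fintype.card ι : ℂ) := by
  have hm : (0 : ℝ) < Fintype.card ι := by exact_mod_cast Fintype.card_pos_iff.mpr ⟨i⟩
  set m : ℝ := (Fintype.card ι : ℝ)
  set c : ℂ := (∑ j, μ j) / (Fintype.card ι : ℂ) with hc
  have hc1 : ‖c‖ = 1 := by
    rw [hc, norm_div, h, Complex.norm_natCast, div_self hm.ne']
  have hcc : c * conj c = 1 := by
    rw [Complex.mul_conj, Complex.normSq_eq_norm_sq, hc1]; simp
  have hle : ∀ j, (μ j * conj c).re ≤ 1 := fun j =>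
    (Complex.re_le_norm _).trans (by simp [hμ, hc1])
  have hsum : ∑ j, (μ j * conj c).re = ∑ _j : ι, (1 : ℝ) := by
    rw [← Complex.re_sum, ← Finset.sum_mul]
    have : (∑ j, μ j) = (Fintype.card ι : ℂ) * c := by
      rw [hc, mul_div_cancel₀]
      have := Nonempty.intro i
      exact Nat.cast_ne_zero.mpr Fintype.card_ne_zero
    rw [this, mul_assoc, hcc]
    simp
  have hi := (Finset.sum_eq_sum_iff_of_le fun j _ => hle j).mp hsum i (Finset.mem_univ i)
  have hn : ‖μ i * conj c‖ = 1 := by simp [hμ, hc1]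
  have him : (μ i * conj c).im = 0 := by
    have h2 : Complex.normSq (μ i * conj c) = 1 := by
      rw [Complex.normSq_eq_norm_sq, hn, one_pow]
    rw [Complex.normSq_apply, hi] at h2
    nlinarith [h2]
  have h3 : μ i * conj c = 1 := Complex.ext hi him
  calc μ i = μ i * (c * conj c) := by rw [hcc, mul_one]
    _ = μ i * conj c * c := by ring
    _ = c := by rw [h3, one_mul]

theorem norm_character_eq_iff (ρ : Representation ℂ G V) (g : G) :
    ‖ρ.character g‖ = (finrank ℂ V : ℝ) ↔ ∃ c : ℂ, ρ g = c • LinearMap.id := by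
  constructor
  · intro h
    obtain ⟨μ, hμ, h1, -, -, -, h4⟩ := character_eq_sum_roots ρ g
    rw [h1] at h
    refine ⟨_, h4 _ (eq_of_norm_sum_eq_card μ (fun i => norm_eq_one_of_pow_orderOf (hμ i)) ?_)⟩
    simpa using h
  · rintro ⟨c, hc⟩
    obtain hV | hV := subsingleton_or_nontrivial V
    · have h0 : finrank ℂ V = 0 := Module.finrank_zero_of_subsingleton
      have := norm_character_le ρ g
      rw [h0, Nat.cast_zero] at this ⊢
      exact le_antisymm this (norm_nonneg _)
    · obtain ⟨b, μ, hb, hμ⟩ := exists_eigenbasis ρ g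
      have hne : finrank ℂ V ≠ 0 := Module.finrank_pos.ne'
      let i : Fin (finrank ℂ V) := ⟨0, Nat.pos_of_ne_zero hne⟩
      have hi : μ i = c := by
        have := hb i
        rw [hc, LinearMap.smul_apply, LinearMap.id_apply] at this
        exact (smul_left_injective ℂ (b.ne_zero i) this).symm
      have hc1 : ‖c‖ = 1 := hi ▸ norm_eq_one_of_pow_orderOf (hμ i)
      simp [Representation.character, hc, hc1, LinearMap.trace_id]

theorem character_eq_finrank_iff (ρ : Representation ℂ G V) (g : G) :
    ρ.character g = (finrank ℂ V : ℂ) ↔ ρ g = LinearMap.id := by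
  constructor
  · intro h
    obtain ⟨μ, hμ, h1, -, -, h4, -⟩ := character_eq_sum_roots ρ g
    rw [h1] at h
    refine h4 fun i => ?_
    have hi := eq_of_norm_sum_eq_card μ (fun i => norm_eq_one_of_pow_orderOf (hμ i))
      (by rw [h]; simp) i
    rw [h, Fintype.card_fin, div_self] at hi
    · exact hi
    · exact Nat.cast_ne_zero.mpr (Fin.pos i).ne'
  · intro h
    simp [Representation.character, h, LinearMap.trace_id]

end Eigen

section Values

variable [Finite G]

theorem _root_.Cfsg.IsCharacter.exists_degree {χ : G → ℂ} (hχ : IsCharacter G χ) :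
    ∃ n : ℕ, χ 1 = n := by
  obtain ⟨n, ρ, rfl⟩ := hχ
  exact ⟨n, by simp⟩

theorem _root_.Cfsg.IsIrrCharacter.exists_degree {χ : G → ℂ} (hχ : IsIrrCharacter G χ) :
    ∃ n : ℕ, 0 < n ∧ χ 1 = n := by
  obtain ⟨n, ρ, hρ, rfl⟩ := hχ
  have := irreducible_finrank_pos ρ
  exact ⟨n, by simpa using this, by simp⟩

theorem _root_.Cfsg.IsIrrCharacter.apply_one_ne_zero {χ : G → ℂ} (hχ : IsIrrCharacter G χ) : χ 1 ≠ 0 := by
  obtain ⟨n, hn, h⟩ := hχ.exists_degree
  rw [h]; exact_mod_cast hn.ne'

theorem _root_.Cfsg.IsCharacter.apply_inv {χ : G → ℂ} (hχ : IsCharacter G χ) (g : G) :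
    χ g⁻¹ = conj (χ g) := by
  obtain ⟨n, ρ, rfl⟩ := hχ
  exact character_inv ρ g

theorem _root_.Cfsg.IsCharacter.norm_le {χ : G → ℂ} (hχ : IsCharacter G χ) (g : G) :
    ‖χ g‖ ≤ (χ 1).re := by
  obtain ⟨n, ρ, rfl⟩ := hχ
  simpa using norm_character_le ρ g

theorem _root_.Cfsg.IsCharacter.isIntegral {χ : G → ℂ} (hχ : IsCharacter G χ) (g : G) :
    IsIntegral ℤ (χ g) := by
  obtain ⟨n, ρ, rfl⟩ := hχ
  exact isIntegral_character ρ g

theorem _root_.Cfsg.IsCharacter.conjFn {χ : G → ℂ} (hχ : IsCharacter G χ) :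
    IsCharacter G (fun g => conj (χ g)) := by
  obtain ⟨n, ρ, rfl⟩ := hχ
  have h := isCharacter_character ρ.dual
  have he : ρ.dual.character = fun g => conj (ρ.character g) :=
    funext fun g => by rw [Representation.char_dual, character_inv]
  rwa [he] at h

/-- The kernel of a character: where it takes the value of its degree. -/
def charKer {χ : G → ℂ} (hχ : IsCharacter G χ) : Subgroup G where
  carrier := {g | χ g = χ 1}
  one_mem' := rfl
  mul_mem' {a b} ha hb := by
    obtain ⟨n, ρ, rfl⟩ := hχ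
    simp only [Set.mem_ofPred_eq, Representation.char_one] at ha hb ⊢
    rw [character_eq_finrank_iff] at ha hb ⊢
    rw [map_mul, ha, hb]; rfl
  inv_mem' {a} ha := by
    simp only [Set.mem_ofPred_eq] at ha ⊢
    rw [hχ.apply_inv, ha]
    obtain ⟨n, hn⟩ := hχ.exists_degree
    simp [hn]

theorem mem_charKer {χ : G → ℂ} (hχ : IsCharacter G χ) {g : G} :
    g ∈ charKer hχ ↔ χ g = χ 1 := Iff.rfl

theorem charKer_normal {χ : G → ℂ} (hχ : IsCharacter G χ) : (charKer hχ).Normal :=
  ⟨fun a ha h => by rw [mem_charKer] at ha ⊢; rw [hχ.conj_invariant, ha]⟩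

theorem _root_.Cfsg.IsCharacter.apply_mul_of_mem_ker {χ : G → ℂ} (hχ : IsCharacter G χ) {a : G}
    (ha : χ a = χ 1) (g : G) : χ (a * g) = χ g := by
  obtain ⟨n, ρ, rfl⟩ := hχ
  rw [Representation.char_one, character_eq_finrank_iff] at ha
  simp only [Representation.character, map_mul, ha]
  exact congrArg (LinearMap.trace ℂ _) (LinearMap.id_comp (ρ g))

end Values

end Cfsg.Lib.Char
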