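import Mathlib.GroupTheory.GroupAction.ConjAct
import Mathlib.LinearAlgebra.Dimension.Constructions
import Cfsg.Agent.Lib.Char.Basic

/-!
# Orthogonality, completeness and decomposition of ordinary characters
-/

set_option autoImplicit false
set_option linter.unusedSectionVars false
set_option linter.style.haveILetI false
set_option linter.unusedSimpArgs false

namespace Cfsg.Lib.Char

open Cfsg Module
open scoped ComplexConjugate

universe u v w

variable {G : Type u} [Group G]

theorem card_cast_ne_zero [Finite G] : (Nat.card G : ℂ) ≠ 0 :=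
  Nat.cast_ne_zero.mpr Nat.card_pos.ne'

instance neZero_card_cast [Finite G] : NeZero (Nat.card G : ℂ) := ⟨card_cast_ne_zero⟩

section ClassInner

variable [Fintype G]

theorem classInner_add_left (φ φ' ψ : G → ℂ) :
    classInner (φ + φ') ψ = classInner φ ψ + classInner φ' ψ := by
  simp [classInner, add_mul, Finset.sum_add_distrib, mul_add]

theorem classInner_smul_left (c : ℂ) (φ ψ : G → ℂ) :
    classInner (c • φ) ψ = c * classInner φ ψ := by
  simp only [classInner, Pi.smul_apply, smul_eq_mul, Finset.mul_sum]
  exact Finset.sum_congr rfl fun g _ => by ring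

theorem classInner_zero_left (ψ : G → ℂ) : classInner (0 : G → ℂ) ψ = 0 := by
  simp [classInner]

theorem classInner_neg_left (φ ψ : G → ℂ) : classInner (-φ) ψ = -classInner φ ψ := by
  simp [classInner]

theorem classInner_sub_left (φ φ' ψ : G → ℂ) :
    classInner (φ - φ') ψ = classInner φ ψ - classInner φ' ψ := by
  rw [sub_eq_add_neg, classInner_add_left, classInner_neg_left, sub_eq_add_neg]

theorem classInner_zsmul_left (n : ℤ) (φ ψ : G → ℂ) :
    classInner (n • φ) ψ = n * classInner φ ψ := by
  rw [← Int.cast_smul_eq_zsmul ℂ, classInner_smul_left]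

theorem classInner_sum_left {ι : Type*} (s : Finset ι) (f : ι → G → ℂ) (ψ : G → ℂ) :
    classInner (∑ i ∈ s, f i) ψ = ∑ i ∈ s, classInner (f i) ψ := by
  classical
  induction s using Finset.induction with
  | empty => simp [classInner_zero_left]
  | insert a s ha ih => rw [Finset.sum_insert ha, Finset.sum_insert ha, classInner_add_left, ih]

theorem classInner_conj_symm (φ ψ : G → ℂ) : conj (classInner φ ψ) = classInner ψ φ := by
  simp [classInner, mul_comm]

theorem classInner_add_right (φ ψ ψ' : G → ℂ) :
    classInner φ (ψ + ψ') = classInner φ ψ + classInner φ ψ' := by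
  simp [classInner, mul_add, Finset.sum_add_distrib]

theorem classInner_smul_right (c : ℂ) (φ ψ : G → ℂ) :
    classInner φ (c • ψ) = conj c * classInner φ ψ := by
  simp only [classInner, Pi.smul_apply, smul_eq_mul, Finset.mul_sum, map_mul]
  exact Finset.sum_congr rfl fun g _ => by ring

theorem classInner_zero_right (φ : G → ℂ) : classInner φ (0 : G → ℂ) = 0 := by
  simp [classInner]

theorem classInner_neg_right (φ ψ : G → ℂ) : classInner φ (-ψ) = -classInner φ ψ := by
  simp [classInner]

theorem classInner_sub_right (φ ψ ψ' : G → ℂ) :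
    classInner φ (ψ - ψ') = classInner φ ψ - classInner φ ψ' := by
  rw [sub_eq_add_neg, classInner_add_right, classInner_neg_right, sub_eq_add_neg]

theorem classInner_zsmul_right (n : ℤ) (φ ψ : G → ℂ) :
    classInner φ (n • ψ) = n * classInner φ ψ := by
  rw [← Int.cast_smul_eq_zsmul ℂ, classInner_smul_right, map_intCast]

theorem classInner_sum_right {ι : Type*} (s : Finset ι) (φ : G → ℂ) (f : ι → G → ℂ) :
    classInner φ (∑ i ∈ s, f i) = ∑ i ∈ s, classInner φ (f i) := by
  classical
  induction s using Finset.induction with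
  | empty => simp [classInner_zero_right]
  | insert a s ha ih => rw [Finset.sum_insert ha, Finset.sum_insert ha, classInner_add_right, ih]

theorem classInner_self (φ : G → ℂ) :
    classInner φ φ = (((Nat.card G : ℝ)⁻¹ * ∑ g, ‖φ g‖ ^ 2 : ℝ) : ℂ) := by
  simp [classInner, Complex.mul_conj']

theorem classInner_self_nonneg (φ : G → ℂ) : 0 ≤ (classInner φ φ).re := by
  rw [classInner_self, Complex.ofReal_re]
  exact mul_nonneg (by positivity) (Finset.sum_nonneg fun g _ => by positivity)

theorem eq_zero_of_classInner_self {φ : G → ℂ} (h : classInner φ φ = 0) : φ = 0 := by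
  rw [classInner_self, Complex.ofReal_eq_zero, mul_eq_zero] at h
  rcases h with h | h
  · simp at h
  · funext g
    have := (Finset.sum_eq_zero_iff_of_nonneg fun g _ => by positivity).mp h g (Finset.mem_univ g)
    simpa using this

end ClassInner

section Splitting

variable {V : Type v} [AddCommGroup V] [Module ℂ V]

/-- An internal direct sum decomposition of a representation. -/
noncomputable def equivProdOfIsCompl {ρ : Representation ℂ G V} (p q : Subrepresentation ρ)
    (h : IsCompl p.toSubmodule q.toSubmodule) :
    (p.toRepresentation.prod q.toRepresentation).Equiv ρ :=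
  Representation.Equiv.mk (Submodule.prodEquivOfIsCompl _ _ h) fun g => by
    apply LinearMap.ext
    rintro ⟨x, y⟩
    show ((ρ g x : V) + ρ g y) = ρ g ((x : V) + y)
    rw [map_add]

theorem exists_isCompl_subrep [Finite G] (ρ : Representation ℂ G V) (p : Subrepresentation ρ) :
    ∃ q : Subrepresentation ρ, IsCompl p.toSubmodule q.toSubmodule := by
  obtain ⟨q, hq⟩ := exists_isCompl p
  refine ⟨q, ?_, ?_⟩
  · rw [disjoint_iff]
    exact congrArg Subrepresentation.toSubmodule hq.inf_eq_bot
  · rw [codisjoint_iff]
    exact congrArg Subrepresentation.toSubmodule hq.sup_eq_top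

variable [FiniteDimensional ℂ V]

theorem character_prod {W : Type w} [AddCommGroup W] [Module ℂ W] [FiniteDimensional ℂ W]
    (ρ : Representation ℂ G V) (σ : Representation ℂ G W) :
    (ρ.prod σ).character = ρ.character + σ.character := by
  ext g
  show LinearMap.trace ℂ _ ((ρ.prod σ) g) = _
  rw [show (ρ.prod σ) g = LinearMap.prodMap (ρ g) (σ g) from rfl, LinearMap.trace_prodMap']
  rfl

theorem character_eq_add_of_isCompl {ρ : Representation ℂ G V} (p q : Subrepresentation ρ)
    (h : IsCompl p.toSubmodule q.toSubmodule) :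
    ρ.character = p.toRepresentation.character + q.toRepresentation.character := by
  rw [← Representation.char_iso (equivProdOfIsCompl p q h)]
  exact character_prod _ _

theorem finrank_add_of_isCompl {ρ : Representation ℂ G V} (p q : Subrepresentation ρ)
    (h : IsCompl p.toSubmodule q.toSubmodule) :
    finrank ℂ p.toSubmodule + finrank ℂ q.toSubmodule = finrank ℂ V :=
  Submodule.finrank_add_eq_of_isCompl h

theorem finrank_lt_of_ne_top {ρ : Representation ℂ G V} (p : Subrepresentation ρ)
    (h : p.toSubmodule ≠ ⊤) : finrank ℂ p.toSubmodule < finrank ℂ V :=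
  Submodule.finrank_lt h

/-- Induction along direct sum decompositions into irreducible constituents. -/
theorem rep_induction [Finite G]
    {P : ∀ (W : Type v) [AddCommGroup W] [Module ℂ W], Representation ℂ G W → Prop}
    (h0 : ∀ (W : Type v) [AddCommGroup W] [Module ℂ W] [Subsingleton W]
      (ρ : Representation ℂ G W), P W ρ)
    (hirr : ∀ (W : Type v) [AddCommGroup W] [Module ℂ W] [FiniteDimensional ℂ W]
      (ρ : Representation ℂ G W), ρ.IsIrreducible → P W ρ)
    (hadd : ∀ (W : Type v) [AddCommGroup W] [Module ℂ W] [FiniteDimensional ℂ W]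
      (ρ : Representation ℂ G W) (p q : Subrepresentation ρ),
      IsCompl p.toSubmodule q.toSubmodule → P _ p.toRepresentation → P _ q.toRepresentation →
      P W ρ)
    (ρ : Representation ℂ G V) : P V ρ := by
  suffices H : ∀ (n : ℕ) (W : Type v) [AddCommGroup W] [Module ℂ W] [FiniteDimensional ℂ W]
      (σ : Representation ℂ G W), finrank ℂ W = n → P W σ from H _ V ρ rfl
  intro n
  induction n using Nat.strong_induction_on with
  | _ n ih =>
    intro W _ _ _ σ hn
    rcases subsingleton_or_nontrivial W with hW | hW
    · exact h0 W σ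
    by_cases hi : σ.IsIrreducible
    · exact hirr W σ hi
    rw [isIrreducible_iff_submodule] at hi
    push Not at hi
    obtain ⟨p, hp, hp0, hp1⟩ := hi hW
    let P' : Subrepresentation σ := ⟨p, fun g x hx => hp g x hx⟩
    obtain ⟨q, hq⟩ := exists_isCompl_subrep σ P'
    have hq1 : q.toSubmodule ≠ ⊤ := fun h => hp0 (by
      have := hq.inf_eq_bot
      rwa [h, inf_top_eq] at this)
    exact hadd W σ P' q hq (ih _ (hn ▸ Submodule.finrank_lt hp1) _ _ rfl)
      (ih _ (hn ▸ Submodule.finrank_lt hq1) _ _ rfl)

end Splitting

section Inner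

variable [Fintype G]

/-- The inner product of two characters is the dimension of the space of intertwining maps. -/
theorem classInner_character {V : Type v} [AddCommGroup V] [Module ℂ V] [FiniteDimensional ℂ V]
    {W : Type w} [AddCommGroup W] [Module ℂ W] [FiniteDimensional ℂ W]
    (ρ : Representation ℂ G V) (σ : Representation ℂ G W) :
    classInner σ.character ρ.character = (finrank ℂ (Representation.IntertwiningMap ρ σ) : ℂ) := by
  letI := invertibleOfNonzero (card_cast_ne_zero (G := G))
  rw [← Representation.card_inv_mul_sum_char_mul_char_eq_finrank]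
  simp only [classInner, character_inv]

theorem _root_.Cfsg.IsCharacter.exists_nat_classInner {χ ψ : G → ℂ} (hχ : IsCharacter G χ)
    (hψ : IsCharacter G ψ) : ∃ n : ℕ, classInner χ ψ = n := by
  obtain ⟨n, ρ, rfl⟩ := hχ
  obtain ⟨m, σ, rfl⟩ := hψ
  exact ⟨_, classInner_character σ ρ⟩

theorem classInner_irreducible_self {V : Type v} [AddCommGroup V] [Module ℂ V]
    [FiniteDimensional ℂ V] (ρ : Representation ℂ G V) [ρ.IsIrreducible] :
    classInner ρ.character ρ.character = 1 := by
  rw [classInner_character, Representation.IsIrreducible.finrank_intertwiningMap_self]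
  simp

open Classical in
theorem classInner_irr {χ ψ : G → ℂ} (hχ : IsIrrCharacter G χ) (hψ : IsIrrCharacter G ψ) :
    classInner χ ψ = if χ = ψ then 1 else 0 := by
  obtain ⟨n, ρ, hρ, rfl⟩ := hχ
  obtain ⟨m, σ, hσ, rfl⟩ := hψ
  split_ifs with h
  · rw [← h, classInner_irreducible_self ρ]
  · rw [classInner_character]
    have : IsEmpty (Representation.Equiv σ ρ) := ⟨fun φ => h (Representation.char_iso φ).symm⟩
    rw [finrank_zero_of_subsingleton]
    simp

theorem classInner_irr_self {χ : G → ℂ} (hχ : IsIrrCharacter G χ) : classInner χ χ = 1 := by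
  rw [classInner_irr hχ hχ, if_pos rfl]

theorem classInner_irr_ne {χ ψ : G → ℂ} (hχ : IsIrrCharacter G χ) (hψ : IsIrrCharacter G ψ)
    (h : χ ≠ ψ) : classInner χ ψ = 0 := by
  rw [classInner_irr hχ hψ, if_neg h]

theorem linearIndependent_irr' :
    LinearIndependent ℂ (fun χ : IrrCharacter G => (χ : G → ℂ)) := by
  classical
  rw [linearIndependent_iff']
  intro s g hg i hi
  have := congrArg (fun φ => classInner φ (i : G → ℂ)) hg
  simp only [classInner_sum_left, classInner_smul_left, classInner_zero_left] at this
  rw [Finset.sum_eq_single_of_mem i hi] at this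
  · simpa [classInner_irr_self i.2] using this
  · intro j _ hj
    rw [classInner_irr_ne j.2 i.2 (fun h => hj (Subtype.ext h)), mul_zero]

end Inner

instance irrFinite [Finite G] : Finite (IrrCharacter G) :=
  haveI := Fintype.ofFinite G
  (linearIndependent_irr' (G := G)).finite

noncomputable instance irrFintype [Finite G] : Fintype (IrrCharacter G) := Fintype.ofFinite _

theorem linearIndependent_irr [Finite G] :
    LinearIndependent ℂ (fun χ : IrrCharacter G => (χ : G → ℂ)) :=
  haveI := Fintype.ofFinite G
  linearIndependent_irr'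

/-- Every character is a sum of irreducible characters. -/
theorem exists_multiset_irr [Finite G] {V : Type v} [AddCommGroup V] [Module ℂ V]
    [FiniteDimensional ℂ V] (ρ : Representation ℂ G V) :
    ∃ s : Multiset (IrrCharacter G), ρ.character = (s.map fun χ : IrrCharacter G => (χ : G → ℂ)).sum := by
  refine rep_induction (P := fun W _ _ σ => ∃ s : Multiset (IrrCharacter G),
    σ.character = (s.map fun χ : IrrCharacter G => (χ : G → ℂ)).sum) ?_ ?_ ?_ ρ
  · intro W _ _ _ σ
    refine ⟨0, funext fun g => ?_⟩
    have h0 : σ g = 0 := Subsingleton.elim _ _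
    simp [Representation.character, h0]
  · intro W _ _ _ σ hσ
    exact ⟨{⟨σ.character, isIrrCharacter_character σ⟩}, by simp⟩
  · intro W _ _ _ σ p q hpq ⟨s, hs⟩ ⟨t, ht⟩
    exact ⟨s + t, by rw [character_eq_add_of_isCompl p q hpq, hs, ht, Multiset.map_add,
      Multiset.sum_add]⟩

theorem _root_.Cfsg.IsCharacter.exists_multiset [Finite G] {χ : G → ℂ} (hχ : IsCharacter G χ) :
    ∃ s : Multiset (IrrCharacter G), χ = (s.map fun χ : IrrCharacter G => (χ : G → ℂ)).sum := by
  obtain ⟨n, ρ, rfl⟩ := hχ
  exact exists_multiset_irr ρ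

section RegRep

/-- The regular representation on functions. -/
noncomputable def regFunRep (G : Type u) [Group G] : Representation ℂ G (G → ℂ) where
  toFun g := LinearMap.funLeft ℂ ℂ (fun x => g⁻¹ * x)
  map_one' := by ext φ x; simp
  map_mul' a b := by ext φ x; simp [mul_assoc]

theorem regFunRep_apply (g : G) (φ : G → ℂ) (x : G) :
    regFunRep G g φ x = φ (g⁻¹ * x) := rfl

end RegRep

section Completeness

variable [Fintype G]

/-- The operator attached to a function on the group. -/
noncomputable def averageOp {V : Type v} [AddCommGroup V] [Module ℂ V]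
    (ρ : Representation ℂ G V) (f : G → ℂ) : V →ₗ[ℂ] V := ∑ g, f g • ρ g

theorem averageOp_apply {V : Type v} [AddCommGroup V] [Module ℂ V]
    (ρ : Representation ℂ G V) (f : G → ℂ) (x : V) :
    averageOp ρ f x = ∑ g, f g • ρ g x := by
  simp [averageOp]

theorem averageOp_comm {V : Type v} [AddCommGroup V] [Module ℂ V]
    (ρ : Representation ℂ G V) {f : G → ℂ} (hf : IsClassFunction G f) (h : G) (x : V) :
    averageOp ρ f (ρ h x) = ρ h (averageOp ρ f x) := by
  rw [averageOp_apply, averageOp_apply, map_sum]
  refine Fintype.sum_equiv (MulAut.conj h⁻¹).toEquiv _ _ fun g => ?_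
  simp only [MulEquiv.toEquiv_eq_coe, EquivLike.coe_coe, MulAut.conj_apply, inv_inv, map_smul]
  rw [show f (h⁻¹ * g * h) = f g by simpa using! hf g h⁻¹]
  congr 1
  rw [← Module.End.mul_apply, ← Module.End.mul_apply, ← map_mul, ← map_mul]
  congr 1
  group

/-- A class function orthogonal to all irreducible characters vanishes. -/
theorem eq_zero_of_orthogonal {f : G → ℂ} (hf : IsClassFunction G f)
    (h : ∀ χ : G → ℂ, IsIrrCharacter G χ → classInner f χ = 0) : f = 0 := by
  classical
  set F : G → ℂ := fun g => conj (f g) with hF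
  have hFc : IsClassFunction G F := fun g k => congrArg conj (hf g k)
  have key : averageOp (regFunRep G) F = 0 := by
    refine rep_induction (P := fun W _ _ σ => averageOp σ F = 0) ?_ ?_ ?_ (regFunRep G)
    · intro W _ _ _ σ
      exact Subsingleton.elim _ _
    · intro W _ _ _ σ hσ
      let T : Representation.IntertwiningMap σ σ :=
        ⟨averageOp σ F, fun g => LinearMap.ext fun x => averageOp_comm σ hFc g x⟩
      obtain ⟨c, hc⟩ :=
        (Representation.IsIrreducible.algebraMap_intertwiningMap_bijective_of_isAlgClosed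
          (ρ := σ)).2 T
      have hT : averageOp σ F = c • LinearMap.id := by
        have := congrArg Representation.IntertwiningMap.toLinearMap hc
        exact this.symm
      have htr : LinearMap.trace ℂ W (averageOp σ F) = 0 := by
        have h1 := congrArg conj (h _ (isIrrCharacter_character σ))
        simp only [classInner, map_mul, map_sum, map_zero, Complex.conj_conj, map_inv₀,
          Complex.conj_natCast, mul_eq_zero, inv_eq_zero] at h1
        rcases h1 with h1 | h1
        · exact absurd h1 card_cast_ne_zero
        · rw [← h1]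
          simp only [averageOp, map_sum, map_smul]
          rfl
      rw [hT, map_smul, LinearMap.trace_id, smul_eq_mul, mul_eq_zero] at htr
      rcases htr with htr | htr
      · rw [hT, htr, zero_smul]
      · exact absurd htr (Nat.cast_ne_zero.mpr (irreducible_finrank_pos σ).ne')
    · intro W _ _ _ σ p q hpq hp hq
      ext x
      obtain ⟨y, hy, z, hz, rfl⟩ :=
        Submodule.mem_sup.mp (hpq.sup_eq_top ▸ Submodule.mem_top (x := x))
      have e1 : averageOp σ F y = 0 := by
        have := congrArg Subtype.val (LinearMap.congr_fun hp ⟨y, hy⟩)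
        simp only [averageOp_apply, Submodule.coe_sum, Submodule.coe_smul] at this
        rw [averageOp_apply]
        exact this
      have e2 : averageOp σ F z = 0 := by
        have := congrArg Subtype.val (LinearMap.congr_fun hq ⟨z, hz⟩)
        simp only [averageOp_apply, Submodule.coe_sum, Submodule.coe_smul] at this
        rw [averageOp_apply]
        exact this
      simp [e1, e2]
  funext x
  have := congrFun (LinearMap.congr_fun key (Pi.single 1 1)) x
  rw [averageOp_apply, Finset.sum_apply, Finset.sum_eq_single x] at this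
  · simpa [hF, regFunRep_apply] using this
  · intro g _ hg
    have : g⁻¹ * x ≠ 1 := fun h' => hg (inv_mul_eq_one.mp h')
    simp [regFunRep_apply, this]
  · simp

theorem isClassFunction_add {φ ψ : G → ℂ} (hφ : IsClassFunction G φ) (hψ : IsClassFunction G ψ) :
    IsClassFunction G (φ + ψ) := fun g h => by simp [hφ g h, hψ g h]

/-- Expansion of a class function in irreducible characters. -/
theorem eq_sum_classInner {f : G → ℂ} (hf : IsClassFunction G f) :
    f = ∑ χ : IrrCharacter G, classInner f (χ : G → ℂ) • (χ : G → ℂ) := by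
  classical
  set f' := ∑ χ : IrrCharacter G, classInner f (χ : G → ℂ) • (χ : G → ℂ) with hf'
  have hc : IsClassFunction G (f - f') := by
    intro g h
    have h2 : f' (h * g * h⁻¹) = f' g := by
      simp only [hf', Finset.sum_apply, Pi.smul_apply]
      exact Finset.sum_congr rfl fun χ _ => by rw [χ.2.isClassFunction g h]
    simp [h2, hf g h]
  have := eq_zero_of_orthogonal hc fun χ hχ => by
    rw [classInner_sub_left, hf', classInner_sum_left, Finset.sum_eq_single ⟨χ, hχ⟩]
    · rw [classInner_smul_left, classInner_irr_self hχ, mul_one, sub_self]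
    · intro ψ _ hne
      rw [classInner_smul_left, classInner_irr_ne ψ.2 hχ (fun h => hne (Subtype.ext h)), mul_zero]
    · simp
  exact sub_eq_zero.mp this

/-- Parseval for class functions. -/
theorem classInner_eq_sum {f f' : G → ℂ} (hf : IsClassFunction G f) :
    classInner f f' =
      ∑ χ : IrrCharacter G, classInner f (χ : G → ℂ) * conj (classInner f' (χ : G → ℂ)) := by
  conv_lhs => rw [eq_sum_classInner hf, classInner_sum_left]
  simp only [classInner_smul_left, classInner_conj_symm]

theorem ext_classInner {f f' : G → ℂ} (hf : IsClassFunction G f) (hf' : IsClassFunction G f')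
    (h : ∀ χ : G → ℂ, IsIrrCharacter G χ → classInner f χ = classInner f' χ) : f = f' := by
  rw [eq_sum_classInner hf, eq_sum_classInner hf']
  exact Finset.sum_congr rfl fun χ _ => by rw [h _ χ.2]

theorem isCharacter_iff {f : G → ℂ} :
    IsCharacter G f ↔
      IsClassFunction G f ∧ ∀ χ : G → ℂ, IsIrrCharacter G χ → ∃ n : ℕ, classInner f χ = n := by
  constructor
  · exact fun h => ⟨h.isClassFunction, fun χ hχ => h.exists_nat_classInner hχ.isCharacter⟩
  · rintro ⟨hc, hn⟩
    choose n hn using fun χ : IrrCharacter G => hn χ χ.2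
    rw [eq_sum_classInner hc]
    exact IsCharacter.sum _ _ fun χ _ => by rw [hn χ]; exact χ.2.isCharacter.natCast_smul _

theorem isGeneralizedCharacter_iff {f : G → ℂ} :
    IsGeneralizedCharacter G f ↔
      IsClassFunction G f ∧ ∀ χ : G → ℂ, IsIrrCharacter G χ → ∃ n : ℤ, classInner f χ = n := by
  constructor
  · rintro ⟨a, b, ha, hb, rfl⟩
    refine ⟨fun g h => by simp [ha.isClassFunction g h, hb.isClassFunction g h], fun χ hχ => ?_⟩
    obtain ⟨m, hm⟩ := ha.exists_nat_classInner hχ.isCharacter
    obtain ⟨k, hk⟩ := hb.exists_nat_classInner hχ.isCharacter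
    exact ⟨(m : ℤ) - k, by rw [classInner_sub_left, hm, hk]; push_cast; ring⟩
  · rintro ⟨hc, hn⟩
    choose n hn using fun χ : IrrCharacter G => hn χ χ.2
    refine ⟨∑ χ : IrrCharacter G, ((n χ).toNat : ℂ) • (χ : G → ℂ),
      ∑ χ : IrrCharacter G, ((-(n χ)).toNat : ℂ) • (χ : G → ℂ),
      IsCharacter.sum _ _ fun χ _ => χ.2.isCharacter.natCast_smul _,
      IsCharacter.sum _ _ fun χ _ => χ.2.isCharacter.natCast_smul _, ?_⟩
    rw [← Finset.sum_sub_distrib]
    conv_lhs => rw [eq_sum_classInner hc]
    refine Finset.sum_congr rfl fun χ _ => ?_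
    rw [← sub_smul, hn χ]
    congr 1
    rw [← Int.cast_natCast (R := ℂ), ← Int.cast_natCast (R := ℂ) ((-(n χ)).toNat), ← Int.cast_sub,
      Int.toNat_sub_toNat_neg]

/-- A character of norm one is irreducible. -/
theorem isIrrCharacter_of_norm_one {f : G → ℂ} (hf : IsCharacter G f)
    (h1 : classInner f f = 1) : IsIrrCharacter G f := by
  classical
  choose n hn using fun χ : IrrCharacter G => hf.exists_nat_classInner χ.2.isCharacter
  have hsum : ∑ χ, n χ * n χ = 1 := by
    rw [classInner_eq_sum hf.isClassFunction] at h1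
    simp only [hn, Complex.conj_natCast] at h1
    exact_mod_cast h1
  obtain ⟨χ₀, -, hχ₀⟩ := Finset.exists_ne_zero_of_sum_ne_zero (hsum.trans_ne one_ne_zero)
  have hsplit := Finset.sum_erase_add Finset.univ (fun χ => n χ * n χ) (Finset.mem_univ χ₀)
  have h0 : ∀ χ, χ ≠ χ₀ → n χ = 0 := by
    intro χ hne
    have : n χ * n χ ≤ ∑ y ∈ Finset.univ.erase χ₀, n y * n y :=
      Finset.single_le_sum (f := fun y => n y * n y) (fun _ _ => Nat.zero_le _) (by simp [hne])
    exact mul_self_eq_zero.mp (by omega)
  have hone : n χ₀ = 1 := by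
    rw [Finset.sum_eq_single χ₀ (fun χ _ hne => by simp [h0 χ hne]) (by simp)] at hsum
    exact (mul_eq_one.mp hsum).1
  rw [eq_sum_classInner hf.isClassFunction,
    Finset.sum_eq_single χ₀ (fun χ _ hne => by simp [hn, h0 χ hne]) (by simp), hn, hone]
  simpa using χ₀.2

theorem isIrrCharacter_iff_norm {f : G → ℂ} :
    IsIrrCharacter G f ↔ IsCharacter G f ∧ classInner f f = 1 :=
  ⟨fun h => ⟨h.isCharacter, classInner_irr_self h⟩, fun h => isIrrCharacter_of_norm_one h.1 h.2⟩

theorem classInner_one_right (f : G → ℂ) :
    classInner f (fun _ => 1) = (Nat.card G : ℂ)⁻¹ * ∑ g, f g := by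
  simp [classInner]

theorem classInner_conjFn (φ ψ : G → ℂ) :
    classInner (fun g => conj (φ g)) (fun g => conj (ψ g)) = classInner ψ φ := by
  simp [classInner, mul_comm]

theorem isIrrCharacter_conjFn {χ : G → ℂ} (hχ : IsIrrCharacter G χ) :
    IsIrrCharacter G (fun g => conj (χ g)) :=
  isIrrCharacter_of_norm_one hχ.isCharacter.conjFn
    (by rw [classInner_conjFn, classInner_irr_self hχ])

end Completeness

section Consequences

variable [Finite G]

theorem card_irr_eq_card_conjClasses : Nat.card (IrrCharacter G) = Nat.card (ConjClasses G) := by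
  classical
  haveI := Fintype.ofFinite G
  haveI : Finite (ConjClasses G) := Quotient.finite _
  haveI := Fintype.ofFinite (ConjClasses G)
  let Φ : (IrrCharacter G → ℂ) →ₗ[ℂ] (ConjClasses G → ℂ) :=
    { toFun := fun c C => ∑ χ, c χ * (χ : G → ℂ) C.out
      map_add' := fun a b => by ext C; simp [add_mul, Finset.sum_add_distrib]
      map_smul' := fun a b => by ext C; simp [Finset.mul_sum, mul_assoc] }
  have hout : ∀ (f : G → ℂ), IsClassFunction G f → ∀ g, f (ConjClasses.mk g).out = f g := by
    intro f hf g
    have h : IsConj (ConjClasses.mk g).out g := ConjClasses.mk_eq_mk_iff_isConj.mp (Quotient.out_eq _)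
    obtain ⟨c, hc⟩ := isConj_iff.mp h
    conv_rhs => rw [← hc, hf]
  have hinj : Function.Injective Φ := by
    rw [injective_iff_map_eq_zero]
    intro c hc
    funext χ
    refine Fintype.linearIndependent_iff.mp linearIndependent_irr c ?_ χ
    funext g
    have := congrFun hc (ConjClasses.mk g)
    simp only [Φ, LinearMap.coe_mk, AddHom.coe_mk, Pi.zero_apply] at this
    simp only [Finset.sum_apply, Pi.smul_apply, smul_eq_mul, Pi.zero_apply]
    rw [← this]
    exact Finset.sum_congr rfl fun χ _ => by rw [hout _ χ.2.isClassFunction]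
  have hsurj : Function.Surjective Φ := by
    intro F
    have hf : IsClassFunction G (fun g => F (ConjClasses.mk g)) := fun g h =>
      congrArg F (ConjClasses.mk_eq_mk_iff_isConj.mpr (isConj_iff.mpr ⟨h⁻¹, by group⟩))
    refine ⟨fun χ => classInner (fun g => F (ConjClasses.mk g)) (χ : G → ℂ), funext fun C => ?_⟩
    have := congrFun (eq_sum_classInner hf) C.out
    simp only [Finset.sum_apply, Pi.smul_apply, smul_eq_mul] at this
    simp only [Φ, LinearMap.coe_mk, AddHom.coe_mk]
    rw [← this]
    exact congrArg F (Quotient.out_eq C)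
  have h := (LinearEquiv.ofBijective Φ ⟨hinj, hsurj⟩).finrank_eq
  simpa [Nat.card_eq_fintype_card] using h

/-- The sum `∑ χ(g) conj χ(h)` for conjugate and non-conjugate elements. -/
theorem column_orthogonality (g h : G) [Decidable (IsConj g h)] :
    ∑ χ : IrrCharacter G, (χ : G → ℂ) g * conj ((χ : G → ℂ) h) =
      if IsConj g h then (Nat.card (Subgroup.centralizer ({g} : Set G)) : ℂ) else 0 := by
  classical
  haveI := Fintype.ofFinite G
  set f : G → ℂ := fun x => if IsConj x h then 1 else 0 with hf
  have hfc : IsClassFunction G f := by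
    intro x k
    have : IsConj (k * x * k⁻¹) h ↔ IsConj x h := by
      have hc : IsConj x (k * x * k⁻¹) := isConj_iff.mpr ⟨k, rfl⟩
      exact ⟨fun h' => hc.trans h', fun h' => hc.symm.trans h'⟩
    exact if_congr this rfl rfl
  set N : ℕ := (Finset.univ.filter fun x => IsConj x h).card with hN
  have hin : ∀ χ : IrrCharacter G,
      classInner f (χ : G → ℂ) = (Nat.card G : ℂ)⁻¹ * (N * conj ((χ : G → ℂ) h)) := by
    intro χ
    simp only [classInner, hf, ite_mul, one_mul, zero_mul, ← Finset.sum_filter]
    congr 1
    rw [hN, ← nsmul_eq_mul, ← Finset.sum_const]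
    refine Finset.sum_congr rfl fun x hx => ?_
    obtain ⟨c, hc⟩ := isConj_iff.mp (Finset.mem_filter.mp hx).2
    rw [← hc, χ.2.isClassFunction]
  have hexp := congrFun (eq_sum_classInner hfc) g
  simp only [Finset.sum_apply, Pi.smul_apply, smul_eq_mul, hin] at hexp
  have hexp' : f g = (Nat.card G : ℂ)⁻¹ * N *
      ∑ χ : IrrCharacter G, (χ : G → ℂ) g * conj ((χ : G → ℂ) h) := by
    rw [hexp, Finset.mul_sum]
    exact Finset.sum_congr rfl fun χ _ => by ring
  have hN0 : (N : ℂ) ≠ 0 := Nat.cast_ne_zero.mpr
    (Finset.card_ne_zero.mpr ⟨h, Finset.mem_filter.mpr ⟨Finset.mem_univ _, IsConj.refl h⟩⟩)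
  have hG := card_cast_ne_zero (G := G)
  split_ifs with hgh
  · have horbit : N * Nat.card (Subgroup.centralizer ({g} : Set G)) = Nat.card G := by
      have h1 : N = Nat.card (MulAction.orbit (ConjAct G) g) := by
        rw [hN, ← Fintype.card_subtype, ← Nat.card_eq_fintype_card]
        refine Nat.card_congr (Equiv.subtypeEquivRight fun x => ?_)
        rw [ConjAct.mem_orbit_conjAct]
        exact ⟨fun hx => hx.trans hgh.symm, fun hx => hx.trans hgh⟩
      rw [h1]
      have h2 := (MulAction.orbitProdStabilizerEquivGroup (ConjAct G) g)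
      have h3 := Nat.card_congr h2
      rw [Nat.card_prod] at h3
      rw [Nat.card_congr (ConjAct.ofConjAct).toEquiv] at h3
      rw [← h3]
      congr 1
      rw [ConjAct.stabilizer_eq_centralizer]
      exact Nat.card_congr (Equiv.subtypeEquiv (ConjAct.toConjAct).toEquiv fun x => by
        simp only [Subgroup.mem_centralizer_iff, Set.mem_singleton_iff, forall_eq,
          MulEquiv.toEquiv_eq_coe, EquivLike.coe_coe, ← map_mul, EmbeddingLike.apply_eq_iff_eq])
    simp only [hf, if_pos hgh] at hexp'
    have h2 : (Nat.card (Subgroup.centralizer ({g} : Set G)) : ℂ) * N = Nat.card G := by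
      rw [mul_comm]; exact_mod_cast horbit
    field_simp at hexp'
    apply mul_left_cancel₀ hN0
    rw [← hexp', mul_comm, h2]
  · simp only [hf, if_neg hgh] at hexp'
    simpa [hG, hN0] using hexp'.symm

theorem isConj_iff_forall_irr (g h : G) :
    IsConj g h ↔ ∀ χ : IrrCharacter G, (χ : G → ℂ) g = (χ : G → ℂ) h := by
  classical
  constructor
  · intro hc χ
    obtain ⟨c, rfl⟩ := isConj_iff.mp hc
    rw [χ.2.isClassFunction]
  · intro hall
    by_contra hn
    have h1 := column_orthogonality g h
    rw [if_neg hn] at h1
    have h2 := column_orthogonality g g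
    rw [if_pos (IsConj.refl g)] at h2
    simp only [← hall] at h1
    rw [h1] at h2
    exact Nat.cast_ne_zero.mpr (Nat.card_pos (α := Subgroup.centralizer ({g} : Set G))).ne' h2.symm

theorem sum_sq_degree : ∑ χ : IrrCharacter G, (χ : G → ℂ) 1 ^ 2 = (Nat.card G : ℂ) := by
  classical
  have h := column_orthogonality (1 : G) 1
  rw [if_pos (IsConj.refl _)] at h
  have hc : Nat.card (Subgroup.centralizer ({(1 : G)} : Set G)) = Nat.card G :=
    Nat.card_congr (Equiv.subtypeUnivEquiv fun x => by simp [Subgroup.mem_centralizer_iff])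
  rw [hc] at h
  rw [← h]
  refine Finset.sum_congr rfl fun χ _ => ?_
  obtain ⟨n, -, hn⟩ := χ.2.exists_degree
  simp [hn, sq]

theorem sum_degree_mul (g : G) [Decidable (g = 1)] :
    ∑ χ : IrrCharacter G, (χ : G → ℂ) 1 * (χ : G → ℂ) g =
      if g = 1 then (Nat.card G : ℂ) else 0 := by
  classical
  split_ifs with hg
  · subst hg
    rw [← sum_sq_degree]
    exact Finset.sum_congr rfl fun χ _ => by ring
  · have h := column_orthogonality g 1
    rw [if_neg (fun hc => hg (isConj_one_left.mp hc))] at h
    rw [← h]
    refine Finset.sum_congr rfl fun χ _ => ?_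
    obtain ⟨n, -, hn⟩ := χ.2.exists_degree
    simp [hn, mul_comm]

end Consequences

section Equivalence

variable [Finite G]

theorem exists_irreducible_subrep {V : Type v} [AddCommGroup V] [Module ℂ V]
    [FiniteDimensional ℂ V] (ρ : Representation ℂ G V) [Nontrivial V] :
    ∃ p : Subrepresentation ρ, p.toRepresentation.IsIrreducible := by
  classical
  have hex : ∃ n, ∃ p : Subrepresentation ρ, p.toSubmodule ≠ ⊥ ∧ finrank ℂ p.toSubmodule = n :=
    ⟨_, ⊤, top_ne_bot (α := Submodule ℂ V), rfl⟩
  obtain ⟨p, hp0, hpn⟩ := Nat.find_spec hex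
  refine ⟨p, (isIrreducible_iff_submodule _).mpr ⟨Submodule.nontrivial_iff_ne_bot.mpr hp0,
    fun q hq => ?_⟩⟩
  by_contra hcon
  push Not at hcon
  let q' : Subrepresentation ρ := ⟨q.map p.toSubmodule.subtype, fun g x hx => by
    obtain ⟨y, hy, rfl⟩ := Submodule.mem_map.mp hx
    exact Submodule.mem_map.mpr ⟨_, hq g y hy, rfl⟩⟩
  have hlt : finrank ℂ q'.toSubmodule < finrank ℂ p.toSubmodule := by
    rw [show finrank ℂ q'.toSubmodule = finrank ℂ q from
      (LinearEquiv.finrank_eq (Submodule.equivMapOfInjective _ p.toSubmodule.injective_subtype q)).symm]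
    exact Submodule.finrank_lt hcon.2
  refine Nat.find_min hex (hpn ▸ hlt) ⟨q', ?_, rfl⟩
  intro h
  apply hcon.1
  rw [eq_bot_iff]
  intro y hy
  have : (y : V) ∈ q'.toSubmodule := Submodule.mem_map.mpr ⟨y, hy, rfl⟩
  rw [h, Submodule.mem_bot] at this
  simpa using this

/-- Representations with equal characters are equivalent. -/
theorem nonempty_equiv_of_character_eq {V : Type v} [AddCommGroup V] [Module ℂ V]
    [FiniteDimensional ℂ V] {W : Type w} [AddCommGroup W] [Module ℂ W] [FiniteDimensional ℂ W]
    (ρ : Representation ℂ G V) (σ : Representation ℂ G W) (h : ρ.character = σ.character) :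
    Nonempty (ρ.Equiv σ) := by
  haveI := Fintype.ofFinite G
  suffices H : ∀ (n : ℕ) (V : Type v) [AddCommGroup V] [Module ℂ V] [FiniteDimensional ℂ V]
      (W : Type w) [AddCommGroup W] [Module ℂ W] [FiniteDimensional ℂ W]
      (ρ : Representation ℂ G V) (σ : Representation ℂ G W), finrank ℂ V = n →
      ρ.character = σ.character → Nonempty (ρ.Equiv σ) from H _ V W ρ σ rfl h
  intro n
  induction n using Nat.strong_induction_on with
  | _ n ih =>
    intro V _ _ _ W _ _ _ ρ σ hn h
    have hd : finrank ℂ V = finrank ℂ W := by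
      have := congrFun h 1
      simpa using this
    rcases subsingleton_or_nontrivial V with hV | hV
    · have : Subsingleton W := finrank_zero_iff.mp (hd ▸ finrank_zero_of_subsingleton)
      exact ⟨Representation.Equiv.mk (0 : V ≃ₗ[ℂ] W) fun g => Subsingleton.elim _ _⟩
    obtain ⟨p, hp⟩ := exists_irreducible_subrep ρ
    obtain ⟨q, hpq⟩ := exists_isCompl_subrep ρ p
    have hne : finrank ℂ (Representation.IntertwiningMap p.toRepresentation σ) ≠ 0 := by
      intro h0
      have h1 := classInner_character p.toRepresentation σ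
      rw [h0, ← h, character_eq_add_of_isCompl p q hpq, classInner_add_left,
        classInner_irreducible_self, classInner_character] at h1
      norm_cast at h1
      omega
    have : Nontrivial (Representation.IntertwiningMap p.toRepresentation σ) :=
      Module.nontrivial_of_finrank_pos (R := ℂ) (Nat.pos_of_ne_zero hne)
    obtain ⟨f, hf⟩ := exists_ne (0 : Representation.IntertwiningMap p.toRepresentation σ)
    have hfi := (Representation.IsIrreducible.injective_or_eq_zero f).resolve_right hf
    obtain ⟨s, hrs⟩ := exists_isCompl_subrep σ f.range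
    let e : p.toRepresentation.Equiv f.range.toRepresentation :=
      Representation.Equiv.mk (LinearEquiv.ofInjective f.toLinearMap hfi) fun g =>
        LinearMap.ext fun x => Subtype.ext (LinearMap.congr_fun (f.isIntertwining' g) x)
    have hqs : q.toRepresentation.character = s.toRepresentation.character := by
      have := character_eq_add_of_isCompl p q hpq
      rw [h, character_eq_add_of_isCompl f.range s hrs, Representation.char_iso e] at this
      exact (add_left_cancel this).symm
    have hlt : finrank ℂ q.toSubmodule < n := by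
      have h1 := finrank_add_of_isCompl p q hpq
      have h2 := irreducible_finrank_pos p.toRepresentation
      omega
    obtain ⟨e'⟩ := ih _ hlt _ _ q.toRepresentation s.toRepresentation rfl hqs
    let E : (p.toRepresentation.prod q.toRepresentation).Equiv
        (f.range.toRepresentation.prod s.toRepresentation) :=
      Representation.Equiv.mk (LinearEquiv.prodCongr e.toLinearEquiv e'.toLinearEquiv) fun g =>
        LinearMap.ext fun x => Prod.ext (LinearMap.congr_fun (e.toIntertwiningMap.isIntertwining' g) x.1)
          (LinearMap.congr_fun (e'.toIntertwiningMap.isIntertwining' g) x.2)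
    exact ⟨((equivProdOfIsCompl p q hpq).symm.trans E).trans (equivProdOfIsCompl f.range s hrs)⟩

theorem isIrreducible_iff_isIrrCharacter {V : Type v} [AddCommGroup V] [Module ℂ V]
    [FiniteDimensional ℂ V] (ρ : Representation ℂ G V) :
    ρ.IsIrreducible ↔ IsIrrCharacter G ρ.character := by
  refine ⟨fun _ => isIrrCharacter_character ρ, fun ⟨n, σ, hσ, hc⟩ => ?_⟩
  obtain ⟨φ⟩ := nonempty_equiv_of_character_eq σ ρ hc
  exact isIrreducible_of_equiv φ hσ

end Equivalence

end Cfsg.Lib.Char
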