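import Mathlib.GroupTheory.Index
import Cfsg.Agent.Lib.Char.Orthogonality

/-!
# Generalized characters and induction from subgroups
-/

set_option autoImplicit false
set_option linter.unusedSectionVars false
set_option linter.style.haveILetI false

namespace Cfsg.Lib.Char

open Cfsg Module
open scoped ComplexConjugate

universe u v w

variable {G : Type u} [Group G]

theorem _root_.Cfsg.IsCharacter.isGeneralized {χ : G → ℂ} (h : IsCharacter G χ) :
    IsGeneralizedCharacter G χ :=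
  ⟨χ, 0, h, isCharacter_zero, (sub_zero χ).symm⟩

theorem _root_.Cfsg.IsIrrCharacter.isGeneralized {χ : G → ℂ} (h : IsIrrCharacter G χ) :
    IsGeneralizedCharacter G χ := h.isCharacter.isGeneralized

theorem isGeneralizedCharacter_zero : IsGeneralizedCharacter G (0 : G → ℂ) :=
  isCharacter_zero.isGeneralized

theorem _root_.Cfsg.IsGeneralizedCharacter.add {χ ψ : G → ℂ} (h : IsGeneralizedCharacter G χ)
    (h' : IsGeneralizedCharacter G ψ) : IsGeneralizedCharacter G (χ + ψ) := by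
  obtain ⟨a, b, ha, hb, rfl⟩ := h
  obtain ⟨c, d, hc, hd, rfl⟩ := h'
  exact ⟨a + c, b + d, ha.add hc, hb.add hd, by abel⟩

theorem _root_.Cfsg.IsGeneralizedCharacter.neg {χ : G → ℂ} (h : IsGeneralizedCharacter G χ) :
    IsGeneralizedCharacter G (-χ) := by
  obtain ⟨a, b, ha, hb, rfl⟩ := h
  exact ⟨b, a, hb, ha, by abel⟩

theorem _root_.Cfsg.IsGeneralizedCharacter.sub {χ ψ : G → ℂ} (h : IsGeneralizedCharacter G χ)
    (h' : IsGeneralizedCharacter G ψ) : IsGeneralizedCharacter G (χ - ψ) := by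
  rw [sub_eq_add_neg]; exact h.add h'.neg

theorem _root_.Cfsg.IsGeneralizedCharacter.mul {χ ψ : G → ℂ} (h : IsGeneralizedCharacter G χ)
    (h' : IsGeneralizedCharacter G ψ) : IsGeneralizedCharacter G (χ * ψ) := by
  obtain ⟨a, b, ha, hb, rfl⟩ := h
  obtain ⟨c, d, hc, hd, rfl⟩ := h'
  exact ⟨a * c + b * d, a * d + b * c, (ha.mul hc).add (hb.mul hd), (ha.mul hd).add (hb.mul hc),
    by ring⟩

theorem _root_.Cfsg.IsGeneralizedCharacter.zsmul {χ : G → ℂ} (h : IsGeneralizedCharacter G χ)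
    (n : ℤ) : IsGeneralizedCharacter G (n • χ) := by
  obtain ⟨m, rfl | rfl⟩ := Int.eq_nat_or_neg n
  · obtain ⟨a, b, ha, hb, rfl⟩ := h
    exact ⟨m • a, m • b, ha.nsmul m, hb.nsmul m, by rw [natCast_zsmul, smul_sub]⟩
  · obtain ⟨a, b, ha, hb, rfl⟩ := h
    exact ⟨m • b, m • a, hb.nsmul m, ha.nsmul m,
      by rw [neg_smul, natCast_zsmul, smul_sub, neg_sub]⟩

theorem _root_.Cfsg.IsGeneralizedCharacter.intCast_smul {χ : G → ℂ}
    (h : IsGeneralizedCharacter G χ) (n : ℤ) : IsGeneralizedCharacter G ((n : ℂ) • χ) := by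
  rw [Int.cast_smul_eq_zsmul ℂ]; exact h.zsmul n

theorem _root_.Cfsg.IsGeneralizedCharacter.sum {ι : Type*} (s : Finset ι) (f : ι → G → ℂ)
    (h : ∀ i ∈ s, IsGeneralizedCharacter G (f i)) : IsGeneralizedCharacter G (∑ i ∈ s, f i) :=
  Finset.sum_induction f (IsGeneralizedCharacter G) (fun _ _ => IsGeneralizedCharacter.add)
    isGeneralizedCharacter_zero h

theorem _root_.Cfsg.IsGeneralizedCharacter.comp {H : Type w} [Group H] {χ : G → ℂ}
    (h : IsGeneralizedCharacter G χ) (f : H →* G) :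
    IsGeneralizedCharacter H (fun x => χ (f x)) := by
  obtain ⟨a, b, ha, hb, rfl⟩ := h
  exact ⟨_, _, ha.comp f, hb.comp f, rfl⟩

theorem _root_.Cfsg.IsGeneralizedCharacter.isClassFunction {χ : G → ℂ}
    (h : IsGeneralizedCharacter G χ) : IsClassFunction G χ := by
  obtain ⟨a, b, ha, hb, rfl⟩ := h
  exact fun g k => by simp [ha.isClassFunction g k, hb.isClassFunction g k]

theorem _root_.Cfsg.IsGeneralizedCharacter.exists_int_one {χ : G → ℂ}
    (h : IsGeneralizedCharacter G χ) : ∃ n : ℤ, χ 1 = n := by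
  obtain ⟨a, b, ha, hb, rfl⟩ := h
  obtain ⟨n, ρ, rfl⟩ := ha
  obtain ⟨m, σ, rfl⟩ := hb
  exact ⟨(n : ℤ) - m, by simp⟩

theorem _root_.Cfsg.IsGeneralizedCharacter.apply_inv [Finite G] {χ : G → ℂ}
    (h : IsGeneralizedCharacter G χ) (g : G) : χ g⁻¹ = conj (χ g) := by
  obtain ⟨a, b, ha, hb, rfl⟩ := h
  simp [ha.apply_inv, hb.apply_inv]

theorem _root_.Cfsg.IsGeneralizedCharacter.isIntegral [Finite G] {χ : G → ℂ}
    (h : IsGeneralizedCharacter G χ) (g : G) : IsIntegral ℤ (χ g) := by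
  obtain ⟨a, b, ha, hb, rfl⟩ := h
  exact (ha.isIntegral g).sub (hb.isIntegral g)

theorem _root_.Cfsg.IsGeneralizedCharacter.exists_int_classInner [Fintype G] {χ ψ : G → ℂ}
    (hχ : IsGeneralizedCharacter G χ) (hψ : IsGeneralizedCharacter G ψ) :
    ∃ n : ℤ, classInner χ ψ = n := by
  obtain ⟨a, b, ha, hb, rfl⟩ := hχ
  obtain ⟨c, d, hc, hd, rfl⟩ := hψ
  obtain ⟨n₁, h₁⟩ := ha.exists_nat_classInner hc
  obtain ⟨n₂, h₂⟩ := ha.exists_nat_classInner hd
  obtain ⟨n₃, h₃⟩ := hb.exists_nat_classInner hc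
  obtain ⟨n₄, h₄⟩ := hb.exists_nat_classInner hd
  exact ⟨((n₁ : ℤ) - n₂) - ((n₃ : ℤ) - n₄), by
    rw [classInner_sub_left, classInner_sub_right, classInner_sub_right, h₁, h₂, h₃, h₄]
    push_cast; ring⟩

section Extend

variable (H : Subgroup G)

theorem extendByZero_of_mem (θ : H → ℂ) {g : G} (hg : g ∈ H) :
    extendByZero H θ g = θ ⟨g, hg⟩ :=
  Subtype.val_injective.extend_apply θ 0 ⟨g, hg⟩

theorem extendByZero_coe (θ : H → ℂ) (h : H) : extendByZero H θ h = θ h :=
  Subtype.val_injective.extend_apply θ 0 h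

theorem extendByZero_of_notMem (θ : H → ℂ) {g : G} (hg : g ∉ H) : extendByZero H θ g = 0 :=
  Function.extend_apply' _ _ _ (fun ⟨a, ha⟩ => hg (ha ▸ a.2))

theorem sum_extendByZero [Fintype G] [Fintype H] (θ : H → ℂ) (f : G → ℂ) :
    ∑ g, extendByZero H θ g * f g = ∑ h : H, θ h * f h := by
  refine (Finset.sum_of_injOn Subtype.val Subtype.val_injective.injOn (by simp) ?_ ?_).symm
  · intro g _ hg
    rw [extendByZero_of_notMem H θ (fun h => hg ⟨⟨g, h⟩, by simp, rfl⟩), zero_mul]
  · intro h _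
    rw [extendByZero_coe]

end Extend

section Ind

variable [Fintype G] (H : Subgroup G)

theorem isClassFunction_indFun (θ : H → ℂ) : IsClassFunction G (indFun H θ) := by
  intro g k
  simp only [indFun]
  congr 1
  refine Fintype.sum_equiv (Equiv.mulLeft k⁻¹) _ _ fun x => ?_
  simp [mul_assoc]

theorem indFun_add (θ θ' : H → ℂ) : indFun H (θ + θ') = indFun H θ + indFun H θ' := by
  funext g
  simp only [indFun, Pi.add_apply, ← mul_add, ← Finset.sum_add_distrib]
  congr 1
  refine Finset.sum_congr rfl fun x _ => ?_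
  by_cases hx : x⁻¹ * g * x ∈ H
  · simp [extendByZero_of_mem _ _ hx]
  · simp [extendByZero_of_notMem _ _ hx]

theorem indFun_smul (c : ℂ) (θ : H → ℂ) : indFun H (c • θ) = c • indFun H θ := by
  funext g
  simp only [indFun, Pi.smul_apply, smul_eq_mul, Finset.mul_sum]
  refine Finset.sum_congr rfl fun x _ => ?_
  by_cases hx : x⁻¹ * g * x ∈ H
  · simp [extendByZero_of_mem _ _ hx]; ring
  · simp [extendByZero_of_notMem _ _ hx]

theorem indFun_zero : indFun H (0 : H → ℂ) = 0 := by
  simpa using indFun_smul H 0 (0 : H → ℂ)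

theorem indFun_neg (θ : H → ℂ) : indFun H (-θ) = -indFun H θ := by
  rw [← neg_one_smul ℂ θ, indFun_smul, neg_one_smul]

theorem indFun_sub (θ θ' : H → ℂ) : indFun H (θ - θ') = indFun H θ - indFun H θ' := by
  rw [sub_eq_add_neg, indFun_add, indFun_neg, sub_eq_add_neg]

theorem indFun_sum {ι : Type*} (s : Finset ι) (f : ι → H → ℂ) :
    indFun H (∑ i ∈ s, f i) = ∑ i ∈ s, indFun H (f i) := by
  classical
  induction s using Finset.induction with
  | empty => simp [indFun_zero]
  | insert a s ha ih => rw [Finset.sum_insert ha, Finset.sum_insert ha, indFun_add, ih]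

theorem card_inv_mul_card :
    (Nat.card H : ℂ)⁻¹ * (Nat.card G : ℂ) = (H.index : ℂ) := by
  rw [← H.card_mul_index, Nat.cast_mul, ← mul_assoc, inv_mul_cancel₀, one_mul]
  exact Nat.cast_ne_zero.mpr Nat.card_pos.ne'

theorem indFun_apply_one (θ : H → ℂ) : indFun H θ 1 = (H.index : ℂ) * θ 1 := by
  simp only [indFun, mul_one, inv_mul_cancel]
  rw [extendByZero_of_mem H θ H.one_mem, Finset.sum_const, Finset.card_univ, nsmul_eq_mul,
    ← mul_assoc, ← Nat.card_eq_fintype_card, card_inv_mul_card]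
  rfl

/-- Frobenius reciprocity for functions. -/
theorem classInner_indFun [Fintype H] (θ : H → ℂ) {χ : G → ℂ} (hχ : IsClassFunction G χ) :
    classInner (indFun H θ) χ = classInner θ (fun h : H => χ h) := by
  have key : ∀ x : G, ∑ g, extendByZero H θ (x⁻¹ * g * x) * conj (χ g) =
      ∑ h : H, θ h * conj (χ h) := by
    intro x
    rw [← sum_extendByZero H θ (fun g => conj (χ g))]
    refine Fintype.sum_equiv ((Equiv.mulLeft x⁻¹).trans (Equiv.mulRight x)) _ _ fun g => ?_
    simp only [Equiv.trans_apply, Equiv.coe_mulLeft, Equiv.coe_mulRight]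
    rw [show χ (x⁻¹ * g * x) = χ g by simpa using! hχ g x⁻¹]
  simp only [classInner, indFun]
  simp_rw [mul_assoc, ← Finset.mul_sum, Finset.sum_mul]
  rw [Finset.sum_comm]
  simp_rw [← mul_assoc, key, Finset.sum_const, Finset.card_univ, nsmul_eq_mul,
    ← Nat.card_eq_fintype_card]
  have hG := card_cast_ne_zero (G := G)
  field_simp

theorem classInner_indFun_right [Fintype H] (θ : H → ℂ) {χ : G → ℂ} (hχ : IsClassFunction G χ) :
    classInner χ (indFun H θ) = classInner (fun h : H => χ h) θ := by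
  rw [← classInner_conj_symm, classInner_indFun H θ hχ, classInner_conj_symm]

theorem isCharacter_indFun {θ : H → ℂ} (hθ : IsCharacter H θ) :
    IsCharacter G (indFun H θ) := by
  haveI := Fintype.ofFinite H
  rw [isCharacter_iff]
  refine ⟨isClassFunction_indFun H θ, fun χ hχ => ?_⟩
  rw [classInner_indFun H θ hχ.isClassFunction]
  exact hθ.exists_nat_classInner (hχ.isCharacter.comp H.subtype)

theorem isGeneralizedCharacter_indFun {θ : H → ℂ} (hθ : IsGeneralizedCharacter H θ) :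
    IsGeneralizedCharacter G (indFun H θ) := by
  obtain ⟨a, b, ha, hb, rfl⟩ := hθ
  exact ⟨_, _, isCharacter_indFun H ha, isCharacter_indFun H hb, indFun_sub H a b⟩

/-- The projection formula. -/
theorem indFun_mul (θ : H → ℂ) {χ : G → ℂ} (hχ : IsClassFunction G χ) :
    indFun H (fun h => θ h * χ h) = fun g => indFun H θ g * χ g := by
  funext g
  simp only [indFun, Finset.sum_mul, mul_assoc]
  congr 1
  refine Finset.sum_congr rfl fun x _ => ?_
  by_cases hx : x⁻¹ * (g * x) ∈ H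
  · rw [extendByZero_of_mem _ _ hx, extendByZero_of_mem _ _ hx]
    have := hχ g x⁻¹
    rw [inv_inv, mul_assoc] at this
    simp [this]
  · simp [extendByZero_of_notMem _ _ hx]

/-- For a normal subgroup the induced function vanishes outside. -/
theorem indFun_normal_of_notMem [hH : H.Normal] (θ : H → ℂ) {g : G} (hg : g ∉ H) :
    indFun H θ g = 0 := by
  simp only [indFun]
  rw [Finset.sum_eq_zero, mul_zero]
  intro x _
  refine extendByZero_of_notMem _ _ fun h => hg ?_
  have := hH.conj_mem _ h x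
  rwa [show x * (x⁻¹ * g * x) * x⁻¹ = g by group] at this

theorem indFun_normal_apply [hH : H.Normal] (θ : H → ℂ) (h : H) :
    indFun H θ h =
      (Nat.card H : ℂ)⁻¹ * ∑ x : G, θ ⟨x * h * x⁻¹, hH.conj_mem h h.2 x⟩ := by
  simp only [indFun]
  congr 1
  refine Fintype.sum_equiv (Equiv.inv G) _ _ fun x => ?_
  rw [extendByZero_of_mem _ _ (show x⁻¹ * (h : G) * x ∈ H by
    simpa using hH.conj_mem h h.2 x⁻¹)]
  simp

theorem indFun_trans (K : Subgroup G) [Fintype K] (hHK : H ≤ K) (θ : H → ℂ) :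
    indFun K (indFun (H.subgroupOf K) (fun x => θ ⟨(x : K), Subgroup.mem_subgroupOf.mp x.2⟩)) =
      indFun H θ := by
  funext g
  unfold indFun
  beta_reduce
  rw [Nat.card_congr (Subgroup.subgroupOfEquivOfLe hHK).toEquiv]
  have key : ∀ x : G,
      extendByZero K (fun k : K => (Nat.card H : ℂ)⁻¹ * ∑ y : K,
        extendByZero (H.subgroupOf K) (fun z => θ ⟨(z : K), Subgroup.mem_subgroupOf.mp z.2⟩)
          (y⁻¹ * k * y)) (x⁻¹ * g * x) =
      (Nat.card H : ℂ)⁻¹ * ∑ y : K, extendByZero H θ ((x * y)⁻¹ * g * (x * y)) := by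
    intro x
    by_cases hx : x⁻¹ * g * x ∈ K
    · rw [extendByZero_of_mem _ _ hx]
      congr 1
      refine Finset.sum_congr rfl fun y _ => ?_
      have e : ((y⁻¹ * ⟨x⁻¹ * g * x, hx⟩ * y : K) : G) = (x * y)⁻¹ * g * (x * y) := by
        simp [mul_assoc]
      by_cases hy : (x * y)⁻¹ * g * (x * y) ∈ H
      · rw [extendByZero_of_mem _ _ hy, extendByZero_of_mem _ _
          (Subgroup.mem_subgroupOf.mpr (e ▸ hy))]
        exact congrArg θ (Subtype.ext e)
      · rw [extendByZero_of_notMem _ _ hy, extendByZero_of_notMem _ _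
          (fun h => hy (e ▸ Subgroup.mem_subgroupOf.mp h))]
    · rw [extendByZero_of_notMem _ _ hx, eq_comm]
      rw [Finset.sum_eq_zero, mul_zero]
      intro y _
      refine extendByZero_of_notMem _ _ fun h => hx ?_
      have := K.mul_mem (K.mul_mem y.2 (hHK h)) (K.inv_mem y.2)
      rwa [show (y : G) * ((x * y)⁻¹ * g * (x * y)) * (y : G)⁻¹ = x⁻¹ * g * x by group] at this
  simp_rw [key, ← Finset.mul_sum]
  rw [Finset.sum_comm]
  have : ∀ y : K, ∑ x : G, extendByZero H θ ((x * y)⁻¹ * g * (x * y)) =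
      ∑ x : G, extendByZero H θ (x⁻¹ * g * x) := fun y =>
    Fintype.sum_equiv (Equiv.mulRight (y : G)) _ _ fun x => by simp
  simp_rw [this, Finset.sum_const, Finset.card_univ, nsmul_eq_mul, ← Nat.card_eq_fintype_card]
  have : (Nat.card K : ℂ) ≠ 0 := Nat.cast_ne_zero.mpr Nat.card_pos.ne'
  field_simp

/-- Induction only depends on the subgroup up to equality of carriers. -/
theorem indFun_congr {K : Subgroup G} (h : H = K) (θ : H → ℂ) :
    indFun K (fun k => θ ⟨k, h ▸ k.2⟩) = indFun H θ := by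
  subst h; rfl

end Ind

end Cfsg.Lib.Char
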