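import Mathlib.RingTheory.IntegralClosure.IntegrallyClosed
import Mathlib.RingTheory.Polynomial.RationalRoot
import Mathlib.RingTheory.Int.Basic
import Mathlib.RingTheory.Finiteness.Basic
import Mathlib.GroupTheory.GroupAction.ConjAct
import Cfsg.Agent.Lib.Char.Induced

/-!
# Central characters, integrality, and degrees
-/

set_option autoImplicit false
set_option linter.unusedSectionVars false
set_option linter.style.haveILetI false

namespace Cfsg.Lib.Char

open Cfsg Module
open scoped ComplexConjugate

universe u v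

/-- A rational algebraic integer is an integer. -/
theorem exists_int_of_isIntegral_rat {q : ℚ} (h : IsIntegral ℤ (q : ℂ)) : ∃ m : ℤ, q = m := by
  have h' : IsIntegral ℤ q :=
    (isIntegral_algHom_iff (algebraMap ℚ ℂ).toIntAlgHom (algebraMap ℚ ℂ).injective).mp h
  obtain ⟨m, hm⟩ := IsIntegrallyClosed.isIntegral_iff.mp h'
  exact ⟨m, by rw [← hm]; rfl⟩

theorem natCast_dvd_of_isIntegral {a b : ℕ} (hb : b ≠ 0) (h : IsIntegral ℤ ((a : ℂ) / b)) :
    b ∣ a := by
  have h' : IsIntegral ℤ (((a : ℚ) / b : ℚ) : ℂ) := by push_cast; exact h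
  obtain ⟨m, hm⟩ := exists_int_of_isIntegral_rat h'
  rw [div_eq_iff (Nat.cast_ne_zero.mpr hb)] at hm
  have : (b : ℤ) ∣ (a : ℤ) := ⟨m, by
    have h2 : ((a : ℤ) : ℚ) = ((b : ℤ) : ℚ) * (m : ℚ) := by push_cast; rw [hm]; ring
    exact_mod_cast h2⟩
  exact_mod_cast this

theorem not_isIntegral_one_div_prime {p : ℕ} (hp : p.Prime) : ¬ IsIntegral ℤ ((1 : ℂ) / p) := by
  intro h
  have h' : IsIntegral ℤ (((1 : ℕ) : ℂ) / p) := by simpa using h
  exact hp.one_lt.ne' (Nat.dvd_one.mp (natCast_dvd_of_isIntegral hp.ne_zero h'))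

variable {G : Type u} [Group G]

open Classical in
/-- The conjugacy class of an element, as a finset. -/
noncomputable def classFinset [Fintype G] (g : G) : Finset G :=
  Finset.univ.filter fun x => IsConj g x

theorem mem_classFinset [Fintype G] {g x : G} : x ∈ classFinset g ↔ IsConj g x := by
  classical
  simp [classFinset]

theorem sum_classFinset [Fintype G] {f : G → ℂ} (hf : IsClassFunction G f) (g : G) :
    ∑ x ∈ classFinset g, f x = (classFinset g).card * f g := by
  rw [Finset.sum_congr rfl (g := fun _ => f g) fun x hx => ?_, Finset.sum_const, nsmul_eq_mul]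
  obtain ⟨c, hc⟩ := isConj_iff.mp (mem_classFinset.mp hx)
  rw [← hc, hf]

theorem card_classFinset [Fintype G] (g : G) :
    (classFinset g).card = (Subgroup.centralizer ({g} : Set G)).index := by
  classical
  have h1 : (classFinset g).card = Nat.card (MulAction.orbit (ConjAct G) g) := by
    rw [← Nat.card_eq_finsetCard]
    refine Nat.card_congr (Equiv.subtypeEquivRight fun x => ?_)
    rw [mem_classFinset, ConjAct.mem_orbit_conjAct]
    exact ⟨IsConj.symm, IsConj.symm⟩
  have hst : Nat.card (MulAction.stabilizer (ConjAct G) g) =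
      Nat.card (Subgroup.centralizer ({g} : Set G)) := by
    rw [ConjAct.stabilizer_eq_centralizer]
    exact Nat.card_congr (Equiv.subtypeEquiv (ConjAct.ofConjAct).toEquiv fun x => by
      simp only [Subgroup.mem_centralizer_iff, Set.mem_singleton_iff, forall_eq,
        MulEquiv.toEquiv_eq_coe, EquivLike.coe_coe]
      constructor
      · intro h
        have := congrArg ConjAct.ofConjAct h
        simpa using this
      · intro h
        apply ConjAct.ofConjAct.injective
        simpa using h)
  have h3 := Nat.card_congr (MulAction.orbitProdStabilizerEquivGroup (ConjAct G) g)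
  rw [Nat.card_prod, Nat.card_congr (ConjAct.ofConjAct).toEquiv, hst, ← h1,
    ← (Subgroup.centralizer ({g} : Set G)).card_mul_index, mul_comm] at h3
  exact Nat.eq_of_mul_eq_mul_left Nat.card_pos h3

/-- On an irreducible representation the operator of a class function is a scalar. -/
theorem averageOp_irreducible [Fintype G] {V : Type v} [AddCommGroup V] [Module ℂ V]
    [FiniteDimensional ℂ V] (ρ : Representation ℂ G V) [ρ.IsIrreducible] {f : G → ℂ}
    (hf : IsClassFunction G f) :
    averageOp ρ f = ((∑ g, f g * ρ.character g) / (finrank ℂ V : ℂ)) • LinearMap.id := by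
  let T : Representation.IntertwiningMap ρ ρ :=
    ⟨averageOp ρ f, fun g => LinearMap.ext fun x => averageOp_comm ρ hf g x⟩
  obtain ⟨c, hc⟩ :=
    (Representation.IsIrreducible.algebraMap_intertwiningMap_bijective_of_isAlgClosed
      (ρ := ρ)).2 T
  have hT : averageOp ρ f = c • LinearMap.id :=
    (congrArg Representation.IntertwiningMap.toLinearMap hc).symm
  have htr := congrArg (LinearMap.trace ℂ V) hT
  rw [map_smul, LinearMap.trace_id, smul_eq_mul] at htr
  simp only [averageOp, map_sum, map_smul, smul_eq_mul] at htr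
  change ∑ g, f g * ρ.character g = _ at htr
  rw [hT, htr, mul_div_assoc, div_self (Nat.cast_ne_zero.mpr (irreducible_finrank_pos ρ).ne'),
    mul_one]

theorem sum_class_smul [Fintype G] {V : Type v} [AddCommGroup V] [Module ℂ V]
    [FiniteDimensional ℂ V] (ρ : Representation ℂ G V) [ρ.IsIrreducible] (g : G) :
    ∑ x ∈ classFinset g, ρ x =
      (((classFinset g).card : ℂ) * ρ.character g / (finrank ℂ V : ℂ)) • LinearMap.id := by
  classical
  have hf : IsClassFunction G fun x => if x ∈ classFinset g then (1 : ℂ) else 0 := by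
    intro x k
    refine if_congr ?_ rfl rfl
    rw [mem_classFinset, mem_classFinset]
    have hc : IsConj x (k * x * k⁻¹) := isConj_iff.mpr ⟨k, rfl⟩
    exact ⟨fun h => h.trans hc.symm, fun h => h.trans hc⟩
  have key := averageOp_irreducible ρ hf
  simp only [averageOp, ite_smul, one_smul, zero_smul, ite_mul, one_mul, zero_mul,
    Finset.sum_ite_mem, Finset.univ_inter] at key
  rw [key, sum_classFinset (fun x k => ρ.char_conj x k)]

/-- The central character takes algebraic-integer values. -/
theorem isIntegral_centralChar [Fintype G] {V : Type v} [AddCommGroup V] [Module ℂ V]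
    [FiniteDimensional ℂ V] (ρ : Representation ℂ G V) [ρ.IsIrreducible] (g : G) :
    IsIntegral ℤ (((classFinset g).card : ℂ) * ρ.character g / (finrank ℂ V : ℂ)) := by
  let L : MonoidAlgebra ℤ G →ₐ[ℤ] Module.End ℂ V := MonoidAlgebra.lift ℤ (Module.End ℂ V) G ρ
  have hfin : Module.Finite ℤ (MonoidAlgebra ℤ G) :=
    Module.Finite.of_basis (MonoidAlgebra.basis G ℤ)
  have h1 := (IsIntegral.of_finite ℤ
    (∑ x ∈ classFinset g, MonoidAlgebra.of ℤ G x : MonoidAlgebra ℤ G)).map L
  have h2 : L (∑ x ∈ classFinset g, MonoidAlgebra.of ℤ G x) =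
      algebraMap ℂ (Module.End ℂ V)
        (((classFinset g).card : ℂ) * ρ.character g / (finrank ℂ V : ℂ)) := by
    rw [map_sum]
    simp only [L, MonoidAlgebra.lift_of]
    rw [sum_class_smul ρ g, Algebra.algebraMap_eq_smul_one]
    rfl
  rw [h2] at h1
  have hinj : Function.Injective (algebraMap ℂ (Module.End ℂ V)) := by
    have : Nontrivial V := ((isIrreducible_iff_submodule ρ).mp inferInstance).1
    exact (algebraMap ℂ (Module.End ℂ V)).injective
  exact (isIntegral_algHom_iff (algebraMap ℂ (Module.End ℂ V)).toIntAlgHom hinj).mp h1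

theorem _root_.Cfsg.IsIrrCharacter.isIntegral_class [Fintype G] {χ : G → ℂ}
    (hχ : IsIrrCharacter G χ) (g : G) :
    IsIntegral ℤ (((classFinset g).card : ℂ) * χ g / χ 1) := by
  obtain ⟨n, ρ, hρ, rfl⟩ := hχ
  rw [Representation.char_one]
  exact isIntegral_centralChar ρ g

/-- The degree of an irreducible character divides the group order. -/
theorem degree_dvd_card [Fintype G] {χ : G → ℂ} (hχ : IsIrrCharacter G χ) {d : ℕ}
    (hd : χ 1 = d) : d ∣ Nat.card G := by
  classical
  haveI : Finite (ConjClasses G) := Quotient.finite _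
  haveI := Fintype.ofFinite (ConjClasses G)
  have hd0 : (d : ℂ) ≠ 0 := hd ▸ hχ.apply_one_ne_zero
  refine natCast_dvd_of_isIntegral (fun h => hd0 (by simp [h])) ?_
  have hnorm : ∑ g, χ g * conj (χ g) = (Nat.card G : ℂ) := by
    have := classInner_irr_self hχ
    rw [classInner, inv_mul_eq_one₀ card_cast_ne_zero] at this
    exact this.symm
  rw [← hnorm, ← Finset.sum_fiberwise Finset.univ ConjClasses.mk (fun g => χ g * conj (χ g)),
    Finset.sum_div]
  refine IsIntegral.sum _ fun C _ => ?_
  obtain ⟨g, rfl⟩ := C.exists_rep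
  have hset : (Finset.univ.filter fun x => ConjClasses.mk x = ConjClasses.mk g) = classFinset g := by
    ext x
    rw [Finset.mem_filter, mem_classFinset, ConjClasses.mk_eq_mk_iff_isConj]
    exact ⟨fun h => h.2.symm, fun h => ⟨Finset.mem_univ _, h.symm⟩⟩
  rw [hset, sum_classFinset (f := fun x => χ x * conj (χ x))
    (fun x k => by simp only [hχ.isClassFunction x k]) g, ← hd]
  have h1 := (hχ.isIntegral_class g).mul (hχ.isCharacter.conjFn.isIntegral g)
  convert h1 using 1
  ring

end Cfsg.Lib.Char
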