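import Mathlib.GroupTheory.FiniteAbelian.Duality
import Mathlib.RingTheory.RootsOfUnity.AlgebraicallyClosed
import Mathlib.LinearAlgebra.Determinant
import Cfsg.Agent.Lib.Char.Induced

/-!
# Linear characters
-/

set_option autoImplicit false
set_option linter.unusedSectionVars false
set_option linter.style.haveILetI false

namespace Cfsg.Lib.Char

open Cfsg Module
open scoped ComplexConjugate commutatorElement

universe u v

variable {G : Type u} [Group G] [Finite G]

/-- A character of degree one is a homomorphism into `ℂˣ`. -/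
theorem exists_hom_of_degree_one {χ : G → ℂ} (hχ : IsCharacter G χ) (h1 : χ 1 = 1) :
    ∃ φ : G →* ℂˣ, χ = fun g => (φ g : ℂ) := by
  obtain ⟨n, ρ, rfl⟩ := hχ
  have hn : n = 1 := by simpa using h1
  subst hn
  have key : ∀ g, ρ g = ρ.character g • LinearMap.id := by
    intro g
    obtain ⟨μ, -, hsum, -, -, -, hscal⟩ := character_eq_sum_roots ρ g
    have : Subsingleton (Fin (finrank ℂ (Fin 1 → ℂ))) := by rw [Module.finrank_fin_fun]; infer_instance
    have hf : finrank ℂ (Fin 1 → ℂ) = 1 := Module.finrank_fin_fun ℂ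
    have i₀ : Fin (finrank ℂ (Fin 1 → ℂ)) := ⟨0, by omega⟩
    apply hscal
    intro i
    rw [hsum, Fintype.sum_subsingleton _ i]
  refine ⟨MonoidHom.toHomUnits ⟨⟨ρ.character, by simp⟩, fun a b => ?_⟩, rfl⟩
  show LinearMap.trace ℂ _ (ρ (a * b)) = _
  rw [map_mul, key a, key b]
  simp [Representation.character, ← Module.End.one_eq_id]
  ring

theorem isIrrCharacter_of_degree_one {χ : G → ℂ} (hχ : IsCharacter G χ) (h1 : χ 1 = 1) :
    IsIrrCharacter G χ := by
  obtain ⟨φ, rfl⟩ := exists_hom_of_degree_one hχ h1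
  exact isIrrCharacter_linear φ

theorem linearChar_injective :
    Function.Injective (fun φ : G →* ℂˣ => fun g => (φ g : ℂ)) :=
  fun _ _ h => MonoidHom.ext fun g => Units.ext (congrFun h g)

/-- Homomorphisms into `ℂˣ` are the irreducible characters of degree one. -/
noncomputable def linearCharEquiv :
    (G →* ℂˣ) ≃ {χ : IrrCharacter G // (χ : G → ℂ) 1 = 1} :=
  Equiv.ofBijective (fun φ => ⟨⟨_, isIrrCharacter_linear φ⟩, by simp⟩)
    ⟨fun φ ψ h => linearChar_injective (congrArg Subtype.val (congrArg Subtype.val h)),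
    fun χ => by
      obtain ⟨φ, hφ⟩ := exists_hom_of_degree_one χ.1.2.isCharacter χ.2
      exact ⟨φ, Subtype.ext (Subtype.ext hφ.symm)⟩⟩

theorem card_monoidHom_units (A : Type u) [CommGroup A] [Finite A] :
    Nat.card (A →* ℂˣ) = Nat.card A := by
  haveI : NeZero (Monoid.exponent A) := ⟨Monoid.exponent_ne_zero_of_finite⟩
  exact CommGroup.card_monoidHom_of_hasEnoughRootsOfUnity A ℂ

theorem card_linear_eq_index : Nat.card (G →* ℂˣ) = (commutator G).index := by
  haveI : Finite (Abelianization G) := Quotient.finite _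
  rw [Nat.card_congr Abelianization.lift, card_monoidHom_units]
  rfl

theorem card_degree_one :
    Nat.card {χ : IrrCharacter G // (χ : G → ℂ) 1 = 1} = (commutator G).index := by
  rw [← card_linear_eq_index]
  exact Nat.card_congr linearCharEquiv.symm

theorem degree_eq_one_of_comm (hc : ∀ a b : G, a * b = b * a) {χ : G → ℂ}
    (hχ : IsIrrCharacter G χ) : χ 1 = 1 := by
  obtain ⟨n, ρ, hρ, rfl⟩ := hχ
  haveI : IsMulCommutative G := ⟨⟨hc⟩⟩
  simp [Representation.IsIrreducible.finrank_eq_one_of_isMulCommutative ρ]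

theorem comm_iff_all_linear :
    (∀ a b : G, a * b = b * a) ↔ ∀ χ : IrrCharacter G, (χ : G → ℂ) 1 = 1 := by
  refine ⟨fun hc χ => degree_eq_one_of_comm hc χ.2, fun h a b => ?_⟩
  have hcard : (commutator G).index = Nat.card G := by
    rw [← card_degree_one, Nat.card_congr (Equiv.subtypeUnivEquiv h)]
    have h2 := sum_sq_degree (G := G)
    simp only [h, one_pow, Finset.sum_const, Finset.card_univ, nsmul_eq_mul, mul_one,
      ← Nat.card_eq_fintype_card] at h2
    exact_mod_cast h2
  have hbot : commutator G = ⊥ := by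
    apply Subgroup.eq_bot_of_card_eq
    have h3 := (commutator G).card_mul_index
    rw [hcard] at h3
    exact Nat.eq_of_mul_eq_mul_right Nat.card_pos (h3.trans (one_mul _).symm)
  have hmem : ⁅a, b⁆ ∈ commutator G := by
    rw [commutator_def]
    exact Subgroup.commutator_mem_commutator (Subgroup.mem_top a) (Subgroup.mem_top b)
  rw [hbot, Subgroup.mem_bot] at hmem
  exact commutatorElement_eq_one_iff_mul_comm.mp hmem

/-- Multiplying by a linear character preserves irreducibility. -/
theorem isIrrCharacter_mul_linear {χ : G → ℂ} (hχ : IsIrrCharacter G χ) (φ : G →* ℂˣ) :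
    IsIrrCharacter G (χ * fun g => (φ g : ℂ)) := by
  haveI := Fintype.ofFinite G
  refine isIrrCharacter_of_norm_one (hχ.isCharacter.mul (isIrrCharacter_linear φ).isCharacter) ?_
  rw [← classInner_irr_self hχ]
  simp only [classInner]
  congr 1
  refine Finset.sum_congr rfl fun g _ => ?_
  have h1 : ‖(φ g : ℂ)‖ = 1 := norm_eq_one_of_pow_orderOf (g := g) (by
    rw [← Units.val_pow_eq_pow_val, ← map_pow, pow_orderOf_eq_one, map_one, Units.val_one])
  have : (φ g : ℂ) * conj (φ g : ℂ) = 1 := by
    rw [Complex.mul_conj, Complex.normSq_eq_norm_sq, h1]; simp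
  calc χ g * (φ g : ℂ) * conj (χ g * (φ g : ℂ))
      = χ g * conj (χ g) * ((φ g : ℂ) * conj (φ g : ℂ)) := by rw [map_mul]; ring
    _ = χ g * conj (χ g) := by rw [this, mul_one]

end Cfsg.Lib.Char
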