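import Mathlib.NumberTheory.NumberField.Basic
import Mathlib.RingTheory.Norm.Transitivity
import Mathlib.FieldTheory.IntermediateField.Adjoin.Basic
import Mathlib.GroupTheory.Solvable
import Mathlib.GroupTheory.Nilpotent
import Mathlib.GroupTheory.PGroup
import Mathlib.GroupTheory.Sylow
import Cfsg.Agent.Lib.Char.Central
import Cfsg.Agent.Lib.Char.Linear

/-!
# Burnside's vanishing lemma and the two-prime theorem
-/

set_option autoImplicit false
set_option linter.unusedSectionVars false
set_option linter.style.haveILetI false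

namespace Cfsg.Lib.Char

open Cfsg Module
open scoped ComplexConjugate IntermediateField

universe u v

/-- An average of roots of unity that is an algebraic integer is zero or has absolute value one. -/
theorem sum_roots_eq_zero_or_norm {ι : Type*} [Fintype ι] (μ : ι → ℂ) {n : ℕ} (hn : n ≠ 0)
    (hμ : ∀ i, μ i ^ n = 1) (hint : IsIntegral ℤ ((∑ i, μ i) / (Fintype.card ι : ℂ))) :
    ∑ i, μ i = 0 ∨ ‖∑ i, μ i‖ = Fintype.card ι := by
  classical
  rcases isEmpty_or_nonempty ι with hι | hι
  · left; simp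
  set S := Set.range μ
  have hS : ∀ x ∈ S, IsIntegral ℚ x := by
    rintro x ⟨i, rfl⟩
    exact IsIntegral.of_pow (Nat.pos_of_ne_zero hn) (by rw [hμ i]; exact isIntegral_one)
  haveI : Finite S := Set.finite_range μ
  let K := IntermediateField.adjoin ℚ S
  haveI : FiniteDimensional ℚ K := IntermediateField.finiteDimensional_adjoin hS
  let m : ι → K := fun i => ⟨μ i, IntermediateField.subset_adjoin ℚ S ⟨i, rfl⟩⟩
  set d : ℕ := Fintype.card ι with hd
  have hd0 : (0 : ℝ) < d := by exact_mod_cast Fintype.card_pos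
  let a : K := (∑ i, m i) / (d : K)
  have ha : (a : ℂ) = (∑ i, μ i) / (d : ℂ) := by
    simp [a, m]
  have hai : IsIntegral ℤ a :=
    (isIntegral_algHom_iff (algebraMap K ℂ).toIntAlgHom (algebraMap K ℂ).injective).mp
      (by rw [← ha] at hint; exact hint)
  have hle : ∀ σ : K →ₐ[ℚ] ℂ, ‖σ a‖ ≤ 1 := by
    intro σ
    have h1 : ∀ i, ‖σ (m i)‖ = 1 := fun i => Complex.norm_eq_one_of_pow_eq_one
      (by rw [← map_pow, show m i ^ n = 1 from Subtype.ext (hμ i), map_one]) hn
    simp only [a, map_div₀, map_sum, map_natCast, norm_div, Complex.norm_natCast]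
    rw [div_le_one hd0]
    exact (norm_sum_le _ _).trans (by simp [h1, hd])
  by_cases h0 : ∑ i, μ i = 0
  · exact Or.inl h0
  right
  have ha0 : a ≠ 0 := by
    intro h
    have : (a : ℂ) = 0 := by rw [h]; rfl
    rw [ha, div_eq_zero_iff] at this
    exact this.elim h0 (Nat.cast_ne_zero.mpr Fintype.card_ne_zero)
  have hnorm := Algebra.norm_eq_prod_embeddings ℚ ℂ a
  obtain ⟨k, hk⟩ := exists_int_of_isIntegral_rat
    (q := Algebra.norm ℚ a) ((Algebra.isIntegral_norm ℚ hai).algebraMap (B := ℂ))
  have hk0 : k ≠ 0 := by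
    intro h
    rw [h, Int.cast_zero] at hk
    exact ha0 (Algebra.norm_eq_zero_iff.mp hk)
  have hprod : (1 : ℝ) ≤ ∏ σ : K →ₐ[ℚ] ℂ, ‖σ a‖ := by
    rw [← norm_prod, ← hnorm, hk]
    have h1 : (1 : ℤ) ≤ |k| := Int.one_le_abs hk0
    simpa [Complex.norm_intCast] using (by exact_mod_cast h1 : (1 : ℝ) ≤ |(k : ℝ)|)
  have hone : ‖K.val a‖ = 1 := by
    refine le_antisymm (hle _) (le_of_not_gt fun hlt => ?_)
    have : ∏ σ : K →ₐ[ℚ] ℂ, ‖σ a‖ < 1 := by
      rw [← Finset.prod_erase_mul Finset.univ (fun σ : K →ₐ[ℚ] ℂ => ‖σ a‖) (Finset.mem_univ K.val)]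
      calc _ ≤ 1 * ‖K.val a‖ := mul_le_mul_of_nonneg_right
            (Finset.prod_le_one (fun _ _ => norm_nonneg _) (fun σ _ => hle σ)) (norm_nonneg _)
        _ < 1 := by rw [one_mul]; exact hlt
    exact absurd hprod (not_le.mpr this)
  have hva : K.val a = (∑ i, μ i) / (d : ℂ) := ha
  rw [hva, norm_div, Complex.norm_natCast, div_eq_one_iff_eq hd0.ne'] at hone
  exact hone

variable {G : Type u} [Group G]

/-- Burnside: for coprime degree and class size, a character value is zero or of maximal modulus. -/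
theorem character_zero_or_norm [Fintype G] {V : Type v} [AddCommGroup V] [Module ℂ V]
    [FiniteDimensional ℂ V] (ρ : Representation ℂ G V) [ρ.IsIrreducible] (g : G)
    (hcop : Nat.Coprime (finrank ℂ V) (classFinset g).card) :
    ρ.character g = 0 ∨ ‖ρ.character g‖ = (finrank ℂ V : ℝ) := by
  obtain ⟨μ, hμ, hsum, -⟩ := character_eq_sum_roots ρ g
  have hd : finrank ℂ V ≠ 0 := (irreducible_finrank_pos ρ).ne'
  obtain ⟨a, b, hab⟩ := Int.isCoprime_iff_gcd_eq_one.mpr
    (show Int.gcd (finrank ℂ V : ℤ) ((classFinset g).card : ℤ) = 1 from hcop)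
  have key : ρ.character g / (finrank ℂ V : ℂ) =
      (a : ℂ) * ρ.character g +
        (b : ℂ) * (((classFinset g).card : ℂ) * ρ.character g / (finrank ℂ V : ℂ)) := by
    have hdC : (finrank ℂ V : ℂ) ≠ 0 := Nat.cast_ne_zero.mpr hd
    have h1 : (a : ℂ) * (finrank ℂ V : ℂ) + (b : ℂ) * ((classFinset g).card : ℂ) = 1 := by
      exact_mod_cast hab
    field_simp
    linear_combination (-ρ.character g) * h1
  have hint : IsIntegral ℤ (ρ.character g / (finrank ℂ V : ℂ)) := by
    rw [key]
    exact (isIntegral_algebraMap.mul (isIntegral_character ρ g)).add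
      (isIntegral_algebraMap.mul (isIntegral_centralChar ρ g))
  have := sum_roots_eq_zero_or_norm μ (orderOf_pos g).ne' hμ
    (by rw [← hsum, Fintype.card_fin]; exact hint)
  rwa [← hsum, Fintype.card_fin] at this

/-- The subgroup of elements acting as scalars. -/
def scalarSubgroup {V : Type v} [AddCommGroup V] [Module ℂ V] (ρ : Representation ℂ G V) :
    Subgroup G where
  carrier := {g | ∃ c : ℂ, ρ g = c • LinearMap.id}
  one_mem' := ⟨1, by ext; simp⟩
  mul_mem' := by
    rintro a b ⟨c, hc⟩ ⟨d, hd⟩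
    exact ⟨c * d, by ext x; simp [hc, hd, smul_smul, mul_comm]⟩
  inv_mem' := by
    rintro a ⟨c, hc⟩
    refine ⟨c⁻¹, LinearMap.ext fun x => ?_⟩
    simp only [LinearMap.smul_apply, LinearMap.id_apply]
    have h1 : ρ a (ρ a⁻¹ x) = x := ρ.self_inv_apply a x
    rw [hc] at h1
    simp only [LinearMap.smul_apply, LinearMap.id_apply] at h1
    rcases eq_or_ne c 0 with rfl | hc0
    · rw [zero_smul] at h1
      rw [← h1]; simp
    · conv_rhs => rw [← h1]
      rw [smul_smul, inv_mul_cancel₀ hc0, one_smul]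

theorem scalarSubgroup_normal {V : Type v} [AddCommGroup V] [Module ℂ V]
    (ρ : Representation ℂ G V) : (scalarSubgroup ρ).Normal := by
  refine ⟨?_⟩
  rintro a ⟨c, hc⟩ k
  refine ⟨c, LinearMap.ext fun x => ?_⟩
  simp [hc]

theorem prime_card_of_simple_comm [Finite G] [IsSimpleGroup G] (hc : ∀ a b : G, a * b = b * a) :
    (Nat.card G).Prime := by
  letI : CommGroup G := { ‹Group G› with mul_comm := hc }
  exact IsSimpleGroup.prime_card

/-- A simple group with a nontrivial class of prime-power size has prime order. -/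
theorem prime_card_of_class_prime_pow [Fintype G] [IsSimpleGroup G] {p k : ℕ} (hp : p.Prime)
    {g : G} (hg : g ≠ 1) (hclass : (classFinset g).card = p ^ k) : (Nat.card G).Prime := by
  classical
  rcases Nat.eq_zero_or_pos k with rfl | hk
  · refine prime_card_of_simple_comm fun a b => ?_
    have hcen : g ∈ Subgroup.center G := Subgroup.mem_center_iff.mpr fun x => by
      rw [pow_zero, Finset.card_eq_one] at hclass
      obtain ⟨y, hy⟩ := hclass
      have h1 : g ∈ classFinset g := mem_classFinset.mpr (IsConj.refl g)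
      have h2 : x * g * x⁻¹ ∈ classFinset g := mem_classFinset.mpr (isConj_iff.mpr ⟨x, rfl⟩)
      rw [hy, Finset.mem_singleton] at h1 h2
      rw [← h1] at h2
      exact mul_inv_eq_iff_eq_mul.mp h2
    have : Subgroup.center G = ⊤ :=
      (Subgroup.Normal.eq_bot_or_eq_top (inferInstance : (Subgroup.center G).Normal)).resolve_left
        fun h => hg (by rw [h, Subgroup.mem_bot] at hcen; exact hcen)
    exact Subgroup.mem_center_iff.mp (this ▸ Subgroup.mem_top b) a
  have hex : ∃ χ : IrrCharacter G, (χ : G → ℂ) ≠ (fun _ => 1) ∧ (χ : G → ℂ) g ≠ 0 ∧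
      ∀ d : ℕ, (χ : G → ℂ) 1 = d → ¬ p ∣ d := by
    by_contra hcon
    push Not at hcon
    refine not_isIntegral_one_div_prime hp ?_
    have hsum := sum_degree_mul (G := G) g
    rw [if_neg hg] at hsum
    let e : IrrCharacter G := ⟨fun _ => 1, isIrrCharacter_one⟩
    rw [← Finset.sum_erase_add _ _ (Finset.mem_univ e)] at hsum
    have hone : (e : G → ℂ) 1 * (e : G → ℂ) g = 1 := one_mul _
    rw [hone] at hsum
    have h2 : IsIntegral ℤ ((∑ χ ∈ Finset.univ.erase e, (χ : G → ℂ) 1 * (χ : G → ℂ) g) / p) := by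
      rw [Finset.sum_div]
      refine IsIntegral.sum _ fun χ hχ => ?_
      by_cases h0 : (χ : G → ℂ) g = 0
      · simp [h0, isIntegral_zero]
      have hne : (χ : G → ℂ) ≠ fun _ => 1 := fun h => (Finset.mem_erase.mp hχ).1 (Subtype.ext h)
      obtain ⟨d, hd, m, rfl⟩ := hcon χ hne h0
      rw [hd]
      push_cast
      rw [mul_assoc, mul_div_cancel_left₀ _ (Nat.cast_ne_zero.mpr hp.ne_zero)]
      exact isIntegral_algebraMap.mul (χ.2.isCharacter.isIntegral g)
    rw [eq_neg_of_add_eq_zero_left hsum, neg_div] at h2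
    simpa using h2.neg
  obtain ⟨⟨χ, n, ρ, hρ, rfl⟩, hne, h0, hpd⟩ := hex
  have hcop : Nat.Coprime (finrank ℂ (Fin n → ℂ)) (classFinset g).card := by
    rw [hclass]
    exact (((Nat.Prime.coprime_iff_not_dvd hp).mpr (hpd _ ρ.char_one)).symm).pow_right k
  have hs : g ∈ scalarSubgroup ρ :=
    (norm_character_eq_iff ρ g).mp ((character_zero_or_norm ρ g hcop).resolve_left h0)
  have htop : scalarSubgroup ρ = ⊤ :=
    (Subgroup.Normal.eq_bot_or_eq_top (scalarSubgroup_normal ρ)).resolve_left
      fun h => hg (by rw [h, Subgroup.mem_bot] at hs; exact hs)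
  refine prime_card_of_simple_comm fun a b => ?_
  have hker : MonoidHom.ker ρ = ⊥ :=
    (Subgroup.Normal.eq_bot_or_eq_top (inferInstance : (MonoidHom.ker ρ).Normal)).resolve_right
      fun h => by
        have htriv : ∀ x, ρ x = 1 := fun x => MonoidHom.mem_ker.mp (h ▸ Subgroup.mem_top x)
        apply hne
        have hirr := classInner_irreducible_self ρ
        have hc : ρ.character = fun _ => (finrank ℂ (Fin n → ℂ) : ℂ) := funext fun x => by
          simp [Representation.character, htriv]
        rw [hc] at hirr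
        simp [classInner, ← Nat.card_eq_fintype_card] at hirr
        rw [inv_mul_cancel_left₀ card_cast_ne_zero, Nat.card_fin] at hirr
        have hn : n = 1 := by
          have h' : ((n * n : ℕ) : ℂ) = ((1 : ℕ) : ℂ) := by push_cast; exact hirr
          exact (mul_eq_one.mp (Nat.cast_inj.mp h')).1
        subst hn
        exact hc.trans (funext fun _ => by simp)
  apply (MonoidHom.ker_eq_bot_iff (f := ρ)).mp hker
  obtain ⟨c, hc⟩ : a ∈ scalarSubgroup ρ := htop ▸ Subgroup.mem_top a
  rw [map_mul, map_mul, hc]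
  ext x
  simp

end Cfsg.Lib.Char
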