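import Cfsg.Prelude.Def_Blocks
import Cfsg.Agent.Lib.Char.Central

/-!
# Product formulas, degrees, class multiplication
-/

set_option autoImplicit false
set_option linter.unusedSectionVars false
set_option linter.style.haveILetI false

namespace Cfsg.Lib.Char

open Cfsg Module
open scoped ComplexConjugate

universe u v

variable {G : Type u} [Group G]

theorem sum_conj_rep [Fintype G] {V : Type v} [AddCommGroup V] [Module ℂ V]
    [FiniteDimensional ℂ V] (ρ : Representation ℂ G V) [ρ.IsIrreducible] (h : G) :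
    ∑ x, ρ (x * h * x⁻¹) =
      ((Nat.card G : ℂ) * ρ.character h / (finrank ℂ V : ℂ)) • LinearMap.id := by
  let T : Representation.IntertwiningMap ρ ρ :=
    ⟨∑ x, ρ (x * h * x⁻¹), fun g => LinearMap.ext fun v => by
      simp only [LinearMap.comp_apply, LinearMap.sum_apply, map_sum]
      refine Fintype.sum_equiv (Equiv.mulLeft g⁻¹) _ _ fun x => ?_
      rw [← Module.End.mul_apply, ← Module.End.mul_apply, ← map_mul, ← map_mul]
      simp only [Equiv.coe_mulLeft, mul_inv_rev, inv_inv]
      congr 2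
      group⟩
  obtain ⟨c, hc⟩ :=
    (Representation.IsIrreducible.algebraMap_intertwiningMap_bijective_of_isAlgClosed
      (ρ := ρ)).2 T
  have hT : ∑ x, ρ (x * h * x⁻¹) = c • LinearMap.id :=
    (congrArg Representation.IntertwiningMap.toLinearMap hc).symm
  have htr := congrArg (LinearMap.trace ℂ V) hT
  rw [map_smul, LinearMap.trace_id, smul_eq_mul, map_sum] at htr
  change ∑ x, ρ.character (x * h * x⁻¹) = _ at htr
  simp only [Representation.char_conj, Finset.sum_const, Finset.card_univ, nsmul_eq_mul,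
    ← Nat.card_eq_fintype_card] at htr
  rw [hT, htr, mul_div_assoc, div_self (Nat.cast_ne_zero.mpr (irreducible_finrank_pos ρ).ne'),
    mul_one]

/-- The product formula `∑ₓ χ(g·xhx⁻¹) = |G| χ(g) χ(h) / χ(1)`. -/
theorem sum_char_mul_conj [Fintype G] {χ : G → ℂ} (hχ : IsIrrCharacter G χ) (g h : G) :
    ∑ x, χ (g * (x * h * x⁻¹)) = (Nat.card G : ℂ) * χ g * χ h / χ 1 := by
  obtain ⟨n, ρ, hρ, rfl⟩ := hχ
  have h1 : ∑ x, ρ.character (g * (x * h * x⁻¹)) =
      LinearMap.trace ℂ (Fin n → ℂ) (ρ g * ∑ x, ρ (x * h * x⁻¹)) := by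
    simp [Representation.character, Finset.mul_sum, map_sum]
  rw [h1, sum_conj_rep ρ h, mul_smul_comm, map_smul, smul_eq_mul, ρ.char_one,
    show ρ g * LinearMap.id = ρ g from LinearMap.comp_id _]
  show _ * ρ.character g = _
  ring

/-- Convolution of an irreducible character with itself. -/
theorem sum_char_mul_char_inv [Fintype G] {χ : G → ℂ} (hχ : IsIrrCharacter G χ) (g : G) :
    ∑ x, χ x * χ (x⁻¹ * g) = (Nat.card G : ℂ) * χ g / χ 1 := by
  have hnorm := classInner_irr_self hχ
  rw [classInner, inv_mul_eq_one₀ card_cast_ne_zero] at hnorm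
  obtain ⟨n, ρ, hρ, rfl⟩ := hχ
  have hf : IsClassFunction G fun x => conj (ρ.character x) := fun x k => by simp
  have h1 : ∑ x, ρ.character x * ρ.character (x⁻¹ * g) =
      LinearMap.trace ℂ (Fin n → ℂ) (averageOp ρ (fun x => conj (ρ.character x)) * ρ g) := by
    simp only [averageOp, Finset.sum_mul, map_sum, smul_mul_assoc, map_smul, smul_eq_mul,
      ← map_mul]
    refine Fintype.sum_equiv (Equiv.inv G) _ _ fun x => ?_
    rw [Equiv.inv_apply, ← character_inv, inv_inv]
    rfl
  rw [h1, averageOp_irreducible ρ hf, smul_mul_assoc, map_smul, smul_eq_mul, ρ.char_one,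
    show LinearMap.id * ρ g = ρ g from LinearMap.id_comp _]
  change _ * ρ.character g = _
  rw [Finset.sum_congr rfl fun x _ => mul_comm _ _, ← hnorm]
  ring

theorem _root_.Cfsg.IsCharacter.apply_one_eq_charDegree {χ : G → ℂ} (hχ : IsCharacter G χ) :
    χ 1 = (charDegree χ : ℂ) := by
  obtain ⟨n, ρ, rfl⟩ := hχ
  simp [charDegree]

theorem _root_.Cfsg.IsIrrCharacter.apply_one_eq_charDegree {χ : G → ℂ} (hχ : IsIrrCharacter G χ) :
    χ 1 = (charDegree χ : ℂ) := hχ.isCharacter.apply_one_eq_charDegree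

theorem _root_.Cfsg.IsIrrCharacter.charDegree_pos [Finite G] {χ : G → ℂ}
    (hχ : IsIrrCharacter G χ) : 0 < charDegree χ := by
  obtain ⟨n, hn, h⟩ := hχ.exists_degree
  simpa [charDegree, h] using hn

theorem charDegree_dvd_card [Finite G] {χ : G → ℂ} (hχ : IsIrrCharacter G χ) :
    charDegree χ ∣ Nat.card G := by
  haveI := Fintype.ofFinite G
  exact degree_dvd_card hχ hχ.apply_one_eq_charDegree

theorem _root_.Cfsg.IsCharacter.mem_algInt [Finite G] {χ : G → ℂ} (hχ : IsCharacter G χ) (g : G) :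
    χ g ∈ Cfsg.AlgInt := hχ.isIntegral g

/-- Number of solutions of a product equation in two conjugacy classes. -/
theorem card_class_product [Fintype G] [DecidableEq G] (a b c : G) :
    (((classFinset a ×ˢ classFinset b).filter fun p => p.1 * p.2 = c).card : ℂ) =
      ((classFinset a).card : ℂ) * (classFinset b).card / (Nat.card G : ℂ) *
        ∑ χ : IrrCharacter G,
          (χ : G → ℂ) a * (χ : G → ℂ) b * conj ((χ : G → ℂ) c) / (χ : G → ℂ) 1 := by
  classical
  have hterm : ∀ χ : IrrCharacter G,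
      ∑ p ∈ classFinset a ×ˢ classFinset b, (χ : G → ℂ) (p.1 * p.2 * c⁻¹) =
        ((classFinset a).card : ℂ) * (classFinset b).card *
          ((χ : G → ℂ) a * (χ : G → ℂ) b * conj ((χ : G → ℂ) c) / (χ : G → ℂ) 1 ^ 2) := by
    intro χ
    obtain ⟨n, ρ, hρ, hc'⟩ := χ.2
    have hin : IsCharacter G (χ : G → ℂ) := χ.2.isCharacter
    rw [← hin.apply_inv c, ← hc', Finset.sum_product]
    have h1 : ∀ x y : G, ρ.character (x * y * c⁻¹) =
        LinearMap.trace ℂ (Fin n → ℂ) (ρ x * ρ y * ρ c⁻¹) := by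
      intro x y; rw [← map_mul, ← map_mul]; rfl
    simp only [h1, ← map_sum, ← Finset.sum_mul, ← Finset.mul_sum, sum_class_smul,
      ρ.char_one, smul_mul_assoc, mul_smul_comm, map_smul, smul_eq_mul]
    rw [show (LinearMap.id : (Fin n → ℂ) →ₗ[ℂ] (Fin n → ℂ)) = 1 from rfl, one_mul, one_mul]
    have hd : (finrank ℂ (Fin n → ℂ) : ℂ) ≠ 0 :=
      Nat.cast_ne_zero.mpr (irreducible_finrank_pos ρ).ne'
    change _ * (_ * ρ.character c⁻¹) = _
    field_simp
  have hreg : ∀ p : G × G, (if p.1 * p.2 = c then (Nat.card G : ℂ) else 0) =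
      ∑ χ : IrrCharacter G, (χ : G → ℂ) 1 * (χ : G → ℂ) (p.1 * p.2 * c⁻¹) := by
    intro p
    rw [sum_degree_mul]
    exact if_congr mul_inv_eq_one.symm rfl rfl
  have key : (Nat.card G : ℂ) *
      ((classFinset a ×ˢ classFinset b).filter fun p => p.1 * p.2 = c).card =
      ∑ χ : IrrCharacter G, (χ : G → ℂ) 1 *
        ∑ p ∈ classFinset a ×ˢ classFinset b, (χ : G → ℂ) (p.1 * p.2 * c⁻¹) := by
    simp only [Finset.mul_sum]
    rw [Finset.sum_comm, ← Finset.sum_congr rfl fun p _ => hreg p, Finset.sum_ite,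
      Finset.sum_const_zero, add_zero, Finset.sum_const, nsmul_eq_mul, mul_comm]
  simp only [hterm] at key
  have hG := card_cast_ne_zero (G := G)
  rw [div_mul_eq_mul_div, eq_div_iff hG, mul_comm, key, Finset.mul_sum]
  refine Finset.sum_congr rfl fun χ _ => ?_
  have := χ.2.apply_one_ne_zero
  field_simp

end Cfsg.Lib.Char
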