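import Cfsg.Agent.Lib.Char.Induced

/-!
# Induction from trivial-intersection subsets
-/

set_option autoImplicit false
set_option linter.unusedSectionVars false
set_option linter.style.haveILetI false

namespace Cfsg.Lib.Char

open Cfsg
open scoped ComplexConjugate

universe u

variable {G : Type u} [Group G] [Fintype G]

/-- A class function supported on a trivial-intersection set is recovered from its induction. -/
theorem indFun_eq_of_TI (L : Subgroup G) (T : Set G)
    (hTI : ∀ x : G, x ∉ L → ∀ t ∈ T, t ≠ 1 → x * t * x⁻¹ ∉ T)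
    {ψ : L → ℂ} (hψ : IsClassFunction L ψ) (hψT : ∀ x : L, (x : G) ∉ T → ψ x = 0)
    (t : L) (htT : (t : G) ∈ T) (ht1 : (t : G) ≠ 1) : indFun L ψ t = ψ t := by
  haveI := Fintype.ofFinite L
  have h1 : ∀ x : G, extendByZero L ψ (x⁻¹ * t * x) = extendByZero L (fun _ => ψ t) x := by
    intro x
    by_cases hx : x ∈ L
    · rw [extendByZero_of_mem L _ hx,
        extendByZero_of_mem L ψ (L.mul_mem (L.mul_mem (L.inv_mem hx) t.2) hx)]
      have := hψ t (⟨x, hx⟩ : L)⁻¹
      rw [inv_inv] at this
      exact this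
    · rw [extendByZero_of_notMem L _ hx]
      by_cases hm : x⁻¹ * (t : G) * x ∈ L
      · rw [extendByZero_of_mem L ψ hm]
        refine hψT _ fun h => hTI x⁻¹ (fun h' => hx (inv_mem_iff.mp h')) t htT ht1 ?_
        simpa using h
      · rw [extendByZero_of_notMem L ψ hm]
  simp only [indFun, h1]
  have h2 := sum_extendByZero L (fun _ => ψ t) (fun _ => (1 : ℂ))
  simp only [mul_one, Finset.sum_const, Finset.card_univ, nsmul_eq_mul,
    ← Nat.card_eq_fintype_card] at h2
  rw [h2, ← mul_assoc, inv_mul_cancel₀ (Nat.cast_ne_zero.mpr Nat.card_pos.ne'), one_mul]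

/-- Induction from a trivial-intersection set is an isometry on functions vanishing at `1`. -/
theorem classInner_indFun_TI (L : Subgroup G) [Fintype L] (T : Set G)
    (hTI : ∀ x : G, x ∉ L → ∀ t ∈ T, t ≠ 1 → x * t * x⁻¹ ∉ T)
    {ψ θ : L → ℂ} (hθ : IsClassFunction L θ) (hψT : ∀ x : L, (x : G) ∉ T → ψ x = 0)
    (hθT : ∀ x : L, (x : G) ∉ T → θ x = 0) (hψ1 : ψ 1 = 0) :
    classInner (indFun L ψ) (indFun L θ) = classInner ψ θ := by
  rw [classInner_indFun L ψ (isClassFunction_indFun L θ)]
  simp only [classInner]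
  congr 1
  refine Finset.sum_congr rfl fun x _ => ?_
  by_cases hx : (x : G) ∈ T
  · by_cases hx1 : (x : G) = 1
    · rw [show x = 1 from Subtype.ext hx1, hψ1, zero_mul, zero_mul]
    · rw [indFun_eq_of_TI L T hTI hθ hθT x hx hx1]
  · rw [hψT x hx, zero_mul, zero_mul]

end Cfsg.Lib.Char
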