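import Cfsg.Agent.Lib.Char.Linear

/-!
# Constituents of characters
-/

set_option autoImplicit false
set_option linter.unusedSectionVars false
set_option linter.style.haveILetI false

namespace Cfsg.Lib.Char

open Cfsg
open scoped ComplexConjugate

universe u

variable {G : Type u} [Group G]

theorem _root_.Cfsg.IsCharacter.degree_re_nonneg [Finite G] {χ : G → ℂ} (hχ : IsCharacter G χ) :
    0 ≤ (χ 1).re := (norm_nonneg _).trans (hχ.norm_le 1)

theorem _root_.Cfsg.IsCharacter.eq_zero_of_degree [Finite G] {χ : G → ℂ} (hχ : IsCharacter G χ)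
    (h : χ 1 = 0) : χ = 0 := by
  funext g
  have h1 := hχ.norm_le g
  rw [h, Complex.zero_re] at h1
  exact norm_eq_zero.mp (le_antisymm h1 (norm_nonneg _))

theorem exists_constituent [Fintype G] {ψ : G → ℂ} (hψ : IsCharacter G ψ) (h : ψ 1 ≠ 0) :
    ∃ χ : IrrCharacter G, classInner ψ (χ : G → ℂ) ≠ 0 := by
  by_contra hcon
  push Not at hcon
  exact h (congrFun (eq_zero_of_orthogonal hψ.isClassFunction fun χ hχ => hcon ⟨χ, hχ⟩) 1)

theorem degree_le_of_constituent [Fintype G] {χ ψ : G → ℂ} (hχ : IsIrrCharacter G χ)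
    (hψ : IsCharacter G ψ) (h : classInner ψ χ ≠ 0) : (χ 1).re ≤ (ψ 1).re := by
  obtain ⟨n, hn⟩ := hψ.exists_nat_classInner hχ.isCharacter
  have hn1 : 1 ≤ n := Nat.one_le_iff_ne_zero.mpr fun h0 => h (by simp [hn, h0])
  choose m hm using fun φ : IrrCharacter G => hψ.exists_nat_classInner φ.2.isCharacter
  have hexp := congrArg Complex.re (congrFun (eq_sum_classInner hψ.isClassFunction) 1)
  simp only [Finset.sum_apply, Pi.smul_apply, smul_eq_mul, hm, Complex.re_sum] at hexp
  rw [hexp]
  have hle := Finset.single_le_sum (f := fun φ : IrrCharacter G =>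
    ((m φ : ℂ) * (φ : G → ℂ) 1).re) (fun φ _ => ?_) (Finset.mem_univ (⟨χ, hχ⟩ : IrrCharacter G))
  · refine le_trans ?_ hle
    have hm1 : m ⟨χ, hχ⟩ = n := by exact_mod_cast (hm ⟨χ, hχ⟩).symm.trans hn
    have h0 := hχ.isCharacter.degree_re_nonneg
    simp only [hm1, Complex.mul_re, Complex.natCast_re, Complex.natCast_im, zero_mul, sub_zero]
    exact le_mul_of_one_le_left h0 (by exact_mod_cast hn1)
  · simp only [Complex.mul_re, Complex.natCast_re, Complex.natCast_im, zero_mul, sub_zero]
    exact mul_nonneg (Nat.cast_nonneg _) φ.2.isCharacter.degree_re_nonneg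

/-- A character all of whose constituents are linear is trivial on commutators. -/
theorem _root_.Cfsg.IsCharacter.commutator_mem_ker [Finite G] {χ : G → ℂ} (hχ : IsCharacter G χ)
    (hlin : ∀ φ : IrrCharacter G, (φ : G → ℂ) 1 = 1 ∨
      ∀ [Fintype G], classInner χ (φ : G → ℂ) = 0) (a b : G) :
    χ (a * b * a⁻¹ * b⁻¹) = χ 1 := by
  haveI := Fintype.ofFinite G
  rw [eq_sum_classInner hχ.isClassFunction]
  simp only [Finset.sum_apply, Pi.smul_apply, smul_eq_mul]
  refine Finset.sum_congr rfl fun φ _ => ?_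
  rcases hlin φ with h | h
  · obtain ⟨l, hl⟩ := exists_hom_of_degree_one φ.2.isCharacter h
    simp only [hl, map_one, map_mul, map_inv]
    congr 1
    rw [mul_comm (l a) (l b), mul_inv_cancel_right, mul_inv_cancel]
  · rw [h, zero_mul, zero_mul]

/-- Decomposition of a character of an abelian group into linear characters. -/
theorem exists_multiset_linear [Finite G] (hc : ∀ a b : G, a * b = b * a) {χ : G → ℂ}
    (hχ : IsCharacter G χ) :
    ∃ s : Multiset (G →* ℂˣ), ∀ g, χ g = (s.map fun φ : G →* ℂˣ => (φ g : ℂ)).sum := by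
  obtain ⟨s, rfl⟩ := hχ.exists_multiset
  choose l hl using fun φ : IrrCharacter G =>
    exists_hom_of_degree_one φ.2.isCharacter (degree_eq_one_of_comm hc φ.2)
  refine ⟨s.map l, fun g => ?_⟩
  rw [Multiset.map_map]
  clear hχ
  induction s using Multiset.induction with
  | empty => simp
  | cons a t ih =>
    simp only [Multiset.map_cons, Multiset.sum_cons, Pi.add_apply, Function.comp_apply, ih]
    rw [congrFun (hl a) g]

end Cfsg.Lib.Char
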