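import Cfsg.Agent.Lib.Char.Induced
import Cfsg.Agent.Lib.Char.Constituents
import Cfsg.Agent.Lib.Char.Central
import Cfsg.Prelude.Def_OddOrderChar

/-!
# Coherence

Virtual characters with orthonormal sets, the extension of an isometry from a family of images, and
the coherence criteria of Feit (constant degree; adjoining a conjugate pair; adjoining one
irreducible character; uniting two coherent sets).
-/

set_option autoImplicit false
set_option linter.unusedSectionVars false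
set_option linter.style.haveILetI false

namespace Cfsg.Lib.Char

open Cfsg
open scoped ComplexConjugate

universe u v

variable {G : Type v} [Group G] [Fintype G]

theorem classInner_intCast_smul_left (n : ℤ) (φ ψ : G → ℂ) :
    classInner ((n : ℂ) • φ) ψ = (n : ℂ) * classInner φ ψ := classInner_smul_left _ _ _

theorem classInner_intCast_smul_right (n : ℤ) (φ ψ : G → ℂ) :
    classInner φ ((n : ℂ) • ψ) = (n : ℂ) * classInner φ ψ := by
  rw [classInner_smul_right, map_intCast]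

/-- The norm of a virtual character is a natural number. -/
theorem exists_nat_norm {f : G → ℂ} (hf : IsGeneralizedCharacter G f) :
    ∃ n : ℕ, classInner f f = n := by
  obtain ⟨n, hn⟩ := hf.exists_int_classInner hf
  have h := classInner_self_nonneg f
  rw [hn, Complex.intCast_re] at h
  lift n to ℕ using (by exact_mod_cast h)
  exact ⟨n, by rw [hn, Int.cast_natCast]⟩

theorem classInner_symm_int {f g : G → ℂ} {n : ℤ} (h : classInner f g = n) :
    classInner g f = n := by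
  rw [← classInner_conj_symm, h, map_intCast]

theorem classInner_symm_nat {f g : G → ℂ} {n : ℕ} (h : classInner f g = n) :
    classInner g f = n := by
  rw [← classInner_conj_symm, h, Complex.conj_natCast]

theorem classInner_symm_zero {f g : G → ℂ} (h : classInner f g = 0) : classInner g f = 0 := by
  rw [← classInner_conj_symm, h, map_zero]

/-- Decomposition of a virtual character along an orthonormal set. -/
theorem bessel_int (R : Finset (G → ℂ))
    (hon : ∀ α ∈ R, ∀ β ∈ R, classInner α β = if α = β then 1 else 0)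
    (hgen : ∀ α ∈ R, IsGeneralizedCharacter G α) {v : G → ℂ} (hv : IsGeneralizedCharacter G v) :
    ∃ (a : (G → ℂ) → ℤ) (w : G → ℂ), (∀ α ∈ R, classInner v α = a α) ∧
      IsGeneralizedCharacter G w ∧ v = (∑ α ∈ R, (a α : ℂ) • α) + w ∧
      (∀ α ∈ R, classInner w α = 0) ∧
      classInner v v = (∑ α ∈ R, (a α : ℂ) * (a α : ℂ)) + classInner w w := by
  classical
  have h : ∀ α : G → ℂ, ∃ n : ℤ, α ∈ R → classInner v α = n := fun α => by
    by_cases hα : α ∈ R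
    · exact (hv.exists_int_classInner (hgen α hα)).imp fun n hn _ => hn
    · exact ⟨0, fun h => absurd h hα⟩
  choose a ha using h
  set w := v - ∑ α ∈ R, (a α : ℂ) • α with hw
  have hsum : ∀ β ∈ R, classInner (∑ α ∈ R, (a α : ℂ) • α) β = a β := by
    intro β hβ
    rw [classInner_sum_left, Finset.sum_eq_single_of_mem β hβ]
    · rw [classInner_intCast_smul_left, hon β hβ β hβ, if_pos rfl, mul_one]
    · intro α hα hne
      rw [classInner_intCast_smul_left, hon α hα β hβ, if_neg hne, mul_zero]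
  have hwR : ∀ α ∈ R, classInner w α = 0 := fun α hα => by
    rw [hw, classInner_sub_left, hsum α hα, ha α hα, sub_self]
  refine ⟨a, w, ha, hv.sub (IsGeneralizedCharacter.sum _ _ fun α hα => (hgen α hα).intCast_smul _),
    by rw [hw]; abel, hwR, ?_⟩
  have e : v = (∑ α ∈ R, (a α : ℂ) • α) + w := by rw [hw]; abel
  have h1 : classInner w (∑ α ∈ R, (a α : ℂ) • α) = 0 := by
    rw [classInner_sum_right]
    exact Finset.sum_eq_zero fun α hα => by
      rw [classInner_intCast_smul_right, hwR α hα, mul_zero]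
  conv_lhs => rw [e]
  rw [classInner_add_left, classInner_add_right, classInner_add_right, h1,
    classInner_symm_zero h1, add_zero, zero_add]
  congr 1
  rw [classInner_sum_right]
  exact Finset.sum_congr rfl fun α hα => by rw [classInner_intCast_smul_right, hsum α hα]

/-- A sum over an orthonormal set has norm its cardinality. -/
theorem classInner_sum_orthonormal (R T : Finset (G → ℂ))
    (hon : ∀ α ∈ R, ∀ β ∈ R, classInner α β = if α = β then 1 else 0) (hTR : T ⊆ R) :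
    classInner (∑ α ∈ T, α) (∑ α ∈ R, α) = T.card ∧
      classInner (∑ α ∈ T, α) (∑ α ∈ T, α) = T.card := by
  classical
  have h : ∀ T' : Finset (G → ℂ), T ⊆ T' → T' ⊆ R →
      classInner (∑ α ∈ T, α) (∑ α ∈ T', α) = T.card := by
    intro T' h1 h2
    rw [classInner_sum_left, Finset.card_eq_sum_ones, Nat.cast_sum]
    refine Finset.sum_congr rfl fun α hα => ?_
    rw [classInner_sum_right, Finset.sum_eq_single_of_mem α (h1 hα)]
    · rw [hon α (hTR hα) α (hTR hα), if_pos rfl, Nat.cast_one]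
    · intro β hβ hne
      rw [hon α (hTR hα) β (h2 hβ), if_neg hne.symm]
  exact ⟨h R hTR Finset.Subset.rfl, h T Finset.Subset.rfl hTR⟩

/-- Sums from orthogonal orthonormal sets are orthogonal. -/
theorem classInner_eq_zero_of_span {R R' : Finset (G → ℂ)} (a b : (G → ℂ) → ℤ)
    (h : ∀ α ∈ R, ∀ β ∈ R', classInner α β = 0) :
    classInner (∑ α ∈ R, (a α : ℂ) • α) (∑ β ∈ R', (b β : ℂ) • β) = 0 := by
  rw [classInner_sum_left]
  refine Finset.sum_eq_zero fun α hα => ?_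
  rw [classInner_sum_right]
  exact Finset.sum_eq_zero fun β hβ => by
    rw [classInner_intCast_smul_left, classInner_intCast_smul_right, h α hα β hβ, mul_zero,
      mul_zero]

section Span

variable {L : Type u}

theorem mem_zspan_self {S : Set (L → ℂ)} {φ : L → ℂ} (h : φ ∈ S) : φ ∈ zspan S :=
  Submodule.subset_span h

theorem zspan_zero (S : Set (L → ℂ)) : (0 : L → ℂ) ∈ zspan S := Submodule.zero_mem _

theorem zspan_add {S : Set (L → ℂ)} {a b : L → ℂ} (ha : a ∈ zspan S) (hb : b ∈ zspan S) :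
    a + b ∈ zspan S := Submodule.add_mem _ ha hb

theorem zspan_zsmul {S : Set (L → ℂ)} {a : L → ℂ} (ha : a ∈ zspan S) (n : ℤ) :
    n • a ∈ zspan S := Submodule.smul_mem _ n ha

theorem zspan_intCast_smul {S : Set (L → ℂ)} {a : L → ℂ} (ha : a ∈ zspan S) (n : ℤ) :
    (n : ℂ) • a ∈ zspan S := by
  rw [Int.cast_smul_eq_zsmul]; exact zspan_zsmul ha n

theorem zspan_natCast_smul {S : Set (L → ℂ)} {a : L → ℂ} (ha : a ∈ zspan S) (n : ℕ) :
    (n : ℂ) • a ∈ zspan S := by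
  simpa using zspan_intCast_smul ha (n : ℤ)

theorem zspan_sub {S : Set (L → ℂ)} {a b : L → ℂ} (ha : a ∈ zspan S) (hb : b ∈ zspan S) :
    a - b ∈ zspan S := Submodule.sub_mem _ ha hb

theorem zspan_mono {S T : Set (L → ℂ)} (h : S ⊆ T) : zspan S ⊆ zspan T := fun _ ha =>
  Submodule.span_mono h ha

theorem zspanOn_mono {S T : Set (L → ℂ)} (h : S ⊆ T) (A : Set L) : zspanOn S A ⊆ zspanOn T A :=
  fun _ ha => ⟨zspan_mono h ha.1, ha.2⟩

theorem zspanOn_subset (S : Set (L → ℂ)) (A : Set L) : zspanOn S A ⊆ zspan S := fun _ ha => ha.1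

theorem zspanOn_zero (S : Set (L → ℂ)) (A : Set L) : (0 : L → ℂ) ∈ zspanOn S A :=
  ⟨zspan_zero S, fun _ _ => rfl⟩

theorem zspanOn_add {S : Set (L → ℂ)} {A : Set L} {a b : L → ℂ} (ha : a ∈ zspanOn S A)
    (hb : b ∈ zspanOn S A) : a + b ∈ zspanOn S A :=
  ⟨zspan_add ha.1 hb.1, fun x hx => by rw [Pi.add_apply, ha.2 x hx, hb.2 x hx, add_zero]⟩

theorem zspanOn_zsmul {S : Set (L → ℂ)} {A : Set L} {a : L → ℂ} (ha : a ∈ zspanOn S A) (n : ℤ) :
    n • a ∈ zspanOn S A :=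
  ⟨zspan_zsmul ha.1 n, fun x hx => by rw [Pi.smul_apply, ha.2 x hx, smul_zero]⟩

theorem mem_zspan_finset {S : Finset (L → ℂ)} {α : L → ℂ} (h : α ∈ zspan (↑S : Set (L → ℂ))) :
    ∃ c : (L → ℂ) → ℤ, α = ∑ φ ∈ S, (c φ : ℂ) • φ := by
  obtain ⟨c, -, hc⟩ := Submodule.mem_span_finset.mp h
  exact ⟨c, by rw [← hc]; exact Finset.sum_congr rfl fun φ _ => (Int.cast_smul_eq_zsmul ℂ _ _).symm⟩

variable [Group L]

theorem mem_zspanOn_one {S : Set (L → ℂ)} {α : L → ℂ} :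
    α ∈ zspanOn S ({1}ᶜ : Set L) ↔ α ∈ zspan S ∧ α 1 = 0 := by
  refine ⟨fun h => ⟨h.1, h.2 1 (by simp)⟩, fun h => ⟨h.1, fun x hx => ?_⟩⟩
  rw [show x = 1 by simpa using hx]
  exact h.2

theorem conjFun_conjFun {X : Type u} (χ : X → ℂ) : conjFun (conjFun χ) = χ := by
  funext x
  simp [conjFun]

end Span

section Isometry

variable {L : Type u} [Group L] [Fintype L] {E : Set (L → ℂ)} {τ : (L → ℂ) → (G → ℂ)}

theorem _root_.Cfsg.IsLinearIsometryOn.mono (h : IsLinearIsometryOn E τ) {F : Set (L → ℂ)}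
    (hF : F ⊆ E) : IsLinearIsometryOn F τ :=
  ⟨fun a ha b hb => h.1 a (hF ha) b (hF hb), fun a ha n => h.2.1 a (hF ha) n,
    fun a ha b hb => h.2.2.1 a (hF ha) b (hF hb), fun a ha => h.2.2.2 a (hF ha)⟩

theorem _root_.Cfsg.IsLinearIsometryOn.map_intCast_smul (h : IsLinearIsometryOn E τ) {a : L → ℂ}
    (ha : a ∈ E) (n : ℤ) : τ ((n : ℂ) • a) = (n : ℂ) • τ a := by
  rw [Int.cast_smul_eq_zsmul, h.2.1 a ha n, Int.cast_smul_eq_zsmul]

theorem _root_.Cfsg.IsLinearIsometryOn.map_natCast_smul (h : IsLinearIsometryOn E τ) {a : L → ℂ}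
    (ha : a ∈ E) (n : ℕ) : τ ((n : ℂ) • a) = (n : ℂ) • τ a := by
  simpa using h.map_intCast_smul ha (n : ℤ)

theorem _root_.Cfsg.IsLinearIsometryOn.map_zero' (h : IsLinearIsometryOn E τ)
    (h0 : (0 : L → ℂ) ∈ E) : τ 0 = 0 := by
  simpa using h.2.1 0 h0 0

theorem _root_.Cfsg.IsLinearIsometryOn.map_sub' (h : IsLinearIsometryOn E τ) {a b : L → ℂ}
    (ha : a ∈ E) (hb : b ∈ E) (hnb : (-1 : ℤ) • b ∈ E) : τ (a - b) = τ a - τ b := by
  have e : a - b = a + (-1 : ℤ) • b := by simp [sub_eq_add_neg]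
  rw [e, h.1 a ha _ hnb, h.2.1 b hb]
  simp [sub_eq_add_neg]

theorem _root_.Cfsg.IsLinearIsometryOn.map_sum' (h : IsLinearIsometryOn E τ)
    (h0 : (0 : L → ℂ) ∈ E) (hadd : ∀ a ∈ E, ∀ b ∈ E, a + b ∈ E) {ι : Type*} (s : Finset ι)
    (f : ι → L → ℂ) (hf : ∀ i ∈ s, f i ∈ E) : τ (∑ i ∈ s, f i) = ∑ i ∈ s, τ (f i) := by
  classical
  induction s using Finset.induction_on with
  | empty => simpa using h.map_zero' h0
  | insert i s hi ih =>
    have hs : ∑ j ∈ s, f j ∈ E := Finset.sum_induction _ (· ∈ E) (fun a b ha hb => hadd a ha b hb) h0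
      fun j hj => hf j (Finset.mem_insert_of_mem hj)
    rw [Finset.sum_insert hi, Finset.sum_insert hi, h.1 _ (hf i (Finset.mem_insert_self _ _)) _ hs,
      ih fun j hj => hf j (Finset.mem_insert_of_mem hj)]

end Isometry

section Family

variable {L : Type u} [Group L] [Fintype L]

/-- The pivot element attached to `φ`. -/
theorem pivot_mem {S : Set (L → ℂ)} {d : (L → ℂ) → ℕ} {φ χ₁ : L → ℂ} (hφ : φ ∈ S) (hχ₁ : χ₁ ∈ S)
    (hdφ : φ 1 = (d φ : ℂ)) (hd₁ : χ₁ 1 = (d χ₁ : ℂ)) :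
    (d χ₁ : ℂ) • φ - (d φ : ℂ) • χ₁ ∈ zspanOn S ({1}ᶜ : Set L) := by
  refine mem_zspanOn_one.mpr ⟨zspan_sub (zspan_natCast_smul (mem_zspan_self hφ) _)
    (zspan_natCast_smul (mem_zspan_self hχ₁) _), ?_⟩
  simp only [Pi.sub_apply, Pi.smul_apply, smul_eq_mul, hdφ, hd₁]
  ring

theorem isCoherent_of_family (S : Finset (L → ℂ))
    (horth : ∀ φ ∈ S, ∀ ψ ∈ S, φ ≠ ψ → classInner φ ψ = 0)
    (hnz : ∀ φ ∈ S, classInner φ φ ≠ 0) (f : (L → ℂ) → (G → ℂ))
    (hfgen : ∀ φ ∈ S, IsGeneralizedCharacter G (f φ))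
    (hgram : ∀ φ ∈ S, ∀ ψ ∈ S, classInner (f φ) (f ψ) = classInner φ ψ)
    {τ : (L → ℂ) → (G → ℂ)} (hτ : IsLinearIsometryOn (zspanOn (↑S : Set (L → ℂ)) {1}ᶜ) τ)
    {d : (L → ℂ) → ℕ} (hd : ∀ φ ∈ S, φ 1 = (d φ : ℂ)) {χ₁ : L → ℂ} (hχ₁ : χ₁ ∈ S)
    (hd₁ : d χ₁ ≠ 0) (htwo : ∃ φ ∈ S, φ ≠ χ₁)
    (hagree : ∀ φ ∈ S, τ ((d χ₁ : ℂ) • φ - (d φ : ℂ) • χ₁) =
      (d χ₁ : ℂ) • f φ - (d φ : ℂ) • f χ₁) :
    IsCoherent (↑S : Set (L → ℂ)) {1}ᶜ τ := by
  classical
  have hd1C : (d χ₁ : ℂ) ≠ 0 := Nat.cast_ne_zero.mpr hd₁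
  obtain ⟨φ₀, hφ₀, hne⟩ := htwo
  refine ⟨⟨(d χ₁ : ℂ) • φ₀ - (d φ₀ : ℂ) • χ₁,
    pivot_mem hφ₀ hχ₁ (hd φ₀ hφ₀) (hd χ₁ hχ₁), fun h => ?_⟩, ?_⟩
  · have h1 := congrArg (fun F => classInner F φ₀) h
    simp only [classInner_sub_left, classInner_smul_left, classInner_zero_left,
      horth χ₁ hχ₁ φ₀ hφ₀ hne.symm, mul_zero, sub_zero] at h1
    exact mul_ne_zero hd1C (hnz φ₀ hφ₀) h1
  refine ⟨fun α => ∑ φ ∈ S, (classInner α φ / classInner φ φ) • f φ, ?_⟩
  have hval : ∀ c : (L → ℂ) → ℤ, (∑ φ ∈ S,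
      (classInner (∑ ψ ∈ S, (c ψ : ℂ) • ψ) φ / classInner φ φ) • f φ) =
      ∑ φ ∈ S, (c φ : ℂ) • f φ := by
    intro c
    refine Finset.sum_congr rfl fun φ hφ => ?_
    rw [classInner_sum_left, Finset.sum_eq_single_of_mem φ hφ fun ψ hψ hne => by
      rw [classInner_smul_left, horth ψ hψ φ hφ hne, mul_zero], classInner_smul_left,
      mul_div_cancel_right₀ _ (hnz φ hφ)]
  refine ⟨⟨fun a _ b _ => ?_, fun a _ k => ?_, fun a ha b hb => ?_, fun a ha => ?_⟩, fun α hα => ?_⟩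
  · simp only [classInner_add_left, add_div, add_smul, Finset.sum_add_distrib]
  · simp only [classInner_zsmul_left, mul_div_assoc, mul_smul, ← Finset.smul_sum,
      Int.cast_smul_eq_zsmul]
  · obtain ⟨c, rfl⟩ := mem_zspan_finset ha
    obtain ⟨e, rfl⟩ := mem_zspan_finset hb
    beta_reduce
    rw [hval, hval]
    simp only [classInner_sum_left, classInner_sum_right, classInner_smul_left,
      classInner_smul_right]
    refine Finset.sum_congr rfl fun φ hφ => ?_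
    congr 1
    exact Finset.sum_congr rfl fun ψ hψ => by rw [hgram ψ hψ φ hφ]
  · obtain ⟨c, rfl⟩ := mem_zspan_finset ha
    beta_reduce
    rw [hval]
    exact IsGeneralizedCharacter.sum _ _ fun φ hφ => (hfgen φ hφ).intCast_smul _
  · obtain ⟨hα1, hα2⟩ := mem_zspanOn_one.mp hα
    obtain ⟨c, rfl⟩ := mem_zspan_finset hα1
    beta_reduce
    rw [hval]
    have hc0 : ∑ φ ∈ S, (c φ : ℂ) * (d φ : ℂ) = 0 := by
      rw [← hα2, Finset.sum_apply]
      exact Finset.sum_congr rfl fun φ hφ => by rw [Pi.smul_apply, smul_eq_mul, hd φ hφ]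
    have hw : ∀ φ ∈ S, (d χ₁ : ℂ) • φ - (d φ : ℂ) • χ₁ ∈ zspanOn (↑S : Set (L → ℂ)) {1}ᶜ :=
      fun φ hφ => pivot_mem hφ hχ₁ (hd φ hφ) (hd χ₁ hχ₁)
    have e : (d χ₁ : ℂ) • (∑ φ ∈ S, (c φ : ℂ) • φ) =
        ∑ φ ∈ S, (c φ : ℂ) • ((d χ₁ : ℂ) • φ - (d φ : ℂ) • χ₁) := by
      rw [Finset.sum_congr rfl fun φ _ => smul_sub (c φ : ℂ) _ _, Finset.sum_sub_distrib,
        Finset.smul_sum]
      simp only [smul_smul, ← Finset.sum_smul, hc0, zero_smul, sub_zero, mul_comm]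
    have h2 : (d χ₁ : ℂ) • τ (∑ φ ∈ S, (c φ : ℂ) • φ) =
        ∑ φ ∈ S, (c φ : ℂ) • ((d χ₁ : ℂ) • f φ - (d φ : ℂ) • f χ₁) := by
      rw [← hτ.map_natCast_smul hα, e, hτ.map_sum' (zspanOn_zero _ _)
        (fun a ha b hb => zspanOn_add ha hb) _ _ (fun φ hφ => by
          rw [Int.cast_smul_eq_zsmul]; exact zspanOn_zsmul (hw φ hφ) _)]
      exact Finset.sum_congr rfl fun φ hφ => by rw [hτ.map_intCast_smul (hw φ hφ), hagree φ hφ]
    rw [Finset.sum_congr rfl fun φ _ => smul_sub (c φ : ℂ) _ _, Finset.sum_sub_distrib] at h2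
    simp only [smul_smul, ← Finset.sum_smul, hc0, zero_smul, sub_zero] at h2
    apply smul_right_injective (G → ℂ) hd1C
    beta_reduce
    rw [h2, Finset.smul_sum]
    simp only [smul_smul, mul_comm]

/-- An orthogonal set of nonzero functions is finite. -/
theorem finite_of_orthogonal {S : Set (L → ℂ)}
    (horth : ∀ φ ∈ S, ∀ ψ ∈ S, φ ≠ ψ → classInner φ ψ = 0)
    (hnz : ∀ φ ∈ S, classInner φ φ ≠ 0) : S.Finite := by
  classical
  have hli : LinearIndependent ℂ (fun φ : S => (φ : L → ℂ)) := by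
    rw [linearIndependent_iff']
    intro s g hg φ hφ
    have h1 := congrArg (fun F => classInner F (φ : L → ℂ)) hg
    simp only [classInner_sum_left, classInner_smul_left, classInner_zero_left] at h1
    rw [Finset.sum_eq_single_of_mem φ hφ fun ψ _ hne => by
      rw [horth ψ ψ.2 φ φ.2 (fun h => hne (Subtype.ext h)), mul_zero]] at h1
    exact (mul_eq_zero.mp h1).resolve_right (hnz φ φ.2)
  exact Set.finite_coe_iff.mp hli.finite

end Family

section System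

variable {L : Type u} [Group L] [Fintype L] {S : Set (L → ℂ)} {τ : (L → ℂ) → (G → ℂ)}
  {R : (L → ℂ) → Finset (G → ℂ)}

theorem _root_.Cfsg.IsCoherenceSystem.exists_deg (hS : IsCoherenceSystem S τ R) {χ : L → ℂ}
    (hχ : χ ∈ S) : ∃ d : ℕ, d ≠ 0 ∧ χ 1 = (d : ℂ) ∧ conjFun χ 1 = (d : ℂ) ∧
      classInner χ χ ≠ 0 := by
  obtain ⟨d, hd⟩ := (hS.isCharacter χ hχ).exists_degree
  have hne : χ ≠ 0 := fun h => hS.conj_ne χ hχ (by funext x; simp [conjFun, h])
  refine ⟨d, fun h => hne ((hS.isCharacter χ hχ).eq_zero_of_degree (by rw [hd, h, Nat.cast_zero])),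
    hd, by simp [conjFun, hd], fun h => hne (eq_zero_of_classInner_self h)⟩

theorem _root_.Cfsg.IsCoherenceSystem.diff_mem (hS : IsCoherenceSystem S τ R) {χ : L → ℂ}
    (hχ : χ ∈ S) : χ - conjFun χ ∈ zspanOn S ({1}ᶜ : Set L) := by
  obtain ⟨d, -, h1, h2, -⟩ := hS.exists_deg hχ
  exact mem_zspanOn_one.mpr ⟨zspan_sub (mem_zspan_self hχ) (mem_zspan_self (hS.conj_mem χ hχ)),
    by rw [Pi.sub_apply, h1, h2, sub_self]⟩

theorem _root_.Cfsg.IsCoherenceSystem.card_R (hS : IsCoherenceSystem S τ R) {χ : L → ℂ} {n : ℕ}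
    (hχ : χ ∈ S) (hn : classInner χ χ = n) : (R χ).card = 2 * n := by
  have h2 : classInner (conjFun χ) (conjFun χ) = n := by
    rw [show conjFun χ = fun g => conj (χ g) from rfl, classInner_conjFn, hn]
  have h := hS.isometry.2.2.1 _ (hS.diff_mem hχ) _ (hS.diff_mem hχ)
  rw [hS.sum_eq χ hχ,
    (classInner_sum_orthonormal (R χ) (R χ) (hS.orthonormal χ hχ) Finset.Subset.rfl).2,
    classInner_sub_left, classInner_sub_right, classInner_sub_right, hn, h2,
    hS.orthogonal χ hχ _ (hS.conj_mem χ hχ) (Ne.symm (hS.conj_ne χ hχ)),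
    hS.orthogonal _ (hS.conj_mem χ hχ) χ hχ (hS.conj_ne χ hχ)] at h
  have : ((R χ).card : ℂ) = ((2 * n : ℕ) : ℂ) := by rw [h]; push_cast; ring
  exact_mod_cast this

theorem _root_.Cfsg.IsCoherenceSystem.sum_eq_one (hS : IsCoherenceSystem S τ R) {χ : L → ℂ}
    (hχ : χ ∈ S) : τ (χ - conjFun χ) = ∑ α ∈ R χ, ((1 : ℤ) : ℂ) • α := by
  rw [hS.sum_eq χ hχ]; simp

/-- Projection bound: pairing one with the sum over `R χ` forces squares at least as large. -/
theorem _root_.Cfsg.IsCoherenceSystem.proj_bound (hS : IsCoherenceSystem S τ R) {χ : L → ℂ}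
    {n : ℕ} (hχ : χ ∈ S) {v : G → ℂ} (hv : IsGeneralizedCharacter G v)
    (hpair : classInner v (τ (χ - conjFun χ)) = n) :
    ∃ (a : (G → ℂ) → ℤ) (w : G → ℂ), (∀ α ∈ R χ, classInner v α = a α) ∧
      IsGeneralizedCharacter G w ∧ v = (∑ α ∈ R χ, (a α : ℂ) • α) + w ∧
      (∀ α ∈ R χ, classInner w α = 0) ∧
      (n : ℤ) ≤ ∑ α ∈ R χ, a α * a α ∧
      classInner v v = ((∑ α ∈ R χ, a α * a α : ℤ) : ℂ) + classInner w w ∧
      ((∑ α ∈ R χ, a α * a α ≤ (n : ℤ)) → ∀ α ∈ R χ, a α = 0 ∨ a α = 1) := by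
  obtain ⟨a, w, ha, hw, hdec, hwR, hnorm⟩ :=
    bessel_int (R χ) (hS.orthonormal χ hχ) (hS.virtual χ hχ) hv
  have hsum : ∑ α ∈ R χ, a α = (n : ℤ) := by
    rw [hS.sum_eq χ hχ, classInner_sum_right, Finset.sum_congr rfl ha] at hpair
    exact_mod_cast hpair
  have hle : ∀ α ∈ R χ, a α ≤ a α * a α := fun α _ => by
    rcases le_or_gt (a α) 0 with h | h
    · exact h.trans (mul_self_nonneg _)
    · exact le_mul_of_one_le_left h.le h
  refine ⟨a, w, ha, hw, hdec, hwR, hsum ▸ Finset.sum_le_sum hle, by rw [hnorm]; push_cast; rfl,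
    fun hle' α hα => ?_⟩
  have heq := (Finset.sum_eq_sum_iff_of_le hle).mp
    (le_antisymm (Finset.sum_le_sum hle) (hsum ▸ hle')) α hα
  by_cases h0 : a α = 0
  · exact Or.inl h0
  · exact Or.inr (mul_left_cancel₀ h0 (by rw [mul_one]; exact heq.symm))

/-- The image of a member of a coherent subset lies in the span of its own set. -/
theorem _root_.Cfsg.IsCoherenceSystem.image_mem_span (hS : IsCoherenceSystem S τ R) {χ : L → ℂ}
    {n : ℕ} (hχ : χ ∈ S) {e : G → ℂ} (he : IsGeneralizedCharacter G e)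
    (hnorm : classInner e e = n) (hpair : classInner e (τ (χ - conjFun χ)) = n) :
    ∃ a : (G → ℂ) → ℤ, e = ∑ α ∈ R χ, (a α : ℂ) • α := by
  obtain ⟨a, w, -, hw, hdec, -, hge, hn, -⟩ := hS.proj_bound hχ he hpair
  obtain ⟨k, hk⟩ := exists_nat_norm hw
  rw [hnorm, hk] at hn
  have h2 : (n : ℤ) = (∑ α ∈ R χ, a α * a α) + k := by exact_mod_cast hn
  have hk0 : k = 0 := by omega
  rw [hk0, Nat.cast_zero] at hk
  exact ⟨a, by rw [hdec, eq_zero_of_classInner_self hk, add_zero]⟩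

/-- Coherence systems of constant degree are coherent. -/
theorem _root_.Cfsg.IsCoherenceSystem.coherent_of_constant_degree (hS : IsCoherenceSystem S τ R)
    (hdeg : ∀ φ ∈ S, ∀ ψ ∈ S, φ 1 = ψ 1) : IsCoherent S {1}ᶜ τ := by
  classical
  obtain ⟨χ₁, hχ₁⟩ := hS.nonempty
  obtain ⟨d, hd0, hd1, -, -⟩ := hS.exists_deg hχ₁
  have hfin : S.Finite := finite_of_orthogonal hS.orthogonal fun φ hφ =>
    (hS.exists_deg hφ).choose_spec.2.2.2
  set c₁ := conjFun χ₁ with hc₁def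
  have hc₁ : c₁ ∈ S := hS.conj_mem χ₁ hχ₁
  have hc₁ne : χ₁ ≠ c₁ := Ne.symm (hS.conj_ne χ₁ hχ₁)
  have hgenS : ∀ φ ∈ S, IsGeneralizedCharacter L φ := fun φ hφ => (hS.isCharacter φ hφ).isGeneralized
  choose N hN using fun φ : S => exists_nat_norm (hgenS φ φ.2)
  set n₁ := N ⟨χ₁, hχ₁⟩ with hn₁
  have hn1 : classInner χ₁ χ₁ = (n₁ : ℂ) := hN ⟨χ₁, hχ₁⟩
  have hβmem : ∀ φ ∈ S, χ₁ - φ ∈ zspanOn S ({1}ᶜ : Set L) := fun φ hφ =>
    mem_zspanOn_one.mpr ⟨zspan_sub (mem_zspan_self hχ₁) (mem_zspan_self hφ),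
      by rw [Pi.sub_apply, hdeg φ hφ χ₁ hχ₁, sub_self]⟩
  set β : (L → ℂ) → (G → ℂ) := fun φ => τ (χ₁ - φ) with hβdef
  have hβgen : ∀ φ ∈ S, IsGeneralizedCharacter G (β φ) := fun φ hφ =>
    hS.isometry.2.2.2 _ (hβmem φ hφ)
  have hββ : ∀ φ ∈ S, ∀ ψ ∈ S, classInner (β φ) (β ψ) = classInner (χ₁ - φ) (χ₁ - ψ) :=
    fun φ hφ ψ hψ => hS.isometry.2.2.1 _ (hβmem φ hφ) _ (hβmem ψ hψ)
  -- the common part of the `β φ`
  obtain ⟨X, hXgen, hXX, hXβ⟩ : ∃ X : G → ℂ, IsGeneralizedCharacter G X ∧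
      classInner X X = n₁ ∧ ∀ φ ∈ S, φ ≠ χ₁ → classInner X (β φ) = n₁ := by
    by_cases hex : ∃ φ₀ ∈ S, φ₀ ≠ χ₁ ∧ φ₀ ≠ c₁
    · obtain ⟨φ₀, hφ₀, h01, h0c⟩ := hex
      -- each `β φ` splits along `R χ₁` and `R φ`
      have hsplit : ∀ φ ∈ S, φ ≠ χ₁ → φ ≠ c₁ → ∃ a b : (G → ℂ) → ℤ,
          β φ = (∑ α ∈ R χ₁, (a α : ℂ) • α) + ∑ α ∈ R φ, (b α : ℂ) • α ∧
          (∑ α ∈ R χ₁, (a α : ℂ) * (a α : ℂ)) = n₁ := by
        intro φ hφ hne1 hnec
        set m := N ⟨φ, hφ⟩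
        have hm : classInner φ φ = (m : ℂ) := hN ⟨φ, hφ⟩
        have hpair1 : classInner (β φ) (τ (χ₁ - conjFun χ₁)) = n₁ := by
          rw [hS.isometry.2.2.1 _ (hβmem φ hφ) _ (hS.diff_mem hχ₁), classInner_sub_left,
            classInner_sub_right, classInner_sub_right, hn1,
            hS.orthogonal χ₁ hχ₁ _ hc₁ hc₁ne, hS.orthogonal φ hφ χ₁ hχ₁ hne1,
            hS.orthogonal φ hφ _ hc₁ hnec]
          ring
        obtain ⟨a, w, -, hwgen, hdec, hwR, hge, hnorm, -⟩ :=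
          hS.proj_bound hχ₁ (hβgen φ hφ) hpair1
        have hpair2 : classInner (-w) (τ (φ - conjFun φ)) = m := by
          have hneφc : χ₁ ≠ conjFun φ := fun h =>
            hnec (by rw [hc₁def, h, conjFun_conjFun])
          have h1 : classInner (β φ) (τ (φ - conjFun φ)) = -(m : ℂ) := by
            rw [hS.isometry.2.2.1 _ (hβmem φ hφ) _ (hS.diff_mem hφ), classInner_sub_left,
              classInner_sub_right, classInner_sub_right, hm,
              hS.orthogonal χ₁ hχ₁ φ hφ (Ne.symm hne1),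
              hS.orthogonal χ₁ hχ₁ _ (hS.conj_mem φ hφ) hneφc,
              hS.orthogonal φ hφ _ (hS.conj_mem φ hφ) (Ne.symm (hS.conj_ne φ hφ))]
            ring
          rw [hdec, classInner_add_left, hS.sum_eq_one hφ,
            classInner_eq_zero_of_span a (fun _ => 1) (fun α hα γ hγ =>
              classInner_symm_zero (hS.disjoint χ₁ hχ₁ φ hφ (hS.orthogonal φ hφ χ₁ hχ₁ hne1)
                (hS.orthogonal φ hφ _ hc₁ hnec) γ hγ α hα)), zero_add] at h1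
          rw [classInner_neg_left, hS.sum_eq_one hφ, h1, neg_neg]
        obtain ⟨b, z, -, hzgen, hdec2, -, hge2, hnorm2, -⟩ := hS.proj_bound hφ hwgen.neg hpair2
        obtain ⟨k, hk⟩ := exists_nat_norm hzgen
        rw [classInner_neg_left, classInner_neg_right, neg_neg] at hnorm2
        rw [hββ φ hφ φ hφ, hnorm2, hk, classInner_sub_left, classInner_sub_right,
          classInner_sub_right, hn1, hm, hS.orthogonal φ hφ χ₁ hχ₁ hne1,
          hS.orthogonal χ₁ hχ₁ φ hφ (Ne.symm hne1)] at hnorm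
        have h3 : (n₁ : ℤ) + m =
            (∑ α ∈ R χ₁, a α * a α) + ((∑ α ∈ R φ, b α * b α) + k) := by
          have : (((n₁ : ℤ) + m : ℤ) : ℂ) =
              (((∑ α ∈ R χ₁, a α * a α) + ((∑ α ∈ R φ, b α * b α) + k) : ℤ) : ℂ) := by
            push_cast at hnorm ⊢
            linear_combination hnorm
          exact_mod_cast this
        have hk0 : k = 0 := by omega
        rw [hk0, Nat.cast_zero] at hk
        refine ⟨a, fun α => -b α, ?_, ?_⟩
        · rw [hdec]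
          congr 1
          rw [← neg_neg w, hdec2, eq_zero_of_classInner_self hk, add_zero, ← Finset.sum_neg_distrib]
          exact Finset.sum_congr rfl fun α _ => by rw [Int.cast_neg, neg_smul]
        · have : (∑ α ∈ R χ₁, a α * a α) = (n₁ : ℤ) := by omega
          exact_mod_cast this
      obtain ⟨a, b, hdec0, hA⟩ := hsplit φ₀ hφ₀ h01 h0c
      set P : G → ℂ := ∑ α ∈ R χ₁, (a α : ℂ) • α with hP
      have hPR : ∀ (c : (G → ℂ) → ℤ), ∀ φ ∈ S, φ ≠ χ₁ → φ ≠ c₁ →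
          classInner P (∑ α ∈ R φ, (c α : ℂ) • α) = 0 := fun c φ hφ h1 h2 =>
        classInner_eq_zero_of_span a c fun α hα γ hγ =>
          classInner_symm_zero (hS.disjoint χ₁ hχ₁ φ hφ (hS.orthogonal φ hφ χ₁ hχ₁ h1)
            (hS.orthogonal φ hφ _ hc₁ h2) γ hγ α hα)
      have hPP : classInner P P = n₁ := by
        rw [← hA, hP, classInner_sum_left]
        refine Finset.sum_congr rfl fun α hα => ?_
        rw [classInner_sum_right, Finset.sum_eq_single_of_mem α hα fun γ hγ hne => by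
          rw [classInner_intCast_smul_left, classInner_intCast_smul_right,
            hS.orthonormal χ₁ hχ₁ α hα γ hγ, if_neg (Ne.symm hne), mul_zero, mul_zero],
          classInner_intCast_smul_left, classInner_intCast_smul_right,
          hS.orthonormal χ₁ hχ₁ α hα α hα, if_pos rfl, mul_one]
      refine ⟨P, IsGeneralizedCharacter.sum _ _ fun α hα =>
        (hS.virtual χ₁ hχ₁ α hα).intCast_smul _, hPP, fun φ hφ h1 => ?_⟩
      have hb0 : classInner P (β φ₀) = n₁ := by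
        rw [hdec0, classInner_add_right, hPR b φ₀ hφ₀ h01 h0c, hPP, add_zero]
      have hsame : ∀ ψ ∈ S, ψ ≠ χ₁ → ψ ≠ c₁ → ψ ≠ φ₀ → ψ ≠ conjFun φ₀ →
          classInner P (β ψ) = n₁ := by
        intro ψ hψ g1 g2 g3 g4
        obtain ⟨a', b', hdec', -⟩ := hsplit ψ hψ g1 g2
        have h := hββ φ₀ hφ₀ ψ hψ
        rw [classInner_sub_left, classInner_sub_right, classInner_sub_right, hn1,
          hS.orthogonal χ₁ hχ₁ ψ hψ g1.symm, hS.orthogonal φ₀ hφ₀ χ₁ hχ₁ h01,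
          hS.orthogonal φ₀ hφ₀ ψ hψ g3.symm, hdec0, hdec', classInner_add_left,
          classInner_add_right, classInner_add_right, hPR b' ψ hψ g1 g2,
          classInner_eq_zero_of_span b a' (fun α hα γ hγ =>
            hS.disjoint χ₁ hχ₁ φ₀ hφ₀ (hS.orthogonal φ₀ hφ₀ χ₁ hχ₁ h01)
              (hS.orthogonal φ₀ hφ₀ _ hc₁ h0c) α hα γ hγ),
          classInner_eq_zero_of_span b b' (fun α hα γ hγ =>
            classInner_symm_zero (hS.disjoint φ₀ hφ₀ ψ hψ (hS.orthogonal ψ hψ φ₀ hφ₀ g3)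
              (hS.orthogonal ψ hψ _ (hS.conj_mem φ₀ hφ₀) g4) γ hγ α hα))] at h
        rw [hdec', classInner_add_right, hPR b' ψ hψ g1 g2, add_zero]
        linear_combination h
      have hconjsplit : ∀ ψ ∈ S, β (conjFun ψ) = β ψ + τ (ψ - conjFun ψ) := by
        intro ψ hψ
        rw [hβdef]
        beta_reduce
        rw [← hS.isometry.1 _ (hβmem ψ hψ) _ (hS.diff_mem hψ)]
        congr 1
        abel
      by_cases g2 : φ = c₁
      · rw [g2, show β c₁ = τ (χ₁ - conjFun χ₁) from rfl]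
        have h := hS.isometry.2.2.1 _ (hβmem φ₀ hφ₀) _ (hS.diff_mem hχ₁)
        rw [show τ (χ₁ - φ₀) = β φ₀ from rfl, hdec0, classInner_add_left,
          classInner_sub_left, classInner_sub_right, classInner_sub_right, hn1,
          hS.orthogonal χ₁ hχ₁ _ hc₁ hc₁ne, hS.orthogonal φ₀ hφ₀ χ₁ hχ₁ h01,
          hS.orthogonal φ₀ hφ₀ _ hc₁ h0c] at h
        have h0 : classInner (∑ α ∈ R φ₀, (b α : ℂ) • α) (τ (χ₁ - conjFun χ₁)) = 0 := by
          rw [hS.sum_eq_one hχ₁]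
          exact classInner_eq_zero_of_span b (fun _ => 1) fun α hα γ hγ =>
            hS.disjoint χ₁ hχ₁ φ₀ hφ₀ (hS.orthogonal φ₀ hφ₀ χ₁ hχ₁ h01)
              (hS.orthogonal φ₀ hφ₀ _ hc₁ h0c) α hα γ hγ
        linear_combination h - h0
      by_cases g3 : φ = φ₀
      · rw [g3, hb0]
      by_cases g4 : φ = conjFun φ₀
      · rw [g4, hconjsplit φ₀ hφ₀, classInner_add_right, hb0, hS.sum_eq_one hφ₀,
          hPR (fun _ => 1) φ₀ hφ₀ h01 h0c, add_zero]
      exact hsame φ hφ h1 g2 g3 g4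
    · push Not at hex
      have hcard := hS.card_R hχ₁ hn1
      obtain ⟨T, hTR, hT⟩ := Finset.exists_subset_card_eq (show n₁ ≤ (R χ₁).card by omega)
      have hT2 := classInner_sum_orthonormal (R χ₁) T (hS.orthonormal χ₁ hχ₁) hTR
      refine ⟨∑ α ∈ T, α, IsGeneralizedCharacter.sum _ _ fun α hα =>
        hS.virtual χ₁ hχ₁ α (hTR hα), by rw [hT2.2, hT], fun φ hφ h1 => ?_⟩
      rw [hex φ hφ h1, show β c₁ = τ (χ₁ - conjFun χ₁) from rfl, hS.sum_eq χ₁ hχ₁, hT2.1, hT]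
  -- the family
  have hβ1 : β χ₁ = 0 := by
    rw [hβdef]
    beta_reduce
    rw [sub_self]
    exact hS.isometry.map_zero' (zspanOn_zero _ _)
  have hXall : ∀ φ ∈ S, classInner X (β φ) = (n₁ : ℂ) - classInner χ₁ φ := by
    intro φ hφ
    by_cases h : φ = χ₁
    · rw [h, hβ1, classInner_zero_right, hn1, sub_self]
    · rw [hXβ φ hφ h, hS.orthogonal χ₁ hχ₁ φ hφ (Ne.symm h), sub_zero]
  have hXall' : ∀ φ ∈ S, classInner (β φ) X = (n₁ : ℂ) - classInner φ χ₁ := by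
    intro φ hφ
    rw [← classInner_conj_symm, hXall φ hφ, map_sub, Complex.conj_natCast, classInner_conj_symm]
  rw [← hfin.coe_toFinset]
  refine isCoherent_of_family hfin.toFinset (fun φ hφ ψ hψ h =>
    hS.orthogonal φ (hfin.mem_toFinset.mp hφ) ψ (hfin.mem_toFinset.mp hψ) h)
    (fun φ hφ => (hS.exists_deg (hfin.mem_toFinset.mp hφ)).choose_spec.2.2.2)
    (fun φ => X - β φ) (fun φ hφ => hXgen.sub (hβgen φ (hfin.mem_toFinset.mp hφ))) ?_
    (by rw [hfin.coe_toFinset]; exact hS.isometry) (d := fun _ => d)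
    (fun φ hφ => (hdeg φ (hfin.mem_toFinset.mp hφ) χ₁ hχ₁).trans hd1) (χ₁ := χ₁)
    (hfin.mem_toFinset.mpr hχ₁) hd0 ⟨c₁, hfin.mem_toFinset.mpr hc₁, hc₁ne.symm⟩ ?_
  · intro φ hφ ψ hψ
    rw [Set.Finite.mem_toFinset] at hφ hψ
    rw [classInner_sub_left, classInner_sub_right, classInner_sub_right, hXX, hXall ψ hψ,
      hXall' φ hφ, hββ φ hφ ψ hψ, classInner_sub_left, classInner_sub_right, classInner_sub_right,
      hn1]
    ring
  · intro φ hφ
    rw [Set.Finite.mem_toFinset] at hφ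
    rw [← smul_sub, ← smul_sub, hβ1]
    have hm : φ - χ₁ ∈ zspanOn S ({1}ᶜ : Set L) := by
      have := zspanOn_zsmul (hβmem φ hφ) (-1)
      simpa using this
    rw [hS.isometry.map_natCast_smul hm]
    congr 1
    have h2 := hS.isometry.2.1 _ (hβmem φ hφ) (-1)
    rw [show (-1 : ℤ) • (χ₁ - φ) = φ - χ₁ by simp] at h2
    rw [h2, hβdef]
    simp

/-- Adjoining a conjugate pair to a coherent subset. -/
theorem _root_.Cfsg.IsCoherenceSystem.coherent_extend (hS : IsCoherenceSystem S τ R)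
    {d n : (L → ℂ) → ℕ} (hd : ∀ φ ∈ S, φ 1 = (d φ : ℂ))
    (hn : ∀ φ ∈ S, classInner φ φ = (n φ : ℂ)) (S₁ : Finset (L → ℂ)) (hS₁ : ↑S₁ ⊆ S)
    (hS₁c : ∀ φ ∈ S₁, conjFun φ ∈ S₁) (hcoh : IsCoherent (↑S₁ : Set (L → ℂ)) {1}ᶜ τ)
    {χ : L → ℂ} (hχ : χ ∈ S) (hχ₁ : χ ∉ S₁) (hχ₂ : conjFun χ ∉ S₁) {χ₁ : L → ℂ}
    (hχ₁S : χ₁ ∈ S₁) (hdvd : d χ₁ ∣ d χ)
    (hineq : (2 * d χ * d χ₁ : ℝ) < ∑ φ ∈ S₁, ((d φ : ℝ) ^ 2 / (n φ : ℝ))) :
    IsCoherent (↑S₁ ∪ {χ, conjFun χ} : Set (L → ℂ)) {1}ᶜ τ := by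
  classical
  obtain ⟨-, τ₁, hτ₁, hagree⟩ := hcoh
  set e := τ₁ with hedef
  have hmemS₁ : ∀ {φ}, φ ∈ S₁ → φ ∈ zspan (↑S₁ : Set (L → ℂ)) := fun h =>
    mem_zspan_self (Finset.mem_coe.mpr h)
  have he : ∀ φ ∈ S₁, ∀ ψ ∈ S₁, classInner (e φ) (e ψ) = classInner φ ψ := fun φ hφ ψ hψ =>
    hτ₁.2.2.1 φ (hmemS₁ hφ) ψ (hmemS₁ hψ)
  have hegen : ∀ φ ∈ S₁, IsGeneralizedCharacter G (e φ) := fun φ hφ => hτ₁.2.2.2 φ (hmemS₁ hφ)
  have hS1 : ∀ {φ}, φ ∈ S₁ → φ ∈ S := fun h => hS₁ h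
  have hx₁ : χ₁ ∈ S := hS1 hχ₁S
  obtain ⟨a, ha⟩ := hdvd
  set d₁ := d χ₁ with hd₁def
  have hd₁0 : d₁ ≠ 0 := by
    obtain ⟨d', hd', h1, -, -⟩ := hS.exists_deg hx₁
    rw [hd χ₁ hx₁, ← hd₁def] at h1
    intro h
    apply hd'
    rw [h] at h1
    exact_mod_cast h1.symm
  have hnpos : ∀ φ ∈ S, n φ ≠ 0 := fun φ hφ h => by
    obtain ⟨_, -, -, -, h0⟩ := hS.exists_deg hφ
    exact h0 (by rw [hn φ hφ, h, Nat.cast_zero])
  have hχne : ∀ {φ}, φ ∈ S₁ → φ ≠ χ := fun hφ h => hχ₁ (h ▸ hφ)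
  have hχcne : ∀ {φ}, φ ∈ S₁ → φ ≠ conjFun χ := fun hφ h => hχ₂ (h ▸ hφ)
  have hc : conjFun χ ∈ S := hS.conj_mem χ hχ
  have hcne : χ ≠ conjFun χ := Ne.symm (hS.conj_ne χ hχ)
  have hdc : d (conjFun χ) = d χ := by
    have h1 := hd _ hc
    simp only [conjFun, hd χ hχ, Complex.conj_natCast] at h1
    exact_mod_cast h1.symm
  -- images of members of `S₁` are orthogonal to `R χ`
  have heR : ∀ φ ∈ S₁, classInner (e φ) (τ (χ - conjFun χ)) = 0 ∧
      ∀ α ∈ R χ, classInner (e φ) α = 0 := by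
    intro φ hφ
    have hφS := hS1 hφ
    have hdm : φ - conjFun φ ∈ zspanOn (↑S₁ : Set (L → ℂ)) ({1}ᶜ : Set L) :=
      mem_zspanOn_one.mpr ⟨zspan_sub (hmemS₁ hφ) (hmemS₁ (hS₁c φ hφ)),
        (mem_zspanOn_one.mp (hS.diff_mem hφS)).2⟩
    have hpair : classInner (e φ) (τ (φ - conjFun φ)) = n φ := by
      rw [← hagree _ hdm, hτ₁.2.2.1 _ (hmemS₁ hφ) _ hdm.1, classInner_sub_right, hn φ hφS,
        hS.orthogonal φ hφS _ (hS.conj_mem φ hφS) (Ne.symm (hS.conj_ne φ hφS)), sub_zero]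
    obtain ⟨b, hb⟩ := hS.image_mem_span hφS (hegen φ hφ) (by rw [he φ hφ φ hφ, hn φ hφS]) hpair
    have hdis : ∀ γ ∈ R φ, ∀ α ∈ R χ, classInner γ α = 0 :=
      hS.disjoint χ hχ φ hφS (hS.orthogonal φ hφS χ hχ (hχne hφ))
        (hS.orthogonal φ hφS _ hc (hχcne hφ))
    refine ⟨by rw [hb, hS.sum_eq_one hχ]; exact classInner_eq_zero_of_span b _ hdis, fun α hα => ?_⟩
    rw [hb, classInner_sum_left]
    exact Finset.sum_eq_zero fun γ hγ => by
      rw [classInner_intCast_smul_left, hdis γ hγ α hα, mul_zero]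
  -- the key element
  have hwmem : χ - (a : ℂ) • χ₁ ∈ zspanOn S ({1}ᶜ : Set L) := by
    refine mem_zspanOn_one.mpr ⟨zspan_sub (mem_zspan_self hχ)
      (zspan_natCast_smul (mem_zspan_self hx₁) a), ?_⟩
    simp only [Pi.sub_apply, Pi.smul_apply, smul_eq_mul, hd χ hχ, hd χ₁ hx₁, ← hd₁def, ha]
    push_cast
    ring
  set β := τ (χ - (a : ℂ) • χ₁) with hβ
  have hβgen : IsGeneralizedCharacter G β := hS.isometry.2.2.2 _ hwmem
  have hβR : classInner β (τ (χ - conjFun χ)) = n χ := by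
    rw [hβ, hS.isometry.2.2.1 _ hwmem _ (hS.diff_mem hχ), classInner_sub_left,
      classInner_sub_right, classInner_sub_right, classInner_smul_left, classInner_smul_left,
      hn χ hχ, hS.orthogonal χ hχ _ hc hcne, hS.orthogonal χ₁ hx₁ χ hχ (hχne hχ₁S),
      hS.orthogonal χ₁ hx₁ _ hc (hχcne hχ₁S)]
    ring
  obtain ⟨k, hk⟩ : ∃ k : ℤ, classInner β (e χ₁) = k - (a : ℂ) * n χ₁ := by
    obtain ⟨c, hc'⟩ := hβgen.exists_int_classInner (hegen χ₁ hχ₁S)
    exact ⟨c + (a : ℤ) * n χ₁, by rw [hc']; push_cast; ring⟩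
  have hd₁C : (d₁ : ℂ) ≠ 0 := Nat.cast_ne_zero.mpr hd₁0
  set μ : ℂ := (k : ℂ) / d₁ with hμ
  have hcoef : ∀ φ ∈ S₁, classInner β (e φ) =
      (d φ : ℂ) * μ - if φ = χ₁ then (a : ℂ) * n χ₁ else 0 := by
    intro φ hφ
    by_cases h : φ = χ₁
    · subst h
      rw [if_pos rfl, hk, hμ, ← hd₁def, mul_div_cancel₀ _ hd₁C]
    · rw [if_neg h, sub_zero]
      have hwφ := pivot_mem (S := (↑S₁ : Set (L → ℂ))) (d := d) hφ hχ₁S (hd φ (hS1 hφ)) (hd χ₁ hx₁)
      rw [← hd₁def] at hwφ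
      have h1 : classInner β (e ((d₁ : ℂ) • φ - (d φ : ℂ) • χ₁)) =
          (a : ℂ) * d φ * n χ₁ := by
        rw [hagree _ hwφ, hβ, hS.isometry.2.2.1 _ hwmem _ (zspanOn_mono hS₁ _ hwφ)]
        simp only [classInner_sub_left, classInner_sub_right, classInner_smul_left,
          classInner_smul_right, Complex.conj_natCast, hn χ₁ hx₁,
          hS.orthogonal χ hχ φ (hS1 hφ) (Ne.symm (hχne hφ)),
          hS.orthogonal χ hχ χ₁ hx₁ (Ne.symm (hχne hχ₁S)),
          hS.orthogonal χ₁ hx₁ φ (hS1 hφ) (Ne.symm h)]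
        ring
      rw [hτ₁.map_sub' (zspan_natCast_smul (hmemS₁ hφ) _) (zspan_natCast_smul (hmemS₁ hχ₁S) _)
          (zspan_zsmul (zspan_natCast_smul (hmemS₁ hχ₁S) _) _),
        hτ₁.map_natCast_smul (hmemS₁ hφ), hτ₁.map_natCast_smul (hmemS₁ hχ₁S),
        classInner_sub_right, classInner_smul_right, classInner_smul_right,
        Complex.conj_natCast, Complex.conj_natCast, hk] at h1
      rw [hμ]
      field_simp
      linear_combination h1
  -- project onto the images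
  obtain ⟨b, w, hb, hwgen, hdec, hwR, hge, hnorm, -⟩ := hS.proj_bound hχ hβgen hβR
  have hwe : ∀ φ ∈ S₁, classInner w (e φ) = classInner β (e φ) := by
    intro φ hφ
    rw [hdec, classInner_add_left, classInner_sum_left, Finset.sum_eq_zero, zero_add]
    intro α hα
    rw [classInner_intCast_smul_left, classInner_symm_zero ((heR φ hφ).2 α hα), mul_zero]
  set P : G → ℂ := ∑ φ ∈ S₁, (classInner β (e φ) / (n φ : ℂ)) • e φ with hP
  have hPe : ∀ φ ∈ S₁, classInner P (e φ) = classInner β (e φ) := by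
    intro φ hφ
    rw [hP, classInner_sum_left, Finset.sum_eq_single_of_mem φ hφ fun ψ hψ hne => by
      rw [classInner_smul_left, he ψ hψ φ hφ, hS.orthogonal ψ (hS1 hψ) φ (hS1 hφ) hne, mul_zero],
      classInner_smul_left, he φ hφ φ hφ, hn φ (hS1 hφ),
      div_mul_cancel₀ _ (Nat.cast_ne_zero.mpr (hnpos φ (hS1 hφ)))]
  have hZP : classInner (w - P) P = 0 := by
    conv_lhs => arg 2; rw [hP]
    rw [classInner_sum_right]
    exact Finset.sum_eq_zero fun φ hφ => by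
      rw [classInner_smul_right, classInner_sub_left, hwe φ hφ, hPe φ hφ, sub_self, mul_zero]
  have hww : classInner w w = classInner (w - P) (w - P) + classInner P P := by
    have e1 : classInner w w = classInner ((w - P) + P) ((w - P) + P) := by rw [sub_add_cancel]
    rw [e1, classInner_add_left, classInner_add_right, classInner_add_right, hZP,
      classInner_symm_zero hZP]
    ring
  set sd : ℝ := ∑ φ ∈ S₁, ((d φ : ℝ) ^ 2 / (n φ : ℝ)) with hsd
  set kd : ℝ := (k : ℝ) / d₁ with hkd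
  have hPP : classInner P P =
      ((kd ^ 2 * sd - 2 * (a : ℝ) * k + (a : ℝ) ^ 2 * n χ₁ : ℝ) : ℂ) := by
    conv_lhs => arg 2; rw [hP]
    rw [classInner_sum_right, hsd]
    push_cast
    rw [Finset.sum_congr rfl (g := fun φ => μ ^ 2 * ((d φ : ℂ) ^ 2 / (n φ : ℂ)) +
      if φ = χ₁ then (a : ℂ) ^ 2 * n χ₁ - 2 * (a : ℂ) * k else 0) fun φ hφ => ?_,
      Finset.sum_add_distrib, ← Finset.mul_sum, Finset.sum_ite_eq' S₁ χ₁, if_pos hχ₁S, hkd, hμ]
    · push_cast
      ring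
    · have hnφ : (n φ : ℂ) ≠ 0 := Nat.cast_ne_zero.mpr (hnpos φ (hS1 hφ))
      rw [classInner_smul_right, hPe φ hφ, map_div₀, Complex.conj_natCast, hcoef φ hφ]
      by_cases h : φ = χ₁
      · subst h
        simp only [if_true, map_sub, map_mul, hμ, map_div₀, map_intCast, Complex.conj_natCast,
          ← hd₁def]
        field_simp
        ring
      · simp only [if_neg h, sub_zero, map_mul, hμ, map_div₀, map_intCast, Complex.conj_natCast]
        field_simp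
        ring
  have hβnorm : classInner β β = (n χ : ℂ) + (a : ℂ) ^ 2 * n χ₁ := by
    rw [hβ, hS.isometry.2.2.1 _ hwmem _ hwmem, classInner_sub_left, classInner_sub_right,
      classInner_sub_right, classInner_smul_left, classInner_smul_left, classInner_smul_right,
      classInner_smul_right, Complex.conj_natCast, hn χ hχ, hn χ₁ hx₁,
      hS.orthogonal χ hχ χ₁ hx₁ (Ne.symm (hχne hχ₁S)), hS.orthogonal χ₁ hx₁ χ hχ (hχne hχ₁S)]
    ring
  have hk0 : k = 0 := by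
    have h1 := congrArg Complex.re hnorm
    rw [hβnorm, hww, hPP] at h1
    have h2 := classInner_self_nonneg (w - P)
    have h3 : (n χ : ℝ) ≤ ((∑ α ∈ R χ, b α * b α : ℤ) : ℝ) := by exact_mod_cast hge
    simp only [Complex.add_re, Complex.intCast_re, Complex.ofReal_re, Complex.natCast_re] at h1
    have h5 : ((a : ℂ) ^ 2 * (n χ₁ : ℂ)).re = (a : ℝ) ^ 2 * n χ₁ := by
      rw [show ((a : ℂ) ^ 2 * (n χ₁ : ℂ)) = (((a : ℝ) ^ 2 * n χ₁ : ℝ) : ℂ) by push_cast; rfl,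
        Complex.ofReal_re]
    rw [h5] at h1
    have h4 : kd ^ 2 * sd ≤ 2 * (a : ℝ) * k := by linarith
    by_contra hne
    have hd₁R : (0 : ℝ) < d₁ := Nat.cast_pos.mpr (Nat.pos_of_ne_zero hd₁0)
    have hsig : 2 * (a : ℝ) * d₁ ^ 2 < sd := by
      have : (2 * d χ * d χ₁ : ℝ) = 2 * (a : ℝ) * d₁ ^ 2 := by
        rw [ha, ← hd₁def]; push_cast; ring
      rw [← this]
      exact hineq
    have hk1 : (k : ℝ) ≤ (k : ℝ) ^ 2 := by
      have : k ≤ k ^ 2 := by nlinarith [mul_self_nonneg k]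
      exact_mod_cast this
    have hk2 : (0 : ℝ) < (k : ℝ) ^ 2 := by
      have : (k : ℝ) ≠ 0 := Int.cast_ne_zero.mpr hne
      positivity
    have h6 : (k : ℝ) ^ 2 * sd ≤ 2 * (a : ℝ) * k * d₁ ^ 2 := by
      calc (k : ℝ) ^ 2 * sd = kd ^ 2 * sd * d₁ ^ 2 := by rw [hkd]; field_simp
        _ ≤ 2 * (a : ℝ) * k * d₁ ^ 2 := by gcongr
    have h7 : 2 * (a : ℝ) * k * d₁ ^ 2 ≤ 2 * (a : ℝ) * (k : ℝ) ^ 2 * d₁ ^ 2 := by gcongr
    nlinarith [mul_pos hk2 (sub_pos.mpr hsig)]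
  have hce : ∀ φ ∈ S₁, classInner β (e φ) = if φ = χ₁ then -((a : ℂ) * n χ₁) else 0 := by
    intro φ hφ
    rw [hcoef φ hφ, hμ, hk0, Int.cast_zero, zero_div, mul_zero]
    split_ifs <;> ring
  set X := β + (a : ℂ) • e χ₁ with hX
  have hXgen : IsGeneralizedCharacter G X := hβgen.add (by
    simpa using (hegen χ₁ hχ₁S).intCast_smul (a : ℤ))
  have hXe : ∀ φ ∈ S₁, classInner X (e φ) = 0 := by
    intro φ hφ
    rw [hX, classInner_add_left, classInner_smul_left, he χ₁ hχ₁S φ hφ, hce φ hφ]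
    by_cases h : φ = χ₁
    · rw [if_pos h, h, hn χ₁ hx₁]; ring
    · rw [if_neg h, hS.orthogonal χ₁ hx₁ φ (hS1 hφ) (Ne.symm h)]; ring
  have hXX : classInner X X = n χ := by
    have h1 : classInner β (e χ₁) = -((a : ℂ) * n χ₁) := by rw [hce χ₁ hχ₁S, if_pos rfl]
    have h2 : classInner (e χ₁) β = -((a : ℂ) * n χ₁) := by
      rw [← classInner_conj_symm, h1, map_neg, map_mul, Complex.conj_natCast, Complex.conj_natCast]
    rw [hX, classInner_add_left, classInner_add_right, classInner_add_right, classInner_smul_left,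
      classInner_smul_right, classInner_smul_left, classInner_smul_right, Complex.conj_natCast,
      hβnorm, h1, h2, he χ₁ hχ₁S χ₁ hχ₁S, hn χ₁ hx₁]
    ring
  set D := τ (χ - conjFun χ) with hD
  have hDgen : IsGeneralizedCharacter G D := hS.isometry.2.2.2 _ (hS.diff_mem hχ)
  have hXD : classInner X D = n χ := by
    rw [hX, classInner_add_left, classInner_smul_left, hβR, (heR χ₁ hχ₁S).1, mul_zero, add_zero]
  have hDD : classInner D D = 2 * (n χ : ℂ) := by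
    rw [hD, hS.sum_eq χ hχ,
      (classInner_sum_orthonormal (R χ) (R χ) (hS.orthonormal χ hχ) Finset.Subset.rfl).2,
      hS.card_R hχ (hn χ hχ), Nat.cast_mul, Nat.cast_ofNat]
  have hnc : classInner (conjFun χ) (conjFun χ) = n χ := by
    rw [show conjFun χ = fun g => conj (χ g) from rfl, classInner_conjFn, hn χ hχ]
  let f : (L → ℂ) → (G → ℂ) := fun φ =>
    if φ = χ then X else if φ = conjFun χ then X - D else e φ
  have hf1 : f χ = X := if_pos rfl
  have hf2 : f (conjFun χ) = X - D := by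
    show (if conjFun χ = χ then X else _) = _
    rw [if_neg hcne.symm, if_pos rfl]
  have hf3 : ∀ φ ∈ S₁, f φ = e φ := fun φ hφ => by
    show (if φ = χ then X else _) = _
    rw [if_neg (hχne hφ), if_neg (hχcne hφ)]
  let T : Finset (L → ℂ) := S₁ ∪ {χ, conjFun χ}
  have hT : (↑T : Set (L → ℂ)) = ↑S₁ ∪ {χ, conjFun χ} := by simp [T]
  have hTmem : ∀ {φ}, φ ∈ T → φ ∈ S₁ ∨ φ = χ ∨ φ = conjFun χ := fun h => by simp [T] at h; tauto
  have hTS : ∀ φ ∈ T, φ ∈ S := fun φ hφ => by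
    rcases hTmem hφ with h | rfl | rfl
    exacts [hS1 h, hχ, hc]
  rw [← hT]
  refine isCoherent_of_family T (fun φ hφ ψ hψ h => hS.orthogonal φ (hTS φ hφ) ψ (hTS ψ hψ) h)
    (fun φ hφ => by rw [hn φ (hTS φ hφ)]; exact Nat.cast_ne_zero.mpr (hnpos φ (hTS φ hφ)))
    f ?_ ?_ (hS.isometry.mono (zspanOn_mono (fun φ hφ => hTS φ hφ) _)) (d := d)
    (fun φ hφ => hd φ (hTS φ hφ)) (χ₁ := χ₁) (by simp [T, hχ₁S]) hd₁0
    ⟨χ, by simp [T], (hχne hχ₁S).symm⟩ ?_
  · intro φ hφ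
    rcases hTmem hφ with h | rfl | rfl
    · rw [hf3 φ h]; exact hegen φ h
    · rw [hf1]; exact hXgen
    · rw [hf2]; exact hXgen.sub hDgen
  · have hDe : ∀ φ ∈ S₁, classInner D (e φ) = 0 := fun φ hφ =>
      classInner_symm_zero (heR φ hφ).1
    have hDX : classInner D X = n χ := classInner_symm_nat hXD
    intro φ hφ ψ hψ
    rcases hTmem hφ with h | rfl | rfl <;> rcases hTmem hψ with h' | rfl | rfl
    · rw [hf3 φ h, hf3 ψ h', he φ h ψ h']
    · rw [hf3 φ h, hf1, classInner_symm_zero (hXe φ h),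
        hS.orthogonal φ (hS1 h) _ hχ (hχne h)]
    · rw [hf3 φ h, hf2, classInner_sub_right, classInner_symm_zero (hXe φ h), (heR φ h).1,
        hS.orthogonal φ (hS1 h) _ hc (hχcne h), sub_zero]
    · rw [hf1, hf3 ψ h', hXe ψ h', hS.orthogonal _ hχ ψ (hS1 h') (Ne.symm (hχne h'))]
    · rw [hf1, hXX, hn _ hχ]
    · rw [hf1, hf2, classInner_sub_right, hXX, hXD, sub_self, hS.orthogonal _ hχ _ hc hcne]
    · rw [hf2, hf3 ψ h', classInner_sub_left, hXe ψ h', hDe ψ h',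
        hS.orthogonal _ hc ψ (hS1 h') (Ne.symm (hχcne h')), sub_zero]
    · rw [hf2, hf1, classInner_sub_left, hXX, hDX, sub_self,
        hS.orthogonal _ hc _ hχ hcne.symm]
    · rw [hf2, classInner_sub_left, classInner_sub_right, classInner_sub_right, hXX, hXD, hDX,
        hDD, hnc]
      ring
  · intro φ hφ
    rcases hTmem hφ with h | rfl | rfl
    · have hwφ := pivot_mem (S := (↑S₁ : Set (L → ℂ))) (d := d) h hχ₁S (hd φ (hS1 h)) (hd χ₁ hx₁)
      rw [← hd₁def] at hwφ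
      rw [hf3 φ h, hf3 χ₁ hχ₁S, ← hagree _ hwφ,
        hτ₁.map_sub' (zspan_natCast_smul (hmemS₁ h) _) (zspan_natCast_smul (hmemS₁ hχ₁S) _)
          (zspan_zsmul (zspan_natCast_smul (hmemS₁ hχ₁S) _) _),
        hτ₁.map_natCast_smul (hmemS₁ h), hτ₁.map_natCast_smul (hmemS₁ hχ₁S)]
    · rw [hf1, hf3 χ₁ hχ₁S, ha, Nat.cast_mul, ← smul_smul, ← smul_smul, ← smul_sub, ← smul_sub,
        hS.isometry.map_natCast_smul hwmem, ← hβ, hX, add_sub_cancel_right]
    · have hm : conjFun χ - (a : ℂ) • χ₁ ∈ zspanOn S ({1}ᶜ : Set L) := by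
        have := zspanOn_add hwmem (zspanOn_zsmul (hS.diff_mem hχ) (-1))
        convert this using 1
        simp only [neg_smul, one_smul]
        abel
      have e2 : τ (conjFun χ - (a : ℂ) • χ₁) = β - D := by
        rw [show conjFun χ - (a : ℂ) • χ₁ = (χ - (a : ℂ) • χ₁) - (χ - conjFun χ) by abel,
          hS.isometry.map_sub' hwmem (hS.diff_mem hχ) (zspanOn_zsmul (hS.diff_mem hχ) _)]
      rw [hf2, hf3 χ₁ hχ₁S, hdc, ha, Nat.cast_mul, ← smul_smul, ← smul_smul, ← smul_sub,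
        ← smul_sub, hS.isometry.map_natCast_smul hm, e2, hX]
      congr 1
      abel

end System

end Cfsg.Lib.Char
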