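import Cfsg.Agent.Lib.Char.SignedIrr
import Cfsg.Agent.Lib.Char.Coherence

/-!
# Coherence of sets of irreducible characters

Feit's criterion, the union of two coherent sets, and gluing under a divisibility condition, for a
linear isometry between the characters of two finite groups.
-/

set_option autoImplicit false
set_option linter.unusedSectionVars false
set_option linter.style.haveILetI false

namespace Cfsg.Lib.Char

open Cfsg
open scoped ComplexConjugate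

universe u v

/-- Feit's criterion for adjoining one irreducible character to a coherent set. -/
theorem coherent_insert_irr {G : Type v} [Group G] [Fintype G] {N : Type u} [Group N] [Fintype N] (S₀ : Finset (N → ℂ)) (χ : N → ℂ) (hirr : ∀ ξ ∈ S₀, IsIrrCharacter N ξ) (hχ : IsIrrCharacter N χ) (hχS : χ ∉ S₀) (d : (N → ℂ) → ℕ) (hd : ∀ ξ ∈ insert χ S₀, ξ 1 = (d ξ : ℂ)) (τ : (N → ℂ) → (G → ℂ)) (hτ : IsLinearIsometryOn (zspanOn (↑(insert χ S₀) : Set (N → ℂ)) {1}ᶜ) τ) (hτ1 : ∀ α ∈ zspanOn (↑(insert χ S₀) : Set (N → ℂ)) {1}ᶜ, τ α 1 = 0) (hcoh : IsCoherent (↑S₀ : Set (N → ℂ)) {1}ᶜ τ) (ψ : N → ℂ) (hψ : ψ ∈ S₀) (hdvd : d ψ ∣ d χ) (hlt : 2 * d ψ * d χ < ∑ ξ ∈ S₀, d ξ ^ 2) : IsCoherent (↑(insert χ S₀) : Set (N → ℂ)) {1}ᶜ τ := by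
  classical
  obtain ⟨-, e, he', hagree⟩ := hcoh
  have hm : ∀ {φ}, φ ∈ S₀ → φ ∈ zspan (↑S₀ : Set (N → ℂ)) := fun h => mem_zspan_self h
  have hdS : ∀ φ ∈ S₀, φ 1 = (d φ : ℂ) := fun φ hφ => hd φ (Finset.mem_insert_of_mem hφ)
  have hpos : ∀ φ ∈ insert χ S₀, 0 < d φ := fun φ hφ => by
    have hi : IsIrrCharacter N φ := by
      rcases Finset.mem_insert.mp hφ with rfl | h
      exacts [hχ, hirr φ h]
    have h := hi.apply_one_ne_zero
    rw [hd φ hφ, Nat.cast_ne_zero] at h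
    exact Nat.pos_of_ne_zero h
  obtain ⟨a, ha⟩ := hdvd
  have ha0 : 0 < a := Nat.pos_of_ne_zero fun h => (hpos χ (Finset.mem_insert_self _ _)).ne'
    (by rw [ha, h, mul_zero])
  have hdψ : (d ψ : ℂ) ≠ 0 := Nat.cast_ne_zero.mpr (hpos ψ (Finset.mem_insert_of_mem hψ)).ne'
  have hne : ∀ {φ}, φ ∈ S₀ → φ ≠ χ := fun h e => hχS (e ▸ h)
  have heip : ∀ φ ∈ S₀, ∀ φ' ∈ S₀, classInner (e φ) (e φ') = if φ = φ' then 1 else 0 := by
    intro φ hφ φ' hφ'
    rw [he'.2.2.1 _ (hm hφ) _ (hm hφ'), classInner_irr (hirr φ hφ) (hirr φ' hφ')]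
  have hegen : ∀ φ ∈ S₀, IsGeneralizedCharacter G (e φ) := fun φ hφ => he'.2.2.2 _ (hm hφ)
  -- images of the pivot elements
  have hpiv : ∀ φ ∈ S₀, τ ((d ψ : ℂ) • φ - (d φ : ℂ) • ψ) =
      (d ψ : ℂ) • e φ - (d φ : ℂ) • e ψ := fun φ hφ => by
    rw [← hagree _ (pivot_mem (S := (↑S₀ : Set (N → ℂ))) (d := d) hφ hψ (hdS φ hφ) (hdS ψ hψ)),
      he'.map_sub' (zspan_natCast_smul (hm hφ) _) (zspan_natCast_smul (hm hψ) _)
        (zspan_zsmul (zspan_natCast_smul (hm hψ) _) _),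
      he'.map_natCast_smul (hm hφ), he'.map_natCast_smul (hm hψ)]
  have hsub : (↑S₀ : Set (N → ℂ)) ⊆ ↑(insert χ S₀) := Finset.coe_subset.mpr (Finset.subset_insert _ _)
  have hwmem : χ - (a : ℂ) • ψ ∈ zspanOn (↑(insert χ S₀) : Set (N → ℂ)) ({1}ᶜ : Set N) := by
    refine mem_zspanOn_one.mpr ⟨zspan_sub (mem_zspan_self (Finset.mem_insert_self _ _))
      (zspan_natCast_smul (mem_zspan_self (hsub hψ)) a), ?_⟩
    simp only [Pi.sub_apply, Pi.smul_apply, smul_eq_mul, hd χ (Finset.mem_insert_self _ _),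
      hdS ψ hψ, ha]
    push_cast
    ring
  set β := τ (χ - (a : ℂ) • ψ) with hβ
  have hβgen : IsGeneralizedCharacter G β := hτ.2.2.2 _ hwmem
  have hpos1 : ∀ φ ∈ S₀, (d ψ : ℂ) * e φ 1 = (d φ : ℂ) * e ψ 1 := fun φ hφ => by
    have h := hτ1 _ (zspanOn_mono hsub _
      (pivot_mem (S := (↑S₀ : Set (N → ℂ))) (d := d) hφ hψ (hdS φ hφ) (hdS ψ hψ)))
    rw [hpiv φ hφ, Pi.sub_apply, Pi.smul_apply, Pi.smul_apply, sub_eq_zero] at h
    exact h
  obtain ⟨k, hk⟩ : ∃ k : ℤ, classInner β (e ψ) = (k : ℂ) - a := by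
    obtain ⟨c, hc⟩ := hβgen.exists_int_classInner (hegen ψ hψ)
    exact ⟨c + (a : ℤ), by rw [hc]; push_cast; ring⟩
  have hcoef : ∀ φ ∈ S₀, (d ψ : ℂ) * classInner β (e φ) =
      (d φ : ℂ) * k - if φ = ψ then (d ψ : ℂ) * a else 0 := by
    intro φ hφ
    by_cases h : φ = ψ
    · subst h; rw [if_pos rfl, hk]; ring
    · rw [if_neg h, sub_zero]
      have h1 := hτ.2.2.1 _ hwmem _ (zspanOn_mono hsub _
        (pivot_mem (S := (↑S₀ : Set (N → ℂ))) (d := d) hφ hψ (hdS φ hφ) (hdS ψ hψ)))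
      rw [hpiv φ hφ, ← hβ] at h1
      simp only [classInner_sub_left, classInner_sub_right, classInner_smul_left,
        classInner_smul_right, Complex.conj_natCast, hk,
        classInner_irr_ne hχ (hirr φ hφ) (Ne.symm (hne hφ)),
        classInner_irr_ne hχ (hirr ψ hψ) (Ne.symm (hne hψ)),
        classInner_irr_ne (hirr ψ hψ) (hirr φ hφ) (Ne.symm h),
        classInner_irr_self (hirr ψ hψ)] at h1
      linear_combination h1
  -- project onto the images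
  have hinj : Set.InjOn e ↑S₀ := fun φ hφ φ' hφ' h => by
    by_contra hn
    have h1 := heip φ hφ φ' hφ'
    rw [← h, heip φ hφ φ hφ, if_pos rfl, if_neg hn] at h1
    exact one_ne_zero h1
  obtain ⟨b, w, hb, hwgen, hdec, -, hnorm⟩ := bessel_int (S₀.image e)
    (fun x hx y hy => by
      obtain ⟨φ, hφ, rfl⟩ := Finset.mem_image.mp hx
      obtain ⟨φ', hφ', rfl⟩ := Finset.mem_image.mp hy
      rw [heip φ hφ φ' hφ']
      exact if_congr ⟨fun h => h ▸ rfl, fun h => hinj hφ hφ' h⟩ rfl rfl)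
    (fun x hx => by
      obtain ⟨φ, hφ, rfl⟩ := Finset.mem_image.mp hx
      exact hegen φ hφ) hβgen
  rw [Finset.sum_image hinj] at hdec hnorm
  have hbc : ∀ φ ∈ S₀, (d ψ : ℂ) * (b (e φ) : ℂ) = (d φ : ℂ) * k - if φ = ψ then (d ψ : ℂ) * a else 0 :=
    fun φ hφ => by rw [← hb _ (Finset.mem_image_of_mem e hφ), hcoef φ hφ]
  set D : ℕ := ∑ ξ ∈ S₀, d ξ ^ 2 with hD
  have hsq : (d ψ : ℂ) ^ 2 * ∑ φ ∈ S₀, (b (e φ) : ℂ) * (b (e φ) : ℂ) =
      (k : ℂ) ^ 2 * D + ((d ψ : ℂ) ^ 2 * ((a : ℂ) ^ 2 - 2 * a * k)) := by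
    rw [Finset.mul_sum, Finset.sum_congr rfl (g := fun φ => (k : ℂ) ^ 2 * ((d φ : ℂ) ^ 2) +
      if φ = ψ then (d ψ : ℂ) ^ 2 * ((a : ℂ) ^ 2 - 2 * a * k) else 0) fun φ hφ => ?_,
      Finset.sum_add_distrib, ← Finset.mul_sum, Finset.sum_ite_eq' S₀ ψ, if_pos hψ, hD]
    · push_cast; ring
    · rw [show (d ψ : ℂ) ^ 2 * ((b (e φ) : ℂ) * (b (e φ) : ℂ)) =
        ((d ψ : ℂ) * (b (e φ) : ℂ)) ^ 2 by ring, hbc φ hφ]
      by_cases h : φ = ψ
      · subst h; rw [if_pos rfl, if_pos rfl]; ring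
      · rw [if_neg h, if_neg h]; ring
  have hββ : classInner β β = 1 + (a : ℂ) ^ 2 := by
    rw [hβ, hτ.2.2.1 _ hwmem _ hwmem, classInner_sub_left, classInner_sub_right,
      classInner_sub_right, classInner_smul_left, classInner_smul_left, classInner_smul_right,
      classInner_smul_right, Complex.conj_natCast, classInner_irr_self hχ,
      classInner_irr_self (hirr ψ hψ), classInner_irr_ne hχ (hirr ψ hψ) (Ne.symm (hne hψ)),
      classInner_irr_ne (hirr ψ hψ) hχ (hne hψ)]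
    ring
  obtain ⟨m, hm'⟩ := exists_nat_norm hwgen
  rw [hββ, hm'] at hnorm
  have hmain : (d ψ : ℤ) ^ 2 * (1 + (a : ℤ) ^ 2) =
      k ^ 2 * D + (d ψ : ℤ) ^ 2 * ((a : ℤ) ^ 2 - 2 * a * k) + (d ψ : ℤ) ^ 2 * m := by
    have : (((d ψ : ℤ) ^ 2 * (1 + (a : ℤ) ^ 2) : ℤ) : ℂ) =
        ((k ^ 2 * D + (d ψ : ℤ) ^ 2 * ((a : ℤ) ^ 2 - 2 * a * k) + (d ψ : ℤ) ^ 2 * m : ℤ) : ℂ) := by
      push_cast
      linear_combination (d ψ : ℂ) ^ 2 * hnorm + hsq
    exact_mod_cast this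
  have hlt' : 2 * (a : ℤ) * (d ψ : ℤ) ^ 2 < D := by
    have : ((2 * d ψ * d χ : ℕ) : ℤ) < (D : ℤ) := by exact_mod_cast hlt
    rw [ha] at this
    push_cast at this
    nlinarith
  have hψpos : (0 : ℤ) < d ψ := by exact_mod_cast hpos ψ (Finset.mem_insert_of_mem hψ)
  have hk0 : k = 0 := by
    by_cases hm0 : m = 0
    · exfalso
      rw [hm0, Nat.cast_zero] at hm'
      have hw0 : w = 0 := eq_zero_of_classInner_self hm'
      have h1 := congrFun hdec 1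
      rw [hβ, hτ1 _ hwmem, hw0, add_zero, Finset.sum_apply] at h1
      have h2 : (d ψ : ℂ) * ((d ψ : ℂ) * 0) =
          e ψ 1 * ((k : ℂ) * D - (d ψ : ℂ) * ((d ψ : ℂ) * a)) := by
        rw [h1, hD, Nat.cast_sum]
        simp only [Finset.mul_sum]
        rw [mul_sub, Finset.mul_sum, ← Finset.sum_ite_eq' S₀ ψ (fun φ => e ψ 1 * ((d φ : ℂ) *
          ((d ψ : ℂ) * a))) |>.trans (if_pos hψ), ← Finset.sum_sub_distrib]
        refine Finset.sum_congr rfl fun φ hφ => ?_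
        rw [Pi.smul_apply, smul_eq_mul, show (d ψ : ℂ) * ((d ψ : ℂ) * ((b (e φ) : ℂ) * e φ 1)) =
          ((d ψ : ℂ) * (b (e φ) : ℂ)) * ((d ψ : ℂ) * e φ 1) by ring, hbc φ hφ, hpos1 φ hφ]
        by_cases h : φ = ψ
        · subst h; rw [if_pos rfl, if_pos rfl]; push_cast; ring
        · rw [if_neg h, if_neg h]; push_cast; ring
      rw [mul_zero, mul_zero] at h2
      obtain ⟨s, μ, hs, hμ⟩ := exists_signed_irr_of_norm_one (hegen ψ hψ)
        (by rw [heip ψ hψ ψ hψ, if_pos rfl])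
      have hψ1 : e ψ 1 ≠ 0 := by
        rw [hμ, Pi.smul_apply, smul_eq_mul]
        refine mul_ne_zero ?_ μ.2.apply_one_ne_zero
        rcases hs with h | h <;> simp [h]
      have h3 : (k : ℂ) * D - (d ψ : ℂ) * ((d ψ : ℂ) * a) = 0 :=
        (mul_eq_zero.mp h2.symm).resolve_left hψ1
      have h4 : k * (D : ℤ) - (d ψ : ℤ) * ((d ψ : ℤ) * a) = 0 := by exact_mod_cast h3
      rw [hm0] at hmain
      push_cast at hmain
      have hk1 : 0 < k := by nlinarith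
      nlinarith
    · by_contra hk
      have hm1 : (1 : ℤ) ≤ m := by exact_mod_cast Nat.one_le_iff_ne_zero.mpr hm0
      have h1 : k ≤ k ^ 2 := Int.le_self_sq k
      have h2 : 0 < k ^ 2 := by positivity
      nlinarith [mul_le_mul_of_nonneg_left h1 (by positivity : (0 : ℤ) ≤ 2 * a * (d ψ : ℤ) ^ 2),
        mul_lt_mul_of_pos_left hlt' h2, mul_le_mul_of_nonneg_left hm1 (sq_nonneg (d ψ : ℤ))]
  subst hk0
  have hbe : ∀ φ ∈ S₀, classInner β (e φ) = if φ = ψ then -(a : ℂ) else 0 := by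
    intro φ hφ
    apply mul_left_cancel₀ hdψ
    rw [hcoef φ hφ, Int.cast_zero]
    split_ifs <;> ring
  have hXe : ∀ φ ∈ S₀, classInner (β + (a : ℂ) • e ψ) (e φ) = 0 := by
    intro φ hφ
    rw [classInner_add_left, classInner_smul_left, hbe φ hφ, heip ψ hψ φ hφ]
    by_cases h : φ = ψ
    · subst h; simp
    · simp [h, Ne.symm h]
  have hXX : classInner (β + (a : ℂ) • e ψ) (β + (a : ℂ) • e ψ) = 1 := by
    rw [classInner_add_right, classInner_smul_right, hXe ψ hψ, mul_zero, add_zero,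
      classInner_add_left, classInner_smul_left, hββ, ← classInner_conj_symm β (e ψ), hbe ψ hψ,
      if_pos rfl, map_neg, Complex.conj_natCast]
    ring
  have hXgen : IsGeneralizedCharacter G (β + (a : ℂ) • e ψ) :=
    hβgen.add (by simpa using (hegen ψ hψ).intCast_smul (a : ℤ))
  refine isCoherent_of_family (insert χ S₀) ?_ ?_
    (fun φ => if φ = χ then β + (a : ℂ) • e ψ else e φ) ?_ ?_ hτ hd
    (Finset.mem_insert_of_mem hψ) (hpos ψ (Finset.mem_insert_of_mem hψ)).ne'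
    ⟨χ, Finset.mem_insert_self _ _, Ne.symm (hne hψ)⟩ ?_
  · intro φ hφ φ' hφ' h
    have hi : ∀ φ ∈ insert χ S₀, IsIrrCharacter N φ := fun φ hφ => by
      rcases Finset.mem_insert.mp hφ with rfl | h
      exacts [hχ, hirr φ h]
    exact classInner_irr_ne (hi φ hφ) (hi φ' hφ') h
  · intro φ hφ
    rcases Finset.mem_insert.mp hφ with rfl | h
    · rw [classInner_irr_self hχ]; exact one_ne_zero
    · rw [classInner_irr_self (hirr φ h)]; exact one_ne_zero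
  · intro φ hφ
    rcases Finset.mem_insert.mp hφ with rfl | h
    · rw [if_pos rfl]; exact hXgen
    · rw [if_neg (hne h)]; exact hegen φ h
  · intro φ hφ φ' hφ'
    rcases Finset.mem_insert.mp hφ with rfl | h <;> rcases Finset.mem_insert.mp hφ' with rfl | h'
    · rw [if_pos rfl, hXX, classInner_irr_self hχ]
    · rw [if_pos rfl, if_neg (hne h'), hXe φ' h', classInner_irr_ne hχ (hirr φ' h') (Ne.symm (hne h'))]
    · rw [if_neg (hne h), if_pos rfl, classInner_symm_zero (hXe φ h),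
        classInner_irr_ne (hirr φ h) hχ (hne h)]
    · rw [if_neg (hne h), if_neg (hne h'), heip φ h φ' h', classInner_irr (hirr φ h) (hirr φ' h')]
  · intro φ hφ
    rcases Finset.mem_insert.mp hφ with rfl | h
    · rw [if_pos rfl, if_neg (hne hψ), ha, Nat.cast_mul, ← smul_smul, ← smul_smul, ← smul_sub,
        ← smul_sub, hτ.map_natCast_smul hwmem, ← hβ, add_sub_cancel_right]
    · rw [if_neg (hne h), if_neg (hne hψ), hpiv φ h]

/-- The union of two coherent sets of irreducible characters linked at one pair is coherent. -/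
theorem coherent_union_irr {G : Type v} [Group G] [Fintype G] {N : Type u} [Group N] [Fintype N] (S X Y : Set (N → ℂ)) (hirr : ∀ ξ ∈ S, IsIrrCharacter N ξ) (hXS : X ⊆ S) (hYS : Y ⊆ S) (hXY : Disjoint X Y) (hX2 : ∃ a ∈ X, ∃ b ∈ X, a ≠ b) (hY2 : ∃ a ∈ Y, ∃ b ∈ Y, a ≠ b) (α : (N → ℂ) → (G → ℂ)) (hα : IsLinearIsometryOn (zspanOn S {1}ᶜ) α) (hα1 : ∀ θ ∈ zspanOn S {1}ᶜ, α θ 1 = 0) (σ τ : (N → ℂ) → (G → ℂ)) (hσ : IsLinearIsometryOn (zspan X) σ) (hσα : ∀ θ ∈ zspanOn X {1}ᶜ, σ θ = α θ) (hτ : IsLinearIsometryOn (zspan Y) τ) (hτα : ∀ θ ∈ zspanOn Y {1}ᶜ, τ θ = α θ) : (∀ χ ∈ X, ∀ η ∈ Y, classInner (σ χ) (τ η) = 0) ∧ ((∃ χ₀ ∈ X, ∃ η₀ ∈ Y, α (χ₀ 1 • η₀ - η₀ 1 • χ₀) = χ₀ 1 • τ η₀ - η₀ 1 • σ χ₀) → IsCoherent (X ∪ Y) {1}ᶜ α) := by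
  classical
  have hdeg : ∀ ξ : N → ℂ, ∃ n : ℕ, ξ ∈ S → n ≠ 0 ∧ ξ 1 = (n : ℂ) := fun ξ => by
    by_cases hξ : ξ ∈ S
    · obtain ⟨n, hn0, hn⟩ := (hirr ξ hξ).exists_degree
      exact ⟨n, fun _ => ⟨by omega, hn⟩⟩
    · exact ⟨0, fun h => absurd h hξ⟩
  choose d hd using hdeg
  have hd1 : ∀ ξ ∈ S, ξ 1 = (d ξ : ℂ) := fun ξ h => (hd ξ h).2
  -- pivot elements of either set
  have piv : ∀ (Z : Set (N → ℂ)) (ρ : (N → ℂ) → G → ℂ), Z ⊆ S → IsLinearIsometryOn (zspan Z) ρ →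
      (∀ θ ∈ zspanOn Z {1}ᶜ, ρ θ = α θ) → ∀ a ∈ Z, ∀ b ∈ Z,
      α ((d b : ℂ) • a - (d a : ℂ) • b) = (d b : ℂ) • ρ a - (d a : ℂ) • ρ b := by
    intro Z ρ hZ hρ hρα a ha b hb
    rw [← hρα _ (pivot_mem ha hb (hd1 a (hZ ha)) (hd1 b (hZ hb))),
      hρ.map_sub' (zspan_natCast_smul (mem_zspan_self ha) _)
        (zspan_natCast_smul (mem_zspan_self hb) _)
        (zspan_zsmul (zspan_natCast_smul (mem_zspan_self hb) _) _),
      hρ.map_natCast_smul (mem_zspan_self ha), hρ.map_natCast_smul (mem_zspan_self hb)]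
  have hcross : ∀ χ ∈ X, ∀ η ∈ Y, classInner (σ χ) (τ η) = 0 := by
    intro χ hχ η hη
    obtain ⟨χ', hχ', hne⟩ : ∃ χ' ∈ X, χ ≠ χ' := by
      obtain ⟨a, ha, b, hb, hab⟩ := hX2
      by_cases h : χ = a
      exacts [⟨b, hb, h ▸ hab⟩, ⟨a, ha, h⟩]
    obtain ⟨η', hη', hne'⟩ : ∃ η' ∈ Y, η ≠ η' := by
      obtain ⟨a, ha, b, hb, hab⟩ := hY2
      by_cases h : η = a
      exacts [⟨b, hb, h ▸ hab⟩, ⟨a, ha, h⟩]
    have n1 : ∀ ξ ∈ X, classInner (σ ξ) (σ ξ) = 1 := fun ξ h => by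
      rw [hσ.2.2.1 _ (mem_zspan_self h) _ (mem_zspan_self h), classInner_irr_self (hirr ξ (hXS h))]
    have n2 : ∀ ξ ∈ Y, classInner (τ ξ) (τ ξ) = 1 := fun ξ h => by
      rw [hτ.2.2.1 _ (mem_zspan_self h) _ (mem_zspan_self h), classInner_irr_self (hirr ξ (hYS h))]
    obtain ⟨p, μ, hμ, hp, ep⟩ :=
      exists_real_mul_irr_of_norm_one (hσ.2.2.2 _ (mem_zspan_self hχ)) (n1 χ hχ)
    obtain ⟨q, ν, hν, hq, eq⟩ :=
      exists_real_mul_irr_of_norm_one (hσ.2.2.2 _ (mem_zspan_self hχ')) (n1 χ' hχ')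
    obtain ⟨u, γ, hγ, hu, eu⟩ :=
      exists_real_mul_irr_of_norm_one (hτ.2.2.2 _ (mem_zspan_self hη)) (n2 η hη)
    obtain ⟨v, δ, hδ, hv, ev⟩ :=
      exists_real_mul_irr_of_norm_one (hτ.2.2.2 _ (mem_zspan_self hη')) (n2 η' hη')
    have hμν : μ ≠ ν := ne_of_classInner_real_mul hμ hp hq (by
      rw [← ep, ← eq, hσ.2.2.1 _ (mem_zspan_self hχ) _ (mem_zspan_self hχ'),
        classInner_irr_ne (hirr χ (hXS hχ)) (hirr χ' (hXS hχ')) hne])
    have hγδ : γ ≠ δ := ne_of_classInner_real_mul hγ hu hv (by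
      rw [← eu, ← ev, hτ.2.2.1 _ (mem_zspan_self hη) _ (mem_zspan_self hη'),
        classInner_irr_ne (hirr η (hYS hη)) (hirr η' (hYS hη')) hne'])
    have m1 := pivot_mem (d := d) (hXS hχ) (hXS hχ') (hd1 χ (hXS hχ)) (hd1 χ' (hXS hχ'))
    have m2 := pivot_mem (d := d) (hYS hη) (hYS hη') (hd1 η (hYS hη)) (hd1 η' (hYS hη'))
    have h1 := piv X σ hXS hσ hσα χ hχ χ' hχ'
    have h2 := piv Y τ hYS hτ hτα η hη η' hη'
    have h0 := hα.2.2.1 _ m1 _ m2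
    rw [h1, h2] at h0
    have hnXY : ∀ a ∈ X, ∀ b ∈ Y, classInner a b = 0 := fun a ha b hb =>
      classInner_irr_ne (hirr a (hXS ha)) (hirr b (hYS hb))
        fun h => Set.disjoint_left.mp hXY ha (h ▸ hb)
    simp only [classInner_sub_left (G := N), classInner_sub_right (G := N),
      classInner_smul_left (G := N), classInner_smul_right (G := N), hnXY χ hχ η hη,
      hnXY χ hχ η' hη', hnXY χ' hχ' η hη, hnXY χ' hχ' η' hη', mul_zero, sub_zero, ep, eq, eu, ev,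
      smul_smul] at h0
    have e1 := hα1 _ m1
    have e2 := hα1 _ m2
    rw [h1, ep, eq, smul_smul, smul_smul, Pi.sub_apply, Pi.smul_apply, Pi.smul_apply,
      sub_eq_zero, smul_eq_mul, smul_eq_mul] at e1
    rw [h2, eu, ev, smul_smul, smul_smul, Pi.sub_apply, Pi.smul_apply, Pi.smul_apply,
      sub_eq_zero, smul_eq_mul, smul_eq_mul] at e2
    have hc : ∀ ξ ∈ S, (d ξ : ℝ) ≠ 0 := fun ξ h => Nat.cast_ne_zero.mpr (hd ξ h).1
    obtain ⟨hd', -, -, -⟩ := irr_pairs_disjoint hμ hν hγ hδ hμν hγδ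
      (mul_ne_zero (hc χ' (hXS hχ')) hp) (mul_ne_zero (hc χ (hXS hχ)) hq)
      (mul_ne_zero (hc η' (hYS hη')) hu) (mul_ne_zero (hc η (hYS hη)) hv)
      (by push_cast; exact e1) (by push_cast; exact e2) (by push_cast; exact h0)
    rw [ep, eu]
    exact classInner_real_mul_irr_eq_zero hμ hγ _ _ hd'
  refine ⟨hcross, ?_⟩
  rintro ⟨χ₀, hχ₀, η₀, hη₀, hlink⟩
  rw [hd1 χ₀ (hXS hχ₀), hd1 η₀ (hYS hη₀)] at hlink
  have hSXY : X ∪ Y ⊆ S := Set.union_subset hXS hYS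
  have horth : ∀ a ∈ X ∪ Y, ∀ b ∈ X ∪ Y, a ≠ b → classInner a b = 0 := fun a ha b hb h =>
    classInner_irr_ne (hirr a (hSXY ha)) (hirr b (hSXY hb)) h
  have hnz : ∀ a ∈ X ∪ Y, classInner a a ≠ 0 := fun a ha => by
    rw [classInner_irr_self (hirr a (hSXY ha))]; exact one_ne_zero
  have hfin := finite_of_orthogonal horth hnz
  rw [← hfin.coe_toFinset]
  have hmem : ∀ {a}, a ∈ hfin.toFinset → a ∈ X ∪ Y := fun h => hfin.mem_toFinset.mp h
  have hnX : ∀ {b}, b ∈ Y → b ∉ X := fun hb hb' => Set.disjoint_left.mp hXY hb' hb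
  refine isCoherent_of_family hfin.toFinset (fun a ha b hb => horth a (hmem ha) b (hmem hb))
    (fun a ha => hnz a (hmem ha)) (fun a => if a ∈ X then σ a else τ a) ?_ ?_
    (hα.mono (zspanOn_mono (fun a ha => hSXY (hmem ha)) _))
    (fun a ha => hd1 a (hSXY (hmem ha))) (hfin.mem_toFinset.mpr (Or.inl hχ₀)) (hd χ₀ (hXS hχ₀)).1
    ⟨η₀, hfin.mem_toFinset.mpr (Or.inr hη₀), fun h => hnX hη₀ (h ▸ hχ₀)⟩ ?_
  · intro a ha
    rcases hmem ha with h | h
    · rw [if_pos h]; exact hσ.2.2.2 _ (mem_zspan_self h)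
    · rw [if_neg (hnX h)]; exact hτ.2.2.2 _ (mem_zspan_self h)
  · intro a ha b hb
    rcases hmem ha with h | h <;> rcases hmem hb with h' | h'
    · rw [if_pos h, if_pos h', hσ.2.2.1 _ (mem_zspan_self h) _ (mem_zspan_self h')]
    · rw [if_pos h, if_neg (hnX h'), hcross a h b h',
        horth a (Or.inl h) b (Or.inr h') fun e => hnX h' (e ▸ h)]
    · rw [if_neg (hnX h), if_pos h', classInner_symm_zero (hcross b h' a h),
        horth a (Or.inr h) b (Or.inl h') fun e => hnX h (e ▸ h')]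
    · rw [if_neg (hnX h), if_neg (hnX h'), hτ.2.2.1 _ (mem_zspan_self h) _ (mem_zspan_self h')]
  · intro φ hφ
    rw [if_pos hχ₀]
    rcases hmem hφ with h | h
    · rw [if_pos h]
      exact piv X σ hXS hσ hσα φ h χ₀ hχ₀
    · rw [if_neg (hnX h)]
      have m1 := pivot_mem (d := d) (hYS h) (hXS hχ₀) (hd1 φ (hYS h)) (hd1 χ₀ (hXS hχ₀))
      have m2 := pivot_mem (d := d) (hYS h) (hYS hη₀) (hd1 φ (hYS h)) (hd1 η₀ (hYS hη₀))
      have m3 := pivot_mem (d := d) (hYS hη₀) (hXS hχ₀) (hd1 η₀ (hYS hη₀)) (hd1 χ₀ (hXS hχ₀))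
      have hsmul : ∀ {θ}, θ ∈ zspanOn S ({1}ᶜ : Set N) → ∀ n : ℕ,
          (n : ℂ) • θ ∈ zspanOn S ({1}ᶜ : Set N) := fun hθ n => by
        rw [← Int.cast_natCast, Int.cast_smul_eq_zsmul]
        exact zspanOn_zsmul hθ _
      have e : (d η₀ : ℂ) • ((d χ₀ : ℂ) • φ - (d φ : ℂ) • χ₀) =
          (d χ₀ : ℂ) • ((d η₀ : ℂ) • φ - (d φ : ℂ) • η₀) +
            (d φ : ℂ) • ((d χ₀ : ℂ) • η₀ - (d η₀ : ℂ) • χ₀) := by
        module
      have h' := congrArg α e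
      rw [hα.map_natCast_smul m1, hα.1 _ (hsmul m2 _) _ (hsmul m3 _), hα.map_natCast_smul m2,
        hα.map_natCast_smul m3, piv Y τ hYS hτ hτα φ h η₀ hη₀, hlink] at h'
      apply smul_right_injective (G → ℂ) (Nat.cast_ne_zero.mpr (hd η₀ (hYS hη₀)).1 : (d η₀ : ℂ) ≠ 0)
      beta_reduce
      rw [h']
      module

variable {G : Type v} [Group G] [Fintype G] {N : Type u} [Group N] [Fintype N]

/-- Irreducible characters of one degree are coherent. -/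
theorem coherent_of_equal_degree (S : Finset (N → ℂ)) (hirr : ∀ φ ∈ S, IsIrrCharacter N φ)
    (htwo : ∃ a ∈ S, ∃ b ∈ S, a ≠ b) (hdeg : ∀ φ ∈ S, ∀ ψ ∈ S, φ 1 = ψ 1)
    {τ : (N → ℂ) → (G → ℂ)} (hτ : IsLinearIsometryOn (zspanOn (↑S : Set (N → ℂ)) {1}ᶜ) τ)
    (hτ1 : ∀ α ∈ zspanOn (↑S : Set (N → ℂ)) {1}ᶜ, τ α 1 = 0) :
    IsCoherent (↑S : Set (N → ℂ)) {1}ᶜ τ := by
  classical
  obtain ⟨a, ha, b, hb, hab⟩ := htwo
  obtain ⟨n, hn0, hn⟩ := (hirr a ha).exists_degree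
  have hmem : ∀ φ ∈ S, ∀ ψ ∈ S, φ - ψ ∈ zspanOn (↑S : Set (N → ℂ)) {1}ᶜ := fun φ hφ ψ hψ =>
    mem_zspanOn_one.mpr ⟨zspan_sub (mem_zspan_self hφ) (mem_zspan_self hψ), by simp [hdeg φ hφ ψ hψ]⟩
  let i₀ : {φ // φ ∈ S} := ⟨a, ha⟩
  have hne : ∀ i : {φ // φ ∈ S}, i ≠ i₀ → (i : N → ℂ) ≠ a := fun i h e => h (Subtype.ext e)
  obtain ⟨ε, hε, μ, hμ, hμinj, hτμ⟩ := exists_exceptional_irr i₀
    (fun i : {φ // φ ∈ S} => τ ((i : N → ℂ) - a))
    (by
      show τ (a - a) = 0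
      rw [sub_self]; exact hτ.map_zero' (zspanOn_zero _ _))
    (fun i => hτ.2.2.2 _ (hmem _ i.2 a ha)) (fun i => hτ1 _ (hmem _ i.2 a ha))
    (fun i hi => by
      rw [hτ.2.2.1 _ (hmem _ i.2 a ha) _ (hmem _ i.2 a ha), classInner_sub_left, classInner_sub_right,
        classInner_sub_right, classInner_irr_self (hirr _ i.2), classInner_irr_self (hirr a ha),
        classInner_irr_ne (hirr _ i.2) (hirr a ha) (hne i hi),
        classInner_irr_ne (hirr a ha) (hirr _ i.2) (hne i hi).symm]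
      norm_num)
    (fun i j hi hj hij => by
      rw [hτ.2.2.1 _ (hmem _ i.2 a ha) _ (hmem _ j.2 a ha), classInner_sub_left, classInner_sub_right,
        classInner_sub_right, classInner_irr_self (hirr a ha),
        classInner_irr_ne (hirr _ i.2) (hirr _ j.2) (fun e => hij (Subtype.ext e)),
        classInner_irr_ne (hirr _ i.2) (hirr a ha) (hne i hi),
        classInner_irr_ne (hirr a ha) (hirr _ j.2) (hne j hj).symm]
      norm_num)
  refine isCoherent_of_family S (fun φ hφ ψ hψ h => classInner_irr_ne (hirr φ hφ) (hirr ψ hψ) h)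
    (fun φ hφ => by rw [classInner_irr_self (hirr φ hφ)]; exact one_ne_zero)
    (fun φ => if h : φ ∈ S then ε • μ ⟨φ, h⟩ else 0) ?_ ?_ hτ (d := fun _ => n)
    (fun φ hφ => (hdeg φ hφ a ha).trans hn) ha (show n ≠ 0 by omega) ⟨b, hb, hab.symm⟩ ?_
  · intro φ hφ
    rw [dif_pos hφ]
    rcases hε with rfl | rfl
    · simpa using (hμ ⟨φ, hφ⟩).isCharacter.isGeneralized
    · simpa using ((hμ ⟨φ, hφ⟩).isCharacter.isGeneralized).neg
  · intro φ hφ ψ hψ
    rw [dif_pos hφ, dif_pos hψ, classInner_smul_left, classInner_smul_right,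
      classInner_irr (hirr φ hφ) (hirr ψ hψ), classInner_irr (hμ _) (hμ _)]
    rcases hε with rfl | rfl <;> simp [hμinj.eq_iff]
  · intro φ hφ
    rw [dif_pos hφ, dif_pos ha, ← smul_sub, ← smul_sub, hτ.map_natCast_smul (hmem φ hφ a ha),
      ← smul_sub]
    exact congrArg _ (hτμ ⟨φ, hφ⟩)

/-- On a conjugate pair the extension may be replaced by minus the extension at the conjugate. -/
theorem coherent_swap {φ : N → ℂ} (hφ : IsIrrCharacter N φ) (hφc : IsIrrCharacter N (conjFun φ))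
    (hne : conjFun φ ≠ φ) {X : Set (N → ℂ)} (hX : X = {φ, conjFun φ}) {σ : (N → ℂ) → (G → ℂ)}
    (hσ : IsLinearIsometryOn (zspan X) σ) :
    IsLinearIsometryOn (zspan X) (fun θ => -σ (conjFun θ)) ∧
      ∀ θ ∈ zspanOn X ({1}ᶜ : Set N), -σ (conjFun θ) = σ θ := by
  classical
  have hXf : X = (↑({φ, conjFun φ} : Finset (N → ℂ)) : Set (N → ℂ)) := by rw [hX]; simp
  have hrep : ∀ θ ∈ zspan X, ∃ c : (N → ℂ) → ℤ,
      θ = (c φ : ℂ) • φ + (c (conjFun φ) : ℂ) • conjFun φ := by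
    intro θ hθ
    rw [hXf] at hθ
    obtain ⟨c, rfl⟩ := mem_zspan_finset hθ
    exact ⟨c, Finset.sum_pair hne.symm⟩
  have hconj : ∀ θ ∈ zspan X, conjFun θ ∈ zspan X := by
    intro θ hθ
    obtain ⟨c, rfl⟩ := hrep θ hθ
    have e : conjFun ((c φ : ℂ) • φ + (c (conjFun φ) : ℂ) • conjFun φ) =
        (c φ : ℂ) • conjFun φ + (c (conjFun φ) : ℂ) • φ := by
      funext x; simp [conjFun]
    rw [e]
    exact zspan_add (zspan_intCast_smul (mem_zspan_self (by simp [hX])) _)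
      (zspan_intCast_smul (mem_zspan_self (by simp [hX])) _)
  have hgen : ∀ θ ∈ zspan X, IsGeneralizedCharacter N θ := by
    intro θ hθ
    obtain ⟨c, rfl⟩ := hrep θ hθ
    exact (hφ.isCharacter.isGeneralized.intCast_smul _).add
      (hφc.isCharacter.isGeneralized.intCast_smul _)
  refine ⟨⟨fun a ha b hb => ?_, fun a ha m => ?_, fun a ha b hb => ?_, fun a ha => ?_⟩, fun θ hθ => ?_⟩
  · have e : conjFun (a + b) = conjFun a + conjFun b := by funext x; simp [conjFun]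
    show -σ (conjFun (a + b)) = -σ (conjFun a) + -σ (conjFun b)
    rw [e, hσ.1 _ (hconj a ha) _ (hconj b hb), neg_add]
  · have e : conjFun (m • a) = m • conjFun a := by funext x; simp [conjFun]
    show -σ (conjFun (m • a)) = m • -σ (conjFun a)
    rw [e, hσ.2.1 _ (hconj a ha), smul_neg]
  · have e : classInner (conjFun a) (conjFun b) = conj (classInner a b) := by
      simp [classInner, conjFun, map_sum]
    obtain ⟨m, hm⟩ := (hgen a ha).exists_int_classInner (hgen b hb)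
    rw [classInner_neg_left, classInner_neg_right, neg_neg, hσ.2.2.1 _ (hconj a ha) _ (hconj b hb), e,
      hm, map_intCast]
  · exact (hσ.2.2.2 _ (hconj a ha)).neg
  · obtain ⟨h1, h2⟩ := mem_zspanOn_one.mp hθ
    obtain ⟨c, rfl⟩ := hrep θ h1
    obtain ⟨n, hn0, hn⟩ := hφ.exists_degree
    simp only [Pi.add_apply, Pi.smul_apply, smul_eq_mul, conjFun, hn, Complex.conj_natCast] at h2
    rw [← add_mul] at h2
    have h3 : (c φ : ℂ) + (c (conjFun φ) : ℂ) = 0 :=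
      (mul_eq_zero.mp h2).resolve_right (Nat.cast_ne_zero.mpr (by omega))
    have e : conjFun ((c φ : ℂ) • φ + (c (conjFun φ) : ℂ) • conjFun φ) =
        (-1 : ℤ) • ((c φ : ℂ) • φ + (c (conjFun φ) : ℂ) • conjFun φ) := by
      funext x
      simp only [conjFun, Pi.add_apply, Pi.smul_apply, smul_eq_mul, map_add, map_mul, map_intCast,
        Complex.conj_conj, neg_smul, one_smul, Pi.neg_apply]
      linear_combination ((starRingEnd ℂ) (φ x) + φ x) * h3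
    rw [e, hσ.2.1 _ h1, neg_smul, one_smul, neg_neg]

/-- An integer quadratic in one variable with a leading coefficient at least two. -/
theorem glue_quadratic {x : ℤ} {M : ℕ} (hM : 2 ≤ M) :
    0 ≤ x ^ 2 * M - 2 * x ∧ (x ^ 2 * M - 2 * x = 0 → x = 0 ∨ (x = 1 ∧ M = 2)) := by
  have hM' : (2 : ℤ) ≤ M := by exact_mod_cast hM
  rcases le_or_gt x 0 with hx | hx
  · refine ⟨by nlinarith [sq_nonneg x], fun h => Or.inl ?_⟩
    by_contra h0
    have : 0 < x ^ 2 := by positivity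
    nlinarith
  · refine ⟨by nlinarith, fun h => Or.inr ?_⟩
    have h1 : x * M = 2 := by
      have : x * (x * M - 2) = 0 := by linarith
      rcases mul_eq_zero.mp this with h' | h' <;> omega
    have h2 : x = 1 := by nlinarith
    subst h2
    exact ⟨rfl, by omega⟩

set_option maxHeartbeats 1000000 in
/-- Two coherent sets are jointly coherent when the coefficients of the linking element at the
irreducible characters orthogonal to the first are divisible by the ratio of the degrees. -/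
theorem coherent_glue {S : Set (N → ℂ)} (X Y : Finset (N → ℂ)) (hirr : ∀ ξ ∈ S, IsIrrCharacter N ξ)
    (hXS : ↑X ⊆ S) (hYS : ↑Y ⊆ S) (hXY : Disjoint X Y)
    {τ : (N → ℂ) → (G → ℂ)} (hτ : IsLinearIsometryOn (zspanOn S {1}ᶜ) τ)
    (hτ1 : ∀ α ∈ zspanOn S {1}ᶜ, τ α 1 = 0)
    {σ ρ : (N → ℂ) → (G → ℂ)} (hσ : IsLinearIsometryOn (zspan (↑X : Set (N → ℂ))) σ)
    (hσα : ∀ θ ∈ zspanOn (↑X : Set (N → ℂ)) {1}ᶜ, σ θ = τ θ)
    (hρ : IsLinearIsometryOn (zspan (↑Y : Set (N → ℂ))) ρ)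
    (hρα : ∀ θ ∈ zspanOn (↑Y : Set (N → ℂ)) {1}ᶜ, ρ θ = τ θ)
    {φ₁ η : N → ℂ} (hφ₁ : φ₁ ∈ X) (hη : η ∈ Y)
    (hφc : conjFun φ₁ ∈ X) (hφne : conjFun φ₁ ≠ φ₁) (hηc : conjFun η ∈ Y) (hηne : conjFun η ≠ η)
    (A B : (N → ℂ) → ℕ) (hA : ∀ φ ∈ X, φ 1 = (A φ : ℂ) * φ₁ 1) (hB : ∀ ψ ∈ Y, ψ 1 = (B ψ : ℂ) * η 1)
    (a : ℕ) (ha : φ₁ 1 = (a : ℂ) * η 1)
    (hdvd : ∀ ξ : G → ℂ, IsIrrCharacter G ξ → (∀ φ ∈ X, classInner (σ φ) ξ = 0) →
      ∃ z : ℤ, classInner (τ (φ₁ - (a : ℂ) • η)) ξ = (a : ℂ) * z) :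
    IsCoherent ((↑X : Set (N → ℂ)) ∪ ↑Y) {1}ᶜ τ := by
  classical
  have hXY' : Disjoint (↑X : Set (N → ℂ)) ↑Y := Finset.disjoint_coe.mpr hXY
  have hX2 : ∃ u ∈ (↑X : Set (N → ℂ)), ∃ v ∈ (↑X : Set (N → ℂ)), u ≠ v :=
    ⟨_, hφc, φ₁, hφ₁, hφne⟩
  have hY2 : ∃ u ∈ (↑Y : Set (N → ℂ)), ∃ v ∈ (↑Y : Set (N → ℂ)), u ≠ v :=
    ⟨_, hηc, η, hη, hηne⟩
  have hcross := (coherent_union_irr S _ _ hirr hXS hYS hXY' hX2 hY2 τ hτ hτ1 σ ρ hσ hσα hρ hρα).1
  obtain ⟨dη, hdη0, hdη⟩ := (hirr η (hYS hη)).exists_degree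
  obtain ⟨dφ, hdφ0, hdφ⟩ := (hirr φ₁ (hXS hφ₁)).exists_degree
  have hnXY : ∀ φ ∈ X, ∀ ψ ∈ Y, classInner φ ψ = 0 := fun φ hφ ψ hψ =>
    classInner_irr_ne (hirr φ (hXS hφ)) (hirr ψ (hYS hψ)) fun e =>
      Finset.disjoint_left.mp hXY hφ (e ▸ hψ)
  set w := φ₁ - (a : ℂ) • η with hwdef
  have hw : w ∈ zspanOn S ({1}ᶜ : Set N) := mem_zspanOn_one.mpr
    ⟨zspan_sub (mem_zspan_self (hXS hφ₁)) (zspan_natCast_smul (mem_zspan_self (hYS hη)) _),
      by simp [hwdef, ha]⟩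
  have hgenσ : ∀ φ ∈ X, IsGeneralizedCharacter G (σ φ) := fun φ h => hσ.2.2.2 _ (mem_zspan_self h)
  have hgenρ : ∀ ψ ∈ Y, IsGeneralizedCharacter G (ρ ψ) := fun ψ h => hρ.2.2.2 _ (mem_zspan_self h)
  have hipσ : ∀ φ ∈ X, ∀ ψ ∈ X, classInner (σ φ) (σ ψ) = if φ = ψ then 1 else 0 := fun φ hφ ψ hψ => by
    rw [hσ.2.2.1 _ (mem_zspan_self hφ) _ (mem_zspan_self hψ), classInner_irr (hirr φ (hXS hφ)) (hirr ψ (hXS hψ))]
  have hipρ : ∀ φ ∈ Y, ∀ ψ ∈ Y, classInner (ρ φ) (ρ ψ) = if φ = ψ then 1 else 0 := fun φ hφ ψ hψ => by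
    rw [hρ.2.2.1 _ (mem_zspan_self hφ) _ (mem_zspan_self hψ), classInner_irr (hirr φ (hYS hφ)) (hirr ψ (hYS hψ))]
  have hwgen : IsGeneralizedCharacter G (τ w) := hτ.2.2.2 _ hw
  -- the coefficients on `X`
  obtain ⟨x, hx⟩ : ∃ x : ℤ, classInner (τ w) (σ φ₁) = 1 - (x : ℂ) := by
    obtain ⟨c, hc⟩ := hwgen.exists_int_classInner (hgenσ φ₁ hφ₁)
    exact ⟨1 - c, by rw [hc]; push_cast; ring⟩
  have hcX : ∀ φ ∈ X, classInner (τ w) (σ φ) = ((if φ = φ₁ then 1 else 0) - x * A φ : ℤ) := by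
    intro φ hφ
    have hA1 : A φ₁ = 1 := by
      have h := hA φ₁ hφ₁
      rw [hdφ] at h
      have h' : ((A φ₁ * dφ : ℕ) : ℂ) = (dφ : ℂ) := by push_cast; exact h.symm
      exact Nat.eq_of_mul_eq_mul_right (by omega : 0 < dφ) ((Nat.cast_inj.mp h').trans (one_mul dφ).symm)
    by_cases h : φ = φ₁
    · subst h; rw [if_pos rfl, hA1, hx]; push_cast; ring
    · rw [if_neg h]
      have hp : φ - (A φ : ℂ) • φ₁ ∈ zspanOn (↑X : Set (N → ℂ)) ({1}ᶜ : Set N) := mem_zspanOn_one.mpr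
        ⟨zspan_sub (mem_zspan_self hφ) (zspan_natCast_smul (mem_zspan_self hφ₁) _), by simp [hA φ hφ]⟩
      have h1 := hτ.2.2.1 _ hw _ (zspanOn_mono hXS _ hp)
      rw [← hσα _ hp, hσ.map_sub' (mem_zspan_self hφ) (zspan_natCast_smul (mem_zspan_self hφ₁) _)
        (zspan_zsmul (zspan_natCast_smul (mem_zspan_self hφ₁) _) _), hσ.map_natCast_smul (mem_zspan_self hφ₁)] at h1
      simp only [hwdef, classInner_sub_left (G := N), classInner_sub_right, classInner_smul_left (G := N),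
        classInner_smul_right, Complex.conj_natCast, classInner_irr_self (hirr φ₁ (hXS hφ₁)),
        classInner_irr_ne (hirr φ₁ (hXS hφ₁)) (hirr φ (hXS hφ)) (Ne.symm h),
        classInner_symm_zero (hnXY φ hφ η hη), classInner_symm_zero (hnXY φ₁ hφ₁ η hη)] at h1
      rw [← hwdef, hx] at h1
      push_cast
      linear_combination h1
  -- the coefficients on `Y`
  have hdvdY : ∀ ψ ∈ Y, ∃ z : ℤ, classInner (τ w) (ρ ψ) = (a : ℂ) * z := by
    intro ψ hψ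
    obtain ⟨ε, μ, hε, hμ⟩ := exists_signed_irr_of_norm_one (hgenρ ψ hψ) (by rw [hipρ ψ hψ ψ hψ, if_pos rfl])
    obtain ⟨z, hz⟩ := hdvd μ μ.2 fun φ hφ => by
      have h := hcross φ hφ ψ hψ
      rw [hμ, classInner_smul_right, map_intCast] at h
      refine (mul_eq_zero.mp h).resolve_left ?_
      rcases hε with rfl | rfl <;> simp
    exact ⟨ε * z, by rw [hμ, classInner_smul_right, map_intCast, hz]; push_cast; ring⟩
  obtain ⟨y, hy⟩ : ∃ y : ℤ, classInner (τ w) (ρ η) = (a : ℂ) * ((y : ℂ) - 1) := by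
    obtain ⟨z, hz⟩ := hdvdY η hη
    exact ⟨z + 1, by rw [hz]; push_cast; ring⟩
  have hcY : ∀ ψ ∈ Y, classInner (τ w) (ρ ψ) = (((a : ℤ) * (y * B ψ - if ψ = η then 1 else 0) : ℤ) : ℂ) := by
    intro ψ hψ
    have hB1 : B η = 1 := by
      have h := hB η hη
      rw [hdη] at h
      have h' : ((B η * dη : ℕ) : ℂ) = (dη : ℂ) := by push_cast; exact h.symm
      exact Nat.eq_of_mul_eq_mul_right (by omega : 0 < dη) ((Nat.cast_inj.mp h').trans (one_mul dη).symm)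
    by_cases h : ψ = η
    · subst h; rw [if_pos rfl, hB1, hy]; push_cast; ring
    · rw [if_neg h]
      have hp : ψ - (B ψ : ℂ) • η ∈ zspanOn (↑Y : Set (N → ℂ)) ({1}ᶜ : Set N) := mem_zspanOn_one.mpr
        ⟨zspan_sub (mem_zspan_self hψ) (zspan_natCast_smul (mem_zspan_self hη) _), by simp [hB ψ hψ]⟩
      have h1 := hτ.2.2.1 _ hw _ (zspanOn_mono hYS _ hp)
      rw [← hρα _ hp, hρ.map_sub' (mem_zspan_self hψ) (zspan_natCast_smul (mem_zspan_self hη) _)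
        (zspan_zsmul (zspan_natCast_smul (mem_zspan_self hη) _) _), hρ.map_natCast_smul (mem_zspan_self hη)] at h1
      simp only [hwdef, classInner_sub_left (G := N), classInner_sub_right, classInner_smul_left (G := N),
        classInner_smul_right, Complex.conj_natCast, classInner_irr_self (hirr η (hYS hη)),
        classInner_irr_ne (hirr η (hYS hη)) (hirr ψ (hYS hψ)) (Ne.symm h),
        hnXY φ₁ hφ₁ ψ hψ, hnXY φ₁ hφ₁ η hη] at h1
      rw [← hwdef, hy] at h1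
      push_cast
      linear_combination h1
  -- project onto the images
  have hinjσ : Set.InjOn σ ↑X := fun u hu v hv h => by
    by_contra hn
    have h1 := hipσ u hu v hv
    rw [← h, hipσ u hu u hu, if_pos rfl, if_neg hn] at h1
    exact one_ne_zero h1
  have hinjρ : Set.InjOn ρ ↑Y := fun u hu v hv h => by
    by_contra hn
    have h1 := hipρ u hu v hv
    rw [← h, hipρ u hu u hu, if_pos rfl, if_neg hn] at h1
    exact one_ne_zero h1
  have hdis : Disjoint (X.image σ) (Y.image ρ) := by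
    rw [Finset.disjoint_left]
    intro f hf hf'
    obtain ⟨u, hu, rfl⟩ := Finset.mem_image.mp hf
    obtain ⟨v, hv, e⟩ := Finset.mem_image.mp hf'
    have h1 := hcross u hu v hv
    rw [e, hipσ u hu u hu, if_pos rfl] at h1
    exact one_ne_zero h1
  obtain ⟨b, w', hb, hw'gen, hdec, -, hnorm⟩ := bessel_int (X.image σ ∪ Y.image ρ)
    (fun f hf f' hf' => by
      simp only [Finset.mem_union, Finset.mem_image] at hf hf'
      rcases hf with ⟨u, hu, rfl⟩ | ⟨u, hu, rfl⟩ <;> rcases hf' with ⟨v, hv, rfl⟩ | ⟨v, hv, rfl⟩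
      · rw [hipσ u hu v hv]; exact if_congr ⟨fun h => h ▸ rfl, fun h => hinjσ hu hv h⟩ rfl rfl
      · rw [hcross u hu v hv, if_neg fun e : σ u = ρ v => Finset.disjoint_left.mp hdis
          (Finset.mem_image_of_mem σ hu) (e.symm ▸ Finset.mem_image_of_mem ρ hv)]
      · rw [classInner_symm_zero (hcross v hv u hu), if_neg fun e : ρ u = σ v => Finset.disjoint_left.mp hdis
          (Finset.mem_image_of_mem σ hv) (e ▸ Finset.mem_image_of_mem ρ hu)]
      · rw [hipρ u hu v hv]; exact if_congr ⟨fun h => h ▸ rfl, fun h => hinjρ hu hv h⟩ rfl rfl)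
    (fun f hf => by
      simp only [Finset.mem_union, Finset.mem_image] at hf
      rcases hf with ⟨u, hu, rfl⟩ | ⟨u, hu, rfl⟩
      exacts [hgenσ u hu, hgenρ u hu]) hwgen
  rw [Finset.sum_union hdis, Finset.sum_image hinjσ, Finset.sum_image hinjρ] at hdec hnorm
  have hbX : ∀ φ ∈ X, b (σ φ) = (if φ = φ₁ then 1 else 0) - x * A φ := fun φ hφ => by
    have h := hb _ (Finset.mem_union_left _ (Finset.mem_image_of_mem σ hφ))
    rw [hcX φ hφ] at h
    exact (Int.cast_inj.mp h).symm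
  have hbY : ∀ ψ ∈ Y, b (ρ ψ) = (a : ℤ) * (y * B ψ - if ψ = η then 1 else 0) := fun ψ hψ => by
    have h := hb _ (Finset.mem_union_right _ (Finset.mem_image_of_mem ρ hψ))
    rw [hcY ψ hψ] at h
    exact (Int.cast_inj.mp h).symm
  obtain ⟨m, hm⟩ := exists_nat_norm hw'gen
  have hA1 : A φ₁ = 1 := by
    have := hbX φ₁ hφ₁
    have h := hA φ₁ hφ₁
    rw [hdφ] at h
    have h' : ((A φ₁ * dφ : ℕ) : ℂ) = (dφ : ℂ) := by push_cast; exact h.symm
    exact Nat.eq_of_mul_eq_mul_right (by omega : 0 < dφ) ((Nat.cast_inj.mp h').trans (one_mul dφ).symm)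
  have hB1 : B η = 1 := by
    have h := hB η hη
    rw [hdη] at h
    have h' : ((B η * dη : ℕ) : ℂ) = (dη : ℂ) := by push_cast; exact h.symm
    exact Nat.eq_of_mul_eq_mul_right (by omega : 0 < dη) ((Nat.cast_inj.mp h').trans (one_mul dη).symm)
  have hAc : A (conjFun φ₁) = 1 := by
    have h := hA _ hφc
    rw [conjFun, hdφ, Complex.conj_natCast] at h
    have h' : ((A (conjFun φ₁) * dφ : ℕ) : ℂ) = (dφ : ℂ) := by push_cast; exact h.symm
    exact Nat.eq_of_mul_eq_mul_right (by omega : 0 < dφ) ((Nat.cast_inj.mp h').trans (one_mul dφ).symm)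
  have hBc : B (conjFun η) = 1 := by
    have h := hB _ hηc
    rw [conjFun, hdη, Complex.conj_natCast] at h
    have h' : ((B (conjFun η) * dη : ℕ) : ℂ) = (dη : ℂ) := by push_cast; exact h.symm
    exact Nat.eq_of_mul_eq_mul_right (by omega : 0 < dη) ((Nat.cast_inj.mp h').trans (one_mul dη).symm)
  set NA := ∑ φ ∈ X, A φ ^ 2 with hNA
  set MB := ∑ ψ ∈ Y, B ψ ^ 2 with hMB
  have hNA2 : 2 ≤ NA := by
    have h := Finset.sum_le_sum_of_subset (f := fun φ => A φ ^ 2)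
      (Finset.insert_subset hφc (Finset.singleton_subset_iff.mpr hφ₁))
    rw [Finset.sum_pair hφne, hAc, hA1] at h
    simpa [hNA] using h
  have hMB2 : 2 ≤ MB := by
    have h := Finset.sum_le_sum_of_subset (f := fun φ => B φ ^ 2)
      (Finset.insert_subset hηc (Finset.singleton_subset_iff.mpr hη))
    rw [Finset.sum_pair hηne, hBc, hB1] at h
    simpa [hMB] using h
  have hsX : ∑ φ ∈ X, b (σ φ) * b (σ φ) = 1 - 2 * x + x ^ 2 * NA := by
    rw [Finset.sum_congr rfl (g := fun φ => (if φ = φ₁ then 1 - 2 * x else 0) + x ^ 2 * ((A φ : ℤ) ^ 2))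
      fun φ hφ => ?_, Finset.sum_add_distrib, Finset.sum_ite_eq' X φ₁, if_pos hφ₁, ← Finset.mul_sum, hNA]
    · push_cast; ring
    · rw [hbX φ hφ]
      by_cases h : φ = φ₁
      · subst h; rw [if_pos rfl, if_pos rfl, hA1]; push_cast; ring
      · rw [if_neg h, if_neg h]; ring
  have hsY : ∑ ψ ∈ Y, b (ρ ψ) * b (ρ ψ) = (a : ℤ) ^ 2 * (1 - 2 * y + y ^ 2 * MB) := by
    rw [Finset.sum_congr rfl (g := fun ψ => (if ψ = η then (a : ℤ) ^ 2 * (1 - 2 * y) else 0) +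
      (a : ℤ) ^ 2 * y ^ 2 * ((B ψ : ℤ) ^ 2))
      fun ψ hψ => ?_, Finset.sum_add_distrib, Finset.sum_ite_eq' Y η, if_pos hη, ← Finset.mul_sum, hMB]
    · push_cast; ring
    · rw [hbY ψ hψ]
      by_cases h : ψ = η
      · subst h; rw [if_pos rfl, if_pos rfl, hB1]; push_cast; ring
      · rw [if_neg h, if_neg h]; ring
  have hww : classInner (τ w) (τ w) = (((1 : ℤ) + (a : ℤ) ^ 2 : ℤ) : ℂ) := by
    rw [hτ.2.2.1 _ hw _ hw, hwdef, classInner_sub_left, classInner_sub_right, classInner_sub_right,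
      classInner_smul_left, classInner_smul_left, classInner_smul_right, classInner_smul_right,
      Complex.conj_natCast, classInner_irr_self (hirr φ₁ (hXS hφ₁)), classInner_irr_self (hirr η (hYS hη)),
      hnXY φ₁ hφ₁ η hη, classInner_symm_zero (hnXY φ₁ hφ₁ η hη)]
    push_cast
    ring
  have hmain : (1 : ℤ) + (a : ℤ) ^ 2 = (1 - 2 * x + x ^ 2 * NA) + (a : ℤ) ^ 2 * (1 - 2 * y + y ^ 2 * MB) + m := by
    rw [← hsX, ← hsY]
    apply Int.cast_injective (α := ℂ)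
    rw [← hww, hnorm, hm]
    push_cast
    ring
  have ha0 : 0 < a := by
    refine Nat.pos_of_ne_zero fun h => (hirr φ₁ (hXS hφ₁)).apply_one_ne_zero ?_
    rw [ha, h, Nat.cast_zero, zero_mul]
  obtain ⟨hq1, hq1'⟩ := glue_quadratic (x := x) hNA2
  obtain ⟨hq2, hq2'⟩ := glue_quadratic (x := y) hMB2
  have hq2a : 0 ≤ (a : ℤ) ^ 2 * (y ^ 2 * MB - 2 * y) := mul_nonneg (sq_nonneg _) hq2
  have hm0 : m = 0 := by
    have : (m : ℤ) = 0 := by linarith
    exact_mod_cast this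
  have hxcase := hq1' (by linarith)
  have hycase := hq2' (by
    have : (a : ℤ) ^ 2 * (y ^ 2 * MB - 2 * y) = 0 := by linarith
    exact (mul_eq_zero.mp this).resolve_left (by positivity))
  have hw'0 : w' = 0 := eq_zero_of_classInner_self (by rw [hm, hm0, Nat.cast_zero])
  rw [hw'0, add_zero] at hdec
  -- a two element set is a conjugate pair
  have hpair : ∀ (Z : Finset (N → ℂ)) (C : (N → ℂ) → ℕ) (u : N → ℂ), u ∈ Z → conjFun u ∈ Z → conjFun u ≠ u →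
      C u = 1 → C (conjFun u) = 1 → (∀ v ∈ Z, C v ≠ 0) → ∑ v ∈ Z, C v ^ 2 = 2 →
      (↑Z : Set (N → ℂ)) = {u, conjFun u} := by
    intro Z C u hu huc hune hC1 hC2 hC0 hsum
    ext v
    simp only [Finset.mem_coe, Set.mem_insert_iff, Set.mem_singleton_iff]
    refine ⟨fun hv => ?_, fun h => by rcases h with rfl | rfl <;> assumption⟩
    by_contra hne
    push Not at hne
    have h := Finset.sum_le_sum_of_subset (f := fun v => C v ^ 2)
      (show ({v, u, conjFun u} : Finset (N → ℂ)) ⊆ Z from Finset.insert_subset hv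
        (Finset.insert_subset hu (Finset.singleton_subset_iff.mpr huc)))
    rw [Finset.sum_insert (by simp [hne.1, hne.2]), Finset.sum_pair hune.symm, hC1, hC2, hsum] at h
    have := Nat.pos_of_ne_zero (hC0 v hv)
    nlinarith
  have hA0 : ∀ φ ∈ X, A φ ≠ 0 := fun φ hφ h => (hirr φ (hXS hφ)).apply_one_ne_zero (by rw [hA φ hφ, h]; simp)
  have hB0 : ∀ ψ ∈ Y, B ψ ≠ 0 := fun ψ hψ h => (hirr ψ (hYS hψ)).apply_one_ne_zero (by rw [hB ψ hψ, h]; simp)
  obtain ⟨σ', hσ', hσ'α, eX⟩ : ∃ σ' : (N → ℂ) → (G → ℂ), IsLinearIsometryOn (zspan (↑X : Set (N → ℂ))) σ' ∧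
      (∀ θ ∈ zspanOn (↑X : Set (N → ℂ)) {1}ᶜ, σ' θ = τ θ) ∧ ∑ φ ∈ X, (b (σ φ) : ℂ) • σ φ = σ' φ₁ := by
    rcases hxcase with hx0 | ⟨hx1, hN2⟩
    · refine ⟨σ, hσ, hσα, ?_⟩
      rw [Finset.sum_eq_single_of_mem φ₁ hφ₁ fun φ hφ hne => by rw [hbX φ hφ, if_neg hne, hx0]; simp,
        hbX φ₁ hφ₁, if_pos rfl, hx0]
      simp
    · have hXe := hpair X A φ₁ hφ₁ hφc hφne hA1 hAc hA0 hN2
      obtain ⟨h1, h2⟩ := coherent_swap (hirr _ (hXS hφ₁)) (hirr _ (hXS hφc)) hφne hXe hσ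
      refine ⟨_, h1, fun θ hθ => (h2 θ hθ).trans (hσα θ hθ), ?_⟩
      have hXf : X = {φ₁, conjFun φ₁} := Finset.coe_injective (by rw [hXe]; simp)
      rw [Finset.sum_eq_single_of_mem (conjFun φ₁) hφc fun φ hφ hne => ?_, hbX _ hφc, if_neg hφne, hx1, hAc]
      · simp
      · rw [hXf, Finset.mem_insert, Finset.mem_singleton] at hφ
        rcases hφ with rfl | rfl
        · rw [hbX _ hφ₁, if_pos rfl, hx1, hA1]; simp
        · exact absurd rfl hne
  obtain ⟨ρ', hρ', hρ'α, eY⟩ : ∃ ρ' : (N → ℂ) → (G → ℂ), IsLinearIsometryOn (zspan (↑Y : Set (N → ℂ))) ρ' ∧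
      (∀ θ ∈ zspanOn (↑Y : Set (N → ℂ)) {1}ᶜ, ρ' θ = τ θ) ∧
      ∑ ψ ∈ Y, (b (ρ ψ) : ℂ) • ρ ψ = -((a : ℂ) • ρ' η) := by
    rcases hycase with hy0 | ⟨hy1, hM2⟩
    · refine ⟨ρ, hρ, hρα, ?_⟩
      rw [Finset.sum_eq_single_of_mem η hη fun ψ hψ hne => by rw [hbY ψ hψ, if_neg hne, hy0]; simp,
        hbY η hη, if_pos rfl, hy0]
      simp
    · have hYe := hpair Y B η hη hηc hηne hB1 hBc hB0 hM2
      obtain ⟨h1, h2⟩ := coherent_swap (hirr _ (hYS hη)) (hirr _ (hYS hηc)) hηne hYe hρ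
      refine ⟨_, h1, fun θ hθ => (h2 θ hθ).trans (hρα θ hθ), ?_⟩
      have hYf : Y = {η, conjFun η} := Finset.coe_injective (by rw [hYe]; simp)
      rw [Finset.sum_eq_single_of_mem (conjFun η) hηc fun ψ hψ hne => ?_, hbY _ hηc, if_neg hηne, hy1, hBc]
      · simp
      · rw [hYf, Finset.mem_insert, Finset.mem_singleton] at hψ
        rcases hψ with rfl | rfl
        · rw [hbY _ hη, if_pos rfl, hy1, hB1]; simp
        · exact absurd rfl hne
  rw [eX, eY] at hdec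
  refine (coherent_union_irr S _ _ hirr hXS hYS hXY' hX2 hY2 τ hτ hτ1 σ' ρ' hσ' hσ'α hρ' hρ'α).2
    ⟨φ₁, hφ₁, η, hη, ?_⟩
  rw [show φ₁ 1 • η - η 1 • φ₁ = ((-(dη : ℤ) : ℤ) : ℂ) • w by
      rw [ha, hdη, hwdef]; push_cast; module,
    hτ.map_intCast_smul hw, hdec, ha, hdη]
  push_cast
  module

end Cfsg.Lib.Char
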