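import Cfsg.Agent.Lib.Char.Central

/-!
# Brauer's permutation lemma and real characters
-/

set_option autoImplicit false
set_option linter.unusedSectionVars false
set_option linter.style.haveILetI false

namespace Cfsg.Lib.Char

open Cfsg
open scoped ComplexConjugate

universe u

variable {G : Type u} [Group G] [Finite G]

/-- Brauer's permutation lemma. -/
theorem brauer_permutation (f : IrrCharacter G → IrrCharacter G)
    (h : ConjClasses G → ConjClasses G) (hh : Function.Bijective h)
    (hcompat : ∀ (χ : IrrCharacter G) (g g' : G), ConjClasses.mk g' = h (ConjClasses.mk g) →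
      ((f χ : IrrCharacter G) : G → ℂ) g' = (χ : G → ℂ) g) :
    Nat.card {χ : IrrCharacter G // f χ = χ} = Nat.card {C : ConjClasses G // h C = C} := by
  classical
  haveI := Fintype.ofFinite G
  haveI : Finite (ConjClasses G) := Quotient.finite _
  haveI := Fintype.ofFinite (ConjClasses G)
  set e := Equiv.ofBijective h hh with he
  have hout : ∀ (χ : IrrCharacter G) (g : G),
      ((f χ : IrrCharacter G) : G → ℂ) g = (χ : G → ℂ) (e.symm (ConjClasses.mk g)).out := by
    intro χ g
    refine hcompat χ _ g ?_
    rw [show ConjClasses.mk (e.symm (ConjClasses.mk g)).out = e.symm (ConjClasses.mk g) from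
      Quotient.out_eq _]
    exact (e.apply_symm_apply _).symm
  have hL : ∑ χ : IrrCharacter G,
      classInner ((f χ : IrrCharacter G) : G → ℂ) (χ : G → ℂ) =
      (Nat.card {χ : IrrCharacter G // f χ = χ} : ℂ) := by
    simp only [classInner_irr (Subtype.prop _) (Subtype.prop _)]
    rw [Nat.card_eq_fintype_card, Fintype.card_subtype, Finset.sum_boole]
    simp [Subtype.coe_inj]
  have hR : ∑ χ : IrrCharacter G,
      classInner ((f χ : IrrCharacter G) : G → ℂ) (χ : G → ℂ) =
      (Nat.card {C : ConjClasses G // h C = C} : ℂ) := by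
    simp only [classInner, ← Finset.mul_sum]
    rw [Finset.sum_comm]
    have hterm : ∀ g : G, ∑ χ : IrrCharacter G,
        ((f χ : IrrCharacter G) : G → ℂ) g * conj ((χ : G → ℂ) g) =
        if h (ConjClasses.mk g) = ConjClasses.mk g then
          (Nat.card G : ℂ) / ((classFinset g).card : ℂ) else 0 := by
      intro g
      simp only [hout]
      rw [column_orthogonality]
      have hiff : IsConj (e.symm (ConjClasses.mk g)).out g ↔
          h (ConjClasses.mk g) = ConjClasses.mk g := by
        rw [← ConjClasses.mk_eq_mk_iff_isConj,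
          show ConjClasses.mk (e.symm (ConjClasses.mk g)).out = e.symm (ConjClasses.mk g) from
            Quotient.out_eq _, Equiv.symm_apply_eq, eq_comm]
        rfl
      by_cases hfix : h (ConjClasses.mk g) = ConjClasses.mk g
      · rw [if_pos (hiff.mpr hfix), if_pos hfix]
        have h1 : e.symm (ConjClasses.mk g) = ConjClasses.mk g := by
          rw [Equiv.symm_apply_eq]; exact hfix.symm
        obtain ⟨c, hc⟩ := isConj_iff.mp (hiff.mpr hfix)
        have h2 : (classFinset (e.symm (ConjClasses.mk g)).out).card = (classFinset g).card := by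
          congr 1
          ext x
          simp only [mem_classFinset]
          exact ⟨fun hx => (hiff.mpr hfix).symm.trans hx, fun hx => (hiff.mpr hfix).trans hx⟩
        have h3 := (Subgroup.centralizer ({(e.symm (ConjClasses.mk g)).out} : Set G)).card_mul_index
        rw [← card_classFinset, h2] at h3
        rw [eq_div_iff (Nat.cast_ne_zero.mpr (Finset.card_ne_zero.mpr
          ⟨g, mem_classFinset.mpr (IsConj.refl g)⟩)), ← h3]
        push_cast
        ring
      · rw [if_neg (fun h' => hfix (hiff.mp h')), if_neg hfix]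
    simp only [hterm]
    rw [← Finset.sum_fiberwise Finset.univ ConjClasses.mk, Finset.mul_sum]
    have hC : ∀ C : ConjClasses G,
        (Nat.card G : ℂ)⁻¹ * ∑ g ∈ Finset.univ.filter (fun g => ConjClasses.mk g = C),
          (if h (ConjClasses.mk g) = ConjClasses.mk g then
            (Nat.card G : ℂ) / ((classFinset g).card : ℂ) else 0) =
        if h C = C then 1 else 0 := by
      intro C
      obtain ⟨g₀, rfl⟩ := C.exists_rep
      have hset : (Finset.univ.filter fun x => ConjClasses.mk x = ConjClasses.mk g₀) =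
          classFinset g₀ := by
        ext x
        rw [Finset.mem_filter, mem_classFinset, ConjClasses.mk_eq_mk_iff_isConj]
        exact ⟨fun h => h.2.symm, fun h => ⟨Finset.mem_univ _, h.symm⟩⟩
      rw [hset]
      rw [Finset.sum_congr rfl (g := fun _ => if h (ConjClasses.mk g₀) = ConjClasses.mk g₀ then
        (Nat.card G : ℂ) / ((classFinset g₀).card : ℂ) else 0) fun x hx => ?_]
      · rw [Finset.sum_const, nsmul_eq_mul]
        split_ifs with hfix
        · have hN : ((classFinset g₀).card : ℂ) ≠ 0 := Nat.cast_ne_zero.mpr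
            (Finset.card_ne_zero.mpr ⟨g₀, mem_classFinset.mpr (IsConj.refl g₀)⟩)
          have hG := card_cast_ne_zero (G := G)
          field_simp
        · simp
      · have hx' := mem_classFinset.mp hx
        have h2 : classFinset x = classFinset g₀ := by
          ext y
          simp only [mem_classFinset]
          exact ⟨fun hy => hx'.trans hy, fun hy => hx'.symm.trans hy⟩
        rw [ConjClasses.mk_eq_mk_iff_isConj.mpr hx'.symm, h2]
    simp only [hC, Finset.sum_boole]
    rw [Nat.card_eq_fintype_card, Fintype.card_subtype]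
  exact_mod_cast hL.symm.trans hR

/-- Conjugation of irreducible characters. -/
noncomputable def irrConj (χ : IrrCharacter G) : IrrCharacter G :=
  haveI := Fintype.ofFinite G
  ⟨fun g => conj ((χ : G → ℂ) g), isIrrCharacter_conjFn χ.2⟩

theorem irrConj_eq_iff (χ : IrrCharacter G) :
    irrConj χ = χ ↔ ∀ g, ((χ : G → ℂ) g).im = 0 := by
  constructor
  · intro h g
    exact Complex.conj_eq_iff_im.mp (congrFun (congrArg Subtype.val h) g)
  · intro h
    exact Subtype.ext (funext fun g => Complex.conj_eq_iff_im.mpr (h g))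

/-- The inverse on conjugacy classes. -/
def classInv (C : ConjClasses G) : ConjClasses G :=
  Quotient.liftOn C (fun g => ConjClasses.mk g⁻¹) fun a b hab => by
    obtain ⟨c, hc⟩ := isConj_iff.mp hab
    exact ConjClasses.mk_eq_mk_iff_isConj.mpr (isConj_iff.mpr ⟨c, by rw [← hc]; group⟩)

theorem classInv_mk (g : G) : classInv (ConjClasses.mk g) = ConjClasses.mk g⁻¹ := rfl

/-- As many real characters as real classes. -/
theorem card_real_irr :
    Nat.card {χ : IrrCharacter G // ∀ g : G, ((χ : G → ℂ) g).im = 0} =
      Nat.card {C : ConjClasses G // ∀ g : G, ConjClasses.mk g = C → IsConj g g⁻¹} := by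
  have hh : Function.Bijective (classInv (G := G)) := Function.Involutive.bijective fun C => by
    obtain ⟨g, rfl⟩ := C.exists_rep
    simp [classInv_mk]
  rw [← Nat.card_congr (Equiv.subtypeEquivRight (irrConj_eq_iff (G := G))),
    brauer_permutation irrConj classInv hh fun χ g g' hg => ?_]
  · refine Nat.card_congr (Equiv.subtypeEquivRight fun C => ?_)
    constructor
    · rintro hC g rfl
      rw [classInv_mk, ConjClasses.mk_eq_mk_iff_isConj] at hC
      exact hC.symm
    · intro hC
      obtain ⟨g, rfl⟩ := C.exists_rep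
      rw [classInv_mk, ConjClasses.mk_eq_mk_iff_isConj]
      exact (hC g rfl).symm
  · rw [classInv_mk, ConjClasses.mk_eq_mk_iff_isConj] at hg
    obtain ⟨c, rfl⟩ := isConj_iff.mp hg.symm
    show conj ((χ : G → ℂ) _) = _
    rw [χ.2.isClassFunction, χ.2.isCharacter.apply_inv, Complex.conj_conj]

theorem eq_one_of_isConj_inv (hodd : Odd (Nat.card G)) {g : G} (h : IsConj g g⁻¹) : g = 1 := by
  obtain ⟨x, hx⟩ := isConj_iff.mp h
  have hx2 : Commute (x ^ 2) g := by
    have : x * x * g * (x * x)⁻¹ = g := by
      calc x * x * g * (x * x)⁻¹ = x * (x * g * x⁻¹) * x⁻¹ := by group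
        _ = x * g⁻¹ * x⁻¹ := by rw [hx]
        _ = (x * g * x⁻¹)⁻¹ := by group
        _ = g := by rw [hx, inv_inv]
    show x ^ 2 * g = g * x ^ 2
    rw [pow_two]
    exact mul_inv_eq_iff_eq_mul.mp this
  obtain ⟨k, hk⟩ := hodd
  have hxeq : (x ^ 2) ^ (k + 1) = x := by
    rw [← pow_mul, show 2 * (k + 1) = Nat.card G + 1 by omega, pow_succ, pow_card_eq_one', one_mul]
  have hc : Commute x g := hxeq ▸ hx2.pow_left (k + 1)
  have hg : g⁻¹ = g := by rw [← hx, hc.eq, mul_inv_cancel_right]
  have hg2 : g ^ 2 = 1 := by rw [pow_two]; exact mul_eq_one_iff_eq_inv.mpr hg.symm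
  have : orderOf g ∣ 1 := by
    have h1 : orderOf g ∣ 2 := orderOf_dvd_of_pow_eq_one hg2
    have h2 : orderOf g ∣ 2 * k + 1 := hk ▸ orderOf_dvd_natCard g
    have := Nat.dvd_gcd h1 h2
    simpa using this
  exact orderOf_eq_one_iff.mp (Nat.dvd_one.mp this)

/-- In odd order only the trivial irreducible character is real. -/
theorem real_irr_eq_one (hodd : Odd (Nat.card G)) (χ : IrrCharacter G)
    (hreal : ∀ g : G, ((χ : G → ℂ) g).im = 0) : (χ : G → ℂ) = fun _ => 1 := by
  haveI : Finite (ConjClasses G) := Quotient.finite _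
  have h1 : Nat.card {C : ConjClasses G // ∀ g : G, ConjClasses.mk g = C → IsConj g g⁻¹} ≤ 1 := by
    refine Finite.card_le_one_iff_subsingleton.mpr ⟨fun a b => ?_⟩
    obtain ⟨g, hg⟩ := a.1.exists_rep
    obtain ⟨g', hg'⟩ := b.1.exists_rep
    apply Subtype.ext
    rw [← hg, ← hg', eq_one_of_isConj_inv hodd (a.2 g hg), eq_one_of_isConj_inv hodd (b.2 g' hg')]
  rw [← card_real_irr] at h1
  haveI := Finite.card_le_one_iff_subsingleton.mp h1
  exact congrArg Subtype.val (congrArg Subtype.val (Subsingleton.elim
    (⟨χ, hreal⟩ : {χ : IrrCharacter G // ∀ g : G, ((χ : G → ℂ) g).im = 0})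
    ⟨⟨fun _ => 1, isIrrCharacter_one⟩, fun g => Complex.one_im⟩))

end Cfsg.Lib.Char
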