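import Mathlib

/-!
# Arrays of signed triples

Integer vectors of norm three, indexed by `I × J`, whose inner products are those of
`z i j - x i - y j`: they are such vectors. This is the combinatorial part of the existence of the
cyclic TI family of virtual characters.
-/

set_option autoImplicit false
set_option linter.unusedSectionVars false

namespace Cfsg.Lib.Char

open scoped Matrix

universe u v w

variable {ι : Type u} [Fintype ι] [DecidableEq ι]

/-- The support of an integer vector, as a finite set. -/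
def vsupp (v : ι → ℤ) : Finset ι := Finset.univ.filter fun x => v x ≠ 0

theorem mem_vsupp {v : ι → ℤ} {x : ι} : x ∈ vsupp v ↔ v x ≠ 0 := by simp [vsupp]

theorem injective_vec4 {X : Type v} {a b c e : X} (hab : a ≠ b) (hac : a ≠ c) (hae : a ≠ e)
    (hbc : b ≠ c) (hbe : b ≠ e) (hce : c ≠ e) : Function.Injective ![a, b, c, e] := by
  intro m m' h
  fin_cases m <;> fin_cases m' <;> first
    | rfl
    | (exfalso; simp at h; first
      | exact hab h | exact hab h.symm | exact hac h | exact hac h.symm | exact hae h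
      | exact hae h.symm | exact hbc h | exact hbc h.symm | exact hbe h | exact hbe h.symm
      | exact hce h | exact hce h.symm)

theorem norm_three_entry {v : ι → ℤ} (h : v ⬝ᵥ v = 3) (x : ι) :
    v x = -1 ∨ v x = 0 ∨ v x = 1 := by
  have hle : v x * v x ≤ 3 := h ▸ Finset.single_le_sum (f := fun y => v y * v y)
    (fun _ _ => mul_self_nonneg _) (Finset.mem_univ x)
  have h1 : -2 < v x := by nlinarith
  have h2 : v x < 2 := by nlinarith
  omega

theorem norm_three_card {v : ι → ℤ} (h : v ⬝ᵥ v = 3) : (vsupp v).card = 3 := by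
  have : (((vsupp v).card : ℕ) : ℤ) = 3 := by
    rw [← h, vsupp, dotProduct, Finset.card_eq_sum_ones, Nat.cast_sum, Finset.sum_filter]
    exact Finset.sum_congr rfl fun x _ => by
      rcases norm_three_entry h x with e | e | e <;> simp [e]
  exact_mod_cast this

theorem dot_eq_sum_inter (v w : ι → ℤ) : v ⬝ᵥ w = ∑ x ∈ vsupp v ∩ vsupp w, v x * w x := by
  rw [dotProduct]
  refine (Finset.sum_subset (Finset.subset_univ _) fun x _ hx => ?_).symm
  rw [Finset.mem_inter, mem_vsupp, mem_vsupp] at hx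
  by_cases h : v x = 0
  · rw [h, zero_mul]
  · rw [show w x = 0 by tauto, mul_zero]

/-- Inner product one: exactly one common entry, with the same sign. -/
theorem common_unique {v w : ι → ℤ} (hv : v ⬝ᵥ v = 3) (hw : w ⬝ᵥ w = 3) (h : v ⬝ᵥ w = 1)
    {d : ι → ℤ} (hd : ∀ x, d x ≠ 0) (hdv : v ⬝ᵥ d = w ⬝ᵥ d) :
    ∃ x, vsupp v ∩ vsupp w = {x} ∧ v x * w x = 1 := by
  have hC := dot_eq_sum_inter v w
  rw [h] at hC
  set C := vsupp v ∩ vsupp w with hCdef
  have hpm : ∀ x ∈ C, v x * w x = 1 ∨ v x * w x = -1 := fun x hx => by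
    rw [hCdef, Finset.mem_inter, mem_vsupp, mem_vsupp] at hx
    rcases norm_three_entry hv x with e | e | e <;> rcases norm_three_entry hw x with e' | e' | e' <;>
      simp_all
  have hdec : ∑ x ∈ C, v x * w x =
      (C.card : ℤ) - 2 * ((C.filter fun x => v x * w x = -1).card : ℤ) := by
    rw [Finset.card_eq_sum_ones, Finset.card_eq_sum_ones, Finset.sum_filter, Nat.cast_sum,
      Nat.cast_sum, Finset.mul_sum, ← Finset.sum_sub_distrib]
    exact Finset.sum_congr rfl fun x hx => by rcases hpm x hx with e | e <;> simp [e]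
  have hle : C.card ≤ 3 := (Finset.card_le_card Finset.inter_subset_left).trans (norm_three_card hv).le
  have hle2 : (C.filter fun x => v x * w x = -1).card ≤ C.card := Finset.card_filter_le _ _
  rw [hdec] at hC
  by_cases h1 : C.card = 1
  · obtain ⟨x, hx⟩ := Finset.card_eq_one.mp h1
    refine ⟨x, hx, ?_⟩
    have h0 := dot_eq_sum_inter v w
    rw [h, ← hCdef, hx, Finset.sum_singleton] at h0
    exact h0.symm
  exfalso
  have h3 : C.card = 3 ∧ (C.filter fun x => v x * w x = -1).card = 1 := by omega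
  have ev : C = vsupp v :=
    Finset.eq_of_subset_of_card_le Finset.inter_subset_left (by rw [norm_three_card hv]; omega)
  have ew : C = vsupp w :=
    Finset.eq_of_subset_of_card_le Finset.inter_subset_right (by rw [norm_three_card hw]; omega)
  obtain ⟨x, hx⟩ := Finset.card_eq_one.mp h3.2
  have hxC : x ∈ C ∧ v x * w x = -1 :=
    Finset.mem_filter.mp (hx.symm ▸ Finset.mem_singleton_self x)
  have hz : ∀ y, y ≠ x → (v y - w y) * d y = 0 := by
    intro y hy
    by_cases hyC : y ∈ C
    · have hne : v y * w y ≠ -1 := fun e =>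
        hy (Finset.mem_singleton.mp (hx ▸ Finset.mem_filter.mpr ⟨hyC, e⟩))
      have : v y = w y := by
        have e'' := (hpm y hyC).resolve_right hne
        rcases norm_three_entry hv y with e | e | e <;>
          rcases norm_three_entry hw y with e' | e' | e' <;> rw [e, e'] at e'' ⊢ <;> omega
      rw [this, sub_self, zero_mul]
    · rw [show v y = 0 from by_contra fun e => hyC (ev ▸ mem_vsupp.mpr e),
        show w y = 0 from by_contra fun e => hyC (ew ▸ mem_vsupp.mpr e)]
      simp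
  have hs : ∑ y, (v y - w y) * d y = (v x - w x) * d x :=
    Finset.sum_eq_single x (fun y _ hy => hz y hy) (by simp)
  have h0 : ∑ y, (v y - w y) * d y = 0 := by
    simp only [sub_mul, Finset.sum_sub_distrib]
    exact sub_eq_zero.mpr hdv
  rw [h0] at hs
  rcases mul_eq_zero.mp hs.symm with e | e
  · have h2 := hxC.2
    rw [show v x = w x by omega] at h2
    nlinarith [mul_self_nonneg (w x)]
  · exact hd x e

/-- The candidates for a vector with prescribed products against a non-sunflower quadruple. -/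
def tripleCands : ℕ → List (List ℤ) := fun j =>
  let tri : List ℤ := [-1, 0, 1]
  (tri.flatMap fun x => tri.flatMap fun a => tri.flatMap fun b => tri.flatMap fun c =>
    tri.flatMap fun p => tri.flatMap fun q => tri.flatMap fun r => [[x, a, b, c, p, q, r]]).filter
    fun t => decide ((t.map (fun z => z * z)).sum ≤ 3) &&
      decide (t.getD 0 0 + t.getD 1 0 + t.getD 4 0 = if j = 0 then 1 else 0) &&
      decide (t.getD 0 0 + t.getD 2 0 + t.getD 5 0 = if j = 1 then 1 else 0) &&
      decide (t.getD 0 0 + t.getD 3 0 + t.getD 6 0 = if j = 2 then 1 else 0) &&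
      decide (t.getD 1 0 + t.getD 2 0 + t.getD 3 0 = if j = 3 then 1 else 0)

/-- Two candidates can be completed to vectors with inner product one. -/
def tripleOK (s t : List ℤ) : Bool :=
  decide ((1 - (List.zipWith (· * ·) s t).sum).natAbs ≤ (3 - (s.map (fun z => z * z)).sum).toNat) &&
    decide ((1 - (List.zipWith (· * ·) s t).sum).natAbs ≤ (3 - (t.map (fun z => z * z)).sum).toNat)

theorem tripleCands_incompatible :
    (tripleCands 0).all (fun a => (tripleCands 1).all fun b => !tripleOK a b ||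
      (tripleCands 2).all fun c => !tripleOK a c || !tripleOK b c ||
        (tripleCands 3).all fun e => !tripleOK a e || !tripleOK b e || !tripleOK c e) = true := by
  decide +kernel

/-- Four pairwise meeting signed triples, together with a second row, have a common entry. -/
theorem four_sunflower (S T : Fin 4 → ι → ℤ) (d : ι → ℤ) (hd : ∀ x, d x ≠ 0)
    (hSd : ∀ k, S k ⬝ᵥ d = -1)
    (hSS : ∀ k, S k ⬝ᵥ S k = 3) (hS : ∀ k l, k ≠ l → S k ⬝ᵥ S l = 1)
    (hTT : ∀ k, T k ⬝ᵥ T k = 3) (hT : ∀ k l, k ≠ l → T k ⬝ᵥ T l = 1)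
    (hTS : ∀ j k, T j ⬝ᵥ S k = if j = k then 1 else 0) :
    ∃ x, ∀ k, S k x ≠ 0 := by
  by_contra hno
  push Not at hno
  have hc : ∀ k l, k ≠ l → ∃ x, vsupp (S k) ∩ vsupp (S l) = {x} ∧ S k x * S l x = 1 :=
    fun k l h => common_unique (hSS k) (hSS l) (hS k l h) hd (by rw [hSd, hSd])
  have huniq : ∀ k l x y, k ≠ l → S k x ≠ 0 → S l x ≠ 0 → S k y ≠ 0 → S l y ≠ 0 → x = y := by
    intro k l x y h a b c e
    obtain ⟨z, hz, -⟩ := hc k l h
    have hx : x ∈ vsupp (S k) ∩ vsupp (S l) := Finset.mem_inter.mpr ⟨mem_vsupp.mpr a, mem_vsupp.mpr b⟩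
    have hy : y ∈ vsupp (S k) ∩ vsupp (S l) := Finset.mem_inter.mpr ⟨mem_vsupp.mpr c, mem_vsupp.mpr e⟩
    rw [hz, Finset.mem_singleton] at hx hy
    rw [hx, hy]
  have hsame : ∀ k l x, S k x ≠ 0 → S l x ≠ 0 → S k x = S l x := by
    intro k l x a b
    by_cases h : k = l
    · rw [h]
    obtain ⟨z, hz, hp⟩ := hc k l h
    have hx : x ∈ vsupp (S k) ∩ vsupp (S l) := Finset.mem_inter.mpr ⟨mem_vsupp.mpr a, mem_vsupp.mpr b⟩
    rw [hz, Finset.mem_singleton] at hx
    rw [hx]
    rcases norm_three_entry (hSS k) z with e | e | e <;>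
      rcases norm_three_entry (hSS l) z with e' | e' | e' <;> rw [e, e'] at hp ⊢ <;> omega
  choose q hq using fun (p : {p : Fin 4 × Fin 4 // p.1 ≠ p.2}) => hc p.1.1 p.1.2 p.2
  have hqm : ∀ k l (h : k ≠ l), S k (q ⟨(k, l), h⟩) ≠ 0 ∧ S l (q ⟨(k, l), h⟩) ≠ 0 := by
    intro k l h
    have := (hq ⟨(k, l), h⟩).1.symm ▸ Finset.mem_singleton_self (q ⟨(k, l), h⟩)
    rw [Finset.mem_inter, mem_vsupp, mem_vsupp] at this
    exact this
  by_cases htri : ∃ x i j k, i ≠ j ∧ i ≠ k ∧ j ≠ k ∧ S i x ≠ 0 ∧ S j x ≠ 0 ∧ S k x ≠ 0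
  · -- a point in three of the triples
    obtain ⟨x, i, j, k, hij, hik, hjk, hi, hj, hk⟩ := htri
    obtain ⟨l, hli, hlj, hlk⟩ : ∃ l : Fin 4, l ≠ i ∧ l ≠ j ∧ l ≠ k := by
      have : ∀ i j k : Fin 4, ∃ l, l ≠ i ∧ l ≠ j ∧ l ≠ k := by decide
      exact this i j k
    obtain ⟨l', hl'⟩ := hno x
    have hl : S l x = 0 := by
      have h4 : ∀ i j k l m : Fin 4, i ≠ j → i ≠ k → j ≠ k → l ≠ i → l ≠ j → l ≠ k →
          m = i ∨ m = j ∨ m = k ∨ m = l := by decide
      rcases h4 i j k l l' hij hik hjk hli hlj hlk with e | e | e | e <;> subst e <;> tauto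
    obtain ⟨hai, hal⟩ := hqm i l hli.symm
    obtain ⟨hbj, hbl⟩ := hqm j l hlj.symm
    obtain ⟨hck, hcl⟩ := hqm k l hlk.symm
    set a := q ⟨(i, l), hli.symm⟩
    set b := q ⟨(j, l), hlj.symm⟩
    set c := q ⟨(k, l), hlk.symm⟩
    have hxa : x ≠ a := fun e => hal (e ▸ hl)
    have hxb : x ≠ b := fun e => hbl (e ▸ hl)
    have hxc : x ≠ c := fun e => hcl (e ▸ hl)
    have hab : a ≠ b := fun e => hxa (huniq i j x a hij hi hj hai (by rw [e]; exact hbj))
    have hac : a ≠ c := fun e => hxa (huniq i k x a hik hi hk hai (by rw [e]; exact hck))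
    have hbc : b ≠ c := fun e => hxb (huniq j k x b hjk hj hk hbj (by rw [e]; exact hck))
    have hthird : ∀ m y z, S m y ≠ 0 → S m z ≠ 0 → y ≠ z →
        ∃ r, r ≠ y ∧ r ≠ z ∧ S m r ≠ 0 ∧ vsupp (S m) = {y, z, r} := by
      intro m y z hy hz hyz
      have hsub : ({y, z} : Finset ι) ⊆ vsupp (S m) := by
        simp [Finset.insert_subset_iff, mem_vsupp, hy, hz]
      have hcard : (vsupp (S m) \ {y, z}).card = 1 := by
        rw [Finset.card_sdiff_of_subset hsub, norm_three_card (hSS m), Finset.card_pair hyz]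
      obtain ⟨r, hr⟩ := Finset.card_eq_one.mp hcard
      have hrm : r ∈ vsupp (S m) \ {y, z} := hr.symm ▸ Finset.mem_singleton_self r
      simp only [Finset.mem_sdiff, Finset.mem_insert, Finset.mem_singleton, not_or, mem_vsupp] at hrm
      refine ⟨r, hrm.2.1, hrm.2.2, hrm.1, ?_⟩
      conv_lhs => rw [← Finset.sdiff_union_of_subset hsub, hr]
      ext w
      simp only [Finset.mem_union, Finset.mem_singleton, Finset.mem_insert]
      tauto
    obtain ⟨p₁, h1x, h1a, h1, s1⟩ := hthird i x a hi hai hxa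
    obtain ⟨p₂, h2x, h2b, h2, s2⟩ := hthird j x b hj hbj hxb
    obtain ⟨p₃, h3x, h3c, h3, s3⟩ := hthird k x c hk hck hxc
    have s4 : vsupp (S l) = {a, b, c} := (Finset.eq_of_subset_of_card_le
      (by simp [Finset.insert_subset_iff, mem_vsupp, hal, hbl, hcl])
      (by rw [norm_three_card (hSS l), Finset.card_insert_of_notMem (by simp [hab, hac]),
        Finset.card_pair hbc])).symm
    -- the seven entries of a vector in the second row
    let u : Fin 4 → List ℤ := fun m => [S i x * T m x, S i a * T m a, S j b * T m b,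
      S k c * T m c, S i p₁ * T m p₁, S j p₂ * T m p₂, S k p₃ * T m p₃]
    have h12 : p₁ ≠ p₂ := fun e => h1x (huniq i j x p₁ hij hi hj h1 (by rw [e]; exact h2)).symm
    have h13 : p₁ ≠ p₃ := fun e => h1x (huniq i k x p₁ hik hi hk h1 (by rw [e]; exact h3)).symm
    have h23 : p₂ ≠ p₃ := fun e => h2x (huniq j k x p₂ hjk hj hk h2 (by rw [e]; exact h3)).symm
    have h1b : p₁ ≠ b := fun e => hxb (huniq i j x b hij hi hj (e ▸ h1) hbj)
    have h1c : p₁ ≠ c := fun e => hxc (huniq i k x c hik hi hk (e ▸ h1) hck)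
    have h2a : p₂ ≠ a := fun e => hxa (huniq i j x a hij hi hj hai (e ▸ h2))
    have h2c : p₂ ≠ c := fun e => hxc (huniq j k x c hjk hj hk (e ▸ h2) hck)
    have h3a : p₃ ≠ a := fun e => hxa (huniq i k x a hik hi hk hai (e ▸ h3))
    have h3b : p₃ ≠ b := fun e => hxb (huniq j k x b hjk hj hk hbj (e ▸ h3))
    let perm : Fin 4 → Fin 4 := ![i, j, k, l]
    have hperm : Function.Injective perm :=
      injective_vec4 hij hik hli.symm hjk hlj.symm hlk.symm
    have tri : ∀ y z, S y z ≠ 0 → S y z = -1 ∨ S y z = 1 := fun y z h => by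
      rcases norm_three_entry (hSS y) z with e | e | e <;> tauto
    have hsq : ∀ y z, S y z ≠ 0 → S y z * S y z = 1 := fun y z h => by
      rcases tri y z h with e | e <;> simp [e]
    have hmem3 : ∀ y z m, S y z ≠ 0 → S y z * T m z ∈ [(-1 : ℤ), 0, 1] := fun y z m h => by
      rcases tri y z h with e | e <;> rcases norm_three_entry (hTT m) z with e' | e' | e' <;>
        simp [e, e']
    set Q : Finset ι := {x, a, b, c, p₁, p₂, p₃} with hQ
    have hQsum : ∀ F : ι → ℤ, ∑ y ∈ Q, F y = F x + F a + F b + F c + F p₁ + F p₂ + F p₃ := by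
      intro F
      rw [hQ, Finset.sum_insert (by simp [hxa, hxb, hxc, h1x.symm, h2x.symm, h3x.symm]),
        Finset.sum_insert (by simp [hab, hac, h1a.symm, h2a.symm, h3a.symm]),
        Finset.sum_insert (by simp [hbc, h1b.symm, h2b.symm, h3b.symm]),
        Finset.sum_insert (by simp [h1c.symm, h2c.symm, h3c.symm]),
        Finset.sum_insert (by simp [h12, h13]), Finset.sum_insert (by simp [h23]),
        Finset.sum_singleton]
      ring
    have hle : ∀ m, ((u m).map (fun z => z * z)).sum ≤ 3 ∧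
        ((u m).map (fun z => z * z)).sum = ∑ y ∈ Q, T m y * T m y := by
      intro m
      have e : ((u m).map (fun z => z * z)).sum = ∑ y ∈ Q, T m y * T m y := by
        rw [hQsum]
        simp only [u, List.map_cons, List.map_nil, List.sum_cons, List.sum_nil, add_zero,
          mul_mul_mul_comm (S _ _) (T _ _), hsq _ _ hi, hsq _ _ hai, hsq _ _ hbj, hsq _ _ hck,
          hsq _ _ h1, hsq _ _ h2, hsq _ _ h3, one_mul]
        ring
      refine ⟨?_, e⟩
      rw [e, ← hTT m]
      exact Finset.sum_le_univ_sum_of_nonneg fun y => mul_self_nonneg _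
    have heq : ∀ m n y z r, y ≠ z → y ≠ r → z ≠ r → vsupp (S n) = {y, z, r} →
        S n y * T m y + S n z * T m z + S n r * T m r = if m = n then 1 else 0 := by
      intro m n y z r e1 e2 e3 hs
      rw [← hTS m n, dot_eq_sum_inter]
      rw [Finset.sum_subset (Finset.inter_subset_right : vsupp (T m) ∩ vsupp (S n) ⊆ vsupp (S n))
        (fun w hw hw' => ?_)]
      · rw [hs, Finset.sum_insert (by simp [e1, e2]), Finset.sum_pair e3]
        ring
      · rw [Finset.mem_inter, mem_vsupp] at hw'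
        rw [show T m w = 0 by tauto, zero_mul]
    have hcand : ∀ m : Fin 4, u (perm m) ∈ tripleCands m.val := by
      intro m
      have e1 := heq (perm m) i x a p₁ hxa h1x.symm h1a.symm s1
      have e2 := heq (perm m) j x b p₂ hxb h2x.symm h2b.symm s2
      have e3 := heq (perm m) k x c p₃ hxc h3x.symm h3c.symm s3
      have e4 := heq (perm m) l a b c hab hac hbc s4
      rw [hsame j i x hj hi] at e2
      rw [hsame k i x hk hi] at e3
      rw [hsame l i a hal hai, hsame l j b hbl hbj, hsame l k c hcl hck] at e4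
      have p0 : perm m = i ↔ m = 0 := hperm.eq_iff (b := 0)
      have p1 : perm m = j ↔ m = 1 := hperm.eq_iff (b := 1)
      have p2 : perm m = k ↔ m = 2 := hperm.eq_iff (b := 2)
      have p3 : perm m = l ↔ m = 3 := hperm.eq_iff (b := 3)
      simp only [p0, p1, p2, p3] at e1 e2 e3 e4
      simp only [tripleCands, List.mem_filter, List.mem_flatMap, List.mem_singleton,
        Bool.and_eq_true, decide_eq_true_eq]
      refine ⟨⟨_, hmem3 i x _ hi, _, hmem3 i a _ hai, _, hmem3 j b _ hbj, _, hmem3 k c _ hck,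
        _, hmem3 i p₁ _ h1, _, hmem3 j p₂ _ h2, _, hmem3 k p₃ _ h3, rfl⟩, ?_⟩
      refine ⟨⟨⟨⟨(hle _).1, ?_⟩, ?_⟩, ?_⟩, ?_⟩ <;>
        simp only [u, List.getD_cons_zero, List.getD_cons_succ] <;>
        first
          | (rw [e1]; fin_cases m <;> rfl) | (rw [e2]; fin_cases m <;> rfl)
          | (rw [e3]; fin_cases m <;> rfl) | (rw [e4]; fin_cases m <;> rfl)
    have hok : ∀ m m', perm m ≠ perm m' → tripleOK (u (perm m)) (u (perm m')) = true := by
      intro m m' hne
      set f := T (perm m)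
      set g := T (perm m')
      have hdot : (List.zipWith (· * ·) (u (perm m)) (u (perm m'))).sum = ∑ y ∈ Q, f y * g y := by
        rw [hQsum]
        simp only [u, List.zipWith_cons_cons, List.zipWith_nil_left, List.sum_cons, List.sum_nil,
          add_zero, mul_mul_mul_comm (S _ _) (T _ _), hsq _ _ hi, hsq _ _ hai, hsq _ _ hbj,
          hsq _ _ hck, hsq _ _ h1, hsq _ _ h2, hsq _ _ h3, one_mul, f, g]
        ring
      have hrest : 1 - ∑ y ∈ Q, f y * g y = ∑ y ∈ Qᶜ, f y * g y := by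
        rw [← hT _ _ hne, dotProduct, ← Finset.sum_add_sum_compl Q]; ring
      have hb : ∀ f g : ι → ℤ, f ⬝ᵥ f = 3 → g ⬝ᵥ g = 3 →
          |∑ y ∈ Qᶜ, f y * g y| ≤ 3 - ∑ y ∈ Q, f y * f y := by
        intro f g hf hg
        refine (Finset.abs_sum_le_sum_abs _ _).trans ((Finset.sum_le_sum fun y _ => ?_).trans
          (le_of_eq (eq_sub_of_add_eq' ((Finset.sum_add_sum_compl Q fun y => f y * f y).trans hf))))
        rcases norm_three_entry hf y with e | e | e <;> rcases norm_three_entry hg y with e' | e' | e' <;>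
          simp [e, e']
      have b1 := hb f g (hTT _) (hTT _)
      have b2 := hb g f (hTT _) (hTT _)
      rw [Finset.sum_congr rfl (g := fun y => f y * g y) (fun y _ => mul_comm (g y) (f y))] at b2
      rw [← hrest] at b1 b2
      simp only [tripleOK, Bool.and_eq_true, decide_eq_true_eq, hdot, (hle _).2]
      simp only [f, g] at b1 b2 ⊢
      rw [Int.abs_eq_natAbs] at b1 b2
      exact ⟨by omega, by omega⟩
    have hall := tripleCands_incompatible
    simp only [List.all_eq_true, Bool.or_eq_true, Bool.not_eq_true'] at hall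
    have n01 : perm 0 ≠ perm 1 := hperm.ne (by decide)
    have n02 : perm 0 ≠ perm 2 := hperm.ne (by decide)
    have n12 : perm 1 ≠ perm 2 := hperm.ne (by decide)
    have n03 : perm 0 ≠ perm 3 := hperm.ne (by decide)
    have n13 : perm 1 ≠ perm 3 := hperm.ne (by decide)
    have n23 : perm 2 ≠ perm 3 := hperm.ne (by decide)
    have h0 := hall _ (hcand 0) _ (hcand 1)
    rw [hok 0 1 n01] at h0
    have h0' := h0.resolve_left (by simp) _ (hcand 2)
    rw [hok 0 2 n02, hok 1 2 n12] at h0'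
    have h0'' := h0'.resolve_left (by simp) _ (hcand 3)
    rw [hok 0 3 n03, hok 1 3 n13, hok 2 3 n23] at h0''
    simp at h0''
  · -- every point lies in at most two of the triples
    push Not at htri
    have hex : ∀ k x, S k x ≠ 0 → ∃ l, l ≠ k ∧ S l x ≠ 0 := by
      intro k x hx
      by_contra h
      push Not at h
      let O := Finset.univ.filter (fun l : Fin 4 => l ≠ k)
      have hinj : Set.InjOn (fun l => if h : k ≠ l then q ⟨(k, l), h⟩ else x) ↑O := by
        intro l hl l' hl' e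
        simp only [O, Finset.coe_filter, Finset.mem_univ, true_and, Set.mem_ofPred_eq] at hl hl'
        simp only [dif_pos (Ne.symm hl), dif_pos (Ne.symm hl')] at e
        by_contra hne
        exact (hqm k l' (Ne.symm hl')).2 (htri _ k l l' (Ne.symm hl) (Ne.symm hl') hne
          (hqm k l' (Ne.symm hl')).1 (e ▸ (hqm k l (Ne.symm hl)).2))
      have hsub : O.image (fun l => if h : k ≠ l then q ⟨(k, l), h⟩ else x) ⊆
          (vsupp (S k)).erase x := by
        intro y hy
        obtain ⟨l, hl, rfl⟩ := Finset.mem_image.mp hy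
        simp only [O, Finset.mem_filter, Finset.mem_univ, true_and] at hl
        rw [dif_pos (Ne.symm hl), Finset.mem_erase, mem_vsupp]
        exact ⟨fun e => (hqm k l (Ne.symm hl)).2 (e ▸ h l hl), (hqm k l (Ne.symm hl)).1⟩
      have := Finset.card_le_card hsub
      rw [Finset.card_image_of_injOn hinj, Finset.card_erase_of_mem (mem_vsupp.mpr hx),
        norm_three_card (hSS k)] at this
      have h3 : O.card = 3 := by
        simp only [O]
        rw [Finset.filter_ne', Finset.card_erase_of_mem (Finset.mem_univ k)]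
        rfl
      omega
    have heven : ∀ x, (2 : ℤ) ∣ ∑ k, S k x := by
      intro x
      by_cases h : ∀ k, S k x = 0
      · simp [h]
      push Not at h
      obtain ⟨k, hk⟩ := h
      obtain ⟨l, hlk, hl⟩ := hex k x hk
      rw [← Finset.sum_subset (Finset.subset_univ ({k, l} : Finset (Fin 4))) (fun m _ hm => by
        simp only [Finset.mem_insert, Finset.mem_singleton, not_or] at hm
        exact htri x k l m hlk.symm (Ne.symm hm.1) (Ne.symm hm.2) hk hl), Finset.sum_pair hlk.symm,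
        hsame l k x hl hk]
      exact ⟨S k x, by ring⟩
    have h1 : ∑ x, T 0 x * ∑ k, S k x = 1 := by
      simp only [Finset.mul_sum]
      rw [Finset.sum_comm]
      exact (Finset.sum_congr rfl fun k _ => hTS 0 k).trans (by simp)
    have h2 : (2 : ℤ) ∣ ∑ x, T 0 x * ∑ k, S k x :=
      Finset.dvd_sum fun x _ => dvd_mul_of_dvd_right (heven x) _
    rw [h1] at h2
    norm_num at h2

/-- An array of signed triples with the inner products of `z i j - x i - y j` has that shape. -/
theorem exists_triple_decomposition {I : Type v} {J : Type w} [Finite I] [Finite J]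
    [DecidableEq I] [DecidableEq J]
    (hI : 2 ≤ Nat.card I) (hI3 : Nat.card I ≠ 3) (hJ : 4 ≤ Nat.card J)
    (B : I → J → ι → ℤ) (d : ι → ℤ) (hd : ∀ x, d x ≠ 0) (hBd : ∀ i j, B i j ⬝ᵥ d = -1)
    (hB : ∀ i j i' j', B i j ⬝ᵥ B i' j' = (if i = i' then 1 else 0) + (if j = j' then 1 else 0) +
      (if i = i' then 1 else 0) * (if j = j' then 1 else 0)) :
    ∃ (X : I → ι) (Y : J → ι) (Z : I → J → ι),
      Function.Injective (Sum.elim (Sum.elim X Y) (fun p : I × J => Z p.1 p.2)) ∧
      (∀ i j j', B i j (X i) = B i j' (X i)) ∧ (∀ i i' j, B i j (Y j) = B i' j (Y j)) ∧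
      (∀ i j, vsupp (B i j) = {X i, Y j, Z i j}) := by
  classical
  have := Fintype.ofFinite I
  have := Fintype.ofFinite J
  rw [Nat.card_eq_fintype_card] at hI hI3 hJ
  have hnorm : ∀ i j, B i j ⬝ᵥ B i j = 3 := fun i j => by simp [hB]
  have hrow : ∀ i j j', j ≠ j' → B i j ⬝ᵥ B i j' = 1 := fun i j j' h => by simp [hB, h]
  have hcol : ∀ i i' j, i ≠ i' → B i j ⬝ᵥ B i' j = 1 := fun i i' j h => by simp [hB, h]
  have hno : ∀ i i' j j', i ≠ i' → j ≠ j' → B i j ⬝ᵥ B i' j' = 0 := fun i i' j j' h h' => by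
    simp [hB, h, h']
  have cu : ∀ i j i' j', B i j ⬝ᵥ B i' j' = 1 → ∃ x, vsupp (B i j) ∩ vsupp (B i' j') = {x} ∧
      B i j x * B i' j' x = 1 :=
    fun i j i' j' h => common_unique (hnorm i j) (hnorm i' j') h hd (by rw [hBd, hBd])
  have cuniq : ∀ i j i' j' x y, B i j ⬝ᵥ B i' j' = 1 → B i j x ≠ 0 → B i' j' x ≠ 0 →
      B i j y ≠ 0 → B i' j' y ≠ 0 → x = y := by
    intro i j i' j' x y h a b c e
    obtain ⟨z, hz, -⟩ := cu i j i' j' h
    have hx : x ∈ vsupp (B i j) ∩ vsupp (B i' j') :=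
      Finset.mem_inter.mpr ⟨mem_vsupp.mpr a, mem_vsupp.mpr b⟩
    have hy : y ∈ vsupp (B i j) ∩ vsupp (B i' j') :=
      Finset.mem_inter.mpr ⟨mem_vsupp.mpr c, mem_vsupp.mpr e⟩
    rw [hz, Finset.mem_singleton] at hx hy
    rw [hx, hy]
  have csame : ∀ i j i' j' x, B i j ⬝ᵥ B i' j' = 1 → B i j x ≠ 0 → B i' j' x ≠ 0 →
      B i j x = B i' j' x ∧ B i j x * B i' j' x = 1 := by
    intro i j i' j' x h a b
    obtain ⟨z, hz, hp⟩ := cu i j i' j' h
    have hx : x ∈ vsupp (B i j) ∩ vsupp (B i' j') :=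
      Finset.mem_inter.mpr ⟨mem_vsupp.mpr a, mem_vsupp.mpr b⟩
    rw [hz, Finset.mem_singleton] at hx
    subst hx
    refine ⟨?_, hp⟩
    rcases norm_three_entry (hnorm i j) x with e | e | e <;>
      rcases norm_three_entry (hnorm i' j') x with e' | e' | e' <;> rw [e, e'] at hp ⊢ <;> omega
  have hother : ∀ i : I, ∃ i', i ≠ i' := fun i => by
    obtain ⟨i', hi'⟩ := Fintype.exists_ne_of_one_lt_card (by omega) i
    exact ⟨i', hi'.symm⟩
  have hotherJ : ∀ j k : J, ∃ l, l ≠ j ∧ l ≠ k := fun j k => by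
    by_contra h
    push Not at h
    have : Finset.univ ⊆ ({j, k} : Finset J) := fun l _ => by
      by_cases e : l = j
      · simp [e]
      · simp [h l e]
    have h2 := (Finset.card_le_card this).trans Finset.card_le_two
    rw [Finset.card_univ] at h2
    omega
  -- rows are sunflowers
  have hX : ∀ i, ∃ x, ∀ j, B i j x ≠ 0 := by
    intro i
    obtain ⟨i', hi'⟩ := hother i
    obtain ⟨j₀⟩ : Nonempty J := Fintype.card_pos_iff.mp (by omega)
    obtain ⟨j₁, hj₁, -⟩ := hotherJ j₀ j₀
    obtain ⟨x, hx, -⟩ := cu i j₀ i j₁ (hrow i j₀ j₁ hj₁.symm)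
    have hx' := hx.symm ▸ Finset.mem_singleton_self x
    rw [Finset.mem_inter, mem_vsupp, mem_vsupp] at hx'
    refine ⟨x, fun j => ?_⟩
    by_cases h0 : j = j₀
    · rw [h0]; exact hx'.1
    by_cases h1 : j = j₁
    · rw [h1]; exact hx'.2
    obtain ⟨l, hl⟩ : ∃ l, l ∉ ({j₀, j₁, j} : Finset J) := by
      by_contra h
      push Not at h
      have h2 := (Finset.card_le_card (fun l (_ : l ∈ Finset.univ) => h l)).trans Finset.card_le_three
      rw [Finset.card_univ] at h2
      omega
    simp only [Finset.mem_insert, Finset.mem_singleton, not_or] at hl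
    let e : Fin 4 → J := ![j₀, j₁, j, l]
    have he : Function.Injective e :=
      injective_vec4 hj₁.symm (Ne.symm h0) (Ne.symm hl.1) (Ne.symm h1) (Ne.symm hl.2.1)
        (Ne.symm hl.2.2)
    obtain ⟨y, hy⟩ := four_sunflower (fun k => B i (e k)) (fun k => B i' (e k)) d hd
      (fun k => hBd _ _) (fun k => hnorm _ _) (fun k k' h => hrow _ _ _ (he.ne h))
      (fun k => hnorm _ _) (fun k k' h => hrow _ _ _ (he.ne h))
      (fun m k => by simp [hB, hi'.symm, he.eq_iff])
    rw [cuniq i j₀ i j₁ x y (hrow i j₀ j₁ hj₁.symm) hx'.1 hx'.2 (hy 0) (hy 1)]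
    exact hy 2
  choose X hX using hX
  -- the centre of a row occurs in no other row
  have hXout : ∀ i i' j, i ≠ i' → B i' j (X i) = 0 := by
    intro i i' j hne
    by_contra hm
    have hex : ∀ l, l ≠ j → ∃ y, y ≠ X i ∧ B i l y ≠ 0 ∧ B i' j y ≠ 0 := by
      intro l hl
      by_contra h
      push Not at h
      have h0 := hno i i' l j hne hl
      rw [dotProduct, Finset.sum_eq_single (X i) (fun y _ hy => by
        by_cases e : B i l y = 0
        · rw [e, zero_mul]
        · rw [h y hy e, mul_zero]) (by simp)] at h0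
      exact mul_ne_zero (hX i l) hm h0
    choose y hy using fun l : {l // l ≠ j} => hex l.1 l.2
    have hinj : Function.Injective y := fun l l' e => by
      by_contra hne'
      exact (hy l).1 (cuniq i l.1 i l'.1 (y l) (X i)
        (hrow _ _ _ fun h => hne' (Subtype.ext h)) (hy l).2.1 (e ▸ (hy l').2.1) (hX i _) (hX i _))
    have hsub : Finset.univ.image y ⊆ (vsupp (B i' j)).erase (X i) := by
      intro z hz
      obtain ⟨l, -, rfl⟩ := Finset.mem_image.mp hz
      exact Finset.mem_erase.mpr ⟨(hy l).1, mem_vsupp.mpr (hy l).2.2⟩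
    have := Finset.card_le_card hsub
    rw [Finset.card_image_of_injective _ hinj, Finset.card_erase_of_mem (mem_vsupp.mpr hm),
      norm_three_card (hnorm i' j), Finset.card_univ, Fintype.card_subtype_compl,
      Fintype.card_subtype_eq] at this
    omega
  -- triples in different rows and columns are disjoint
  have hdisj : ∀ i i' j j' x, i ≠ i' → j ≠ j' → B i j x ≠ 0 → B i' j' x = 0 := by
    intro i i' j j' x hi hj hx
    by_contra hx'
    set C := vsupp (B i j) ∩ vsupp (B i' j') with hC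
    have hxC : x ∈ C := Finset.mem_inter.mpr ⟨mem_vsupp.mpr hx, mem_vsupp.mpr hx'⟩
    have hC2 : 2 ≤ C.card := by
      by_contra h
      have h1 : C = {x} := Finset.eq_singleton_iff_unique_mem.mpr
        ⟨hxC, fun y hy => Finset.card_le_one.mp (by omega) y hy x hxC⟩
      have h0 := hno i i' j j' hi hj
      rw [dot_eq_sum_inter, ← hC, h1, Finset.sum_singleton] at h0
      exact mul_ne_zero hx hx' h0
    have hsub : C ⊆ (vsupp (B i' j')).erase (X i') := fun y hy => by
      rw [hC, Finset.mem_inter, mem_vsupp, mem_vsupp] at hy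
      exact Finset.mem_erase.mpr ⟨fun e => hy.1 (e ▸ hXout i' i j hi.symm), mem_vsupp.mpr hy.2⟩
    have heq := Finset.eq_of_subset_of_card_le hsub (by
      rw [Finset.card_erase_of_mem (mem_vsupp.mpr (hX i' j')), norm_three_card (hnorm i' j')]
      omega)
    obtain ⟨z, hz, -⟩ := cu i j' i' j' (hcol i i' j' hi)
    have hz' := hz.symm ▸ Finset.mem_singleton_self z
    rw [Finset.mem_inter, mem_vsupp, mem_vsupp] at hz'
    have hzX : z ≠ X i' := fun e => hz'.1 (e ▸ hXout i' i j' hi.symm)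
    have hzC : z ∈ C := heq.symm ▸ Finset.mem_erase.mpr ⟨hzX, mem_vsupp.mpr hz'.2⟩
    rw [hC, Finset.mem_inter, mem_vsupp, mem_vsupp] at hzC
    exact hz'.2 ((cuniq i j i j' z (X i) (hrow i j j' hj) hzC.1 hz'.1 (hX i j) (hX i j')) ▸
      hXout i i' j' hi)
  -- columns are sunflowers
  obtain ⟨i₀⟩ : Nonempty I := Fintype.card_pos_iff.mp (by omega)
  obtain ⟨i₁, hi₁⟩ := hother i₀
  have hY : ∀ j, ∃ y, ∀ i, B i j y ≠ 0 := by
    intro j
    obtain ⟨y, hy, -⟩ := cu i₀ j i₁ j (hcol i₀ i₁ j hi₁)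
    have hy' := hy.symm ▸ Finset.mem_singleton_self y
    rw [Finset.mem_inter, mem_vsupp, mem_vsupp] at hy'
    refine ⟨y, fun i₂ hbad => ?_⟩
    have h20 : i₂ ≠ i₀ := fun e => hy'.1 (e ▸ hbad)
    have h21 : i₂ ≠ i₁ := fun e => hy'.2 (e ▸ hbad)
    obtain ⟨i₃, hi₃⟩ : ∃ i₃, i₃ ∉ ({i₀, i₁, i₂} : Finset I) := by
      by_contra h
      push Not at h
      have h2 := (Finset.card_le_card (fun l (_ : l ∈ Finset.univ) => h l)).trans Finset.card_le_three
      have h3 : ({i₀, i₁, i₂} : Finset I).card = 3 := by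
        rw [Finset.card_insert_of_notMem (by simp [hi₁, h20.symm]), Finset.card_pair h21.symm]
      have h4 := Finset.card_le_univ ({i₀, i₁, i₂} : Finset I)
      rw [Finset.card_univ] at h2
      omega
    simp only [Finset.mem_insert, Finset.mem_singleton, not_or] at hi₃
    obtain ⟨h30, h31, h32⟩ := hi₃
    obtain ⟨a, ha, -⟩ := cu i₀ j i₂ j (hcol _ _ j h20.symm)
    obtain ⟨b, hb, -⟩ := cu i₁ j i₂ j (hcol _ _ j h21.symm)
    have ha' := ha.symm ▸ Finset.mem_singleton_self a
    have hb' := hb.symm ▸ Finset.mem_singleton_self b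
    rw [Finset.mem_inter, mem_vsupp, mem_vsupp] at ha' hb'
    have hay : a ≠ y := fun e => ha'.2 (e ▸ hbad)
    have hby : b ≠ y := fun e => hb'.2 (e ▸ hbad)
    have hab : a ≠ b := fun e => hay (cuniq i₀ j i₁ j a y (hcol _ _ j hi₁) ha'.1 (e ▸ hb'.1) hy'.1 hy'.2)
    have nX : ∀ i z, B i j z ≠ 0 → ∀ i', i' ≠ i → z ≠ X i' := fun i z hz i' h e =>
      hz (e ▸ hXout i' i j h)
    have pair : ∀ i u v, u ≠ v → B i j u ≠ 0 → B i j v ≠ 0 → u ≠ X i → v ≠ X i →
        ∀ w, B i j w ≠ 0 → w = X i ∨ w = u ∨ w = v := by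
      intro i u v huv hu hv hu' hv' w hw
      have := Finset.eq_of_subset_of_card_le
        (s := ({X i, u, v} : Finset ι)) (t := vsupp (B i j))
        (by simp [Finset.insert_subset_iff, mem_vsupp, hX i j, hu, hv])
        (by rw [norm_three_card (hnorm i j),
          Finset.card_insert_of_notMem (by simp [hu'.symm, hv'.symm]), Finset.card_pair huv])
      have hw' : w ∈ ({X i, u, v} : Finset ι) := this.symm ▸ mem_vsupp.mpr hw
      simpa using hw'
    have p0 := pair i₀ y a hay.symm hy'.1 ha'.1 (nX i₁ y hy'.2 i₀ hi₁) (nX i₂ a ha'.2 i₀ h20.symm)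
    have p1 := pair i₁ y b hby.symm hy'.2 hb'.1 (nX i₀ y hy'.1 i₁ hi₁.symm) (nX i₂ b hb'.2 i₁ h21.symm)
    have p2 := pair i₂ a b hab ha'.2 hb'.2 (nX i₀ a ha'.1 i₂ h20) (nX i₁ b hb'.1 i₂ h21)
    obtain ⟨z0, hz0, -⟩ := cu i₃ j i₀ j (hcol _ _ j h30)
    obtain ⟨z1, hz1, -⟩ := cu i₃ j i₁ j (hcol _ _ j h31)
    obtain ⟨z2, hz2, -⟩ := cu i₃ j i₂ j (hcol _ _ j h32)
    have m0 := hz0.symm ▸ Finset.mem_singleton_self z0
    have m1 := hz1.symm ▸ Finset.mem_singleton_self z1
    have m2 := hz2.symm ▸ Finset.mem_singleton_self z2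
    rw [Finset.mem_inter, mem_vsupp, mem_vsupp] at m0 m1 m2
    have c0 := (p0 z0 m0.2).resolve_left (nX i₃ z0 m0.1 i₀ (Ne.symm h30))
    have c1 := (p1 z1 m1.2).resolve_left (nX i₃ z1 m1.1 i₁ (Ne.symm h31))
    have c2 := (p2 z2 m2.2).resolve_left (nX i₃ z2 m2.1 i₂ (Ne.symm h32))
    rcases c2 with rfl | rfl
    · rcases c1 with rfl | rfl
      · exact hay (cuniq i₀ j i₃ j z2 z1 (hcol _ _ j (Ne.symm h30)) ha'.1 m2.1 hy'.1 m1.1)
      · exact hab (cuniq i₂ j i₃ j z2 z1 (hcol _ _ j (Ne.symm h32)) ha'.2 m2.1 hb'.2 m1.1)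
    · rcases c0 with rfl | rfl
      · exact hby (cuniq i₁ j i₃ j z2 z0 (hcol _ _ j (Ne.symm h31)) hb'.1 m2.1 hy'.2 m0.1)
      · exact hab (cuniq i₂ j i₃ j z0 z2 (hcol _ _ j (Ne.symm h32)) ha'.2 m0.1 hb'.2 m2.1)
  choose Y hY using hY
  have hXY : ∀ i j, X i ≠ Y j := fun i j e => by
    obtain ⟨i', hi'⟩ := hother i
    exact hY j i' (e ▸ hXout i i' j hi')
  have hZ : ∀ i j, ∃ z, z ≠ X i ∧ z ≠ Y j ∧ vsupp (B i j) = {X i, Y j, z} := by
    intro i j
    have hsub : ({X i, Y j} : Finset ι) ⊆ vsupp (B i j) := by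
      simp [Finset.insert_subset_iff, mem_vsupp, hX i j, hY j i]
    have hcard : (vsupp (B i j) \ {X i, Y j}).card = 1 := by
      rw [Finset.card_sdiff_of_subset hsub, norm_three_card (hnorm i j),
        Finset.card_pair (hXY i j)]
    obtain ⟨z, hz⟩ := Finset.card_eq_one.mp hcard
    have hzm : z ∈ vsupp (B i j) \ {X i, Y j} := hz.symm ▸ Finset.mem_singleton_self z
    simp only [Finset.mem_sdiff, Finset.mem_insert, Finset.mem_singleton, not_or] at hzm
    refine ⟨z, hzm.2.1, hzm.2.2, ?_⟩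
    conv_lhs => rw [← Finset.sdiff_union_of_subset hsub, hz]
    ext w
    simp only [Finset.mem_union, Finset.mem_singleton, Finset.mem_insert]
    tauto
  choose Z hZ using hZ
  have hZm : ∀ i j, B i j (Z i j) ≠ 0 := fun i j => mem_vsupp.mp (by rw [(hZ i j).2.2]; simp)
  refine ⟨X, Y, Z, ?_, ?_, ?_, fun i j => (hZ i j).2.2⟩
  · obtain ⟨j₀⟩ : Nonempty J := Fintype.card_pos_iff.mp (by omega)
    have hXZ : ∀ i k l, X i ≠ Z k l := fun i k l e => by
      by_cases h : i = k
      · exact (hZ k l).1 (h ▸ e.symm)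
      · exact hZm k l (e ▸ hXout i k l h)
    have hYZ : ∀ j k l, Y j ≠ Z k l := fun j k l e => by
      by_cases h : j = l
      · exact (hZ k l).2.1 (h ▸ e.symm)
      · obtain ⟨k', hk'⟩ := hother k
        exact hY j k' (e ▸ hdisj k k' l j (Z k l) hk' (Ne.symm h) (hZm k l))
    rintro ((i | j) | ⟨k, l⟩) ((i' | j') | ⟨k', l'⟩) e <;>
      simp only [Sum.elim_inl, Sum.elim_inr] at e
    · by_cases h : i = i'
      · rw [h]
      · exact absurd (e ▸ hXout i i' j₀ h) (hX i' j₀)
    · exact absurd e (hXY i j')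
    · exact absurd e (hXZ i k' l')
    · exact absurd e.symm (hXY i' j)
    · by_cases h : j = j'
      · rw [h]
      · exact absurd (hdisj i₀ i₁ j j' (Y j) hi₁ h (hY j i₀)) (e ▸ hY j' i₁)
    · exact absurd e (hYZ j k' l')
    · exact absurd e.symm (hXZ i' k l)
    · exact absurd e.symm (hYZ j' k l)
    · by_cases hk : k = k' <;> by_cases hl : l = l'
      · rw [hk, hl]
      · subst hk
        exact absurd (cuniq k l k l' (Z k l) (X k) (hrow _ _ _ hl) (hZm k l) (e ▸ hZm k l')
          (hX k l) (hX k l')) (hZ k l).1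
      · subst hl
        exact absurd (cuniq k l k' l (Z k l) (Y l) (hcol _ _ _ hk) (hZm k l) (e ▸ hZm k' l)
          (hY l k) (hY l k')) (hZ k l).2.1
      · exact absurd (hdisj k k' l l' (Z k l) hk hl (hZm k l)) (e ▸ hZm k' l')
  · intro i j j'
    by_cases h : j = j'
    · rw [h]
    · exact (csame i j i j' (X i) (hrow _ _ _ h) (hX i j) (hX i j')).1
  · intro i i' j
    by_cases h : i = i'
    · rw [h]
    · exact (csame i j i' j (Y j) (hcol _ _ _ h) (hY j i) (hY j i')).1

end Cfsg.Lib.Char
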