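import Cfsg.Agent.Lib.Char.CyclicTI
import Cfsg.Agent.Lib.Char.SignedTriples
import Cfsg.Agent.Lib.Char.Coherence

/-!
# Existence of the cyclic TI family of virtual characters
-/

set_option autoImplicit false
set_option linter.unusedSectionVars false
set_option linter.style.haveILetI false

namespace Cfsg.Lib.Char

open Cfsg
open scoped ComplexConjugate Matrix

universe u v w

variable {G : Type u} [Group G]

section Coeff

variable [Fintype G]

/-- Inner products of virtual characters as dot products of integer coefficient vectors. -/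
theorem classInner_eq_dot {f f' : G → ℂ} (hf : IsGeneralizedCharacter G f)
    {v w : IrrCharacter G → ℤ} (hv : ∀ χ : IrrCharacter G, classInner f (χ : G → ℂ) = v χ)
    (hw : ∀ χ : IrrCharacter G, classInner f' (χ : G → ℂ) = w χ) : classInner f f' = ((v ⬝ᵥ w : ℤ) : ℂ) := by
  rw [classInner_eq_sum (isGeneralizedCharacter_iff.1 hf).1, dotProduct, Int.cast_sum]
  exact Finset.sum_congr rfl fun χ _ => by rw [hv χ, hw χ, map_intCast, Int.cast_mul]

/-- An array of virtual characters with the inner products of `z i j - x i - y j`. -/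
theorem exists_signed_array {I : Type v} {J : Type w} [Finite I] [Finite J] [DecidableEq I]
    [DecidableEq J] (hI : 2 ≤ Nat.card I) (hI3 : Nat.card I ≠ 3) (hJ : 2 ≤ Nat.card J)
    (hJ3 : Nat.card J ≠ 3) (h4 : 4 ≤ Nat.card I ∨ 4 ≤ Nat.card J)
    (β : I → J → G → ℂ) (hgen : ∀ i j, IsGeneralizedCharacter G (β i j))
    (h1 : ∀ i j, β i j 1 = -1) (hone : ∀ i j, classInner (β i j) (fun _ => 1) = 0)
    (hβ : ∀ i j i' j', classInner (β i j) (β i' j') = (if i = i' then 1 else 0) +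
      (if j = j' then 1 else 0) + (if i = i' then 1 else 0) * (if j = j' then 1 else 0)) :
    ∃ (X : I → G → ℂ) (Y : J → G → ℂ) (Z : I → J → G → ℂ),
      (∀ i, IsIrrCharacter G (X i) ∨ IsIrrCharacter G (-X i)) ∧
      (∀ j, IsIrrCharacter G (Y j) ∨ IsIrrCharacter G (-Y j)) ∧
      (∀ i j, IsIrrCharacter G (Z i j) ∨ IsIrrCharacter G (-Z i j)) ∧
      (∀ s t : Option ((I ⊕ J) ⊕ I × J),
        classInner (Option.elim s (fun _ => 1) (Sum.elim (Sum.elim X Y) fun p => Z p.1 p.2))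
          (Option.elim t (fun _ => 1) (Sum.elim (Sum.elim X Y) fun p => Z p.1 p.2)) =
            if s = t then 1 else 0) ∧
      ∀ i j, β i j = Z i j - X i - Y j := by
  classical
  choose c hc using fun i j (χ : IrrCharacter G) =>
    (isGeneralizedCharacter_iff.1 (hgen i j)).2 χ χ.2
  choose d hd0 hd using fun χ : IrrCharacter G => χ.2.exists_degree
  have hexp : ∀ i j, β i j = ∑ χ, (c i j χ : ℂ) • (χ : G → ℂ) := fun i j => by
    conv_lhs => rw [eq_sum_classInner (isGeneralizedCharacter_iff.1 (hgen i j)).1]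
    simp only [hc]
  have hdz : ∀ χ : IrrCharacter G, ((d χ : ℤ)) ≠ 0 := fun χ => by
    have := hd0 χ
    omega
  have hcd : ∀ i j, c i j ⬝ᵥ (fun χ => (d χ : ℤ)) = -1 := by
    intro i j
    have e := congrFun (hexp i j) 1
    simp only [Finset.sum_apply, Pi.smul_apply, smul_eq_mul, hd, h1] at e
    have e' : ((∑ χ, c i j χ * (d χ : ℤ) : ℤ) : ℂ) = ((-1 : ℤ) : ℂ) := by
      push_cast; exact e.symm
    exact_mod_cast e'
  have hcc : ∀ i j i' j', c i j ⬝ᵥ c i' j' = (if i = i' then 1 else 0) +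
      (if j = j' then 1 else 0) + (if i = i' then 1 else 0) * (if j = j' then 1 else 0) := by
    intro i j i' j'
    have e := classInner_eq_dot (hgen i j) (hc i j) (hc i' j')
    rw [hβ] at e
    apply Int.cast_injective (α := ℂ)
    rw [← e]
    push_cast
    rfl
  obtain ⟨X, Y, Z, hinj, hX, hY, hsupp⟩ : ∃ (X : I → IrrCharacter G) (Y : J → IrrCharacter G)
      (Z : I → J → IrrCharacter G),
      Function.Injective (Sum.elim (Sum.elim X Y) (fun p : I × J => Z p.1 p.2)) ∧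
      (∀ i j j', c i j (X i) = c i j' (X i)) ∧ (∀ i i' j, c i j (Y j) = c i' j (Y j)) ∧
      (∀ i j, vsupp (c i j) = {X i, Y j, Z i j}) := by
    rcases h4 with h | h
    · obtain ⟨X, Y, Z, hinj, hX, hY, hs⟩ := exists_triple_decomposition hJ hJ3 h
        (fun j i => c i j) _ hdz (fun j i => hcd i j) (fun j i j' i' => by rw [hcc]; ring)
      refine ⟨Y, X, fun i j => Z j i, ?_, fun i j j' => hY j j' i, fun i i' j => hX j i i',
        fun i j => by rw [hs j i, Finset.insert_comm]⟩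
      let e : (I ⊕ J) ⊕ I × J ≃ (J ⊕ I) ⊕ J × I := (Equiv.sumComm I J).sumCongr (Equiv.prodComm I J)
      have : Sum.elim (Sum.elim Y X) (fun p : I × J => Z p.2 p.1) =
          Sum.elim (Sum.elim X Y) (fun p : J × I => Z p.1 p.2) ∘ e := by
        funext x
        rcases x with (i | j) | p <;> rfl
      rw [this]
      exact hinj.comp e.injective
    · exact exists_triple_decomposition hI hI3 h c _ hdz hcd hcc
  have hne : ∀ s t : (I ⊕ J) ⊕ I × J, s ≠ t →
      Sum.elim (Sum.elim X Y) (fun p : I × J => Z p.1 p.2) s ≠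
      Sum.elim (Sum.elim X Y) (fun p : I × J => Z p.1 p.2) t := fun s t h => hinj.ne h
  have hsum : ∀ i j, β i j = (c i j (X i) : ℂ) • (X i : G → ℂ) + (c i j (Y j) : ℂ) • (Y j : G → ℂ) +
      (c i j (Z i j) : ℂ) • (Z i j : G → ℂ) := by
    intro i j
    have a : X i ≠ Y j := hne (.inl (.inl i)) (.inl (.inr j)) (by simp)
    have b : X i ≠ Z i j := hne (.inl (.inl i)) (.inr (i, j)) (by simp)
    have e : Y j ≠ Z i j := hne (.inl (.inr j)) (.inr (i, j)) (by simp)
    rw [hexp i j, ← Finset.sum_subset (Finset.subset_univ (vsupp (c i j))) (fun χ _ hχ => by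
      rw [mem_vsupp, not_not] at hχ; simp [hχ]), hsupp i j,
      Finset.sum_insert (by simp [a, b]), Finset.sum_pair e, add_assoc]
  obtain ⟨i₀⟩ : Nonempty I := (Nat.card_pos_iff.mp (by omega)).1
  obtain ⟨j₀⟩ : Nonempty J := (Nat.card_pos_iff.mp (by omega)).1
  have hnorm : ∀ i j, c i j ⬝ᵥ c i j = 3 := fun i j => by simp [hcc]
  have hmemX : ∀ i j, X i ∈ vsupp (c i j) := fun i j => by rw [hsupp]; simp
  have hmemY : ∀ i j, Y j ∈ vsupp (c i j) := fun i j => by rw [hsupp]; simp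
  have hmemZ : ∀ i j, Z i j ∈ vsupp (c i j) := fun i j => by rw [hsupp]; simp
  have hsgn : ∀ i j χ, χ ∈ vsupp (c i j) → (c i j χ : ℂ) = 1 ∨ (c i j χ : ℂ) = -1 := by
    intro i j χ h
    rw [mem_vsupp] at h
    rcases norm_three_entry (hnorm i j) χ with e | e | e
    · exact Or.inr (by simp [e])
    · exact absurd e h
    · exact Or.inl (by simp [e])
  have irr : ∀ (a : ℂ) (χ : IrrCharacter G), a = 1 ∨ a = -1 →
      IsIrrCharacter G (a • (χ : G → ℂ)) ∨ IsIrrCharacter G (-(a • (χ : G → ℂ))) := by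
    intro a χ h
    rcases h with rfl | rfl
    · left; rw [one_smul]; exact χ.2
    · right; rw [neg_one_smul, neg_neg]; exact χ.2
  let coef : (I ⊕ J) ⊕ I × J → ℂ :=
    Sum.elim (Sum.elim (fun i => -(c i j₀ (X i) : ℂ)) (fun j => -(c i₀ j (Y j) : ℂ)))
      (fun p => (c p.1 p.2 (Z p.1 p.2) : ℂ))
  let char : (I ⊕ J) ⊕ I × J → IrrCharacter G :=
    Sum.elim (Sum.elim X Y) (fun p : I × J => Z p.1 p.2)
  have hcoef : ∀ s, coef s = 1 ∨ coef s = -1 := by
    rintro ((i | j) | ⟨i, j⟩)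
    · rcases hsgn i j₀ _ (hmemX i j₀) with e | e <;> simp [coef, e]
    · rcases hsgn i₀ j _ (hmemY i₀ j) with e | e <;> simp [coef, e]
    · exact hsgn i j _ (hmemZ i j)
  have hone' : ∀ s, (char s : G → ℂ) ≠ fun _ => 1 := by
    intro s e
    have key : ∀ i j χ, χ ∈ vsupp (c i j) → (χ : G → ℂ) ≠ fun _ => 1 := by
      intro i j χ hχ e
      rw [mem_vsupp] at hχ
      have := hc i j χ
      rw [e, hone] at this
      exact hχ (by exact_mod_cast this.symm)
    rcases s with (i | j) | ⟨i, j⟩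
    · exact key i j₀ _ (hmemX i j₀) e
    · exact key i₀ j _ (hmemY i₀ j) e
    · exact key i j _ (hmemZ i j) e
  refine ⟨fun i => (-(c i j₀ (X i) : ℂ)) • (X i : G → ℂ),
    fun j => (-(c i₀ j (Y j) : ℂ)) • (Y j : G → ℂ),
    fun i j => (c i j (Z i j) : ℂ) • (Z i j : G → ℂ),
    fun i => irr _ _ (hcoef (.inl (.inl i))), fun j => irr _ _ (hcoef (.inl (.inr j))),
    fun i j => irr _ _ (hsgn i j _ (hmemZ i j)), ?_, ?_⟩
  · have he : ∀ s : (I ⊕ J) ⊕ I × J, Sum.elim (Sum.elim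
        (fun i => (-(c i j₀ (X i) : ℂ)) • (X i : G → ℂ))
        (fun j => (-(c i₀ j (Y j) : ℂ)) • (Y j : G → ℂ)))
        (fun p : I × J => (c p.1 p.2 (Z p.1 p.2) : ℂ) • (Z p.1 p.2 : G → ℂ)) s =
        coef s • (char s : G → ℂ) := by
      rintro ((i | j) | p) <;> rfl
    rintro (_ | s) (_ | t)
    · rw [if_pos rfl]; exact classInner_irr_self isIrrCharacter_one
    · simp only [Option.elim_none, Option.elim_some, he, classInner_smul_right,
        classInner_irr_ne isIrrCharacter_one (char t).2 (hone' t).symm, mul_zero, reduceCtorEq,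
        if_false]
    · simp only [Option.elim_none, Option.elim_some, he, classInner_smul_left,
        classInner_irr_ne (char s).2 isIrrCharacter_one (hone' s), mul_zero, reduceCtorEq,
        if_false]
    · simp only [Option.elim_some, he, classInner_smul_left, classInner_smul_right, Option.some.injEq]
      by_cases h : s = t
      · subst h
        rw [if_pos rfl, classInner_irr_self (char s).2]
        rcases hcoef s with e | e <;> simp [e]
      · rw [if_neg h, classInner_irr_ne (char s).2 (char t).2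
          (fun e => hne s t h (Subtype.ext e)), mul_zero, mul_zero]
  · intro i j
    beta_reduce
    rw [hsum i j, hX i j₀ j, hY i₀ i j]
    module

end Coeff

section Exist

variable {W₁ W₂ : Subgroup G}

/-- The linear characters of `W` trivial on `W₁` are those of `W₂`. -/
theorem cti_card_trivial_on_left [Finite G] (hdisj : W₁ ⊓ W₂ = ⊥)
    (hcomm : ∀ a ∈ W₁, ∀ b ∈ W₂, a * b = b * a) (hab : ∀ a b : ↥(W₁ ⊔ W₂), a * b = b * a) :
    Nat.card {f : ↥(W₁ ⊔ W₂) →* ℂˣ // ∀ w : ↥(W₁ ⊔ W₂), (w : G) ∈ W₁ → f w = 1} =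
      Nat.card W₂ := by
  obtain ⟨p, q, hp, hq, hpq, hp1, hq2⟩ := cti_exists_proj hdisj hcomm
  letI : CommGroup ↥W₂ := { (inferInstance : Group ↥W₂) with
    mul_comm := fun a b => Subgroup.inclusion_injective (le_sup_right (a := W₁))
      (by rw [map_mul, map_mul, hab]) }
  let qr : ↥(W₁ ⊔ W₂) →* ↥W₂ :=
    { toFun := fun w => ⟨(q w : G), hq w⟩
      map_one' := Subtype.ext (by simp)
      map_mul' := fun a b => Subtype.ext (by simp) }
  rw [← card_monoidHom_units ↥W₂]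
  refine Nat.card_congr ⟨fun f => f.1.comp (Subgroup.inclusion le_sup_right),
    fun l => ⟨l.comp qr, fun w hw => ?_⟩, fun f => ?_, fun l => ?_⟩
  · have h : qr w = 1 := Subtype.ext (by simp [qr, (hp1 w hw).2])
    rw [MonoidHom.comp_apply, h, map_one]
  · apply Subtype.ext
    refine cti_hom_ext (fun w hw => ?_) (fun w hw => ?_)
    · have h : qr w = 1 := Subtype.ext (by simp [qr, (hp1 w hw).2])
      simp [MonoidHom.comp_apply, h, f.2 w hw]
    · have h : Subgroup.inclusion le_sup_right (qr w) = w :=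
        Subtype.ext (by simp [qr, (hq2 w hw).2])
      simp only [MonoidHom.comp_apply, h]
  · refine MonoidHom.ext fun b => ?_
    have h : qr (Subgroup.inclusion le_sup_right b) = b :=
      Subtype.ext (by simp [qr, (hq2 (Subgroup.inclusion le_sup_right b) b.2).2])
    simp only [MonoidHom.comp_apply, h]

theorem cti_card_trivial_on_right [Finite G] (hdisj : W₁ ⊓ W₂ = ⊥)
    (hcomm : ∀ a ∈ W₁, ∀ b ∈ W₂, a * b = b * a) (hab : ∀ a b : ↥(W₁ ⊔ W₂), a * b = b * a) :
    Nat.card {f : ↥(W₁ ⊔ W₂) →* ℂˣ // ∀ w : ↥(W₁ ⊔ W₂), (w : G) ∈ W₂ → f w = 1} =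
      Nat.card W₁ := by
  obtain ⟨p, q, hp, hq, hpq, hp1, hq2⟩ := cti_exists_proj hdisj hcomm
  letI : CommGroup ↥W₁ := { (inferInstance : Group ↥W₁) with
    mul_comm := fun a b => Subgroup.inclusion_injective (le_sup_left (b := W₂))
      (by rw [map_mul, map_mul, hab]) }
  let pr : ↥(W₁ ⊔ W₂) →* ↥W₁ :=
    { toFun := fun w => ⟨(p w : G), hp w⟩
      map_one' := Subtype.ext (by simp)
      map_mul' := fun a b => Subtype.ext (by simp) }
  rw [← card_monoidHom_units ↥W₁]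
  refine Nat.card_congr ⟨fun f => f.1.comp (Subgroup.inclusion le_sup_left),
    fun l => ⟨l.comp pr, fun w hw => ?_⟩, fun f => ?_, fun l => ?_⟩
  · have h : pr w = 1 := Subtype.ext (by simp [pr, (hq2 w hw).1])
    rw [MonoidHom.comp_apply, h, map_one]
  · apply Subtype.ext
    refine cti_hom_ext (fun w hw => ?_) (fun w hw => ?_)
    · have h : Subgroup.inclusion le_sup_left (pr w) = w :=
        Subtype.ext (by simp [pr, (hp1 w hw).1])
      simp only [MonoidHom.comp_apply, h]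
    · have h : pr w = 1 := Subtype.ext (by simp [pr, (hq2 w hw).1])
      simp [MonoidHom.comp_apply, h, f.2 w hw]
  · refine MonoidHom.ext fun b => ?_
    have h : pr (Subgroup.inclusion le_sup_left b) = b :=
      Subtype.ext (by simp [pr, (hp1 (Subgroup.inclusion le_sup_left b) b.2).1])
    simp only [MonoidHom.comp_apply, h]

/-- Existence of the cyclic TI family. -/
theorem exists_isCyclicTIFamily [Fintype G] (hW : IsSelfNormalizingCyclic W₁ W₂)
    (hodd : Odd (Nat.card ↥(W₁ ⊔ W₂))) :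
    ∃ χ : (↥(W₁ ⊔ W₂) →* ℂˣ) → (G → ℂ), IsCyclicTIFamily W₁ W₂ χ := by
  classical
  obtain ⟨hne₁, hne₂, hdisj, hcomm, hcyc, -⟩ := id hW
  haveI : Fintype ↥(W₁ ⊔ W₂) := Fintype.ofFinite _
  have hab : ∀ a b : ↥(W₁ ⊔ W₂), a * b = b * a := fun a b => by
    obtain ⟨g, hg⟩ := hcyc.exists_generator
    obtain ⟨i, rfl⟩ := hg a
    obtain ⟨j, rfl⟩ := hg b
    exact zpow_mul_comm g i j
  obtain ⟨p, q, hp, hq, hpq, hp1, hq2⟩ := cti_exists_proj hdisj hcomm
  let I := {f : ↥(W₁ ⊔ W₂) →* ℂˣ // f ≠ 1 ∧ ∀ w : ↥(W₁ ⊔ W₂), (w : G) ∈ W₂ → f w = 1}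
  let J := {f : ↥(W₁ ⊔ W₂) →* ℂˣ // f ≠ 1 ∧ ∀ w : ↥(W₁ ⊔ W₂), (w : G) ∈ W₁ → f w = 1}
  haveI : Finite (↥(W₁ ⊔ W₂) →* ℂˣ) := Finite.of_equiv _
    (linearCharEquiv.trans (Equiv.subtypeUnivEquiv fun χ => degree_eq_one_of_comm hab χ.2)).symm
  -- the cardinalities
  have hsplit : ∀ (P : (↥(W₁ ⊔ W₂) →* ℂˣ) → Prop), P 1 →
      Nat.card {f // f ≠ 1 ∧ P f} = Nat.card {f // P f} - 1 := by
    intro P hP
    haveI := Fintype.ofFinite (↥(W₁ ⊔ W₂) →* ℂˣ)
    rw [Nat.card_eq_fintype_card, Nat.card_eq_fintype_card, Fintype.card_subtype,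
      Fintype.card_subtype, ← Finset.card_erase_of_mem (a := 1) (by simp [hP])]
    congr 1
    ext f
    simp [and_comm]
  have hcI : Nat.card I = Nat.card W₁ - 1 := by
    rw [← cti_card_trivial_on_right hdisj hcomm hab]
    exact hsplit _ fun _ _ => rfl
  have hcJ : Nat.card J = Nat.card W₂ - 1 := by
    rw [← cti_card_trivial_on_left hdisj hcomm hab]
    exact hsplit _ fun _ _ => rfl
  have hmul : Nat.card W₁ * Nat.card W₂ = Nat.card ↥(W₁ ⊔ W₂) := by
    rw [← Nat.card_prod]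
    refine Nat.card_congr ⟨fun x => ⟨x.1 * x.2, mul_mem (Subgroup.mem_sup_left x.1.2)
      (Subgroup.mem_sup_right x.2.2)⟩, fun w => (⟨p w, hp w⟩, ⟨q w, hq w⟩), fun x => ?_, fun w => ?_⟩
    · have e : (⟨(x.1 : G) * x.2, mul_mem (Subgroup.mem_sup_left x.1.2)
          (Subgroup.mem_sup_right x.2.2)⟩ : ↥(W₁ ⊔ W₂)) =
          ⟨x.1, Subgroup.mem_sup_left x.1.2⟩ * ⟨x.2, Subgroup.mem_sup_right x.2.2⟩ := rfl
      refine Prod.ext (Subtype.ext ?_) (Subtype.ext ?_)
      · show ((p _ : ↥(W₁ ⊔ W₂)) : G) = _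
        beta_reduce
        rw [e, map_mul, (hp1 ⟨x.1, Subgroup.mem_sup_left x.1.2⟩ x.1.2).1,
          (hq2 ⟨x.2, Subgroup.mem_sup_right x.2.2⟩ x.2.2).1, mul_one]
      · show ((q _ : ↥(W₁ ⊔ W₂)) : G) = _
        beta_reduce
        rw [e, map_mul, (hp1 ⟨x.1, Subgroup.mem_sup_left x.1.2⟩ x.1.2).2,
          (hq2 ⟨x.2, Subgroup.mem_sup_right x.2.2⟩ x.2.2).2, one_mul]
    · exact Subtype.ext (congrArg Subtype.val (hpq w))
  have ho : Odd (Nat.card W₁) ∧ Odd (Nat.card W₂) := Nat.odd_mul.mp (hmul ▸ hodd)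
  have hn₁ : 1 < Nat.card W₁ := Finite.one_lt_card_iff_nontrivial.mpr
    ((Subgroup.nontrivial_iff_ne_bot W₁).mpr hne₁)
  have hn₂ : 1 < Nat.card W₂ := Finite.one_lt_card_iff_nontrivial.mpr
    ((Subgroup.nontrivial_iff_ne_bot W₂).mpr hne₂)
  obtain ⟨⟨r, hr⟩, ⟨s, hs⟩⟩ := ho
  have h33 : ¬ (Nat.card W₁ = 3 ∧ Nat.card W₂ = 3) := by
    rintro ⟨h1, h2⟩
    have hle := IsCyclic.card_pow_eq_one_le (α := ↥(W₁ ⊔ W₂)) (n := 3) (by norm_num)
    have hall : ∀ a : ↥(W₁ ⊔ W₂), a ^ 3 = 1 := fun a => by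
      have e1 : ((⟨p a, hp a⟩ : W₁)) ^ 3 = 1 := h1 ▸ pow_card_eq_one'
      have e2 : ((⟨q a, hq a⟩ : W₂)) ^ 3 = 1 := h2 ▸ pow_card_eq_one'
      rw [← hpq a, Commute.mul_pow (hab _ _)]
      have e1' : (p a) ^ 3 = 1 := Subtype.ext (by simpa using congrArg Subtype.val e1)
      have e2' : (q a) ^ 3 = 1 := Subtype.ext (by simpa using congrArg Subtype.val e2)
      rw [e1', e2', one_mul]
    rw [Finset.filter_true_of_mem (fun a _ => hall a), Finset.card_univ,
      ← Nat.card_eq_fintype_card, ← hmul, h1, h2] at hle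
    omega
  let β : I → J → G → ℂ := fun i j => indFun (W₁ ⊔ W₂) (ctiAlpha i.1 j.1) - fun _ => 1
  have h2₂ : ∀ i i' : I, ∀ w : ↥(W₁ ⊔ W₂), (w : G) ∈ W₂ → i.1 w = 1 ∧ i'.1 w = 1 :=
    fun i i' w hw => ⟨i.2.2 w hw, i'.2.2 w hw⟩
  have h1₁ : ∀ j j' : J, ∀ w : ↥(W₁ ⊔ W₂), (w : G) ∈ W₁ → j.1 w = 1 ∧ j'.1 w = 1 :=
    fun j j' w hw => ⟨j.2.2 w hw, j'.2.2 w hw⟩
  have hagen : ∀ f g : ↥(W₁ ⊔ W₂) →* ℂˣ, IsGeneralizedCharacter ↥(W₁ ⊔ W₂) (ctiAlpha f g) :=
    fun f g => by
      rw [ctiAlpha_eq]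
      exact (((isIrrCharacter_linear 1).isGeneralized.sub (isIrrCharacter_linear f).isGeneralized).sub
        (isIrrCharacter_linear g).isGeneralized).add (isIrrCharacter_linear _).isGeneralized
  have hind1 : ∀ i : I, ∀ j : J,
      classInner (indFun (W₁ ⊔ W₂) (ctiAlpha i.1 j.1)) (fun _ => 1) = 1 := fun i j => by
    rw [classInner_indFun (W₁ ⊔ W₂) _ (fun _ _ => rfl)]
    exact classInner_ctiAlpha_one i.2.1 j.2.1 i.2.2 j.2.2
  obtain ⟨X, Y, Z, hXi, hYi, hZi, horth, hdec⟩ := exists_signed_array (I := I) (J := J)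
    (by omega) (by omega) (by omega) (by omega) (by omega) β
    (fun i j => (isGeneralizedCharacter_indFun _ (hagen _ _)).sub isIrrCharacter_one.isGeneralized)
    (fun i j => by simp [β, indFun_apply_one, ctiAlpha_one])
    (fun i j => by
      rw [classInner_sub_left, hind1, classInner_irr_self isIrrCharacter_one, sub_self])
    (fun i j i' j' => by
      rw [classInner_sub_left, classInner_sub_right, classInner_sub_right, hind1,
        classInner_indFun_cti hW (h2₂ i i') (h1₁ j j'),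
        classInner_ctiAlpha_ctiAlpha i.2.1 i'.2.1 j.2.1 j'.2.1 (h2₂ i i') (h1₁ j j'),
        classInner_irr_self isIrrCharacter_one,
        show classInner (fun _ => (1 : ℂ)) (indFun (W₁ ⊔ W₂) (ctiAlpha i'.1 j'.1)) = 1 by
          rw [← classInner_conj_symm, hind1, map_one]]
      simp only [Subtype.coe_inj]
      ring)
  have hpI : ∀ ω : ↥(W₁ ⊔ W₂) →* ℂˣ, ∀ x : ↥(W₁ ⊔ W₂), (x : G) ∈ W₂ → (ω.comp p) x = 1 :=
    fun ω x hx => by rw [MonoidHom.comp_apply, (hq2 x hx).1, map_one]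
  have hqJ : ∀ ω : ↥(W₁ ⊔ W₂) →* ℂˣ, ∀ x : ↥(W₁ ⊔ W₂), (x : G) ∈ W₁ → (ω.comp q) x = 1 :=
    fun ω x hx => by rw [MonoidHom.comp_apply, (hp1 x hx).2, map_one]
  have hsp : ∀ ω : ↥(W₁ ⊔ W₂) →* ℂˣ, ω.comp p * ω.comp q = ω := fun ω => by
    ext x
    rw [MonoidHom.mul_apply, MonoidHom.comp_apply, MonoidHom.comp_apply, ← map_mul, hpq]
  let idx : (↥(W₁ ⊔ W₂) →* ℂˣ) → Option ((I ⊕ J) ⊕ I × J) := fun ω =>
    if h1 : ω.comp p = 1 then
      if h2 : ω.comp q = 1 then none else some (.inl (.inr ⟨ω.comp q, h2, hqJ ω⟩))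
    else if h2 : ω.comp q = 1 then some (.inl (.inl ⟨ω.comp p, h1, hpI ω⟩))
      else some (.inr (⟨ω.comp p, h1, hpI ω⟩, ⟨ω.comp q, h2, hqJ ω⟩))
  let val : Option ((I ⊕ J) ⊕ I × J) → ↥(W₁ ⊔ W₂) →* ℂˣ := fun o =>
    Option.elim o 1 (Sum.elim (Sum.elim (fun i => i.1) (fun j => j.1)) fun x => x.1.1 * x.2.1)
  have hval : ∀ ω, val (idx ω) = ω := by
    intro ω
    simp only [idx, val]
    split_ifs with h1 h2 h2 <;> simp only [Option.elim_none, Option.elim_some, Sum.elim_inl, Sum.elim_inr]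
    · conv_rhs => rw [← hsp ω, h1, h2, cti_one_mul]
    · conv_rhs => rw [← hsp ω, h1, cti_one_mul]
    · conv_rhs => rw [← hsp ω, h2, cti_mul_one]
    · exact hsp ω
  have hinjidx : Function.Injective idx := fun a b h => by rw [← hval a, h, hval b]
  let χ : (↥(W₁ ⊔ W₂) →* ℂˣ) → (G → ℂ) := fun ω =>
    Option.elim (idx ω) (fun _ => 1) (Sum.elim (Sum.elim X Y) fun x => Z x.1 x.2)
  have horth' : ∀ ω ω', classInner (χ ω) (χ ω') = if ω = ω' then 1 else 0 := fun ω ω' => by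
    show classInner (Option.elim (idx ω) _ _) (Option.elim (idx ω') _ _) = _
    rw [horth (idx ω) (idx ω')]
    by_cases h : ω = ω'
    · subst h; simp
    · rw [if_neg h, if_neg (hinjidx.ne h)]
  have hirr : ∀ ω, IsIrrCharacter G (χ ω) ∨ IsIrrCharacter G (-χ ω) := fun ω => by
    simp only [χ]
    rcases idx ω with _ | (i | j) | ⟨i, j⟩
    · exact Or.inl isIrrCharacter_one
    · exact hXi i
    · exact hYi j
    · exact hZi i j
  have hid : ∀ f : ↥(W₁ ⊔ W₂) →* ℂˣ, ∀ g : ↥(W₁ ⊔ W₂) →* ℂˣ,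
      (∀ w : ↥(W₁ ⊔ W₂), (w : G) ∈ W₂ → f w = 1) →
      (∀ w : ↥(W₁ ⊔ W₂), (w : G) ∈ W₁ → g w = 1) →
      (f * g).comp p = f ∧ (f * g).comp q = g := by
    intro f g hf hg
    constructor
    · refine cti_hom_ext (fun w hw => ?_) (fun w hw => ?_)
      · rw [MonoidHom.comp_apply, (hp1 w hw).1, MonoidHom.mul_apply, hg w hw, mul_one]
      · rw [MonoidHom.comp_apply, (hq2 w hw).1, map_one, hf w hw]
    · refine cti_hom_ext (fun w hw => ?_) (fun w hw => ?_)
      · rw [MonoidHom.comp_apply, (hp1 w hw).2, map_one, hg w hw]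
      · rw [MonoidHom.comp_apply, (hq2 w hw).2, MonoidHom.mul_apply, hf w hw, one_mul]
  have hidx0 : idx 1 = none := by simp [idx]
  have hidxI : ∀ i : I, idx i.1 = some (.inl (.inl i)) := by
    intro i
    obtain ⟨e1, e2⟩ := hid i.1 1 i.2.2 (fun _ _ => rfl)
    rw [cti_mul_one] at e1 e2
    simp only [idx]
    rw [dif_neg (by rw [e1]; exact i.2.1), dif_pos e2]
    exact congrArg (fun a => some (Sum.inl (Sum.inl a))) (Subtype.ext e1)
  have hidxJ : ∀ j : J, idx j.1 = some (.inl (.inr j)) := by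
    intro j
    obtain ⟨e1, e2⟩ := hid 1 j.1 (fun _ _ => rfl) j.2.2
    rw [cti_one_mul] at e1 e2
    simp only [idx]
    rw [dif_pos e1, dif_neg (by rw [e2]; exact j.2.1)]
    exact congrArg (fun a => some (Sum.inl (Sum.inr a))) (Subtype.ext e2)
  have hidxIJ : ∀ (i : I) (j : J), idx (i.1 * j.1) = some (.inr (i, j)) := by
    intro i j
    obtain ⟨e1, e2⟩ := hid i.1 j.1 i.2.2 j.2.2
    simp only [idx]
    rw [dif_neg (by rw [e1]; exact i.2.1), dif_neg (by rw [e2]; exact j.2.1)]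
    exact congrArg (fun a => some (Sum.inr a)) (Prod.ext (Subtype.ext e1) (Subtype.ext e2))
  have hmap1 : χ 1 = fun _ => 1 := by simp [χ, hidx0]
  have hind : ∀ (i : I) (j : J), indFun (W₁ ⊔ W₂) (ctiAlpha i.1 j.1) =
      χ 1 - χ i.1 - χ j.1 + χ (i.1 * j.1) := by
    intro i j
    have e : indFun (W₁ ⊔ W₂) (ctiAlpha i.1 j.1) = (fun _ => 1) + β i j := by simp [β]
    rw [e, hdec i j, hmap1]
    simp only [χ, hidxI, hidxJ, hidxIJ, Option.elim_some, Sum.elim_inl, Sum.elim_inr]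
    abel
  have hcf : ∀ ω, IsClassFunction G (χ ω) := fun ω => by
    rcases hirr ω with h | h
    · exact h.isClassFunction
    · intro a b
      have := h.isClassFunction a b
      simpa using this
  refine ⟨χ, hirr, fun a b => by rw [horth' a b]; by_cases h : a = b <;> simp [h], hmap1, ?_,
    fun f g hf hg hf2 hg1 => (hind ⟨f, hf, hf2⟩ ⟨g, hg, hg1⟩).trans (by rw [hmap1]; rfl)⟩
  intro ω w hw₁ hw₂
  have hz := cti_eq_zero_of_orthogonal hdisj hcomm hab
    (g := (fun x : ↥(W₁ ⊔ W₂) => χ ω x) - fun x => (ω x : ℂ)) (fun f g hf hg hf2 hg1 => ?_) w hw₁ hw₂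
  · exact sub_eq_zero.mp (by simpa using hz)
  · rw [classInner_sub_right, ← classInner_indFun (W₁ ⊔ W₂) _ (hcf ω),
      hind ⟨f, hf, hf2⟩ ⟨g, hg, hg1⟩, classInner_ctiAlpha_linear, classInner_add_left,
      classInner_sub_left, classInner_sub_left, horth', horth', horth', horth']
    ring

end Exist

end Cfsg.Lib.Char
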