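import Cfsg.Agent.Lib.Char.Linear
import Cfsg.Agent.Lib.Char.TI
import Cfsg.Prelude.Def_OddOrderChar
import Cfsg.Prelude.Def_OddOrderLocal

/-!
# A cyclic TI subgroup `W = W₁ × W₂` and its linear characters

The functions `(1 - φ) (1 - ψ)`, their inner products, and the rectangle rule.
-/

set_option autoImplicit false
set_option linter.unusedSectionVars false
set_option linter.style.haveILetI false

namespace Cfsg.Lib.Char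

open Cfsg
open scoped ComplexConjugate

universe u

variable {G : Type u} [Group G] {W₁ W₂ : Subgroup G}

/-- The function `(1 - φ) (1 - ψ)` on `W`. -/
noncomputable def ctiAlpha {W : Type u} [Group W] (φ ψ : W →* ℂˣ) : W → ℂ :=
  fun w => 1 - (φ w : ℂ) - (ψ w : ℂ) + (φ w : ℂ) * (ψ w : ℂ)

theorem cti_one_mul {W : Type u} [Group W] (f : W →* ℂˣ) : (1 : W →* ℂˣ) * f = f :=
  MonoidHom.ext fun a => by simp

theorem cti_mul_one {W : Type u} [Group W] (f : W →* ℂˣ) : f * (1 : W →* ℂˣ) = f :=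
  MonoidHom.ext fun a => by simp

theorem ctiAlpha_eq {W : Type u} [Group W] (φ ψ : W →* ℂˣ) :
    ctiAlpha φ ψ = (fun w => ((1 : W →* ℂˣ) w : ℂ)) - (fun w => (φ w : ℂ)) - (fun w => (ψ w : ℂ)) +
      (fun w => ((φ * ψ) w : ℂ)) := by
  funext w
  simp [ctiAlpha]

theorem cti_hom_ext {f g : ↥(W₁ ⊔ W₂) →* ℂˣ}
    (h₁ : ∀ w : ↥(W₁ ⊔ W₂), (w : G) ∈ W₁ → f w = g w)
    (h₂ : ∀ w : ↥(W₁ ⊔ W₂), (w : G) ∈ W₂ → f w = g w) : f = g := by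
  have hle : W₁ ⊔ W₂ ≤ (f.eqLocus g).map (W₁ ⊔ W₂).subtype := sup_le
    (fun x hx => ⟨⟨x, Subgroup.mem_sup_left hx⟩, h₁ _ hx, rfl⟩)
    (fun x hx => ⟨⟨x, Subgroup.mem_sup_right hx⟩, h₂ _ hx, rfl⟩)
  ext w
  obtain ⟨w', hw', e⟩ := hle w.2
  rw [show w = w' from Subtype.ext e.symm, hw']

/-- The two projections of `W = W₁ × W₂`. -/
theorem cti_exists_proj (hdisj : W₁ ⊓ W₂ = ⊥) (hcomm : ∀ a ∈ W₁, ∀ b ∈ W₂, a * b = b * a) :
    ∃ p q : ↥(W₁ ⊔ W₂) →* ↥(W₁ ⊔ W₂), (∀ w, (p w : G) ∈ W₁) ∧ (∀ w, (q w : G) ∈ W₂) ∧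
      (∀ w, p w * q w = w) ∧ (∀ w : ↥(W₁ ⊔ W₂), (w : G) ∈ W₁ → p w = w ∧ q w = 1) ∧
      (∀ w : ↥(W₁ ⊔ W₂), (w : G) ∈ W₂ → p w = 1 ∧ q w = w) := by
  classical
  let f : ↥W₁ × ↥W₂ →* ↥(W₁ ⊔ W₂) :=
    (Subgroup.inclusion le_sup_left).noncommCoprod (Subgroup.inclusion le_sup_right) fun a b =>
      Subtype.ext (hcomm a a.2 b b.2)
  have hf : ∀ x, (f x : G) = (x.1 : G) * x.2 := fun x => rfl
  have hinj : Function.Injective f := by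
    intro x y h
    have h' : (x.1 : G) * x.2 = y.1 * y.2 := by rw [← hf, ← hf, h]
    have h1 : (y.1 : G)⁻¹ * x.1 = y.2 * (x.2 : G)⁻¹ := by
      rw [eq_mul_inv_iff_mul_eq, mul_assoc, h', inv_mul_cancel_left]
    have h2 : (y.1 : G)⁻¹ * x.1 ∈ W₁ ⊓ W₂ := ⟨W₁.mul_mem (W₁.inv_mem y.1.2) x.1.2,
      h1 ▸ W₂.mul_mem y.2.2 (W₂.inv_mem x.2.2)⟩
    rw [hdisj, Subgroup.mem_bot] at h2
    rw [h2] at h1
    exact Prod.ext (Subtype.ext (inv_mul_eq_one.mp h2).symm)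
      (Subtype.ext (mul_inv_eq_one.mp h1.symm).symm)
  have hsurj : Function.Surjective f := by
    intro w
    have hle : W₁ ⊔ W₂ ≤ f.range.map (W₁ ⊔ W₂).subtype := sup_le
      (fun x hx => ⟨_, ⟨(⟨x, hx⟩, 1), rfl⟩, by simp [hf]⟩)
      (fun x hx => ⟨_, ⟨(1, ⟨x, hx⟩), rfl⟩, by simp [hf]⟩)
    obtain ⟨-, ⟨v, rfl⟩, hv⟩ := hle w.2
    exact ⟨v, Subtype.ext hv⟩
  let e := MulEquiv.ofBijective f ⟨hinj, hsurj⟩
  refine ⟨f.comp (((MonoidHom.id _).comp (MonoidHom.fst _ _)).prod 1 |>.comp e.symm.toMonoidHom),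
    f.comp ((1 : _ →* ↥W₁).prod (MonoidHom.snd _ _) |>.comp e.symm.toMonoidHom),
    fun w => by simp [hf], fun w => by simp [hf], fun w => ?_, fun w hw => ?_, fun w hw => ?_⟩
  · obtain ⟨x, rfl⟩ := e.surjective w
    simp only [MonoidHom.comp_apply]
    rw [← map_mul]
    simp [e]; rfl
  · have : e.symm w = (⟨w, hw⟩, 1) :=
      (MulEquiv.symm_apply_eq e).mpr (Subtype.ext (by
        show (w : G) = ((f _) : G); rw [hf]; simp))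
    exact ⟨Subtype.ext (by simp [this, hf]), Subtype.ext (by simp [this, hf])⟩
  · have : e.symm w = (1, ⟨w, hw⟩) :=
      (MulEquiv.symm_apply_eq e).mpr (Subtype.ext (by
        show (w : G) = ((f _) : G); rw [hf]; simp))
    exact ⟨Subtype.ext (by simp [this, hf]), Subtype.ext (by simp [this, hf])⟩

section Vanishing

variable {φ ψ : ↥(W₁ ⊔ W₂) →* ℂˣ}

theorem ctiAlpha_eq_zero (hφ₂ : ∀ w : ↥(W₁ ⊔ W₂), (w : G) ∈ W₂ → φ w = 1)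
    (hψ₁ : ∀ w : ↥(W₁ ⊔ W₂), (w : G) ∈ W₁ → ψ w = 1) {w : ↥(W₁ ⊔ W₂)}
    (hw : (w : G) ∈ W₁ ∨ (w : G) ∈ W₂) : ctiAlpha φ ψ w = 0 := by
  rcases hw with h | h
  · simp [ctiAlpha, hψ₁ w h]
  · simp [ctiAlpha, hφ₂ w h]

theorem ctiAlpha_one : ctiAlpha φ ψ 1 = 0 := by simp [ctiAlpha]

theorem isClassFunction_ctiAlpha : IsClassFunction ↥(W₁ ⊔ W₂) (ctiAlpha φ ψ) := fun g h => by
  simp only [ctiAlpha, map_mul, map_inv]
  rw [mul_right_comm (φ h), mul_inv_cancel, one_mul, mul_right_comm (ψ h), mul_inv_cancel, one_mul]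

end Vanishing

variable [Fintype ↥(W₁ ⊔ W₂)]

open Classical in
theorem classInner_linear {W : Type u} [Group W] [Fintype W] (φ ψ : W →* ℂˣ) :
    classInner (fun w => (φ w : ℂ)) (fun w => (ψ w : ℂ)) = if φ = ψ then 1 else 0 := by
  split_ifs with h
  · subst h; exact classInner_irr_self (isIrrCharacter_linear φ)
  · exact classInner_irr_ne (isIrrCharacter_linear φ) (isIrrCharacter_linear ψ)
      fun e => h (linearChar_injective e)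

section Pairs

variable {φ φ' ψ ψ' : ↥(W₁ ⊔ W₂) →* ℂˣ}

theorem cti_eq_one (hφ₂ : ∀ w : ↥(W₁ ⊔ W₂), (w : G) ∈ W₂ → φ w = 1)
    (hφ₁ : ∀ w : ↥(W₁ ⊔ W₂), (w : G) ∈ W₁ → φ w = 1) : φ = 1 :=
  cti_hom_ext hφ₁ hφ₂

theorem cti_pair_inj (hφ₂ : ∀ w : ↥(W₁ ⊔ W₂), (w : G) ∈ W₂ → φ w = 1 ∧ φ' w = 1)
    (hψ₁ : ∀ w : ↥(W₁ ⊔ W₂), (w : G) ∈ W₁ → ψ w = 1 ∧ ψ' w = 1) (h : φ * ψ = φ' * ψ') :
    φ = φ' ∧ ψ = ψ' := by
  have e : ∀ w, φ w * ψ w = φ' w * ψ' w := fun w => DFunLike.congr_fun h w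
  exact ⟨cti_hom_ext (fun w hw => by simpa [hψ₁ w hw] using e w)
      (fun w hw => by rw [(hφ₂ w hw).1, (hφ₂ w hw).2]),
    cti_hom_ext (fun w hw => by rw [(hψ₁ w hw).1, (hψ₁ w hw).2])
      (fun w hw => by simpa [hφ₂ w hw] using e w)⟩

theorem cti_ne_of (hφ₂ : ∀ w : ↥(W₁ ⊔ W₂), (w : G) ∈ W₂ → φ w = 1) (hφ : φ ≠ 1)
    (hψ₁ : ∀ w : ↥(W₁ ⊔ W₂), (w : G) ∈ W₁ → ψ w = 1) : φ ≠ ψ := fun h =>
  hφ (cti_eq_one hφ₂ fun w hw => h ▸ hψ₁ w hw)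

end Pairs

open Classical in
theorem classInner_ctiAlpha_linear {φ ψ ω : ↥(W₁ ⊔ W₂) →* ℂˣ} :
    classInner (ctiAlpha φ ψ) (fun w => (ω w : ℂ)) =
      (if 1 = ω then 1 else 0) - (if φ = ω then 1 else 0) - (if ψ = ω then 1 else 0) +
        (if φ * ψ = ω then 1 else 0) := by
  rw [ctiAlpha_eq, classInner_add_left, classInner_sub_left, classInner_sub_left,
    classInner_linear, classInner_linear, classInner_linear, classInner_linear]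

theorem classInner_ctiAlpha_one {φ ψ : ↥(W₁ ⊔ W₂) →* ℂˣ} (hφ : φ ≠ 1) (hψ : ψ ≠ 1)
    (hφ₂ : ∀ w : ↥(W₁ ⊔ W₂), (w : G) ∈ W₂ → φ w = 1)
    (hψ₁ : ∀ w : ↥(W₁ ⊔ W₂), (w : G) ∈ W₁ → ψ w = 1) :
    classInner (ctiAlpha φ ψ) (fun _ => 1) = 1 := by
  classical
  have h : φ * ψ ≠ 1 := fun h => hφ (cti_pair_inj (φ' := 1) (ψ' := 1)
    (fun w hw => ⟨hφ₂ w hw, rfl⟩) (fun w hw => ⟨hψ₁ w hw, rfl⟩) (h.trans (cti_one_mul _).symm)).1
  have h1 : classInner (ctiAlpha φ ψ) (fun w => ((1 : ↥(W₁ ⊔ W₂) →* ℂˣ) w : ℂ)) = 1 := by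
    rw [classInner_ctiAlpha_linear, if_pos rfl, if_neg hφ, if_neg hψ, if_neg h]
    ring
  simpa using h1

open Classical in
theorem classInner_ctiAlpha_ctiAlpha {φ φ' ψ ψ' : ↥(W₁ ⊔ W₂) →* ℂˣ} (hφ : φ ≠ 1) (hφ' : φ' ≠ 1)
    (hψ : ψ ≠ 1) (hψ' : ψ' ≠ 1) (hφ₂ : ∀ w : ↥(W₁ ⊔ W₂), (w : G) ∈ W₂ → φ w = 1 ∧ φ' w = 1)
    (hψ₁ : ∀ w : ↥(W₁ ⊔ W₂), (w : G) ∈ W₁ → ψ w = 1 ∧ ψ' w = 1) :
    classInner (ctiAlpha φ ψ) (ctiAlpha φ' ψ') = 1 + (if φ = φ' then 1 else 0) +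
      (if ψ = ψ' then 1 else 0) + (if φ = φ' then 1 else 0) * (if ψ = ψ' then 1 else 0) := by
  conv_lhs => arg 2; rw [ctiAlpha_eq]
  rw [classInner_add_right, classInner_sub_right, classInner_sub_right, classInner_ctiAlpha_linear,
    classInner_ctiAlpha_linear, classInner_ctiAlpha_linear, classInner_ctiAlpha_linear]
  have a2 := fun w hw => (hφ₂ w hw).1
  have a2' := fun w hw => (hφ₂ w hw).2
  have b1 := fun w hw => (hψ₁ w hw).1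
  have b1' := fun w hw => (hψ₁ w hw).2
  have t2 : ∀ w : ↥(W₁ ⊔ W₂), (w : G) ∈ W₂ → (1 : ↥(W₁ ⊔ W₂) →* ℂˣ) w = 1 := fun w _ => rfl
  have t1 : ∀ w : ↥(W₁ ⊔ W₂), (w : G) ∈ W₁ → (1 : ↥(W₁ ⊔ W₂) →* ℂˣ) w = 1 := fun w _ => rfl
  have inj := @cti_pair_inj G _ W₁ W₂ _
  have n1 : φ * ψ ≠ 1 := fun h => hφ (inj (φ' := 1) (ψ' := 1)
    (fun w hw => ⟨a2 w hw, t2 w hw⟩) (fun w hw => ⟨b1 w hw, t1 w hw⟩) (h.trans (cti_one_mul _).symm)).1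
  have n2 : φ * ψ ≠ φ' := fun h => hψ (inj (φ' := φ') (ψ' := 1) (φ := φ) (ψ := ψ) hφ₂
    (fun w hw => ⟨b1 w hw, t1 w hw⟩) (h.trans (cti_mul_one _).symm)).2
  have n3 : φ * ψ ≠ ψ' := fun h => hφ (inj (φ' := 1) (ψ' := ψ') (φ := φ) (ψ := ψ)
    (fun w hw => ⟨a2 w hw, t2 w hw⟩) hψ₁ (h.trans (cti_one_mul _).symm)).1
  have m1 : 1 ≠ φ' * ψ' := fun h => hφ' (inj (φ := φ') (ψ := ψ') (φ' := 1) (ψ' := 1)
    (fun w hw => ⟨a2' w hw, t2 w hw⟩) (fun w hw => ⟨b1' w hw, t1 w hw⟩) (h.symm.trans (cti_one_mul _).symm)).1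
  have m2 : φ ≠ φ' * ψ' := fun h => hψ' (inj (φ := φ') (ψ := ψ') (φ' := φ) (ψ' := 1)
    (fun w hw => ⟨a2' w hw, a2 w hw⟩) (fun w hw => ⟨b1' w hw, t1 w hw⟩) (h.symm.trans (cti_mul_one _).symm)).2
  have m3 : ψ ≠ φ' * ψ' := fun h => hφ' (inj (φ := φ') (ψ := ψ') (φ' := 1) (ψ' := ψ)
    (fun w hw => ⟨a2' w hw, t2 w hw⟩) (fun w hw => ⟨b1' w hw, b1 w hw⟩) (h.symm.trans (cti_one_mul _).symm)).1
  have hff : (φ * ψ = φ' * ψ') ↔ (φ = φ' ∧ ψ = ψ') :=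
    ⟨fun h => inj hφ₂ hψ₁ h, fun h => by rw [h.1, h.2]⟩
  simp only [if_true, if_neg hφ, if_neg hψ, if_neg n1, if_neg hφ'.symm, if_neg hψ'.symm,
    if_neg n2, if_neg n3, if_neg m1, if_neg m2, if_neg m3, if_neg (cti_ne_of a2 hφ b1'),
    if_neg (cti_ne_of a2' hφ' b1).symm, hff]
  by_cases h : φ = φ' <;> by_cases h' : ψ = ψ' <;> simp [h, h']

/-- The functions `(1 - φ) (1 - ψ)` are linearly independent. -/
theorem linearIndependent_ctiAlpha :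
    LinearIndependent ℂ (fun p : {p : (↥(W₁ ⊔ W₂) →* ℂˣ) × (↥(W₁ ⊔ W₂) →* ℂˣ) //
      p.1 ≠ 1 ∧ p.2 ≠ 1 ∧ (∀ w : ↥(W₁ ⊔ W₂), (w : G) ∈ W₂ → p.1 w = 1) ∧
        (∀ w : ↥(W₁ ⊔ W₂), (w : G) ∈ W₁ → p.2 w = 1)} => ctiAlpha p.1.1 p.1.2) := by
  classical
  rw [linearIndependent_iff']
  intro s g hg p hp
  have h1 := congrArg (fun F => classInner F (fun w => ((p.1.1 * p.1.2) w : ℂ))) hg
  simp only [classInner_sum_left, classInner_smul_left, classInner_zero_left] at h1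
  obtain ⟨⟨φ, ψ⟩, hφ, hψ, hφ₂, hψ₁⟩ := p
  have key : ∀ φ' ψ' : ↥(W₁ ⊔ W₂) →* ℂˣ, φ' ≠ 1 → ψ' ≠ 1 →
      (∀ w : ↥(W₁ ⊔ W₂), (w : G) ∈ W₂ → φ' w = 1) →
      (∀ w : ↥(W₁ ⊔ W₂), (w : G) ∈ W₁ → ψ' w = 1) →
      classInner (ctiAlpha φ' ψ') (fun w => ((φ * ψ) w : ℂ)) =
        if φ' = φ ∧ ψ' = ψ then 1 else 0 := by
    intro φ' ψ' hφ' hψ' hφ₂' hψ₁'
    rw [classInner_ctiAlpha_linear]
    have inj := @cti_pair_inj G _ W₁ W₂ _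
    have n1 : 1 ≠ φ * ψ := fun h => hφ (inj (φ := φ) (ψ := ψ) (φ' := 1) (ψ' := 1)
      (fun w hw => ⟨hφ₂ w hw, rfl⟩) (fun w hw => ⟨hψ₁ w hw, rfl⟩) (h.symm.trans (cti_one_mul _).symm)).1
    have n2 : φ' ≠ φ * ψ := fun h => hψ (inj (φ := φ) (ψ := ψ) (φ' := φ') (ψ' := 1)
      (fun w hw => ⟨hφ₂ w hw, hφ₂' w hw⟩) (fun w hw => ⟨hψ₁ w hw, rfl⟩) (h.symm.trans (cti_mul_one _).symm)).2
    have n3 : ψ' ≠ φ * ψ := fun h => hφ (inj (φ := φ) (ψ := ψ) (φ' := 1) (ψ' := ψ')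
      (fun w hw => ⟨hφ₂ w hw, rfl⟩) (fun w hw => ⟨hψ₁ w hw, hψ₁' w hw⟩) (h.symm.trans (cti_one_mul _).symm)).1
    have hff : (φ' * ψ' = φ * ψ) ↔ (φ' = φ ∧ ψ' = ψ) :=
      ⟨fun h => inj (fun w hw => ⟨hφ₂' w hw, hφ₂ w hw⟩) (fun w hw => ⟨hψ₁' w hw, hψ₁ w hw⟩) h,
        fun h => by rw [h.1, h.2]⟩
    simp only [if_neg n1, if_neg n2, if_neg n3, hff]
    ring
  rw [Finset.sum_eq_single_of_mem _ hp fun q _ hne => by
    rw [key _ _ q.2.1 q.2.2.1 q.2.2.2.1 q.2.2.2.2,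
      if_neg fun h => hne (Subtype.ext (Prod.ext h.1 h.2)), mul_zero],
    key φ ψ hφ hψ hφ₂ hψ₁, if_pos ⟨rfl, rfl⟩, mul_one] at h1
  exact h1

/-- A function on `W` orthogonal to every `(1 - φ) (1 - ψ)` vanishes outside `W₁ ∪ W₂`
once it vanishes on `W₁ ∪ W₂`. -/
theorem cti_eq_zero_of_orthogonal (hdisj : W₁ ⊓ W₂ = ⊥)
    (hcomm : ∀ a ∈ W₁, ∀ b ∈ W₂, a * b = b * a) (hab : ∀ a b : ↥(W₁ ⊔ W₂), a * b = b * a)
    {g : ↥(W₁ ⊔ W₂) → ℂ}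
    (horth : ∀ φ ψ : ↥(W₁ ⊔ W₂) →* ℂˣ, φ ≠ 1 → ψ ≠ 1 →
      (∀ w : ↥(W₁ ⊔ W₂), (w : G) ∈ W₂ → φ w = 1) →
      (∀ w : ↥(W₁ ⊔ W₂), (w : G) ∈ W₁ → ψ w = 1) → classInner (ctiAlpha φ ψ) g = 0)
    (w : ↥(W₁ ⊔ W₂)) (hw₁ : (w : G) ∉ W₁) (hw₂ : (w : G) ∉ W₂) : g w = 0 := by
  classical
  obtain ⟨p, q, hp, hq, hpq, hp1, hq2⟩ := cti_exists_proj hdisj hcomm
  set c : (↥(W₁ ⊔ W₂) →* ℂˣ) → ℂ := fun ω => classInner g (fun x => (ω x : ℂ)) with hc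
  have hpc : ∀ ω : ↥(W₁ ⊔ W₂) →* ℂˣ, ∀ x : ↥(W₁ ⊔ W₂), (x : G) ∈ W₂ → (ω.comp p) x = 1 :=
    fun ω x hx => by rw [MonoidHom.comp_apply, (hq2 x hx).1, map_one]
  have hqc : ∀ ω : ↥(W₁ ⊔ W₂) →* ℂˣ, ∀ x : ↥(W₁ ⊔ W₂), (x : G) ∈ W₁ → (ω.comp q) x = 1 :=
    fun ω x hx => by rw [MonoidHom.comp_apply, (hp1 x hx).2, map_one]
  have hsplit : ∀ ω : ↥(W₁ ⊔ W₂) →* ℂˣ, ω.comp p * ω.comp q = ω := fun ω => by
    ext x
    rw [MonoidHom.mul_apply, MonoidHom.comp_apply, MonoidHom.comp_apply, ← map_mul, hpq]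
  have hrect : ∀ ω, c ω = c (ω.comp p) + c (ω.comp q) - c 1 := by
    intro ω
    by_cases h1 : ω.comp p = 1
    · have : ω.comp q = ω := by simpa [h1, cti_one_mul] using hsplit ω
      rw [h1, this]; ring
    by_cases h2 : ω.comp q = 1
    · have : ω.comp p = ω := by simpa [h2, cti_mul_one] using hsplit ω
      rw [h2, this]; ring
    have h3 := horth _ _ h1 h2 (hpc ω) (hqc ω)
    have h4 : classInner g (ctiAlpha (ω.comp p) (ω.comp q)) = 0 := by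
      rw [← classInner_conj_symm, h3, map_zero]
    rw [ctiAlpha_eq, hsplit, classInner_add_right, classInner_sub_right, classInner_sub_right] at h4
    simp only [hc]
    linear_combination h4
  have hg : IsClassFunction ↥(W₁ ⊔ W₂) g := fun x y => by rw [hab y x, mul_inv_cancel_right]
  have hexp : g w = ∑ χ : IrrCharacter ↥(W₁ ⊔ W₂),
      classInner g (χ : ↥(W₁ ⊔ W₂) → ℂ) * (χ : ↥(W₁ ⊔ W₂) → ℂ) w := by
    conv_lhs => rw [eq_sum_classInner hg]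
    simp [Finset.sum_apply]
  letI : Fintype (↥(W₁ ⊔ W₂) →* ℂˣ) := Fintype.ofEquiv _
    (linearCharEquiv.trans (Equiv.subtypeUnivEquiv fun χ => degree_eq_one_of_comm hab χ.2)).symm
  have hexp' : g w = ∑ ω : ↥(W₁ ⊔ W₂) →* ℂˣ, c ω * (ω w : ℂ) := by
    rw [hexp]
    refine (Fintype.sum_equiv
      (linearCharEquiv.trans (Equiv.subtypeUnivEquiv fun χ => degree_eq_one_of_comm hab χ.2))
      _ _ fun ω => ?_).symm
    rfl
  -- a sum invariant under multiplication by a character not trivial at `w` vanishes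
  have hvan : ∀ (r : ↥(W₁ ⊔ W₂) →* ↥(W₁ ⊔ W₂)) (s : ↥(W₁ ⊔ W₂) →* ↥(W₁ ⊔ W₂)),
      (∀ x, s (r x) = 1) → s w ≠ 1 →
      ∑ ω : ↥(W₁ ⊔ W₂) →* ℂˣ, c (ω.comp r) * (ω w : ℂ) = 0 := by
    intro r s hrs hs
    obtain ⟨χ, hχ⟩ : ∃ χ : IrrCharacter ↥(W₁ ⊔ W₂), (χ : ↥(W₁ ⊔ W₂) → ℂ) (s w) ≠ (χ : ↥(W₁ ⊔ W₂) → ℂ) 1 := by
      by_contra hall
      push Not at hall
      obtain ⟨y, hy⟩ := isConj_iff.mp ((isConj_iff_forall_irr (s w) 1).mpr hall).symm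
      rw [mul_one, mul_inv_cancel] at hy
      exact hs hy.symm
    obtain ⟨l, hl⟩ := exists_hom_of_degree_one χ.2.isCharacter (degree_eq_one_of_comm hab χ.2)
    rw [hl] at hχ
    simp only [map_one, Units.val_one] at hχ
    set η := l.comp s with hη
    have hηr : η.comp r = 1 := by ext x; simp [hη, hrs]
    set S := ∑ ω : ↥(W₁ ⊔ W₂) →* ℂˣ, c (ω.comp r) * (ω w : ℂ) with hS
    have h1 : S = (η w : ℂ) * S := by
      conv_lhs => rw [hS, ← Fintype.sum_equiv (Equiv.mulRight η)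
        (fun ω => c ((ω * η).comp r) * ((ω * η) w : ℂ)) _ (fun ω => rfl)]
      rw [hS, Finset.mul_sum]
      refine Finset.sum_congr rfl fun ω _ => ?_
      rw [show (ω * η).comp r = ω.comp r * η.comp r from MonoidHom.mul_comp _ _ _, hηr, cti_mul_one,
        MonoidHom.mul_apply, Units.val_mul]
      ring
    by_contra hne
    exact hχ (mul_right_cancel₀ hne (by rw [one_mul]; exact h1.symm))
  have hqw : q w ≠ 1 := fun h => hw₁ (by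
    have := hpq w; rw [h, mul_one] at this; rw [← this]; exact hp w)
  have hpw : p w ≠ 1 := fun h => hw₂ (by
    have := hpq w; rw [h, one_mul] at this; rw [← this]; exact hq w)
  have hw1 : w ≠ 1 := fun h => hw₁ (by rw [h]; exact W₁.one_mem)
  have e1 := hvan p q (fun x => (hp1 _ (hp x)).2) hqw
  have e2 := hvan q p (fun x => (hq2 _ (hq x)).1) hpw
  have e3 := hvan 1 (MonoidHom.id _) (fun x => rfl) hw1
  simp only [MonoidHom.comp_one] at e3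
  rw [hexp', Finset.sum_congr rfl (g := fun ω => c (ω.comp p) * (ω w : ℂ) +
    c (ω.comp q) * (ω w : ℂ) - c 1 * (ω w : ℂ)) fun ω _ => by rw [hrect ω]; ring,
    Finset.sum_sub_distrib, Finset.sum_add_distrib, e1, e2, e3]
  ring

section TI

omit [Fintype ↥(W₁ ⊔ W₂)]

/-- Outside `W₁ ∪ W₂`, the subgroup `W` is a TI subset with normaliser `W`. -/
theorem cti_conj_notMem [Finite G] (hW : IsSelfNormalizingCyclic W₁ W₂) {x : G}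
    (hx : x ∉ W₁ ⊔ W₂) {t : G} (ht : t ∈ (↑(W₁ ⊔ W₂) : Set G) \ (↑W₁ ∪ ↑W₂)) :
    x * t * x⁻¹ ∉ (↑(W₁ ⊔ W₂) : Set G) \ (↑W₁ ∪ ↑W₂) := by
  classical
  obtain ⟨-, -, -, -, hcyc, hN⟩ := hW
  intro ht'
  apply hx
  have hsame : Subgroup.zpowers (x * t * x⁻¹) = Subgroup.zpowers t := by
    let T : ↥(W₁ ⊔ W₂) := ⟨t, ht.1⟩
    let T' : ↥(W₁ ⊔ W₂) := ⟨x * t * x⁻¹, ht'.1⟩
    haveI := Fintype.ofFinite ↥(W₁ ⊔ W₂)
    have ho : orderOf T' = orderOf T := by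
      rw [← Subgroup.orderOf_coe, ← Subgroup.orderOf_coe]
      exact orderOf_injective (MulAut.conj x).toMonoidHom (MulAut.conj x).injective t
    have hmem : ∀ a : ↥(W₁ ⊔ W₂), a ^ orderOf T = 1 → a ∈ Subgroup.zpowers T := by
      intro a ha
      have hle := IsCyclic.card_pow_eq_one_le (α := ↥(W₁ ⊔ W₂)) (orderOf_pos T)
      have hsub : Finset.univ.filter (· ∈ Subgroup.zpowers T) ⊆
          Finset.univ.filter fun b : ↥(W₁ ⊔ W₂) => b ^ orderOf T = 1 := fun b hb => by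
        obtain ⟨k, rfl⟩ := (Finset.mem_filter.mp hb).2
        refine Finset.mem_filter.mpr ⟨Finset.mem_univ _, ?_⟩
        beta_reduce
        rw [← zpow_natCast, ← zpow_mul, mul_comm, zpow_mul, zpow_natCast, pow_orderOf_eq_one,
          one_zpow]
      have hcard : (Finset.univ.filter (· ∈ Subgroup.zpowers T)).card = orderOf T := by
        rw [← Fintype.card_subtype, ← Nat.card_eq_fintype_card]
        exact Nat.card_zpowers T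
      have := Finset.eq_of_subset_of_card_le hsub (hle.trans hcard.ge)
      have ha' : a ∈ Finset.univ.filter fun b : ↥(W₁ ⊔ W₂) => b ^ orderOf T = 1 := by simp [ha]
      rw [← this] at ha'
      exact (Finset.mem_filter.mp ha').2
    have hle : Subgroup.zpowers T' ≤ Subgroup.zpowers T :=
      Subgroup.zpowers_le.mpr (hmem T' (ho ▸ pow_orderOf_eq_one T'))
    have he := Subgroup.eq_of_le_of_card_ge hle (by rw [Nat.card_zpowers, Nat.card_zpowers, ho])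
    have := congrArg (Subgroup.map (W₁ ⊔ W₂).subtype) he
    simpa [MonoidHom.map_zpowers] using this
  set X : Set G := {s | Subgroup.zpowers s = Subgroup.zpowers t} with hX
  have hXV : X ⊆ (↑(W₁ ⊔ W₂) : Set G) \ (↑W₁ ∪ ↑W₂) := by
    intro s hs
    have hst : t ∈ Subgroup.zpowers s := by rw [hs]; exact Subgroup.mem_zpowers t
    have hts : s ∈ Subgroup.zpowers t := by rw [← hs]; exact Subgroup.mem_zpowers s
    refine ⟨(Subgroup.zpowers_le.mpr (show t ∈ W₁ ⊔ W₂ from ht.1)) hts, ?_⟩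
    rintro (h | h)
    · exact ht.2 (Or.inl ((Subgroup.zpowers_le.mpr h) hst))
    · exact ht.2 (Or.inr ((Subgroup.zpowers_le.mpr h) hst))
  rw [← hN X hXV ⟨t, rfl⟩]
  intro s
  show Subgroup.zpowers s = Subgroup.zpowers t ↔
    Subgroup.zpowers (x * s * x⁻¹) = Subgroup.zpowers t
  have hmap : ∀ a, (Subgroup.zpowers a).map (MulAut.conj x).toMonoidHom =
      Subgroup.zpowers (x * a * x⁻¹) := fun a => by rw [MonoidHom.map_zpowers]; rfl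
  conv_rhs => rw [← hsame, ← hmap t, ← hmap s]
  exact (Subgroup.map_injective (MulAut.conj x).injective).eq_iff.symm

/-- Induction from `W` is an isometry on functions vanishing on `W₁ ∪ W₂`. -/
theorem classInner_indFun_cti [Fintype G] [Fintype ↥(W₁ ⊔ W₂)]
    (hW : IsSelfNormalizingCyclic W₁ W₂) {φ φ' ψ ψ' : ↥(W₁ ⊔ W₂) →* ℂˣ}
    (hφ₂ : ∀ w : ↥(W₁ ⊔ W₂), (w : G) ∈ W₂ → φ w = 1 ∧ φ' w = 1)
    (hψ₁ : ∀ w : ↥(W₁ ⊔ W₂), (w : G) ∈ W₁ → ψ w = 1 ∧ ψ' w = 1) :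
    classInner (indFun (W₁ ⊔ W₂) (ctiAlpha φ ψ)) (indFun (W₁ ⊔ W₂) (ctiAlpha φ' ψ')) =
      classInner (ctiAlpha φ ψ) (ctiAlpha φ' ψ') :=
  classInner_indFun_TI (W₁ ⊔ W₂) ((↑(W₁ ⊔ W₂) : Set G) \ (↑W₁ ∪ ↑W₂))
    (fun _ hx _ ht _ => cti_conj_notMem hW hx ht) isClassFunction_ctiAlpha
    (fun w hw => ctiAlpha_eq_zero (fun a ha => (hφ₂ a ha).1) (fun a ha => (hψ₁ a ha).1)
      (Classical.byContradiction fun h => hw ⟨w.2, h⟩))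
    (fun w hw => ctiAlpha_eq_zero (fun a ha => (hφ₂ a ha).2) (fun a ha => (hψ₁ a ha).2)
      (Classical.byContradiction fun h => hw ⟨w.2, h⟩))
    ctiAlpha_one

end TI

end Cfsg.Lib.Char
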