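import Cfsg.Agent.Lib.Char.ElementaryPart
import Cfsg.Agent.Lib.Coprime.Conjugacy
import Cfsg.Prelude.Def_OddOrderChar
import Cfsg.Prelude.Def_OddOrderLocal

/-!
# The Dade isometry

Basic properties of the Dade hypothesis, the Dade map as a weighted counting function, the isometry
with its adjoint, and the proof by inclusion and exclusion that it preserves generalized characters.
-/

set_option autoImplicit false
set_option linter.unusedSectionVars false
set_option linter.style.haveILetI false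

namespace Cfsg.Lib.Char

open Cfsg
open scoped ComplexConjugate

universe u

variable {G : Type u} [Group G]

section CosetSum

variable [Finite G] (H : Subgroup G) {g : G}

/-- An exponent fixing `g` and killing `H`. -/
theorem exists_pow_fix_kill (hcop : (orderOf g).Coprime (Nat.card H)) :
    ∃ k : ℕ, g ^ k = g ∧ ∀ h ∈ H, h ^ k = 1 := by
  obtain ⟨k, -, ⟨hk1, hk0⟩, -⟩ := exists_part_exponents hcop
  refine ⟨k, by simpa using pow_eq_pow_iff_modEq.mpr hk1, fun h hh => ?_⟩
  have h2 := pow_eq_pow_of_card_dvd (G := H) dvd_rfl hk0 ⟨h, hh⟩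
  simpa using congrArg Subtype.val h2

/-- A coset element of a coprime normalizing element is conjugate into the centralizer. -/
theorem exists_conj_coset_centralizer (hg : g ∈ Subgroup.normalizer (H : Set G))
    (hcop : (orderOf g).Coprime (Nat.card H)) {h : G} (hh : h ∈ H) :
    ∃ x ∈ H, ∃ c ∈ H, c * g = g * c ∧ x * (h * g) * x⁻¹ = c * g := by
  set W := Subgroup.zpowers g
  have hWN : W ≤ Subgroup.normalizer (H : Set G) := Subgroup.zpowers_le.mpr hg
  let N := Subgroup.normalizer (H : Set G)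
  let gN : N := ⟨g, hg⟩
  haveI : (H.subgroupOf N).Normal := Subgroup.normal_in_normalizer
  let y : N := ⟨h, Subgroup.le_normalizer hh⟩ * gN
  obtain ⟨k, k', ⟨hk1, hk0⟩, ⟨hk'1, hk'0⟩, hkk⟩ := exists_part_exponents hcop
  have hyg : (QuotientGroup.mk y : N ⧸ H.subgroupOf N) = QuotientGroup.mk gN := by
    rw [QuotientGroup.mk_mul, (QuotientGroup.eq_one_iff _).mpr (Subgroup.mem_subgroupOf.mpr hh),
      one_mul]
  have hyk : ∀ n : ℕ, ∃ h' ∈ H, (y : G) ^ n = h' * g ^ n := by
    intro n
    have e : (QuotientGroup.mk (y ^ n * (gN ^ n)⁻¹) : N ⧸ H.subgroupOf N) = 1 := by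
      rw [QuotientGroup.mk_mul, QuotientGroup.mk_inv, QuotientGroup.mk_pow, QuotientGroup.mk_pow,
        hyg, mul_inv_cancel]
    rw [QuotientGroup.eq_one_iff, Subgroup.mem_subgroupOf] at e
    exact ⟨_, e, by simp [gN]⟩
  have hyord : (y : G) ^ (orderOf g * Nat.card H) = 1 := by
    obtain ⟨h', hh', e⟩ := hyk (orderOf g)
    rw [pow_mul, e, pow_orderOf_eq_one, mul_one]
    have := pow_card_eq_one' (G := H) (x := ⟨h', hh'⟩)
    simpa only [SubmonoidClass.coe_pow, OneMemClass.coe_one] using congrArg Subtype.val this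
  have hmod : ∀ {a b : ℕ}, a ≡ b [MOD orderOf g * Nat.card H] → (y : G) ^ a = (y : G) ^ b := fun e =>
    pow_eq_pow_iff_modEq.mpr (e.of_dvd (orderOf_dvd_of_pow_eq_one hyord))
  set y1 := (y : G) ^ k with hy1
  set y2 := (y : G) ^ k' with hy2
  have hy2H : y2 ∈ H := by
    obtain ⟨h', hh', e⟩ := hyk k'
    rw [hy2, e, (pow_eq_pow_iff_modEq.mpr hk'1 : g ^ k' = g ^ 0), pow_zero, mul_one]
    exact hh'
  obtain ⟨h1, hh1, e1⟩ := hyk k
  have hgk : g ^ k = g := by simpa using pow_eq_pow_iff_modEq.mpr hk1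
  rw [hgk] at e1
  have hy1pow : y1 ^ orderOf g = 1 := by
    rw [hy1, ← pow_mul, ← pow_zero (y : G)]
    refine hmod ?_
    rw [mul_comm k]
    simpa using hk0.mul_left' (orderOf g)
  have hy1ord : Nat.card (Subgroup.zpowers y1) = Nat.card W := by
    rw [Nat.card_zpowers, Nat.card_zpowers]
    refine Nat.dvd_antisymm (orderOf_dvd_of_pow_eq_one hy1pow) ?_
    obtain ⟨h', hh', e⟩ := hyk (k * orderOf y1)
    rw [pow_mul, ← hy1, pow_orderOf_eq_one, pow_mul, hgk] at e
    have hgH : g ^ orderOf y1 ∈ H := by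
      rw [show g ^ orderOf y1 = h'⁻¹ by rw [eq_inv_iff_mul_eq_one]; exact mul_eq_one_comm.mp e.symm]
      exact H.inv_mem hh'
    refine orderOf_dvd_of_pow_eq_one (orderOf_eq_one_iff.mp
      (Nat.eq_one_of_dvd_coprimes hcop (orderOf_pow_dvd _) ?_))
    rw [← Subgroup.orderOf_mk _ hgH]
    exact orderOf_dvd_natCard _
  have hsol : Group.IsSolvable W := by
    infer_instance
  obtain ⟨n, hn, hB⟩ := Coprime.exists_conj_of_coprime H W (Subgroup.zpowers y1) hWN
    (by rw [Nat.card_zpowers]; exact hcop) (Or.inl hsol)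
    (Subgroup.zpowers_le.mpr (by
      rw [show y1 = h1 * g from e1]
      exact Subgroup.mul_mem_sup hh1 (Subgroup.mem_zpowers g))) hy1ord
  have hy1mem : y1 ∈ W.map (MulAut.conj n).toMonoidHom := hB ▸ Subgroup.mem_zpowers y1
  obtain ⟨w, hw, hwy⟩ := hy1mem
  simp only [MulEquiv.coe_toMonoidHom, MulAut.conj_apply] at hwy
  have hwg : w = g := by
    have h2 : w * g⁻¹ ∈ H := by
      have hy1' : y1 = h1 * g := e1
      have h3 : (n⁻¹ * h1) * (g * n * g⁻¹) ∈ H :=
        mul_mem (mul_mem (inv_mem hn) hh1) ((Subgroup.mem_normalizer_iff.mp hg n).mp hn)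
      rwa [show w * g⁻¹ = n⁻¹ * h1 * (g * n * g⁻¹) by
        rw [show w = n⁻¹ * y1 * n by rw [← hwy]; group, hy1']
        group]
    have h4 : w * g⁻¹ ∈ W := mul_mem hw (inv_mem (Subgroup.mem_zpowers g))
    have h5 : W ⊓ H = ⊥ := disjoint_iff.mp (Coprime.disjoint_of_coprime_card
      (by rw [Nat.card_zpowers]; exact hcop))
    rw [← mul_inv_eq_one, ← Subgroup.mem_bot, ← h5]
    exact ⟨h4, h2⟩
  subst hwg
  refine ⟨n⁻¹, inv_mem hn, n⁻¹ * y2 * n, mul_mem (mul_mem (inv_mem hn) hy2H) hn, ?_, ?_⟩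
  · have hc : Commute y2 y1 := Commute.pow_pow_self _ _ _
    have e2 : w = n⁻¹ * y1 * n := by rw [← hwy]; group
    calc n⁻¹ * y2 * n * w = n⁻¹ * (y2 * y1) * n := by rw [e2]; group
      _ = n⁻¹ * (y1 * y2) * n := by rw [hc.eq]
      _ = w * (n⁻¹ * y2 * n) := by rw [e2]; group
  · have e3 : h * w = y2 * y1 := by
      rw [hy2, hy1, ← pow_add, add_comm, hmod hkk, pow_one]
      rfl
    rw [e3, ← hwy]
    group

/-- The sum of a class function over a coset of a coprime normalizing element, through the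
centralizer. -/
theorem sum_coset_eq [Fintype H] [Fintype ↥(H ⊓ Subgroup.centralizer ({g} : Set G))]
    (hg : g ∈ Subgroup.normalizer (H : Set G)) (hcop : (orderOf g).Coprime (Nat.card H))
    {f : G → ℂ} (hf : IsClassFunction G f) :
    (Nat.card ↥(H ⊓ Subgroup.centralizer ({g} : Set G)) : ℂ) * ∑ h : H, f (g * h) =
      (Nat.card H : ℂ) *
        ∑ c : ↥(H ⊓ Subgroup.centralizer ({g} : Set G)), f (g * (c : G)) := by
  classical
  set C := H ⊓ Subgroup.centralizer ({g} : Set G) with hC
  have hmem : ∀ x : H, ∀ c : C, g⁻¹ * ((x : G) * (g * c) * (x : G)⁻¹) ∈ H := by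
    intro x c
    have h1 : g⁻¹ * x * g ∈ H := by
      have h0 := (Subgroup.mem_normalizer_iff.mp (inv_mem hg) x).mp x.2
      rwa [inv_inv] at h0
    rw [show g⁻¹ * ((x : G) * (g * c) * (x : G)⁻¹) = (g⁻¹ * x * g) * c * (x : G)⁻¹ by group]
    exact mul_mem (mul_mem h1 c.2.1) (inv_mem x.2)
  let Φ : H × C → H := fun p => ⟨_, hmem p.1 p.2⟩
  have hgΦ : ∀ p, g * (Φ p : G) = (p.1 : G) * (g * p.2) * (p.1 : G)⁻¹ := fun p =>
    mul_inv_cancel_left g _
  have hcomm : ∀ c : C, Commute g (c : G) := fun c =>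
    (Subgroup.mem_centralizer_singleton_iff.mp c.2.2).symm
  have hfib : ∀ h : H, Nat.card {p : H × C // Φ p = h} = Nat.card C := by
    intro h
    have hg' : g * h * g⁻¹ ∈ H := (Subgroup.mem_normalizer_iff.mp hg h).mp h.2
    obtain ⟨x, hx, c, hc, hcg, e⟩ := exists_conj_coset_centralizer H hg hcop hg'
    have hcC : c ∈ C := ⟨hc, Subgroup.mem_centralizer_singleton_iff.mpr hcg⟩
    let p0 : H × C := (⟨x⁻¹, inv_mem hx⟩, ⟨c, hcC⟩)
    have hp0 : g * (h : G) = (p0.1 : G) * (g * p0.2) * (p0.1 : G)⁻¹ := by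
      show g * (h : G) = x⁻¹ * (g * c) * (x⁻¹)⁻¹
      rw [← hcg, ← e]
      group
    obtain ⟨k, hgk, hHk⟩ := exists_pow_fix_kill H hcop
    have hkey : ∀ p : H × C, (g * (p.2 : G)) ^ k = g := fun p => by
      rw [(hcomm p.2).mul_pow, hgk, hHk _ p.2.2.1, mul_one]
    refine Nat.card_congr
      { toFun := fun p => ⟨(p0.1 : G)⁻¹ * p.1.1, ?_⟩
        invFun := fun z => ⟨(⟨(p0.1 : G) * z, mul_mem p0.1.2 z.2.1⟩,
          ⟨(z : G)⁻¹ * p0.2 * z, mul_mem (mul_mem (inv_mem (show (z : G) ∈ C from z.2)) p0.2.2)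
            (show (z : G) ∈ C from z.2)⟩), ?_⟩
        left_inv := fun p => ?_
        right_inv := fun z => Subtype.ext (inv_mul_cancel_left _ _) }
    · refine Subgroup.mem_inf.mpr ⟨mul_mem (inv_mem p0.1.2) p.1.1.2, ?_⟩
      have h1 := hgΦ p.1
      rw [p.2, hp0] at h1
      have h2 := congrArg (fun z : G => z ^ k) h1
      simp only [conj_pow, hkey] at h2
      refine Subgroup.mem_centralizer_singleton_iff.mpr ?_
      calc (p0.1 : G)⁻¹ * p.1.1 * g = (p0.1 : G)⁻¹ * ((p.1.1 : G) * g * (p.1.1 : G)⁻¹) * p.1.1 := by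
            group
        _ = g * ((p0.1 : G)⁻¹ * p.1.1) := by rw [← h2]; group
    · apply Subtype.ext
      apply mul_left_cancel (a := g)
      rw [hgΦ, hp0]
      have hz : Commute g (z : G) := hcomm z
      show (p0.1 : G) * z * (g * ((z : G)⁻¹ * p0.2 * z)) * ((p0.1 : G) * z)⁻¹ = _
      rw [show g * ((z : G)⁻¹ * p0.2 * z) = (g * (z : G)⁻¹) * p0.2 * z by group, hz.inv_right.eq]
      group
    · apply Subtype.ext
      refine Prod.ext (Subtype.ext (mul_inv_cancel_left _ _)) (Subtype.ext ?_)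
      have h1 := hgΦ p.1
      rw [p.2, hp0] at h1
      show ((p0.1 : G)⁻¹ * p.1.1)⁻¹ * p0.2 * ((p0.1 : G)⁻¹ * p.1.1) = p.1.2
      have hz : Commute g ((p0.1 : G)⁻¹ * p.1.1) := by
        have h2 := congrArg (fun z : G => z ^ k) h1
        simp only [conj_pow, hkey] at h2
        show g * ((p0.1 : G)⁻¹ * p.1.1) = (p0.1 : G)⁻¹ * p.1.1 * g
        calc g * ((p0.1 : G)⁻¹ * p.1.1)
            = (p0.1 : G)⁻¹ * ((p0.1 : G) * g * (p0.1 : G)⁻¹) * p.1.1 := by group
          _ = (p0.1 : G)⁻¹ * p.1.1 * g := by rw [h2]; group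
      apply mul_left_cancel (a := g)
      rw [show g * (((p0.1 : G)⁻¹ * p.1.1)⁻¹ * p0.2 * ((p0.1 : G)⁻¹ * p.1.1)) =
        (g * ((p0.1 : G)⁻¹ * p.1.1)⁻¹) * p0.2 * ((p0.1 : G)⁻¹ * p.1.1) by group, hz.inv_right.eq,
        show ((p0.1 : G)⁻¹ * p.1.1)⁻¹ * g * p0.2 * ((p0.1 : G)⁻¹ * p.1.1) =
          (p.1.1 : G)⁻¹ * ((p0.1 : G) * (g * p0.2) * (p0.1 : G)⁻¹) * p.1.1 by group, h1]
      group
  have h1 : ∑ p : H × C, f (g * (Φ p : G)) = (Nat.card C : ℂ) * ∑ h : H, f (g * h) := by
    rw [← Finset.sum_fiberwise Finset.univ Φ, Finset.mul_sum]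
    refine Finset.sum_congr rfl fun h _ => ?_
    rw [Finset.sum_congr rfl (g := fun _ => f (g * h)) fun p hp => by
      rw [(Finset.mem_filter.mp hp).2], Finset.sum_const, nsmul_eq_mul,
      ← Fintype.card_subtype, ← Nat.card_eq_fintype_card, hfib h]
  rw [← h1]
  rw [Finset.sum_congr rfl (g := fun p : H × C => f (g * (p.2 : G))) fun p _ => by
    rw [hgΦ p, hf], Fintype.sum_prod_type]
  dsimp only
  rw [Finset.sum_const, Finset.card_univ, nsmul_eq_mul,
    ← Nat.card_eq_fintype_card]
  congr!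

end CosetSum

section Dade

variable {A : Set G} {L : Subgroup G} {H : G → Subgroup G}

theorem _root_.Cfsg.DadeHypothesis.orderOf_dvd_centL (hD : DadeHypothesis A L H) {a : G}
    (ha : a ∈ A) : orderOf a ∣ Nat.card ↥(L ⊓ Subgroup.centralizer ({a} : Set G)) :=
  Subgroup.orderOf_dvd_natCard _
    ⟨hD.subset ha, Subgroup.mem_centralizer_singleton_iff.mpr rfl⟩

theorem _root_.Cfsg.DadeHypothesis.coprime_orderOf (hD : DadeHypothesis A L H) {a b : G}
    (ha : a ∈ A) (hb : b ∈ A) : (orderOf a).Coprime (Nat.card (H b)) :=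
  ((hD.coprime b hb a ha).coprime_dvd_right (hD.orderOf_dvd_centL ha)).symm

theorem _root_.Cfsg.DadeHypothesis.commute_H (hD : DadeHypothesis A L H) {a u : G} (ha : a ∈ A)
    (hu : u ∈ H a) : Commute u a :=
  Subgroup.mem_centralizer_singleton_iff.mp (hD.le_centralizer a ha hu)

/-- Elements of the centralizer of order prime to the centralizer in `L` lie in `H a`. -/
theorem _root_.Cfsg.DadeHypothesis.mem_H [Finite G] (hD : DadeHypothesis A L H) {a u : G}
    (ha : a ∈ A) (hu : u ∈ Subgroup.centralizer ({a} : Set G))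
    (hcop : (orderOf u).Coprime (Nat.card ↥(L ⊓ Subgroup.centralizer ({a} : Set G)))) :
    u ∈ H a := by
  set K := Subgroup.centralizer ({a} : Set G)
  set M := L ⊓ K
  haveI : ((H a).subgroupOf K).Normal := ⟨fun x hx c => hD.conj_mem_H a ha c c.2 x hx⟩
  let f : M →* K ⧸ (H a).subgroupOf K :=
    (QuotientGroup.mk' _).comp (Subgroup.inclusion inf_le_right)
  have hf : Function.Surjective f := by
    intro q
    obtain ⟨c, rfl⟩ := QuotientGroup.mk_surjective q
    have hc : (c : G) ∈ M ⊔ H a := by rw [sup_comm, hD.sup_eq a ha]; exact c.2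
    have hn : M ≤ Subgroup.normalizer (H a : Set G) := by
      intro z hz
      rw [Subgroup.mem_normalizer_iff]
      intro h
      refine ⟨fun hh => hD.conj_mem_H a ha z hz.2 h hh, fun hh => ?_⟩
      have := hD.conj_mem_H a ha z⁻¹ (inv_mem hz.2) _ hh
      simpa [mul_assoc] using this
    obtain ⟨h, hh, m, hm, e⟩ := Coprime.exists_mul_of_mem_sup hn (sup_comm M (H a) ▸ hc)
    refine ⟨⟨m, hm⟩, ?_⟩
    show (QuotientGroup.mk (⟨m, hm.2⟩ : K) : K ⧸ _) = QuotientGroup.mk c
    rw [QuotientGroup.eq, Subgroup.mem_subgroupOf]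
    have e' : (c : G) = h * m := e
    simp only [Subgroup.coe_mul, Subgroup.coe_inv, e']
    have := hD.conj_mem_H a ha m⁻¹ (inv_mem hm.2) h hh
    simpa [mul_assoc] using this
  have h1 : orderOf (QuotientGroup.mk (⟨u, hu⟩ : K) : K ⧸ (H a).subgroupOf K) ∣ Nat.card M :=
    (orderOf_dvd_natCard _).trans (Subgroup.card_dvd_of_surjective f hf)
  have h2 : orderOf (QuotientGroup.mk (⟨u, hu⟩ : K) : K ⧸ (H a).subgroupOf K) ∣ orderOf u := by
    have := orderOf_map_dvd (QuotientGroup.mk' ((H a).subgroupOf K)) (⟨u, hu⟩ : K)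
    rwa [Subgroup.orderOf_mk] at this
  have h3 := orderOf_eq_one_iff.mp (Nat.eq_one_of_dvd_coprimes hcop h2 h1)
  rwa [QuotientGroup.eq_one_iff, Subgroup.mem_subgroupOf] at h3

/-- The subgroups `H a` are permuted by `L`. -/
theorem _root_.Cfsg.DadeHypothesis.H_conj [Finite G] (hD : DadeHypothesis A L H) {a x : G}
    (ha : a ∈ A) (hx : x ∈ L) : H (x * a * x⁻¹) = (H a).map (MulAut.conj x).toMonoidHom := by
  have key : ∀ {a x : G}, a ∈ A → x ∈ L → ∀ u ∈ H a, x * u * x⁻¹ ∈ H (x * a * x⁻¹) := by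
    intro a x ha hx u hu
    have hb := hD.conj_mem x hx a ha
    refine hD.mem_H hb (Subgroup.mem_centralizer_singleton_iff.mpr ?_) ?_
    · exact (hD.commute_H ha hu).map (MulAut.conj x).toMonoidHom
    · rw [show x * u * x⁻¹ = MulAut.conj x u from rfl, MulEquiv.orderOf_eq]
      exact (hD.coprime a ha _ hb).coprime_dvd_left (Subgroup.orderOf_dvd_natCard _ hu)
  refine le_antisymm (fun u hu => ?_) ?_
  · refine ⟨x⁻¹ * u * x, ?_, by simp [mul_assoc]⟩
    have := key (hD.conj_mem x hx a ha) (inv_mem hx) u hu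
    simpa [mul_assoc] using this
  · rintro _ ⟨u, hu, rfl⟩
    exact key ha hx u hu

/-- Elements of the cosets determine their first factor. -/
theorem _root_.Cfsg.DadeHypothesis.conj_eq [Finite G] (hD : DadeHypothesis A L H) {a b u v g : G}
    (ha : a ∈ A) (hb : b ∈ A) (hu : u ∈ H a) (hv : v ∈ H b)
    (e : g * (a * u) * g⁻¹ = b * v) : g * a * g⁻¹ = b := by
  have hcop : (orderOf a * orderOf b).Coprime (Nat.card (H a) * Nat.card (H b)) :=
    Nat.Coprime.mul_left
      (Nat.Coprime.mul_right (hD.coprime_orderOf ha ha) (hD.coprime_orderOf ha hb))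
      (Nat.Coprime.mul_right (hD.coprime_orderOf hb ha) (hD.coprime_orderOf hb hb))
  obtain ⟨k, -, ⟨hk1, hk0⟩, -⟩ := exists_part_exponents hcop
  have hu1 : u ^ k = 1 := by
    rw [← pow_zero u]
    exact pow_eq_pow_iff_modEq.mpr (hk0.of_dvd
      (dvd_mul_of_dvd_left (Subgroup.orderOf_dvd_natCard _ hu) _))
  have hv1 : v ^ k = 1 := by
    rw [← pow_zero v]
    exact pow_eq_pow_iff_modEq.mpr (hk0.of_dvd
      (dvd_mul_of_dvd_right (Subgroup.orderOf_dvd_natCard _ hv) _))
  have ha1 : a ^ k = a := by simpa using pow_eq_pow_iff_modEq.mpr (hk1.of_dvd (dvd_mul_right _ _))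
  have hb1 : b ^ k = b := by simpa using pow_eq_pow_iff_modEq.mpr (hk1.of_dvd (dvd_mul_left _ _))
  have h := congrArg (fun z : G => z ^ k) e
  simp only [conj_pow, (hD.commute_H ha hu).symm.mul_pow, (hD.commute_H hb hv).symm.mul_pow, hu1,
    hv1, ha1, hb1, mul_one] at h
  exact h

theorem _root_.Cfsg.DadeHypothesis.conj_in_L [Finite G] (hD : DadeHypothesis A L H) {a b u v g : G}
    (ha : a ∈ A) (hb : b ∈ A) (hu : u ∈ H a) (hv : v ∈ H b)
    (e : g * (a * u) * g⁻¹ = b * v) : ∃ x ∈ L, x * a * x⁻¹ = b := by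
  have h := hD.conj_eq ha hb hu hv e
  obtain ⟨x, hx, e'⟩ := hD.fusion a ha g (by rw [h]; exact hb)
  exact ⟨x, hx, e'.trans h⟩

theorem _root_.Cfsg.DadeHypothesis.normalizer_coset [Finite G] (hD : DadeHypothesis A L H) {a : G}
    (ha : a ∈ A) : Subgroup.normalizer ((fun u : G => a * u) '' (H a : Set G)) =
      Subgroup.centralizer ({a} : Set G) := by
  ext g
  constructor
  · intro hg
    obtain ⟨v, hv, e⟩ := (Subgroup.mem_set_normalizer_iff.mp hg a).mp
      ⟨1, (H a).one_mem, mul_one a⟩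
    have h := hD.conj_eq (g := g) (u := 1) ha ha (H a).one_mem hv (by rw [mul_one]; exact e.symm)
    exact Subgroup.mem_centralizer_singleton_iff.mpr (mul_inv_eq_iff_eq_mul.mp h)
  · intro hg
    have key : ∀ c ∈ Subgroup.centralizer ({a} : Set G),
        ∀ z ∈ (fun u : G => a * u) '' (H a : Set G),
          c * z * c⁻¹ ∈ (fun u : G => a * u) '' (H a : Set G) := by
      rintro c hc _ ⟨u, hu, rfl⟩
      refine ⟨c * u * c⁻¹, hD.conj_mem_H a ha c hc u hu, ?_⟩
      have := (Subgroup.mem_centralizer_singleton_iff.mp hc : c * a = a * c)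
      calc a * (c * u * c⁻¹) = (a * c) * u * c⁻¹ := by group
        _ = c * (a * u) * c⁻¹ := by rw [← this]; group
    rw [Subgroup.mem_set_normalizer_iff]
    intro h
    refine ⟨key g hg h, fun hh => ?_⟩
    have := key g⁻¹ (inv_mem hg) _ hh
    simpa [mul_assoc] using this

/-- The value of the Dade map. -/
theorem dadeIsometry_eq [Finite G] (hD : DadeHypothesis A L H) {α : L → ℂ}
    (hα : IsClassFunction L α) {a : L} (ha : (a : G) ∈ A) {g x u : G} (hu : u ∈ H a)
    (e : x * g * x⁻¹ = (a : G) * u) : dadeIsometry A L H α g = α a := by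
  classical
  have hex : ∃ a : L, (a : G) ∈ A ∧ ∃ x : G, ∃ u ∈ H (a : G), x * g * x⁻¹ = (a : G) * u :=
    ⟨a, ha, x, u, hu, e⟩
  rw [dadeIsometry, dif_pos hex]
  obtain ⟨hb, y, v, hv, ey⟩ := Classical.choose_spec hex
  obtain ⟨z, hz, ez⟩ := hD.conj_in_L hb ha hv hu (g := x * y⁻¹) (by rw [← ey, ← e]; group)
  rw [← hα (Classical.choose hex) ⟨z, hz⟩]
  exact congrArg α (Subtype.ext ez)

theorem dadeIsometry_eq_zero {α : L → ℂ} {g : G}
    (h : ∀ a : L, (a : G) ∈ A → ∀ x u : G, u ∈ H (a : G) → x * g * x⁻¹ ≠ (a : G) * u) :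
    dadeIsometry A L H α g = 0 := by
  classical
  rw [dadeIsometry, dif_neg]
  rintro ⟨a, ha, x, u, hu, e⟩
  exact h a ha x u hu e

open Classical in
/-- The number of conjugations moving `g` into the coset `a T`. -/
noncomputable def hitCount [Fintype G] (a : G) (T : Subgroup G) (g : G) : ℂ :=
  ∑ x : G, if a⁻¹ * (x⁻¹ * g * x) ∈ T then 1 else 0

theorem hitCount_conj [Fintype G] (a : G) (T : Subgroup G) (g y : G) :
    hitCount a T (y * g * y⁻¹) = hitCount a T g := by
  classical
  simp only [hitCount]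
  refine Fintype.sum_equiv (Equiv.mulLeft y⁻¹) _ _ fun x => ?_
  have e : x⁻¹ * (y * g * y⁻¹) * x = (y⁻¹ * x)⁻¹ * g * (y⁻¹ * x) := by group
  simp only [Equiv.coe_mulLeft]
  rw [e]
  exact if_congr Iff.rfl rfl rfl

theorem hitCount_eq_sum [Fintype G] (a : G) (T : Subgroup G) [Fintype T] (g : G) [DecidableEq G] :
    hitCount a T g = ∑ c : T, ∑ x : G, if x⁻¹ * g * x = a * c then 1 else 0 := by
  simp only [hitCount]
  rw [Finset.sum_comm (s := (Finset.univ : Finset T))]
  refine Finset.sum_congr rfl fun x _ => ?_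
  split_ifs with h
  · rw [Finset.sum_eq_single ⟨_, h⟩ (fun c _ hc => if_neg fun e => hc (Subtype.ext (by
      show (c : G) = a⁻¹ * (x⁻¹ * g * x)
      rw [e, inv_mul_cancel_left]))) (by simp)]
    rw [if_pos (mul_inv_cancel_left _ _).symm]
  · refine (Finset.sum_eq_zero fun c _ => if_neg fun e => h ?_).symm
    rw [e, inv_mul_cancel_left]
    exact c.2

/-- The adjoint of `hitCount`. -/
theorem sum_hitCount_mul [Fintype G] (a : G) (T : Subgroup G) [Fintype T] {f : G → ℂ}
    (hf : IsClassFunction G f) :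
    ∑ g : G, hitCount a T g * f g = (Nat.card G : ℂ) * ∑ c : T, f (a * c) := by
  classical
  simp only [hitCount_eq_sum, Finset.sum_mul, ite_mul, one_mul, zero_mul]
  rw [Finset.sum_comm, Finset.mul_sum]
  refine Finset.sum_congr rfl fun c _ => ?_
  rw [Finset.sum_comm, Finset.sum_congr rfl (g := fun _ => f (a * c)) fun x _ => ?_,
    Finset.sum_const, Finset.card_univ, nsmul_eq_mul, Nat.card_eq_fintype_card]
  rw [Finset.sum_eq_single (x * (a * c) * x⁻¹)]
  · rw [if_pos (by group), hf]
  · intro g _ hg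
    exact if_neg fun e => hg (by rw [← e]; group)
  · simp

variable [Fintype G] [Fintype L]

open Classical in
/-- The Dade map as a weighted counting function. -/
theorem dadeIsometry_eq_sum (hD : DadeHypothesis A L H) {α : L → ℂ} (hα : IsClassFunction L α)
    (g : G) : dadeIsometry A L H α g = (Nat.card L : ℂ)⁻¹ *
      ∑ a : L, if (a : G) ∈ A then
        α a * ((Nat.card (H (a : G)) : ℂ)⁻¹ * hitCount (a : G) (H (a : G)) g) else 0 := by
  by_cases hex : ∃ a0 : L, (a0 : G) ∈ A ∧ ∃ x : G, ∃ u ∈ H (a0 : G), x * g * x⁻¹ = (a0 : G) * u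
  · obtain ⟨a0, ha0, x0, u0, hu0, e0⟩ := hex
    rw [dadeIsometry_eq hD hα ha0 hu0 e0]
    have hg : g = x0⁻¹ * ((a0 : G) * u0) * x0⁻¹⁻¹ := by rw [← e0]; group
    rw [hg]
    simp only [hitCount_conj]
    set c0 : G := (a0 : G) * u0 with hc0
    have hterm : ∀ a : L, (if (a : G) ∈ A then
        α a * ((Nat.card (H (a : G)) : ℂ)⁻¹ * hitCount (a : G) (H (a : G)) c0) else 0) =
        α a0 * if IsConj a0 a then
          (Nat.card ↥(L ⊓ Subgroup.centralizer ({(a0 : G)} : Set G)) : ℂ) else 0 := by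
      intro a
      by_cases hc : IsConj a0 a
      · obtain ⟨l, hl⟩ := isConj_iff.mp hc
        have hlG : (l : G) * (a0 : G) * (l : G)⁻¹ = a := congrArg Subtype.val hl
        have haA : (a : G) ∈ A := hlG ▸ hD.conj_mem l l.2 _ ha0
        rw [if_pos haA, if_pos hc, ← hl, hα]
        congr 1
        rw [hl]
        have hHa : H (a : G) = (H (a0 : G)).map (MulAut.conj (l : G)).toMonoidHom := by
          rw [← hlG]; exact hD.H_conj ha0 l.2
        -- the conjugating elements form a coset of the centralizer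
        have hset : hitCount (a : G) (H (a : G)) c0 =
            (Nat.card (Subgroup.centralizer ({(a0 : G)} : Set G)) : ℂ) := by
          simp only [hitCount, Finset.sum_boole, Nat.cast_inj]
          rw [← Nat.card_eq_finsetCard]
          refine Nat.card_congr
            { toFun := fun x => ⟨x.1 * l, ?_⟩
              invFun := fun c => ⟨c.1 * (l : G)⁻¹, ?_⟩
              left_inv := fun x => Subtype.ext (mul_inv_cancel_right _ _)
              right_inv := fun c => Subtype.ext (inv_mul_cancel_right _ _) }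
          · have hx := (Finset.mem_filter.mp x.2).2
            have h1 := hD.conj_eq (g := (x.1 : G)⁻¹) ha0 haA hu0 hx (by
              show _ = (a : G) * ((a : G)⁻¹ * ((x.1 : G)⁻¹ * ((a0 : G) * u0) * x.1))
              group)
            replace h1 := h1.trans hlG.symm
            refine Subgroup.mem_centralizer_singleton_iff.mpr ?_
            have h3 := congrArg (fun z : G => (x.1 : G) * z * (l : G)) h1
            simp only [mul_assoc, inv_mul_cancel, mul_inv_cancel_left, mul_one] at h3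
            calc x.1 * (l : G) * (a0 : G) = x.1 * ((l : G) * (a0 : G) * (l : G)⁻¹) * l := by group
              _ = x.1 * ((x.1 : G)⁻¹ * (a0 : G) * (x.1 : G)⁻¹⁻¹) * l := by rw [← h1]
              _ = (a0 : G) * (x.1 * l) := by group
          · rw [Finset.mem_filter]
            refine ⟨Finset.mem_univ _, ?_⟩
            rw [hHa, Subgroup.mem_map]
            have hcc := Subgroup.mem_centralizer_singleton_iff.mp c.2
            refine ⟨(c : G)⁻¹ * u0 * c, ?_, ?_⟩
            · have := hD.conj_mem_H _ ha0 _ (inv_mem c.2) u0 hu0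
              simpa using this
            · simp only [MulEquiv.coe_toMonoidHom, MulAut.conj_apply, ← hlG, hc0]
              calc (l : G) * ((c : G)⁻¹ * u0 * c) * (l : G)⁻¹
                  = (l : G) * (a0 : G)⁻¹ * ((a0 : G) * (c : G)⁻¹) * u0 * c * (l : G)⁻¹ := by group
                _ = (l : G) * (a0 : G)⁻¹ * ((c : G)⁻¹ * a0) * u0 * c * (l : G)⁻¹ := by
                  rw [show (a0 : G) * (c : G)⁻¹ = (c : G)⁻¹ * a0 from
                    (Commute.inv_left (show Commute (c : G) a0 from hcc)).eq.symm]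
                _ = _ := by group
        rw [hset, hHa, Subgroup.card_map_of_injective (MulAut.conj (l : G)).injective]
        set K := Subgroup.centralizer ({(a0 : G)} : Set G)
        have hprod : Nat.card K = Nat.card (H (a0 : G)) * Nat.card ↥(L ⊓ K) := by
          have hn : L ⊓ K ≤ Subgroup.normalizer (H (a0 : G) : Set G) := by
            intro z hz
            rw [Subgroup.mem_normalizer_iff]
            intro h
            refine ⟨fun hh => hD.conj_mem_H _ ha0 z hz.2 h hh, fun hh => ?_⟩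
            have := hD.conj_mem_H _ ha0 z⁻¹ (inv_mem hz.2) _ hh
            simpa [mul_assoc] using this
          conv_lhs => rw [show K = H (a0 : G) ⊔ (L ⊓ K) from (hD.sup_eq _ ha0).symm]
          exact Coprime.card_sup_of_disjoint hn (disjoint_iff.mpr (hD.inf_eq_bot _ ha0))
        rw [hprod, Nat.cast_mul, inv_mul_cancel_left₀ (Nat.cast_ne_zero.mpr Nat.card_pos.ne')]
      · rw [if_neg hc, mul_zero]
        by_cases haA : (a : G) ∈ A
        · rw [if_pos haA]
          have h0 : hitCount (a : G) (H (a : G)) c0 = 0 := by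
            simp only [hitCount]
            refine Finset.sum_eq_zero fun x _ => if_neg fun hx => hc ?_
            obtain ⟨z, hz, ez⟩ := hD.conj_in_L (g := x⁻¹) ha0 haA hu0 hx (by
              show _ = (a : G) * ((a : G)⁻¹ * (x⁻¹ * ((a0 : G) * u0) * x))
              group)
            exact isConj_iff.mpr ⟨⟨z, hz⟩, Subtype.ext ez⟩
          rw [h0, mul_zero, mul_zero]
        · rw [if_neg haA]
    simp only [hterm]
    rw [← Finset.mul_sum, ← Finset.sum_filter, Finset.sum_const, nsmul_eq_mul, mul_left_comm]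
    have hcard : (Finset.univ.filter fun a : L => IsConj a0 a).card *
        Nat.card ↥(L ⊓ Subgroup.centralizer ({(a0 : G)} : Set G)) = Nat.card L := by
      have h1 : (Finset.univ.filter fun a : L => IsConj a0 a).card =
          Nat.card (MulAction.orbit (ConjAct L) a0) := by
        rw [← Nat.card_eq_finsetCard]
        refine Nat.card_congr (Equiv.subtypeEquivRight fun a => ?_)
        rw [Finset.mem_filter, ConjAct.mem_orbit_conjAct]
        exact ⟨fun h => h.2.symm, fun h => ⟨Finset.mem_univ _, h.symm⟩⟩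
      have h3 : Nat.card (MulAction.stabilizer (ConjAct L) a0) =
          Nat.card ↥(L ⊓ Subgroup.centralizer ({(a0 : G)} : Set G)) :=
        Nat.card_congr
          { toFun := fun z => ⟨((ConjAct.ofConjAct z.1 : L) : G), (ConjAct.ofConjAct z.1).2,
              Subgroup.mem_centralizer_singleton_iff.mpr (by
                have := congrArg Subtype.val (z.2 : z.1 • a0 = a0)
                rw [ConjAct.smul_def] at this
                exact mul_inv_eq_iff_eq_mul.mp this)⟩
            invFun := fun z => ⟨ConjAct.toConjAct ⟨z.1, z.2.1⟩, by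
              rw [MulAction.mem_stabilizer_iff, ConjAct.smul_def]
              exact Subtype.ext (mul_inv_eq_iff_eq_mul.mpr
                (Subgroup.mem_centralizer_singleton_iff.mp z.2.2))⟩
            left_inv := fun z => rfl
            right_inv := fun z => rfl }
      have h2 := Nat.card_congr (MulAction.orbitProdStabilizerEquivGroup (ConjAct L) a0)
      rw [Nat.card_prod, Nat.card_congr (ConjAct.ofConjAct).toEquiv, h3] at h2
      rw [h1, h2]
    rw [← Nat.cast_mul, hcard, inv_mul_cancel₀ card_cast_ne_zero, mul_one]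
  · have h0 : dadeIsometry A L H α g = 0 :=
      dadeIsometry_eq_zero fun a ha x u hu e => hex ⟨a, ha, x, u, hu, e⟩
    rw [h0, Finset.sum_eq_zero, mul_zero]
    intro a _
    by_cases ha : (a : G) ∈ A
    · rw [if_pos ha]
      have h1 : hitCount (a : G) (H (a : G)) g = 0 := by
        simp only [hitCount]
        refine Finset.sum_eq_zero fun x _ => if_neg fun hx => hex ⟨a, ha, x⁻¹, _, hx, by group⟩
      rw [h1, mul_zero, mul_zero]
    · rw [if_neg ha]

theorem isClassFunction_dadeIsometry (hD : DadeHypothesis A L H) {α : L → ℂ}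
    (hα : IsClassFunction L α) : IsClassFunction G (dadeIsometry A L H α) := by
  intro g y
  rw [dadeIsometry_eq_sum hD hα, dadeIsometry_eq_sum hD hα]
  simp only [hitCount_conj]

open Classical in
/-- The adjoint formula. -/
theorem classInner_dadeIsometry (hD : DadeHypothesis A L H) {α : L → ℂ} (hα : IsClassFunction L α)
    {χ : G → ℂ} (hχ : IsClassFunction G χ) :
    classInner (dadeIsometry A L H α) χ = (Nat.card L : ℂ)⁻¹ *
      ∑ a : L, if (a : G) ∈ A then α a * conj ((Nat.card (H (a : G)) : ℂ)⁻¹ *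
        ∑ u : H (a : G), χ ((a : G) * u)) else 0 := by
  simp only [classInner, dadeIsometry_eq_sum hD hα]
  simp only [mul_assoc, Finset.sum_mul, ite_mul, zero_mul]
  rw [← Finset.mul_sum, Finset.sum_comm, ← mul_assoc, mul_comm (Nat.card G : ℂ)⁻¹, mul_assoc,
    Finset.mul_sum]
  congr 1
  refine Finset.sum_congr rfl fun a _ => ?_
  split_ifs with ha
  · rw [← Finset.mul_sum, ← Finset.mul_sum,
      sum_hitCount_mul _ _ (f := fun g => conj (χ g)) (fun g y => by simp only [hχ g y]),
      map_mul, map_inv₀, Complex.conj_natCast, map_sum, mul_left_comm]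
    congr 1
    rw [mul_left_comm, inv_mul_cancel_left₀ card_cast_ne_zero]
  · simp

/-- The Dade map is an isometry on class functions supported in `A`. -/
theorem classInner_dadeIsometry_dadeIsometry (hD : DadeHypothesis A L H) {α β : L → ℂ}
    (hα : IsClassFunction L α) (hαA : ∀ x : L, (x : G) ∉ A → α x = 0) (hβ : IsClassFunction L β) :
    classInner (dadeIsometry A L H α) (dadeIsometry A L H β) = classInner α β := by
  classical
  rw [classInner_dadeIsometry hD hα (isClassFunction_dadeIsometry hD hβ)]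
  simp only [classInner]
  congr 1
  refine Finset.sum_congr rfl fun a _ => ?_
  split_ifs with ha
  · congr 2
    rw [Finset.sum_congr rfl (g := fun _ => β a) fun u _ => ?_, Finset.sum_const, Finset.card_univ,
      nsmul_eq_mul, ← Nat.card_eq_fintype_card, inv_mul_cancel_left₀
        (Nat.cast_ne_zero.mpr Nat.card_pos.ne')]
    exact dadeIsometry_eq hD hβ ha (x := 1) u.2 (by group)
  · rw [hαA a ha, zero_mul]

/-- The subgroup of `L` stabilizing a finite subset by conjugation. -/
def setStab [DecidableEq G] (L : Subgroup G) (B : Finset G) : Subgroup G where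
  carrier := {x | x ∈ L ∧ B.image (fun b => x * b * x⁻¹) = B}
  one_mem' := ⟨one_mem L, by simp⟩
  mul_mem' := fun {x y} hx hy => ⟨mul_mem hx.1 hy.1, by
    rw [show (fun b => x * y * b * (x * y)⁻¹) = (fun b => x * b * x⁻¹) ∘ fun b => y * b * y⁻¹ from
      funext fun b => by simp [mul_assoc], ← Finset.image_image, hy.2, hx.2]⟩
  inv_mem' := fun {x} hx => ⟨inv_mem hx.1, by
    conv_lhs => rw [← hx.2]
    rw [Finset.image_image]
    simp [Function.comp_def, mul_assoc]⟩

theorem mem_setStab [DecidableEq G] {L : Subgroup G} {B : Finset G} {x : G} :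
    x ∈ setStab L B ↔ x ∈ L ∧ B.image (fun b => x * b * x⁻¹) = B := Iff.rfl

/-- The intersection of the `H b`, `b ∈ B`. -/
def infH (H : G → Subgroup G) (B : Finset G) : Subgroup G := ⨅ b ∈ B, H b

theorem mem_infH {H : G → Subgroup G} {B : Finset G} {u : G} :
    u ∈ infH H B ↔ ∀ b ∈ B, u ∈ H b := by
  simp [infH, Subgroup.mem_iInf]

theorem conj_infH_mem [DecidableEq G] (hD : DadeHypothesis A L H) {B : Finset G}
    (hB : ∀ b ∈ B, b ∈ A) {x u : G} (hx : x ∈ L) (hu : u ∈ infH H B) :
    x * u * x⁻¹ ∈ infH H (B.image fun b => x * b * x⁻¹) := by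
  rw [mem_infH] at hu ⊢
  intro c hc
  obtain ⟨b, hb, rfl⟩ := Finset.mem_image.mp hc
  rw [hD.H_conj (hB b hb) hx]
  exact ⟨u, hu b hb, rfl⟩

open Classical in
/-- The term of `B` in the inclusion–exclusion formula. -/
noncomputable def dadeTerm (L : Subgroup G) [Fintype L] (H : G → Subgroup G) (α : L → ℂ)
    (B : Finset G) : G → ℂ := fun g =>
  (-1) ^ (B.card + 1) * ((Nat.card L : ℂ)⁻¹ * ((Nat.card (infH H B) : ℂ)⁻¹ *
    ∑ n : L, if (n : G) ∈ setStab L B then α n * hitCount (n : G) (infH H B) g else 0))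

theorem setStab_le_normalizer_infH [DecidableEq G] (hD : DadeHypothesis A L H) {B : Finset G}
    (hB : ∀ b ∈ B, b ∈ A) : setStab L B ≤ Subgroup.normalizer (infH H B : Set G) := by
  intro x hx
  rw [Subgroup.mem_normalizer_iff]
  intro u
  constructor
  · intro hu
    have := conj_infH_mem hD hB hx.1 hu
    rwa [hx.2] at this
  · intro hu
    have h2 := conj_infH_mem hD hB (inv_mem hx.1) hu
    rw [((setStab L B).inv_mem hx).2] at h2
    simpa [mul_assoc] using h2

open Classical in
/-- Pointwise inclusion–exclusion. -/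
theorem dadeIsometry_eq_sum_dadeTerm (hD : DadeHypothesis A L H) {α : L → ℂ}
    (hα : IsClassFunction L α) (hαA : ∀ x : L, (x : G) ∉ A → α x = 0) :
    dadeIsometry A L H α = ∑ B ∈ (A.toFinset.powerset.filter fun B => B.Nonempty),
      dadeTerm L H α B := by
  funext g
  rw [Finset.sum_apply, dadeIsometry_eq_sum hD hα g, Finset.mul_sum]
  simp only [dadeTerm, Finset.mul_sum]
  rw [Finset.sum_comm]
  refine Finset.sum_congr rfl fun n _ => ?_
  by_cases hn : (n : G) ∈ A
  swap
  · rw [if_neg hn, mul_zero, Finset.sum_eq_zero]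
    intro B _
    rw [hαA n hn]
    simp
  rw [if_pos hn, Finset.sum_filter]
  set a : G := (n : G) with ha
  set S := A.toFinset.erase a with hS
  have hins : A.toFinset = insert a S := (Finset.insert_erase (Set.mem_toFinset.mpr hn)).symm
  rw [hins, Finset.sum_powerset_insert (Finset.notMem_erase _ _), ← Finset.sum_add_distrib]
  rw [Finset.sum_eq_single_of_mem ∅ (Finset.empty_mem_powerset S)]
  · have h1 : infH H ({a} : Finset G) = H a := by ext u; simp [mem_infH]
    have h2 : a ∈ setStab L ({a} : Finset G) := ⟨n.2, by simp⟩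
    rw [if_neg Finset.not_nonempty_empty, zero_add, insert_empty_eq,
      if_pos (Finset.singleton_nonempty a), h1, if_pos h2]
    simp only [Finset.card_singleton]
    ring
  · intro B hBS hB0
    have haB : a ∉ B := fun h => Finset.notMem_erase a _ (Finset.mem_powerset.mp hBS h)
    have hBne : B.Nonempty := Finset.nonempty_iff_ne_empty.mpr hB0
    have hBA : ∀ b ∈ B, b ∈ A := fun b hb =>
      Set.mem_toFinset.mp (Finset.mem_of_mem_erase (Finset.mem_powerset.mp hBS hb))
    rw [if_pos hBne, if_pos (Finset.insert_nonempty a B)]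
    have hstab : a ∈ setStab L B ↔ a ∈ setStab L (insert a B) := by
      simp only [mem_setStab, Finset.image_insert, mul_inv_cancel_right]
      refine and_congr_right fun _ => ⟨fun h => by rw [h], fun h => ?_⟩
      have haB' : a ∉ B.image fun b => a * b * a⁻¹ := fun h' => by
        obtain ⟨b, hb, e⟩ := Finset.mem_image.mp h'
        have : b = a := by
          have := congrArg (fun z => a⁻¹ * z * a) e
          simpa [mul_assoc] using this
        exact haB (this ▸ hb)
      have := congrArg (fun T => Finset.erase T a) h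
      simpa [Finset.erase_insert haB, Finset.erase_insert haB'] using this
    by_cases hst : a ∈ setStab L B
    swap
    · rw [if_neg hst, if_neg (mt hstab.mpr hst)]
      simp
    rw [if_pos hst, if_pos (hstab.mp hst)]
    obtain ⟨b0, hb0⟩ := hBne
    have hcop : (orderOf a).Coprime (Nat.card (infH H B)) :=
      (hD.coprime_orderOf hn (hBA b0 hb0)).coprime_dvd_right
        (Subgroup.card_dvd_of_le fun u hu => mem_infH.mp hu b0 hb0)
    have hinf : infH H (insert a B) = infH H B ⊓ Subgroup.centralizer ({a} : Set G) := by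
      ext u
      simp only [mem_infH, Finset.forall_mem_insert, Subgroup.mem_inf]
      constructor
      · exact fun h => ⟨h.2, hD.le_centralizer a hn h.1⟩
      · rintro ⟨h1, h2⟩
        refine ⟨hD.mem_H hn h2 ?_, h1⟩
        exact (hD.coprime b0 (hBA b0 hb0) a hn).coprime_dvd_left
          (Subgroup.orderOf_dvd_natCard _ (h1 b0 hb0))
    have hsum := sum_coset_eq (infH H B) (g := a) (setStab_le_normalizer_infH hD hBA hst) hcop
      (f := fun z => ∑ x : G, if x⁻¹ * g * x = z then (1 : ℂ) else 0) (fun z y => by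
        beta_reduce
        refine Fintype.sum_equiv (Equiv.mulRight y) _ _ fun x => ?_
        simp only [Equiv.coe_mulRight]
        congr 1
        refine propext ⟨fun h => ?_, fun h => ?_⟩
        · rw [show (x * y)⁻¹ * g * (x * y) = y⁻¹ * (x⁻¹ * g * x) * y by group, h]; group
        · rw [show x⁻¹ * g * x = y * ((x * y)⁻¹ * g * (x * y)) * y⁻¹ by group, h])
    beta_reduce at hsum
    rw [← hitCount_eq_sum, ← hitCount_eq_sum] at hsum
    rw [hinf, Finset.card_insert_of_notMem haB, pow_succ]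
    set S0 := hitCount a (infH H B) g
    set S1 := hitCount a (infH H B ⊓ Subgroup.centralizer ({a} : Set G)) g
    set c0 : ℂ := ((Nat.card (infH H B) : ℕ) : ℂ) with hc0
    set c1 : ℂ := ((Nat.card ↥(infH H B ⊓ Subgroup.centralizer ({a} : Set G)) : ℕ) : ℂ) with hc1
    have hc0ne : c0 ≠ 0 := Nat.cast_ne_zero.mpr Nat.card_pos.ne'
    have hc1ne : c1 ≠ 0 := Nat.cast_ne_zero.mpr Nat.card_pos.ne'
    have : c0⁻¹ * S0 = c1⁻¹ * S1 := by
      field_simp
      linear_combination hsum
    linear_combination ((-1 : ℂ) ^ B.card * -1 * (Nat.card L : ℂ)⁻¹ * α n) * this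

/-- Rescaled terms are induced generalized characters. -/
theorem exists_gen_dadeTerm [DecidableEq G] (hD : DadeHypothesis A L H) {α : L → ℂ}
    (hα : IsGeneralizedCharacter L α) {B : Finset G} (hB : ∀ b ∈ B, b ∈ A) (hne : B.Nonempty) :
    ∃ θ : G → ℂ, IsGeneralizedCharacter G θ ∧ ∀ g,
      dadeTerm L H α B g =
        (Nat.card (setStab L B) : ℂ) * (Nat.card L : ℂ)⁻¹ * θ g := by
  classical
  set N := setStab L B
  set K := infH H B
  obtain ⟨b0, hb0⟩ := hne
  have hNK : N ≤ Subgroup.normalizer (K : Set G) := setStab_le_normalizer_infH hD hB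
  have hdisj : Disjoint K N := by
    rw [disjoint_iff, eq_bot_iff]
    rintro u ⟨huK, huN⟩
    rw [← hD.inf_eq_bot b0 (hB b0 hb0)]
    exact ⟨mem_infH.mp huK b0 hb0, huN.1, hD.le_centralizer b0 (hB b0 hb0) (mem_infH.mp huK b0 hb0)⟩
  have hdec : ∀ m : ↥(K ⊔ N), ∃ n : N, (n : G)⁻¹ * m ∈ K := by
    intro m
    obtain ⟨h, hh, n, hn, e⟩ := Coprime.exists_mul_of_mem_sup hNK m.2
    refine ⟨⟨n, hn⟩, ?_⟩
    have h0 := (Subgroup.mem_normalizer_iff.mp (hNK (inv_mem hn)) h).mp hh
    rw [inv_inv] at h0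
    rwa [show n⁻¹ * (m : G) = n⁻¹ * h * n by
      rw [show (m : G) = h * n from e]; group]
  choose π hπ using hdec
  have huniq : ∀ (n : N) (m : ↥(K ⊔ N)), (n : G)⁻¹ * m ∈ K → π m = n := by
    intro n m hn
    have h1 : (n : G)⁻¹ * π m ∈ K := by
      rw [show (n : G)⁻¹ * (π m : G) = ((n : G)⁻¹ * m) * ((π m : G)⁻¹ * m)⁻¹ by group]
      exact mul_mem hn (inv_mem (hπ m))
    have h2 : (n : G)⁻¹ * π m ∈ N := mul_mem (inv_mem n.2) (π m).2
    have h3 : (n : G)⁻¹ * π m = 1 :=
      Subgroup.mem_bot.mp (disjoint_iff.mp hdisj ▸ Subgroup.mem_inf.mpr ⟨h1, h2⟩)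
    exact Subtype.ext (inv_mul_eq_one.mp h3).symm
  let proj : ↥(K ⊔ N) →* N := MonoidHom.mk' π fun a b => huniq _ _ (by
    have h0 := (Subgroup.mem_normalizer_iff.mp (hNK (inv_mem (π b).2)) _).mp (hπ a)
    rw [inv_inv] at h0
    rw [show ((π a * π b : N) : G)⁻¹ * ((a * b : ↥(K ⊔ N)) : G) =
      ((π b : G)⁻¹ * ((π a : G)⁻¹ * a) * π b) * ((π b : G)⁻¹ * b) by
        simp [mul_assoc]]
    exact mul_mem h0 (hπ b))
  let ι : N →* L := Subgroup.inclusion fun x hx => hx.1
  haveI := Fintype.ofFinite ↥(K ⊔ N)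
  refine ⟨((-1 : ℤ) ^ (B.card + 1) : ℤ) • indFun (K ⊔ N) (fun m => α (ι (proj m))),
    (isGeneralizedCharacter_indFun _ (hα.comp (ι.comp proj))).zsmul _, fun g => ?_⟩
  have hext : ∀ y : G, extendByZero (K ⊔ N) (fun m => α (ι (proj m))) y =
      ∑ n : L, if (n : G) ∈ N then α n * (if (n : G)⁻¹ * y ∈ K then 1 else 0) else 0 := by
    intro y
    by_cases hy : y ∈ K ⊔ N
    · rw [extendByZero_of_mem _ _ hy, Finset.sum_eq_single (ι (proj ⟨y, hy⟩))]
      · rw [if_pos (show ((ι (proj ⟨y, hy⟩) : L) : G) ∈ N from (π ⟨y, hy⟩).2),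
          if_pos (show ((ι (proj ⟨y, hy⟩) : L) : G)⁻¹ * y ∈ K from hπ ⟨y, hy⟩), mul_one]
      · intro n _ hne
        by_cases hn : (n : G) ∈ N
        · rw [if_pos hn, if_neg, mul_zero]
          intro h
          exact hne (Subtype.ext (congrArg (fun z : N => (z : G))
            (huniq ⟨n, hn⟩ ⟨y, hy⟩ h)).symm)
        · rw [if_neg hn]
      · simp
    · rw [extendByZero_of_notMem _ _ hy, Finset.sum_eq_zero]
      intro n _
      by_cases hn : (n : G) ∈ N
      · rw [if_pos hn, if_neg, mul_zero]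
        intro h
        apply hy
        rw [show y = (n : G) * ((n : G)⁻¹ * y) by group]
        exact mul_mem (Subgroup.mem_sup_right hn) (Subgroup.mem_sup_left h)
      · rw [if_neg hn]
  have hcard : (Nat.card ↥(K ⊔ N) : ℂ) = (Nat.card K : ℂ) * (Nat.card N : ℂ) := by
    rw [Coprime.card_sup_of_disjoint hNK hdisj, Nat.cast_mul]
  have hN0 : (Nat.card N : ℂ) ≠ 0 := Nat.cast_ne_zero.mpr Nat.card_pos.ne'
  simp only [dadeTerm, Pi.smul_apply, indFun, hext, hcard, zsmul_eq_mul, Int.cast_pow, Int.cast_neg,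
    Int.cast_one, hitCount, mul_inv]
  rw [Finset.sum_comm (s := (Finset.univ : Finset G))]
  have e : ∀ n : L, (∑ x : G, if (n : G) ∈ N then
      α n * (if (n : G)⁻¹ * (x⁻¹ * g * x) ∈ K then (1 : ℂ) else 0) else 0) =
      if (n : G) ∈ N then α n * ∑ x : G, (if (n : G)⁻¹ * (x⁻¹ * g * x) ∈ K then (1 : ℂ) else 0)
      else 0 := by
    intro n
    split_ifs with hn
    · rw [Finset.mul_sum]
    · simp
  simp only [e]
  field_simp
  rw [mul_comm]
  congr!

/-- The terms are equivariant. -/
theorem dadeTerm_conj [DecidableEq G] (hD : DadeHypothesis A L H) {α : L → ℂ}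
    (hα : IsClassFunction L α) {B : Finset G} (hB : ∀ b ∈ B, b ∈ A) (l : L) (g : G) :
    dadeTerm L H α (B.image fun b => (l : G) * b * (l : G)⁻¹) g = dadeTerm L H α B g := by
  classical
  set B' := B.image fun b => (l : G) * b * (l : G)⁻¹ with hB'
  have hB'A : ∀ b ∈ B', b ∈ A := fun b hb => by
    obtain ⟨c, hc, rfl⟩ := Finset.mem_image.mp hb
    exact hD.conj_mem l l.2 c (hB c hc)
  have hback : B'.image (fun b => (l : G)⁻¹ * b * (l : G)⁻¹⁻¹) = B := by
    rw [hB', Finset.image_image]
    conv_rhs => rw [← Finset.image_id (s := B)]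
    congr 1
    funext b
    simp [mul_assoc]
  have hcardB : B'.card = B.card :=
    Finset.card_image_of_injective _ (fun a b e => by simpa using e)
  have hK : infH H B' = (infH H B).map (MulAut.conj (l : G)).toMonoidHom := by
    refine le_antisymm (fun u hu => ?_) ?_
    · refine ⟨(l : G)⁻¹ * u * l, ?_, by simp [mul_assoc]⟩
      have := conj_infH_mem hD hB'A (inv_mem l.2) hu
      rw [hback] at this
      simpa using this
    · rintro _ ⟨u, hu, rfl⟩
      exact conj_infH_mem hD hB l.2 hu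
  have hKmem : ∀ v : G, v ∈ infH H B' ↔ (l : G)⁻¹ * v * l ∈ infH H B := by
    intro v
    rw [hK]
    constructor
    · rintro ⟨u, hu, rfl⟩
      simpa [mul_assoc] using hu
    · intro hv
      exact ⟨_, hv, by simp [mul_assoc]⟩
  have hN : ∀ n : L, (n : G) ∈ setStab L B ↔ ((l * n * l⁻¹ : L) : G) ∈ setStab L B' := by
    intro n
    simp only [mem_setStab, SetLike.coe_mem, true_and, hB', Finset.image_image]
    have e : ((fun b => ((l * n * l⁻¹ : L) : G) * b * ((l * n * l⁻¹ : L) : G)⁻¹) ∘
        fun b => (l : G) * b * (l : G)⁻¹) = (fun b => (l : G) * b * (l : G)⁻¹) ∘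
        fun b => (n : G) * b * (n : G)⁻¹ := funext fun b => by simp [mul_assoc]
    rw [e, ← Finset.image_image]
    exact ⟨fun h => by rw [h],
      fun h => Finset.image_injective (fun a b e => by simpa using e) h⟩
  have hhit : ∀ n : L, hitCount (n : G) (infH H B) g =
      hitCount ((l * n * l⁻¹ : L) : G) (infH H B') g := by
    intro n
    simp only [hitCount]
    refine Fintype.sum_equiv (Equiv.mulRight (l : G)⁻¹) _ _ fun x => ?_
    simp only [Equiv.coe_mulRight, hKmem]
    congr 2
    simp [mul_assoc]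
  simp only [dadeTerm]
  rw [hcardB, hK, Subgroup.card_map_of_injective (MulAut.conj (l : G)).injective, ← hK]
  congr 3
  refine (Fintype.sum_equiv (MulAut.conj l).toEquiv _ _ fun n => ?_).symm
  have e : (MulAut.conj l).toEquiv n = l * n * l⁻¹ := rfl
  rw [e, hα, hhit n]
  refine if_congr ?_ rfl rfl
  convert hN n

/-- The Dade map preserves generalized characters. -/
theorem isGeneralizedCharacter_dadeIsometry (hD : DadeHypothesis A L H) {α : L → ℂ}
    (hα : IsGeneralizedCharacter L α) (hαA : ∀ x : L, (x : G) ∉ A → α x = 0) :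
    IsGeneralizedCharacter G (dadeIsometry A L H α) := by
  classical
  have hc := hα.isClassFunction
  rw [isGeneralizedCharacter_iff]
  refine ⟨isClassFunction_dadeIsometry hD hc, fun χ hχ => ?_⟩
  set P := A.toFinset.powerset.filter fun B => B.Nonempty with hP
  have hPmem : ∀ {B}, B ∈ P ↔ (∀ b ∈ B, b ∈ A) ∧ B.Nonempty := by
    intro B
    simp [hP, Finset.subset_iff]
  have hint : ∀ B : {B // B ∈ P}, ∃ z : ℤ, classInner (dadeTerm L H α B.1) χ =
      (Nat.card (setStab L B.1) : ℂ) * (Nat.card L : ℂ)⁻¹ * z := by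
    intro B
    obtain ⟨θ, hθ, e⟩ := exists_gen_dadeTerm hD hα (hPmem.mp B.2).1 (hPmem.mp B.2).2
    obtain ⟨z, hz⟩ := hθ.exists_int_classInner hχ.isGeneralized
    refine ⟨z, ?_⟩
    rw [show dadeTerm L H α B.1 =
      ((Nat.card (setStab L B.1) : ℂ) * (Nat.card L : ℂ)⁻¹) • θ from funext e,
      classInner_smul_left, hz]
  choose z hz using hint
  letI : MulAction L {B // B ∈ P} :=
    { smul := fun l B => ⟨B.1.image fun b => (l : G) * b * (l : G)⁻¹, hPmem.mpr ⟨fun b hb => by
        obtain ⟨c, hc, rfl⟩ := Finset.mem_image.mp hb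
        exact hD.conj_mem l l.2 c ((hPmem.mp B.2).1 c hc), (hPmem.mp B.2).2.image _⟩⟩
      one_smul := fun B => Subtype.ext (by
        show B.1.image (fun b => ((1 : L) : G) * b * ((1 : L) : G)⁻¹) = B.1
        simp)
      mul_smul := fun l m B => Subtype.ext (by
        show B.1.image (fun b => ((l * m : L) : G) * b * ((l * m : L) : G)⁻¹) =
          (B.1.image fun b => (m : G) * b * (m : G)⁻¹).image fun b => (l : G) * b * (l : G)⁻¹
        rw [Finset.image_image]
        congr 1
        funext b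
        simp [mul_assoc]) }
  have hstab : ∀ B : {B // B ∈ P},
      Nat.card (MulAction.stabilizer L B) = Nat.card (setStab L B.1) := fun B =>
    Nat.card_congr
      { toFun := fun l => ⟨(l.1 : G), l.1.2, congrArg Subtype.val (l.2 : l.1 • B = B)⟩
        invFun := fun x => ⟨⟨x.1, x.2.1⟩, Subtype.ext x.2.2⟩
        left_inv := fun l => rfl
        right_inv := fun x => rfl }
  have hzinv : ∀ (l : L) (B : {B // B ∈ P}), classInner (dadeTerm L H α (l • B).1) χ =
      classInner (dadeTerm L H α B.1) χ := fun l B => by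
    rw [show dadeTerm L H α (l • B).1 = dadeTerm L H α B.1 from
      funext fun g => dadeTerm_conj hD hc (hPmem.mp B.2).1 l g]
  haveI := Fintype.ofFinite (MulAction.orbitRel.Quotient L {B // B ∈ P})
  refine ⟨∑ ω : MulAction.orbitRel.Quotient L {B // B ∈ P}, z ω.out, ?_⟩
  rw [dadeIsometry_eq_sum_dadeTerm hD hc hαA, classInner_sum_left, ← hP,
    ← Finset.sum_coe_sort P, Int.cast_sum,
    ← Equiv.sum_comp (MulAction.selfEquivSigmaOrbits L {B // B ∈ P}).symm, Fintype.sum_sigma]
  refine Finset.sum_congr rfl fun ω _ => ?_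
  have hconst : ∀ y : MulAction.orbit L ω.out,
      classInner (dadeTerm L H α (y : {B // B ∈ P}).1) χ =
      classInner (dadeTerm L H α ω.out.1) χ := by
    rintro ⟨_, l, rfl⟩
    exact hzinv l _
  have hh : ∀ y, (((MulAction.selfEquivSigmaOrbits L {B // B ∈ P}).symm ⟨ω, y⟩) : {B // B ∈ P}) =
      (y : {B // B ∈ P}) := fun y => rfl
  simp only [hh, hconst, Finset.sum_const, Finset.card_univ, nsmul_eq_mul]
  rw [hz, ← Nat.card_eq_fintype_card, ← hstab, ← mul_assoc, ← mul_assoc, ← Nat.cast_mul,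
    ← Nat.card_prod, Nat.card_congr (MulAction.orbitProdStabilizerEquivGroup L ω.out),
    mul_inv_cancel₀ card_cast_ne_zero, one_mul]

/-- A generalized character of norm two vanishing at the identity is a difference of two
irreducible characters. -/
theorem exists_irr_sub_of_norm_two {f : G → ℂ} (hf : IsGeneralizedCharacter G f)
    (h1 : f 1 = 0) (h2 : classInner f f = 2) :
    ∃ μ ν : IrrCharacter G, μ ≠ ν ∧ f = (μ : G → ℂ) - (ν : G → ℂ) := by
  classical
  have hcf := (isGeneralizedCharacter_iff.1 hf).1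
  choose n hn using fun χ : IrrCharacter G => (isGeneralizedCharacter_iff.1 hf).2 χ χ.2
  have hsum : ∑ χ, n χ * n χ = 2 := by
    rw [classInner_eq_sum hcf] at h2
    simp only [hn, map_intCast] at h2
    exact_mod_cast h2
  have hle : ∀ χ, n χ * n χ ≤ 2 := fun χ =>
    hsum ▸ Finset.single_le_sum (f := fun y => n y * n y) (fun _ _ => mul_self_nonneg _)
      (Finset.mem_univ χ)
  have hsq : ∀ χ, n χ ≠ 0 → n χ = 1 ∨ n χ = -1 := by
    intro χ h
    have hb := hle χ
    have h3 : n χ ≤ 1 := by nlinarith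
    have h4 : -1 ≤ n χ := by nlinarith
    omega
  set T := Finset.univ.filter fun χ => n χ ≠ 0 with hT
  have hTsum : ∑ χ ∈ T, n χ * n χ = 2 := by
    rw [← hsum]
    exact Finset.sum_filter_of_ne fun χ _ h hz => h (by simp [hz])
  have hTcard : T.card = 2 := by
    rw [Finset.sum_congr rfl (g := fun _ => (1 : ℤ)) fun χ hχ => by
      rcases hsq χ (Finset.mem_filter.1 hχ).2 with h | h <;> simp [h]] at hTsum
    simp only [Finset.sum_const, nsmul_eq_mul, mul_one] at hTsum
    exact_mod_cast hTsum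
  obtain ⟨μ, ν, hne, hTe⟩ := Finset.card_eq_two.1 hTcard
  have hexp : f = (n μ : ℂ) • (μ : G → ℂ) + (n ν : ℂ) • (ν : G → ℂ) := by
    conv_lhs => rw [eq_sum_classInner hcf]
    simp only [hn]
    rw [← Finset.sum_pair (f := fun χ : IrrCharacter G => (n χ : ℂ) • (χ : G → ℂ)) hne, ← hTe]
    rw [hT]
    exact (Finset.sum_filter_of_ne (p := fun χ => n χ ≠ 0) fun χ _ h hz => h (by simp [hz])).symm
  have hμ := hsq μ (Finset.mem_filter.1 (hTe ▸ Finset.mem_insert_self μ {ν} : μ ∈ T)).2
  have hν := hsq ν (Finset.mem_filter.1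
    (hTe ▸ Finset.mem_insert_of_mem (Finset.mem_singleton_self ν) : ν ∈ T)).2
  obtain ⟨a, ha0, ha⟩ := μ.2.exists_degree
  obtain ⟨b, hb0, hb⟩ := ν.2.exists_degree
  have hdeg : n μ * (a : ℤ) + n ν * (b : ℤ) = 0 := by
    have h3 := congrFun hexp 1
    simp only [h1, Pi.add_apply, Pi.smul_apply, smul_eq_mul, ha, hb] at h3
    exact_mod_cast h3.symm
  rcases hμ with h | h <;> rcases hν with h' | h'
  · rw [h, h'] at hdeg; omega
  · exact ⟨μ, ν, hne, by rw [hexp, h, h']; push_cast; module⟩
  · exact ⟨ν, μ, hne.symm, by rw [hexp, h, h']; push_cast; module⟩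
  · rw [h, h'] at hdeg; omega

/-- An irreducible character vanishing off `A` and the identity gives a difference of two
conjugate irreducible characters. -/
theorem exists_irr_dadeIsometry_sub_conj (hD : DadeHypothesis A L H) {χ : L → ℂ}
    (hχ : IsIrrCharacter L χ) (hsupp : ∀ x : L, x ≠ 1 → (x : G) ∉ A → χ x = 0) :
    ∃ μ : G → ℂ, IsIrrCharacter G μ ∧
      dadeIsometry A L H (χ - conjFun χ) = μ - conjFun μ := by
  classical
  have hcc : IsCharacter L (conjFun χ) := hχ.isCharacter.conjFn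
  have hg : IsGeneralizedCharacter L (χ - conjFun χ) := hχ.isGeneralized.sub hcc.isGeneralized
  obtain ⟨d, -, hd⟩ := hχ.exists_degree
  have hA : ∀ x : L, (x : G) ∉ A → (χ - conjFun χ) x = 0 := by
    intro x hx
    by_cases h1 : x = 1
    · subst h1
      simp [conjFun, hd]
    · simp [conjFun, hsupp x h1 hx]
  set f := dadeIsometry A L H (χ - conjFun χ) with hf
  have hfg := isGeneralizedCharacter_dadeIsometry hD hg hA
  have hf1 : f 1 = 0 := dadeIsometry_eq_zero fun a ha x u hu e => by
    rw [mul_one, mul_inv_cancel] at e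
    apply hD.one_not_mem
    have h0 : (a : G) = u⁻¹ := eq_inv_of_mul_eq_one_left e.symm
    have : (a : G) ∈ H (a : G) ⊓ (L ⊓ Subgroup.centralizer ({(a : G)} : Set G)) :=
      ⟨h0 ▸ (H (a : G)).inv_mem hu, a.2, Subgroup.mem_centralizer_singleton_iff.mpr rfl⟩
    rw [hD.inf_eq_bot _ ha, Subgroup.mem_bot] at this
    rwa [← this]
  by_cases hreal : conjFun χ = χ
  · refine ⟨fun _ => 1, isIrrCharacter_one, ?_⟩
    funext g
    rw [hf, hreal, sub_self, dadeIsometry]
    simp [conjFun]
  have hnorm : classInner f f = 2 := by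
    have h2 : IsIrrCharacter L (conjFun χ) := isIrrCharacter_conjFn hχ
    rw [hf, classInner_dadeIsometry_dadeIsometry hD hg.isClassFunction hA hg.isClassFunction,
      classInner_sub_left, classInner_sub_right, classInner_sub_right, classInner_irr_self hχ,
      classInner_irr_self h2, classInner_irr_ne hχ h2 (Ne.symm hreal),
      classInner_irr_ne h2 hχ hreal]
    ring
  obtain ⟨μ, ν, hne, e⟩ := exists_irr_sub_of_norm_two hfg hf1 hnorm
  rw [← hf] at e
  have hanti : conjFun f = -f := by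
    funext g
    simp only [hf, dadeIsometry, conjFun, Pi.neg_apply]
    split_ifs with h
    · simp [conjFun]
    · simp
  have hμc : IsIrrCharacter G (conjFun (μ : G → ℂ)) := isIrrCharacter_conjFn μ.2
  have hνc : IsIrrCharacter G (conjFun (ν : G → ℂ)) := isIrrCharacter_conjFn ν.2
  refine ⟨μ, μ.2, ?_⟩
  suffices conjFun (μ : G → ℂ) = ν by rw [this, e]
  by_contra hc
  have h3 : conjFun (μ : G → ℂ) - conjFun (ν : G → ℂ) = (ν : G → ℂ) - μ := by
    rw [← neg_sub (μ : G → ℂ), ← e, ← hanti, e]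
    funext g
    simp [conjFun]
  have h4 := congrArg (fun F => classInner F (ν : G → ℂ)) h3
  simp only [classInner_sub_left, classInner_irr_self ν.2, classInner_irr_ne hμc ν.2 hc,
    classInner_irr_ne μ.2 ν.2 (fun h => hne (Subtype.ext h))] at h4
  rw [classInner_irr hνc ν.2] at h4
  split_ifs at h4 <;> norm_num at h4

end Dade

end Cfsg.Lib.Char
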