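import Mathlib.RingTheory.Trace.Basic
import Mathlib.RingTheory.Polynomial.Cyclotomic.Roots
import Mathlib.RingTheory.RootsOfUnity.Complex
import Mathlib.FieldTheory.IntermediateField.Adjoin.Basic
import Cfsg.Agent.Lib.Char.Formulas

/-!
# Galois action on character values: the maps `g ↦ g ^ k` with `k` prime to the group order
-/

set_option autoImplicit false
set_option linter.unusedSectionVars false
set_option linter.style.haveILetI false

namespace Cfsg.Lib.Char

open Cfsg Module
open scoped ComplexConjugate IntermediateField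

universe u v

/-- The field generated by the `N`-th roots of unity inside the complex numbers. -/
noncomputable def cycField (N : ℕ) : IntermediateField ℚ ℂ :=
  ℚ⟮Complex.exp (2 * Real.pi * Complex.I / (N : ℂ))⟯

theorem zeta_isIntegral (N : ℕ) [NeZero N] :
    IsIntegral ℚ (Complex.exp (2 * Real.pi * Complex.I / (N : ℂ))) :=
  ((Complex.isPrimitiveRoot_exp N (NeZero.ne N)).isIntegral (NeZero.pos N)).tower_top

theorem finiteDimensional_cycField (N : ℕ) [NeZero N] : FiniteDimensional ℚ (cycField N) :=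
  IntermediateField.adjoin.finiteDimensional (zeta_isIntegral N)

theorem mem_cycField {N : ℕ} [NeZero N] {z : ℂ} (hz : z ^ N = 1) : z ∈ cycField N := by
  obtain ⟨i, -, rfl⟩ := (Complex.isPrimitiveRoot_exp N (NeZero.ne N)).eq_pow_of_pow_eq_one hz
  exact pow_mem (IntermediateField.mem_adjoin_simple_self ℚ _) i

/-- The generator of `cycField N`. -/
noncomputable def cycGen (N : ℕ) : cycField N :=
  IntermediateField.AdjoinSimple.gen ℚ (Complex.exp (2 * Real.pi * Complex.I / (N : ℂ)))

theorem cycGen_val (N : ℕ) : (cycGen N : ℂ) = Complex.exp (2 * Real.pi * Complex.I / (N : ℂ)) :=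
  rfl

/-- `σ` acts on `N`-th roots of unity as the `k`-th power map. -/
def ActsAsPow {N : ℕ} (σ : cycField N →ₐ[ℚ] ℂ) (k : ℕ) : Prop :=
  ∀ z : cycField N, (z : ℂ) ^ N = 1 → σ z = (z : ℂ) ^ k

theorem actsAsPow_of_gen {N : ℕ} [NeZero N] {σ : cycField N →ₐ[ℚ] ℂ} {k : ℕ}
    (h : σ (cycGen N) = (cycGen N : ℂ) ^ k) : ActsAsPow σ k := by
  intro z hz
  obtain ⟨i, -, hi⟩ := (Complex.isPrimitiveRoot_exp N (NeZero.ne N)).eq_pow_of_pow_eq_one hz
  have : z = cycGen N ^ i := Subtype.ext (by simpa [cycGen_val] using hi.symm)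
  rw [this, map_pow, h]
  push_cast
  rw [← pow_mul, ← pow_mul, mul_comm]

theorem exists_actsAsPow {N : ℕ} [NeZero N] (σ : cycField N →ₐ[ℚ] ℂ) :
    ∃ k, k.Coprime N ∧ ActsAsPow σ k := by
  have hζ := Complex.isPrimitiveRoot_exp N (NeZero.ne N)
  have hgen : IsPrimitiveRoot (cycGen N) N :=
    (IsPrimitiveRoot.map_iff_of_injective (f := (cycField N).val) Subtype.val_injective).mp hζ
  have h' : IsPrimitiveRoot (σ (cycGen N)) N := hgen.map_of_injective σ.injective
  obtain ⟨k, -, hk⟩ := hζ.eq_pow_of_pow_eq_one h'.pow_eq_one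
  exact ⟨k, (hζ.pow_iff_coprime (NeZero.pos N) k).mp (hk ▸ h'), actsAsPow_of_gen hk.symm⟩

theorem exists_of_coprime {N : ℕ} [NeZero N] {k : ℕ} (hk : k.Coprime N) :
    ∃ σ : cycField N →ₐ[ℚ] ℂ, ActsAsPow σ k := by
  have hζ := Complex.isPrimitiveRoot_exp N (NeZero.ne N)
  have hint := zeta_isIntegral N
  have hroot : Complex.exp (2 * Real.pi * Complex.I / (N : ℂ)) ^ k ∈
      (minpoly ℚ (Complex.exp (2 * Real.pi * Complex.I / (N : ℂ)))).aroots ℂ := by
    rw [Polynomial.mem_aroots]
    refine ⟨minpoly.ne_zero hint, ?_⟩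
    rw [← Polynomial.cyclotomic_eq_minpoly_rat hζ (NeZero.pos N),
      Polynomial.cyclotomic_eq_minpoly_rat (hζ.pow_of_coprime k hk) (NeZero.pos N)]
    exact minpoly.aeval ℚ _
  exact ⟨(IntermediateField.algHomAdjoinIntegralEquiv ℚ hint).symm ⟨_, hroot⟩,
    actsAsPow_of_gen (IntermediateField.algHomAdjoinIntegralEquiv_symm_apply_gen ℚ hint _)⟩

variable {G : Type u} [Group G]

theorem exists_sum_roots [Finite G] {χ : G → ℂ} (hχ : IsCharacter G χ) (g : G) :
    ∃ (n : ℕ) (μ : Fin n → ℂ), (∀ i, μ i ^ orderOf g = 1) ∧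
      ∀ k : ℕ, χ (g ^ k) = ∑ i, μ i ^ k := by
  obtain ⟨n, ρ, rfl⟩ := hχ
  obtain ⟨μ, hμ, -, -, hk, -⟩ := character_eq_sum_roots ρ g
  exact ⟨_, μ, hμ, hk⟩

theorem char_mem_cycField [Finite G] {N : ℕ} [NeZero N] (hN : Nat.card G ∣ N) {χ : G → ℂ}
    (hχ : IsCharacter G χ) (g : G) : χ g ∈ cycField N := by
  obtain ⟨n, μ, hμ, hk⟩ := exists_sum_roots hχ g
  have h1 := hk 1
  simp only [pow_one] at h1
  rw [h1]
  refine sum_mem fun i _ => mem_cycField ?_
  obtain ⟨c, rfl⟩ := (orderOf_dvd_natCard g).trans hN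
  rw [pow_mul, hμ i, one_pow]

/-- Character values as elements of the cyclotomic field. -/
noncomputable def charVal [Finite G] {N : ℕ} [NeZero N] (hN : Nat.card G ∣ N) {χ : G → ℂ}
    (hχ : IsCharacter G χ) (g : G) : cycField N :=
  ⟨χ g, char_mem_cycField hN hχ g⟩

/-- Galois automorphisms act on character values through power maps. -/
theorem galois_charVal [Finite G] {N : ℕ} [NeZero N] (hN : Nat.card G ∣ N)
    {σ : cycField N →ₐ[ℚ] ℂ} {k : ℕ} (hσ : ActsAsPow σ k) {χ : G → ℂ}
    (hχ : IsCharacter G χ) (g : G) : σ (charVal hN hχ g) = χ (g ^ k) := by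
  obtain ⟨n, μ, hμ, hk⟩ := exists_sum_roots hχ g
  obtain ⟨c, hc⟩ := (orderOf_dvd_natCard g).trans hN
  have hm : ∀ i, μ i ^ N = 1 := fun i => by rw [hc, pow_mul, hμ i, one_pow]
  have : charVal hN hχ g = ∑ i, (⟨μ i, mem_cycField (hm i)⟩ : cycField N) := by
    apply Subtype.ext
    have h1 := hk 1
    simp only [pow_one] at h1
    simp [charVal, h1]
  rw [this, map_sum, hk]
  exact Finset.sum_congr rfl fun i _ => hσ _ (hm i)

theorem powBij_of_coprime [Finite G] {k : ℕ} (hk : k.Coprime (Nat.card G)) :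
    Function.Bijective fun g : G => g ^ k :=
  (powCoprime hk.symm).bijective

/-- A class function in the subfield, the `k`-th power twist of an irreducible character,
is again irreducible. -/
theorem isIrrCharacter_comp_pow [Finite G] {k : ℕ} (hk : k.Coprime (Nat.card G)) {χ : G → ℂ}
    (hχ : IsIrrCharacter G χ) : IsIrrCharacter G fun g => χ (g ^ k) := by
  classical
  haveI := Fintype.ofFinite G
  haveI : NeZero (Nat.card G) := ⟨Nat.card_pos.ne'⟩
  obtain ⟨σ, hσ⟩ := exists_of_coprime hk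
  have hG := card_cast_ne_zero (G := G)
  have hbij := powBij_of_coprime hk
  set tw : IrrCharacter G → G → ℂ := fun φ g => (φ : G → ℂ) (g ^ k) with htw
  have hcl : ∀ φ, IsClassFunction G (tw φ) := fun φ g h => by
    simp only [htw, conj_pow]
    exact φ.2.isClassFunction _ _
  set c : IrrCharacter G → IrrCharacter G → ℂ :=
    fun φ ψ => classInner (tw φ) (ψ : G → ℂ) with hc
  have hinner : ∀ φ φ' : IrrCharacter G, classInner (tw φ) (tw φ') = if φ = φ' then 1 else 0 := by
    intro φ φ'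
    have h2 : classInner (tw φ) (tw φ') = classInner (φ : G → ℂ) (φ' : G → ℂ) := by
      simp only [classInner, htw]
      congr 1
      exact hbij.sum_comp fun g => (φ : G → ℂ) g * conj ((φ' : G → ℂ) g)
    rw [h2, classInner_irr φ.2 φ'.2]
    exact if_congr Subtype.coe_inj rfl rfl
  have hconv : ∀ φ g, ∑ x, tw φ x * tw φ (x⁻¹ * g) =
      (Nat.card G : ℂ) * tw φ g / (φ : G → ℂ) 1 := by
    intro φ g
    obtain ⟨n, -, hn⟩ := φ.2.exists_degree
    have h1 : ∑ x, charVal dvd_rfl φ.2.isCharacter x *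
        charVal dvd_rfl φ.2.isCharacter (x⁻¹ * g) =
        (Nat.card G : cycField (Nat.card G)) * charVal dvd_rfl φ.2.isCharacter g / (n : cycField (Nat.card G)) := by
      apply Subtype.ext
      push_cast [charVal]
      rw [sum_char_mul_char_inv φ.2, hn]
    have h2 := congrArg σ h1
    simp only [map_sum, map_mul, map_div₀, map_natCast, galois_charVal dvd_rfl hσ] at h2
    simp only [htw, hn]
    exact h2
  have hexp : ∀ φ, tw φ = ∑ ψ : IrrCharacter G, c φ ψ • (ψ : G → ℂ) :=
    fun φ => eq_sum_classInner (hcl φ)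
  have hsq : ∀ φ ψ, c φ ψ * c φ ψ / (ψ : G → ℂ) 1 = c φ ψ / (φ : G → ℂ) 1 := by
    intro φ ψ
    have key : classInner (fun g => ∑ x, tw φ x * tw φ (x⁻¹ * g)) (ψ : G → ℂ) =
        (Nat.card G : ℂ) * (c φ ψ * c φ ψ) / (ψ : G → ℂ) 1 := by
      have h3 : ∀ g, ∑ x, tw φ x * tw φ (x⁻¹ * g) =
          ∑ a : IrrCharacter G, ∑ b : IrrCharacter G,
            c φ a * c φ b * ∑ x, (a : G → ℂ) x * (b : G → ℂ) (x⁻¹ * g) := by
        intro g
        rw [hexp φ]
        simp only [Finset.sum_apply, Pi.smul_apply, smul_eq_mul, Finset.sum_mul, Finset.mul_sum]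
        rw [Finset.sum_comm]
        conv_rhs => rw [Finset.sum_comm]
        refine Finset.sum_congr rfl fun b _ => ?_
        rw [Finset.sum_comm]
        exact Finset.sum_congr rfl fun a _ => Finset.sum_congr rfl fun x _ => by ring
      have h4 : ∀ a b : IrrCharacter G, classInner
          (fun g => ∑ x, (a : G → ℂ) x * (b : G → ℂ) (x⁻¹ * g)) (ψ : G → ℂ) =
          if a = ψ ∧ b = ψ then (Nat.card G : ℂ) / (ψ : G → ℂ) 1 else 0 := by
        intro a b
        obtain ⟨nψ, ρψ, hρψ, hψc⟩ := ψ.2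
        have hb : IsClassFunction G fun g => conj ((ψ : G → ℂ) g) :=
          fun g h => congrArg conj (ψ.2.isClassFunction g h)
        have e1 : ∀ x, ∑ g, (b : G → ℂ) (x⁻¹ * g) * conj ((ψ : G → ℂ) g) =
            if b = ψ then (Nat.card G : ℂ) * conj ((ψ : G → ℂ) x) / (ψ : G → ℂ) 1 else 0 := by
          intro x
          obtain ⟨nb, ρb, hρb, hbc⟩ := b.2
          have e : ∑ g, (b : G → ℂ) (x⁻¹ * g) * conj ((ψ : G → ℂ) g) =
              LinearMap.trace ℂ (Fin nb → ℂ)
                (ρb x⁻¹ * averageOp ρb fun g => conj ((ψ : G → ℂ) g)) := by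
            rw [← hbc]
            simp only [averageOp, Finset.mul_sum, map_sum, mul_smul_comm, map_smul, smul_eq_mul,
              ← map_mul]
            exact Finset.sum_congr rfl fun g _ => mul_comm _ _
          have hin : ∑ g, conj ((ψ : G → ℂ) g) * ρb.character g =
              (Nat.card G : ℂ) * classInner (b : G → ℂ) (ψ : G → ℂ) := by
            rw [classInner, ← hbc, mul_inv_cancel_left₀ hG]
            exact Finset.sum_congr rfl fun g _ => mul_comm _ _
          rw [e, averageOp_irreducible ρb hb, mul_smul_comm, map_smul, smul_eq_mul,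
            show ρb x⁻¹ * LinearMap.id = ρb x⁻¹ from LinearMap.comp_id _, hin,
            classInner_irr b.2 ψ.2]
          change _ * ρb.character x⁻¹ = _
          split_ifs with hbψ h5 h6
          · subst h5
            rw [congrFun hbc x⁻¹, b.2.isCharacter.apply_inv, ← hbc, ρb.char_one]
            ring
          · exact absurd (Subtype.ext hbψ) h5
          · exact absurd (congrArg Subtype.val h6) hbψ
          · simp
        simp only [classInner, Finset.sum_mul, mul_assoc]
        rw [Finset.sum_comm]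
        simp only [← Finset.mul_sum, e1]
        by_cases hb' : b = ψ
        · simp only [if_pos hb', and_iff_left hb', mul_div_assoc']
          have e2 : ∑ x, (a : G → ℂ) x * conj ((ψ : G → ℂ) x) =
              (Nat.card G : ℂ) * if a = ψ then 1 else 0 := by
            have := classInner_irr a.2 ψ.2
            rw [classInner, inv_mul_eq_iff_eq_mul₀ hG] at this
            rw [this]
            exact congrArg _ (if_congr Subtype.coe_inj rfl rfl)
          rw [← Finset.sum_div]
          simp only [mul_left_comm _ (Nat.card G : ℂ), ← Finset.mul_sum, e2]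
          split_ifs with ha
          · field_simp
          · simp
        · simp [hb']
      rw [show (fun g => ∑ x, tw φ x * tw φ (x⁻¹ * g)) =
          ∑ a : IrrCharacter G, ∑ b : IrrCharacter G, (c φ a * c φ b) •
            fun g => ∑ x, (a : G → ℂ) x * (b : G → ℂ) (x⁻¹ * g) from funext fun g => by
        rw [h3 g]; simp [Finset.sum_apply]]
      simp only [classInner_sum_left, classInner_smul_left, h4]
      rw [Finset.sum_eq_single ψ, Finset.sum_eq_single ψ]
      · simp; ring
      · intro b _ hb'; simp [hb']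
      · simp
      · intro a _ ha'; simp [ha']
      · simp
    rw [show (fun g => ∑ x, tw φ x * tw φ (x⁻¹ * g)) =
        ((Nat.card G : ℂ) / (φ : G → ℂ) 1) • tw φ from funext fun g => by
          rw [hconv]; simp; ring, classInner_smul_left] at key
    have h := φ.2.apply_one_ne_zero
    have h' := ψ.2.apply_one_ne_zero
    apply mul_left_cancel₀ hG
    rw [← mul_div_assoc, ← key]
    show _ = _
    ring
  have hval : ∀ φ ψ, c φ ψ ≠ 0 → c φ ψ = (ψ : G → ℂ) 1 / (φ : G → ℂ) 1 := by
    intro φ ψ h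
    have h1 := hsq φ ψ
    have hφ := φ.2.apply_one_ne_zero
    have hψ := ψ.2.apply_one_ne_zero
    field_simp at h1 ⊢
    linear_combination h1
  have hex : ∀ φ, ∃ ψ, c φ ψ ≠ 0 := by
    intro φ
    by_contra hcon
    push Not at hcon
    have := hinner φ φ
    rw [hexp φ] at this
    simp [hcon, classInner_zero_left] at this
  choose f hf using hex
  have hinj : Function.Injective f := by
    intro φ φ' hff
    by_contra hne
    have h := hinner φ φ'
    rw [if_neg hne, classInner_eq_sum (hcl φ)] at h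
    have hreal : ∀ ψ, ∃ r : ℝ, 0 ≤ r ∧ c φ ψ * conj (c φ' ψ) = r := by
      intro ψ
      by_cases h1 : c φ ψ = 0
      · exact ⟨0, le_rfl, by simp [h1]⟩
      by_cases h2 : c φ' ψ = 0
      · exact ⟨0, le_rfl, by simp [h2]⟩
      rw [hval φ ψ h1, hval φ' ψ h2]
      obtain ⟨m, -, hm⟩ := ψ.2.exists_degree
      obtain ⟨d, -, hd⟩ := φ.2.exists_degree
      obtain ⟨d', -, hd'⟩ := φ'.2.exists_degree
      refine ⟨(m / d) * (m / d'), by positivity, ?_⟩
      rw [hm, hd, hd']
      simp [map_div₀]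
    choose r hr0 hr using hreal
    simp only [c] at hr
    simp only [hr] at h
    have h' : ∑ ψ, r ψ = 0 := by exact_mod_cast h
    have hz := (Finset.sum_eq_zero_iff_of_nonneg fun ψ _ => hr0 ψ).mp h' (f φ) (Finset.mem_univ _)
    have := hr (f φ)
    rw [hz, Complex.ofReal_zero, mul_eq_zero, map_eq_zero] at this
    exact this.elim (hf φ) (hff ▸ hf φ')
  have hsurj := Finite.surjective_of_injective hinj
  let φ₀ : IrrCharacter G := ⟨χ, hχ⟩
  have honly : ∀ ψ, ψ ≠ f φ₀ → c φ₀ ψ = 0 := by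
    intro ψ hψ
    by_contra hne0
    obtain ⟨φ', rfl⟩ := hsurj ψ
    have hne : φ' ≠ φ₀ := fun h => hψ (h ▸ rfl)
    have h := hinner φ₀ φ'
    rw [if_neg hne.symm, classInner_eq_sum (hcl φ₀)] at h
    have hreal : ∀ ψ, ∃ r : ℝ, 0 ≤ r ∧ c φ₀ ψ * conj (c φ' ψ) = r := by
      intro ψ
      by_cases h1 : c φ₀ ψ = 0
      · exact ⟨0, le_rfl, by simp [h1]⟩
      by_cases h2 : c φ' ψ = 0
      · exact ⟨0, le_rfl, by simp [h2]⟩
      rw [hval φ₀ ψ h1, hval φ' ψ h2]
      obtain ⟨m, -, hm⟩ := ψ.2.exists_degree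
      obtain ⟨d, -, hd⟩ := φ₀.2.exists_degree
      obtain ⟨d', -, hd'⟩ := φ'.2.exists_degree
      refine ⟨(m / d) * (m / d'), by positivity, ?_⟩
      rw [hm, hd, hd']
      simp [map_div₀]
    choose r hr0 hr using hreal
    simp only [c] at hr
    simp only [hr] at h
    have h' : ∑ ψ, r ψ = 0 := by exact_mod_cast h
    have hz := (Finset.sum_eq_zero_iff_of_nonneg fun ψ _ => hr0 ψ).mp h' (f φ') (Finset.mem_univ _)
    have := hr (f φ')
    rw [hz, Complex.ofReal_zero, mul_eq_zero, map_eq_zero] at this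
    exact this.elim hne0 (hf φ')
  have hone : tw φ₀ = c φ₀ (f φ₀) • (f φ₀ : G → ℂ) := by
    conv_lhs => rw [hexp φ₀]
    exact Finset.sum_eq_single _ (fun ψ _ hψ => by simp [honly ψ hψ]) (by simp)
  have hn := hinner φ₀ φ₀
  rw [if_pos rfl, hone, classInner_smul_left, classInner_smul_right,
    classInner_irr_self (f φ₀).2, mul_one, hval φ₀ _ (hf φ₀)] at hn
  obtain ⟨m, -, hm⟩ := (f φ₀).2.exists_degree
  obtain ⟨d, hd0, hd⟩ := φ₀.2.exists_degree
  rw [hm, hd] at hn
  simp only [map_div₀, Complex.conj_natCast] at hn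
  have hmd : m = d := by
    have hdC : (d : ℂ) ≠ 0 := Nat.cast_ne_zero.mpr hd0.ne'
    field_simp at hn
    have : m * m = d * d := by
      have h' : ((m * m : ℕ) : ℂ) = ((d * d : ℕ) : ℂ) := by push_cast; linear_combination hn
      exact_mod_cast h'
    exact Nat.mul_self_inj.mp this
  show IsIrrCharacter G (tw φ₀)
  rw [hone, hval φ₀ _ (hf φ₀), hm, hd, hmd, div_self (Nat.cast_ne_zero.mpr hd0.ne'), one_smul]
  exact (f φ₀).2

theorem isCharacter_comp_pow [Finite G] {k : ℕ} (hk : k.Coprime (Nat.card G)) {χ : G → ℂ}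
    (hχ : IsCharacter G χ) : IsCharacter G fun g => χ (g ^ k) := by
  obtain ⟨s, rfl⟩ := hχ.exists_multiset
  induction s using Multiset.induction with
  | empty => simpa using! isCharacter_zero
  | cons a s ih =>
    have h := (isIrrCharacter_comp_pow hk a.2).isCharacter.add
      (ih (IsCharacter.multisetSum_aux s))
    simpa [Pi.add_def] using! h
where
  IsCharacter.multisetSum_aux (s : Multiset (IrrCharacter G)) :
      IsCharacter G (s.map fun χ : IrrCharacter G => (χ : G → ℂ)).sum := by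
    induction s using Multiset.induction with
    | empty => simpa using! isCharacter_zero
    | cons a t ih => simpa using! a.2.isCharacter.add ih

/-- An element of the cyclotomic field fixed by all embeddings is rational. -/
theorem exists_rat_of_fixed {N : ℕ} [NeZero N] (z : cycField N)
    (h : ∀ σ : cycField N →ₐ[ℚ] ℂ, σ z = (z : ℂ)) : ∃ q : ℚ, (z : ℂ) = q := by
  haveI := finiteDimensional_cycField N
  have ht := trace_eq_sum_embeddings ℂ (K := ℚ) (x := z)
  simp only [h, Finset.sum_const, Finset.card_univ, nsmul_eq_mul] at ht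
  haveI : Nonempty (cycField N →ₐ[ℚ] ℂ) := ⟨(cycField N).val⟩
  refine ⟨Algebra.trace ℚ (cycField N) z / (Fintype.card (cycField N →ₐ[ℚ] ℂ) : ℚ), ?_⟩
  have hne : (Fintype.card (cycField N →ₐ[ℚ] ℂ) : ℂ) ≠ 0 :=
    Nat.cast_ne_zero.mpr (Fintype.card_ne_zero (α := cycField N →ₐ[ℚ] ℂ))
  push_cast
  rw [eq_div_iff hne, mul_comm, ← ht]
  rfl

/-- A character value fixed by all power twists is rational. -/
theorem exists_rat_of_pow_invariant [Finite G] {χ : G → ℂ} (hχ : IsCharacter G χ) (g : G)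
    (h : ∀ k : ℕ, k.Coprime (Nat.card G) → χ (g ^ k) = χ g) : ∃ q : ℚ, χ g = q := by
  haveI : NeZero (Nat.card G) := ⟨Nat.card_pos.ne'⟩
  refine exists_rat_of_fixed (charVal dvd_rfl hχ g) fun σ => ?_
  obtain ⟨k, hk, hσ⟩ := exists_actsAsPow σ
  rw [galois_charVal dvd_rfl hσ]
  exact h k hk

theorem pow_invariant_of_rat [Finite G] {χ : G → ℂ} (hχ : IsCharacter G χ) (g : G) {q : ℚ}
    (hq : χ g = q) {k : ℕ} (hk : k.Coprime (Nat.card G)) : χ (g ^ k) = χ g := by
  haveI : NeZero (Nat.card G) := ⟨Nat.card_pos.ne'⟩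
  obtain ⟨σ, hσ⟩ := exists_of_coprime hk
  have : charVal dvd_rfl hχ g = (q : cycField (Nat.card G)) := Subtype.ext (by simpa [charVal] using hq)
  rw [← galois_charVal dvd_rfl hσ hχ g, this, map_ratCast, hq]

/-- A rational character value is an integer. -/
theorem exists_int_of_pow_invariant [Finite G] {χ : G → ℂ} (hχ : IsCharacter G χ) (g : G)
    (h : ∀ k : ℕ, k.Coprime (Nat.card G) → χ (g ^ k) = χ g) : ∃ m : ℤ, χ g = m := by
  obtain ⟨q, hq⟩ := exists_rat_of_pow_invariant hχ g h
  obtain ⟨m, hm⟩ := exists_int_of_isIntegral_rat (q := q) (hq ▸ hχ.isIntegral g)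
  exact ⟨m, by rw [hq, hm]; simp⟩

end Cfsg.Lib.Char
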