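import Cfsg.Agent.Lib.Char.Constituents

/-!
# Subtracting constituents; constituents of restrictions
-/

set_option autoImplicit false
set_option linter.unusedSectionVars false
set_option linter.style.haveILetI false

namespace Cfsg.Lib.Char

open Cfsg
open scoped ComplexConjugate

universe u

variable {G : Type u} [Group G] [Fintype G]

/-- A constituent may be subtracted from a character. -/
theorem isCharacter_sub_constituent {ψ χ : G → ℂ} (hψ : IsCharacter G ψ)
    (hχ : IsIrrCharacter G χ) (h : classInner ψ χ ≠ 0) : IsCharacter G (ψ - χ) := by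
  rw [isCharacter_iff]
  refine ⟨fun g k => by simp [hψ.isClassFunction g k, hχ.isClassFunction g k], fun φ hφ => ?_⟩
  rw [classInner_sub_left]
  obtain ⟨n, hn⟩ := hψ.exists_nat_classInner hφ.isCharacter
  by_cases he : χ = φ
  · subst he
    rw [hn, classInner_irr_self hφ]
    have hn0 : n ≠ 0 := fun h0 => h (by simp [hn, h0])
    exact ⟨n - 1, by rw [Nat.cast_sub (Nat.one_le_iff_ne_zero.mpr hn0), Nat.cast_one]⟩
  · rw [classInner_irr_ne hχ hφ he, sub_zero]
    exact ⟨n, hn⟩

/-- An irreducible character of the same degree as a character containing it equals it. -/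
theorem eq_of_constituent_of_degree {ψ χ : G → ℂ} (hψ : IsCharacter G ψ)
    (hχ : IsIrrCharacter G χ) (h : classInner ψ χ ≠ 0) (hd : ψ 1 = χ 1) : ψ = χ :=
  sub_eq_zero.mp ((isCharacter_sub_constituent hψ hχ h).eq_zero_of_degree (by simp [hd]))

theorem classInner_re_nonneg {ψ φ : G → ℂ} (hψ : IsCharacter G ψ) (hφ : IsCharacter G φ) :
    0 ≤ (classInner ψ φ).re := by
  obtain ⟨n, hn⟩ := hψ.exists_nat_classInner hφ
  rw [hn, Complex.natCast_re]
  exact Nat.cast_nonneg n

theorem eq_zero_iff_re_classInner {ψ φ : G → ℂ} (hψ : IsCharacter G ψ) (hφ : IsCharacter G φ) :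
    classInner ψ φ = 0 ↔ (classInner ψ φ).re = 0 := by
  obtain ⟨n, hn⟩ := hψ.exists_nat_classInner hφ
  rw [hn, Complex.natCast_re, Nat.cast_eq_zero, Nat.cast_eq_zero]

theorem classInner_comm_of_isCharacter {ψ φ : G → ℂ} (hψ : IsCharacter G ψ)
    (hφ : IsCharacter G φ) : classInner ψ φ = classInner φ ψ := by
  obtain ⟨n, hn⟩ := hψ.exists_nat_classInner hφ
  rw [← classInner_conj_symm ψ φ, hn, Complex.conj_natCast]

variable (H : Subgroup G) [Fintype H]

/-- Restriction can only gain multiplicity from a constituent. -/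
theorem classInner_res_le_of_constituent {ψ χ : G → ℂ} (hψ : IsCharacter G ψ)
    (hχ : IsIrrCharacter G χ) (h : classInner ψ χ ≠ 0) {φ : H → ℂ} (hφ : IsCharacter H φ) :
    (classInner (fun x : H => χ x) φ).re ≤ (classInner (fun x : H => ψ x) φ).re := by
  have hd := isCharacter_sub_constituent hψ hχ h
  have h1 := classInner_re_nonneg (hd.comp H.subtype) hφ
  have h2 : (fun x : H => ψ x) =
      (fun x : H => χ x) + (fun x : H => (ψ - χ) (H.subtype x)) := by
    funext x
    simp
  rw [h2, classInner_add_left, Complex.add_re]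
  linarith

theorem exists_constituent_of_res {ψ : G → ℂ} (hψ : IsCharacter G ψ) {φ : H → ℂ}
    (h : classInner (fun x : H => ψ x) φ ≠ 0) :
    ∃ χ : IrrCharacter G, classInner ψ (χ : G → ℂ) ≠ 0 ∧
      classInner (fun x : H => (χ : G → ℂ) x) φ ≠ 0 := by
  by_contra hcon
  push Not at hcon
  apply h
  have h2 : (fun x : H => ψ x) =
      ∑ χ : IrrCharacter G, classInner ψ (χ : G → ℂ) • (fun x : H => (χ : G → ℂ) x) := by
    funext x
    simpa [Finset.sum_apply] using congrFun (eq_sum_classInner hψ.isClassFunction) (x : G)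
  rw [h2, classInner_sum_left]
  refine Finset.sum_eq_zero fun χ _ => ?_
  rw [classInner_smul_left]
  by_cases h0 : classInner ψ (χ : G → ℂ) = 0
  · rw [h0, zero_mul]
  · rw [hcon χ h0, mul_zero]

end Cfsg.Lib.Char
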