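import Mathlib.GroupTheory.Subgroup.Centralizer
import Cfsg.Agent.Lib.Char.Subconstituents

/-!
# Clifford theory
-/

set_option autoImplicit false
set_option linter.unusedSectionVars false
set_option linter.style.haveILetI false

namespace Cfsg.Lib.Char

open Cfsg
open scoped ComplexConjugate

universe u v

section Equiv

variable {G : Type u} [Group G] {K : Type v} [Group K]

theorem classInner_comp_equiv [Fintype G] [Fintype K] (e : G ≃* K) (φ ψ : K → ℂ) :
    classInner (fun g => φ (e g)) (fun g => ψ (e g)) = classInner φ ψ := by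
  simp only [classInner]
  rw [Nat.card_congr e.toEquiv]
  congr 1
  exact Fintype.sum_equiv e.toEquiv _ _ fun g => rfl

theorem isIrrCharacter_comp_equiv (e : G ≃* K) {φ : K → ℂ} (hφ : IsIrrCharacter K φ) :
    IsIrrCharacter G fun g => φ (e g) :=
  hφ.comp_surjective e.toMonoidHom e.surjective

end Equiv

variable {G : Type u} [Group G] [Fintype G] (H : Subgroup G) [hN : H.Normal]

/-- The conjugate of a function on a normal subgroup. -/
def conjTwist (θ : H → ℂ) (g : G) : H → ℂ :=
  fun h => θ ⟨g * h * g⁻¹, hN.conj_mem h h.2 g⟩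

theorem conjTwist_apply (θ : H → ℂ) (g : G) (h : H) :
    conjTwist H θ g h = θ ⟨g * h * g⁻¹, hN.conj_mem h h.2 g⟩ := rfl

theorem conjTwist_one (θ : H → ℂ) : conjTwist H θ 1 = θ :=
  funext fun h => congrArg θ (Subtype.ext (by simp))

theorem conjTwist_conjTwist (θ : H → ℂ) (g k : G) :
    conjTwist H (conjTwist H θ g) k = conjTwist H θ (g * k) :=
  funext fun h => congrArg θ (Subtype.ext (by simp [mul_assoc]))

theorem conjTwist_apply_one (θ : H → ℂ) (g : G) : conjTwist H θ g 1 = θ 1 :=
  congrArg θ (Subtype.ext (by simp))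

theorem isIrrCharacter_conjTwist {θ : H → ℂ} (hθ : IsIrrCharacter H θ) (g : G) :
    IsIrrCharacter H (conjTwist H θ g) :=
  isIrrCharacter_comp_equiv (MulAut.conjNormal g : MulAut H) hθ

theorem isCharacter_conjTwist {θ : H → ℂ} (hθ : IsCharacter H θ) (g : G) :
    IsCharacter H (conjTwist H θ g) :=
  hθ.comp (MulAut.conjNormal g : MulAut H).toMonoidHom

theorem conjTwist_res {χ : G → ℂ} (hχ : IsClassFunction G χ) (g : G) :
    conjTwist H (fun h : H => χ h) g = fun h : H => χ h :=
  funext fun h => hχ (h : G) g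

theorem classInner_conjTwist [Fintype H] (φ ψ : H → ℂ) (g : G) :
    classInner (conjTwist H φ g) (conjTwist H ψ g) = classInner φ ψ :=
  classInner_comp_equiv (MulAut.conjNormal g : MulAut H) φ ψ

/-- The inertia group of a function on a normal subgroup. -/
def inertia (θ : H → ℂ) : Subgroup G where
  carrier := {g | conjTwist H θ g = θ}
  one_mem' := conjTwist_one H θ
  mul_mem' := fun {a b} (ha : conjTwist H θ a = θ) (hb : conjTwist H θ b = θ) => by
    show conjTwist H θ (a * b) = θ
    rw [← conjTwist_conjTwist, ha, hb]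
  inv_mem' := fun {a} (ha : conjTwist H θ a = θ) => by
    show conjTwist H θ a⁻¹ = θ
    conv_lhs => rw [← ha]
    rw [conjTwist_conjTwist, mul_inv_cancel, conjTwist_one]

theorem mem_inertia {θ : H → ℂ} {g : G} : g ∈ inertia H θ ↔ conjTwist H θ g = θ := Iff.rfl

theorem mem_inertia_iff {θ : H → ℂ} {g : G} :
    g ∈ inertia H θ ↔ ∀ h : H, θ ⟨g * h * g⁻¹, hN.conj_mem h h.2 g⟩ = θ h :=
  funext_iff

theorem le_inertia {θ : H → ℂ} (hθ : IsClassFunction H θ) : H ≤ inertia H θ := fun g hg =>
  (mem_inertia_iff H).mpr fun h => hθ h ⟨g, hg⟩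

theorem indFun_conjTwist (θ : H → ℂ) (g : G) : indFun H (conjTwist H θ g) = indFun H θ := by
  funext y
  simp only [indFun]
  congr 1
  refine Fintype.sum_equiv (Equiv.mulRight g⁻¹) _ _ fun x => ?_
  simp only [Equiv.coe_mulRight]
  have e : (x * g⁻¹)⁻¹ * y * (x * g⁻¹) = g * (x⁻¹ * y * x) * g⁻¹ := by group
  rw [e]
  by_cases hx : x⁻¹ * y * x ∈ H
  · rw [extendByZero_of_mem _ _ hx, extendByZero_of_mem _ _ (hN.conj_mem _ hx g)]
    rfl
  · rw [extendByZero_of_notMem _ _ hx, extendByZero_of_notMem]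
    intro h
    apply hx
    have := hN.conj_mem _ h g⁻¹
    rwa [show g⁻¹ * (g * (x⁻¹ * y * x) * g⁻¹) * g⁻¹⁻¹ = x⁻¹ * y * x by group] at this

theorem indFun_res (θ : H → ℂ) :
    (fun h : H => indFun H θ h) = (Nat.card H : ℂ)⁻¹ • ∑ g : G, conjTwist H θ g := by
  funext h
  rw [indFun_normal_apply, Pi.smul_apply, Finset.sum_apply, smul_eq_mul]
  rfl

open Classical in
/-- The orbit of a function under conjugation, as a finset. -/
noncomputable def twistOrbit (θ : H → ℂ) : Finset (H → ℂ) :=
  Finset.univ.image (conjTwist H θ)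

theorem mem_twistOrbit {θ φ : H → ℂ} : φ ∈ twistOrbit H θ ↔ ∃ g : G, conjTwist H θ g = φ := by
  classical
  simp [twistOrbit]

theorem self_mem_twistOrbit (θ : H → ℂ) : θ ∈ twistOrbit H θ :=
  (mem_twistOrbit H).mpr ⟨1, conjTwist_one H θ⟩

theorem isIrrCharacter_of_mem_twistOrbit {θ φ : H → ℂ} (hθ : IsIrrCharacter H θ)
    (h : φ ∈ twistOrbit H θ) : IsIrrCharacter H φ := by
  obtain ⟨g, rfl⟩ := (mem_twistOrbit H).mp h
  exact isIrrCharacter_conjTwist H hθ g

open Classical in
theorem card_twist_fiber (θ : H → ℂ) (g₀ : G) :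
    (Finset.univ.filter fun g => conjTwist H θ g = conjTwist H θ g₀).card =
      Nat.card (inertia H θ) := by
  rw [← Nat.card_eq_finsetCard]
  refine Nat.card_congr
    ((Equiv.mulRight g₀⁻¹).subtypeEquiv fun g => ?_)
  simp only [Finset.mem_filter, Finset.mem_univ, true_and, Equiv.coe_mulRight, mem_inertia]
  rw [← conjTwist_conjTwist]
  constructor
  · intro h
    rw [h, conjTwist_conjTwist, mul_inv_cancel, conjTwist_one]
  · intro h
    conv_rhs => rw [← h]
    rw [conjTwist_conjTwist, inv_mul_cancel, conjTwist_one]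

theorem sum_conjTwist (θ : H → ℂ) :
    ∑ g : G, conjTwist H θ g = (Nat.card (inertia H θ) : ℂ) • ∑ φ ∈ twistOrbit H θ, φ := by
  classical
  rw [Finset.smul_sum, ← Finset.sum_fiberwise_of_maps_to (t := twistOrbit H θ)
    (g := conjTwist H θ) fun g _ => (mem_twistOrbit H).mpr ⟨g, rfl⟩]
  refine Finset.sum_congr rfl fun φ hφ => ?_
  obtain ⟨g₀, rfl⟩ := (mem_twistOrbit H).mp hφ
  rw [Finset.sum_congr rfl fun g hg => (Finset.mem_filter.mp hg).2, Finset.sum_const,
    card_twist_fiber, Nat.cast_smul_eq_nsmul]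

theorem card_twistOrbit (θ : H → ℂ) : (twistOrbit H θ).card = (inertia H θ).index := by
  classical
  have h : Nat.card G = (twistOrbit H θ).card * Nat.card (inertia H θ) := by
    rw [Nat.card_eq_fintype_card, ← Finset.card_univ,
      Finset.card_eq_sum_card_fiberwise (t := twistOrbit H θ) (f := conjTwist H θ)
        fun g _ => (mem_twistOrbit H).mpr ⟨g, rfl⟩]
    rw [Finset.sum_congr rfl fun φ hφ => ?_, Finset.sum_const, smul_eq_mul]
    obtain ⟨g₀, rfl⟩ := (mem_twistOrbit H).mp hφ
    exact card_twist_fiber H θ g₀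
  rw [← (inertia H θ).card_mul_index, mul_comm] at h
  exact (Nat.eq_of_mul_eq_mul_right Nat.card_pos h).symm

/-- Restriction of an induced function to the normal subgroup, through the orbit. -/
theorem indFun_res_orbit (θ : H → ℂ) :
    (fun h : H => indFun H θ h) =
      ((Nat.card (inertia H θ) : ℂ) / (Nat.card H : ℂ)) • ∑ φ ∈ twistOrbit H θ, φ := by
  rw [indFun_res, sum_conjTwist, smul_smul, div_eq_inv_mul]

variable [Fintype H]

theorem classInner_indFun_self {θ : H → ℂ} (hθ : IsIrrCharacter H θ) :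
    (Nat.card H : ℂ) * classInner (indFun H θ) (indFun H θ) = (Nat.card (inertia H θ) : ℂ) := by
  classical
  have hH : (Nat.card H : ℂ) ≠ 0 := Nat.cast_ne_zero.mpr Nat.card_pos.ne'
  rw [classInner_indFun H θ (isClassFunction_indFun H θ), indFun_res, classInner_smul_right,
    map_inv₀, Complex.conj_natCast, mul_inv_cancel_left₀ hH, classInner_sum_right]
  simp only [classInner_irr hθ (isIrrCharacter_conjTwist H hθ _)]
  rw [Finset.sum_boole, Nat.card_eq_fintype_card, Fintype.card_subtype]
  simp only [mem_inertia, eq_comm]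

theorem indFun_eq_of_mem_orbit {θ φ : H → ℂ} (h : φ ∈ twistOrbit H θ) :
    indFun H φ = indFun H θ := by
  obtain ⟨g, rfl⟩ := (mem_twistOrbit H).mp h
  exact indFun_conjTwist H θ g

theorem classInner_res_indFun_of_notMem {θ φ : H → ℂ} (hθ : IsIrrCharacter H θ)
    (hφ : IsIrrCharacter H φ) (h : φ ∉ twistOrbit H θ) :
    classInner (fun x : H => indFun H θ x) φ = 0 := by
  rw [indFun_res_orbit, classInner_smul_left, classInner_sum_left, Finset.sum_eq_zero, mul_zero]
  intro ψ hψ
  exact classInner_irr_ne (isIrrCharacter_of_mem_twistOrbit H hθ hψ) hφ fun e => h (e ▸ hψ)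

theorem classInner_indFun_of_notMem {θ φ : H → ℂ} (hθ : IsIrrCharacter H θ)
    (hφ : IsIrrCharacter H φ) (h : φ ∉ twistOrbit H θ) :
    classInner (indFun H φ) (indFun H θ) = 0 := by
  rw [classInner_indFun H φ (isClassFunction_indFun H θ), ← classInner_conj_symm,
    classInner_res_indFun_of_notMem H hθ hφ h, map_zero]

/-- Two constituents of the restriction of an irreducible character are conjugate. -/
theorem mem_twistOrbit_of_constituent {χ : G → ℂ} (hχ : IsIrrCharacter G χ) {θ φ : H → ℂ}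
    (hθ : IsIrrCharacter H θ) (hφ : IsIrrCharacter H φ)
    (hθc : classInner (fun x : H => χ x) θ ≠ 0) (hφc : classInner (fun x : H => χ x) φ ≠ 0) :
    φ ∈ twistOrbit H θ := by
  by_contra h
  have hind := isCharacter_indFun H hθ.isCharacter
  have hne : classInner (indFun H θ) χ ≠ 0 := by
    rw [classInner_indFun H θ hχ.isClassFunction, ← classInner_conj_symm]
    exact fun e => hθc ((map_eq_zero _).mp e)
  have hres := hχ.isCharacter.comp H.subtype
  have h1 := classInner_res_le_of_constituent H hind hχ hne hφ.isCharacter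
  rw [classInner_res_indFun_of_notMem H hθ hφ h, Complex.zero_re] at h1
  exact hφc ((eq_zero_iff_re_classInner hres hφ.isCharacter).mpr
    (le_antisymm h1 (classInner_re_nonneg hres hφ.isCharacter)))

/-- Clifford's theorem. -/
theorem clifford_res {χ : G → ℂ} (hχ : IsIrrCharacter G χ) {θ : H → ℂ} (hθ : IsIrrCharacter H θ)
    (hc : classInner (fun x : H => χ x) θ ≠ 0) :
    (fun x : H => χ x) =
      classInner (fun x : H => χ x) θ • ∑ φ ∈ twistOrbit H θ, φ := by
  classical
  have hres := hχ.isCharacter.comp H.subtype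
  conv_lhs => rw [eq_sum_classInner (f := fun x : H => χ x) hres.isClassFunction]
  rw [Finset.smul_sum]
  refine (Finset.sum_of_injOn (fun φ => if h : IsIrrCharacter H φ then ⟨φ, h⟩ else ⟨θ, hθ⟩)
    ?_ ?_ ?_ ?_).symm
  · intro a ha b hb hab
    simp only [dif_pos (isIrrCharacter_of_mem_twistOrbit H hθ ha),
      dif_pos (isIrrCharacter_of_mem_twistOrbit H hθ hb)] at hab
    exact congrArg Subtype.val hab
  · intro a _; simp
  · intro ψ _ hψ
    have hnot : (ψ : H → ℂ) ∉ twistOrbit H θ := fun h => hψ ⟨ψ, h, by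
      simp only [dif_pos ψ.2]⟩
    by_cases h0 : classInner (fun x : H => χ x) (ψ : H → ℂ) = 0
    · rw [h0, zero_smul]
    · exact absurd (mem_twistOrbit_of_constituent H hχ hθ ψ.2 hc h0) hnot
  · intro φ hφ
    obtain ⟨g, rfl⟩ := (mem_twistOrbit H).mp hφ
    simp only [dif_pos (isIrrCharacter_conjTwist H hθ g)]
    conv_rhs => rw [← conjTwist_res H hχ.isClassFunction g, classInner_conjTwist]

theorem clifford_degree {χ : G → ℂ} (hχ : IsIrrCharacter G χ) {θ : H → ℂ}
    (hθ : IsIrrCharacter H θ) (hc : classInner (fun x : H => χ x) θ ≠ 0) :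
    χ 1 = classInner (fun x : H => χ x) θ * ((inertia H θ).index : ℂ) * θ 1 := by
  classical
  have h := congrFun (clifford_res H hχ hθ hc) 1
  simp only [Pi.smul_apply, Finset.sum_apply, smul_eq_mul, OneMemClass.coe_one] at h
  rw [h, mul_assoc]
  congr 1
  rw [Finset.sum_congr rfl (g := fun _ => θ 1) fun φ hφ => ?_, Finset.sum_const, nsmul_eq_mul,
    card_twistOrbit]
  obtain ⟨g, rfl⟩ := (mem_twistOrbit H).mp hφ
  exact conjTwist_apply_one H θ g

/-- Clifford's theorem for an invariant constituent. -/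
theorem clifford_invariant {χ : G → ℂ} (hχ : IsIrrCharacter G χ) {θ : H → ℂ}
    (hθ : IsIrrCharacter H θ) (hinv : ∀ g, conjTwist H θ g = θ)
    (hc : classInner (fun x : H => χ x) θ ≠ 0) :
    (fun x : H => χ x) = classInner (fun x : H => χ x) θ • θ := by
  conv_lhs => rw [clifford_res H hχ hθ hc]
  congr 1
  refine Finset.sum_eq_single θ (fun φ hφ hne => ?_) (fun h => absurd (self_mem_twistOrbit H θ) h)
  obtain ⟨g, rfl⟩ := (mem_twistOrbit H).mp hφ
  exact absurd (hinv g) hne

theorem exists_irr_constituent_res {χ : G → ℂ} (hχ : IsIrrCharacter G χ) :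
    ∃ θ : IrrCharacter H, classInner (fun x : H => χ x) (θ : H → ℂ) ≠ 0 :=
  exists_constituent (hχ.isCharacter.comp H.subtype) hχ.apply_one_ne_zero

end Cfsg.Lib.Char
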