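import Mathlib.GroupTheory.QuotientGroup.Basic
import Cfsg.Agent.Lib.Char.Induced

/-!
# Inflation and deflation of characters
-/

set_option autoImplicit false
set_option linter.unusedSectionVars false
set_option linter.style.haveILetI false

namespace Cfsg.Lib.Char

open Cfsg Module
open scoped ComplexConjugate

universe u

variable {G : Type u} [Group G] [Finite G] (N : Subgroup G) [N.Normal]

theorem isCharacter_inflate {ψ : G ⧸ N → ℂ} (h : IsCharacter (G ⧸ N) ψ) :
    IsCharacter G (fun g : G => ψ g) :=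
  h.comp (QuotientGroup.mk' N)

theorem isIrrCharacter_inflate {ψ : G ⧸ N → ℂ} (h : IsIrrCharacter (G ⧸ N) ψ) :
    IsIrrCharacter G (fun g : G => ψ g) :=
  h.comp_surjective (QuotientGroup.mk' N) (QuotientGroup.mk'_surjective N)

theorem exists_deflate {χ : G → ℂ} (hχ : IsCharacter G χ) (hN : ∀ n ∈ N, χ n = χ 1) :
    ∃ ψ : G ⧸ N → ℂ, IsCharacter (G ⧸ N) ψ ∧ ∀ g : G, ψ g = χ g := by
  obtain ⟨n, ρ, rfl⟩ := hχ
  have hker : N ≤ MonoidHom.ker ρ := fun x hx => by
    have := hN x hx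
    rw [Representation.char_one, character_eq_finrank_iff] at this
    exact MonoidHom.mem_ker.mpr this
  exact ⟨Representation.character (QuotientGroup.lift N ρ hker :
      Representation ℂ (G ⧸ N) (Fin n → ℂ)), isCharacter_character _, fun g => rfl⟩

theorem exists_deflate_irr {χ : G → ℂ} (hχ : IsIrrCharacter G χ) (hN : ∀ n ∈ N, χ n = χ 1) :
    ∃ ψ : G ⧸ N → ℂ, IsIrrCharacter (G ⧸ N) ψ ∧ ∀ g : G, ψ g = χ g := by
  obtain ⟨n, ρ, hρ, rfl⟩ := hχ
  have hker : N ≤ MonoidHom.ker ρ := fun x hx => by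
    have := hN x hx
    rw [Representation.char_one, character_eq_finrank_iff] at this
    exact MonoidHom.mem_ker.mpr this
  let σ : Representation ℂ (G ⧸ N) (Fin n → ℂ) := QuotientGroup.lift N ρ hker
  have : σ.IsIrreducible := by
    rw [isIrreducible_iff_submodule] at hρ ⊢
    exact ⟨hρ.1, fun p hp => hρ.2 p fun g x hx => hp (g : G ⧸ N) x hx⟩
  exact ⟨σ.character, isIrrCharacter_character σ, fun g => rfl⟩

/-- Irreducible characters with `N` in the kernel correspond to those of the quotient. -/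
noncomputable def irrQuotientEquiv :
    IrrCharacter (G ⧸ N) ≃ {χ : IrrCharacter G // ∀ n ∈ N, (χ : G → ℂ) n = (χ : G → ℂ) 1} :=
  Equiv.ofBijective
    (fun ψ => ⟨⟨fun g : G => (ψ : G ⧸ N → ℂ) g, isIrrCharacter_inflate N ψ.2⟩, fun n hn => by
      show (ψ : G ⧸ N → ℂ) n = (ψ : G ⧸ N → ℂ) ((1 : G) : G ⧸ N)
      rw [(QuotientGroup.eq_one_iff n).mpr hn]; rfl⟩)
    ⟨fun ψ φ h => by
      apply Subtype.ext
      funext q
      obtain ⟨g, rfl⟩ := QuotientGroup.mk_surjective q
      exact congrFun (congrArg Subtype.val (congrArg Subtype.val h)) g,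
    fun χ => by
      obtain ⟨ψ, hψ, he⟩ := exists_deflate_irr N χ.1.2 χ.2
      exact ⟨⟨ψ, hψ⟩, Subtype.ext (Subtype.ext (funext he))⟩⟩

end Cfsg.Lib.Char
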