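import Mathlib
import Cfsg.Agent.Lib.Char.Coherence
import Cfsg.Agent.Lib.Char.Clifford
import Cfsg.Agent.Lib.Char.Quotient
import Cfsg.Agent.Lib.Char.Linear
import Cfsg.Agent.Lib.Block.PPrimeKernel

/-!
# Descent of coherence along central steps

Peterfalvi's Theorem 6.2 and Theorem 6.3: coherence of the characters induced from the characters of `K`
with `A` in the kernel passes to smaller normal subgroups when `|K : A|` is large.
-/

set_option autoImplicit false
set_option linter.unusedSectionVars false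
set_option linter.style.haveILetI false

namespace Cfsg.Lib.Char

open Cfsg
open scoped ComplexConjugate commutatorElement

universe u v

variable {L : Type u} [Group L] [Fintype L] (K : Subgroup L)

theorem relIndex_ne_zero_fin (A B : Subgroup L) : A.relIndex B ≠ 0 := by
  rw [Subgroup.relIndex]; exact Subgroup.index_ne_zero_of_finite

theorem conjFun_indFun (θ : K → ℂ) : conjFun (indFun K θ) = indFun K (conjFun θ) := by
  have he : ∀ y, conj (extendByZero K θ y) = extendByZero K (conjFun θ) y := by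
    intro y
    by_cases hy : y ∈ K
    · rw [extendByZero_of_mem K θ hy, extendByZero_of_mem K _ hy]; rfl
    · rw [extendByZero_of_notMem K θ hy, extendByZero_of_notMem K _ hy, map_zero]
  funext g
  simp only [conjFun, indFun, map_mul, map_inv₀, Complex.conj_natCast, map_sum, he]

theorem conjFun_mem_inducedIrrAbove (A : Subgroup L) {φ : L → ℂ} (h : φ ∈ inducedIrrAbove K A) :
    conjFun φ ∈ inducedIrrAbove K A := by
  obtain ⟨θ, hθ, hne, hA, rfl⟩ := h
  haveI := Fintype.ofFinite K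
  refine ⟨conjFun θ, isIrrCharacter_conjFn hθ, fun e => hne ?_,
    fun a ha => congrArg conj (hA a ha), conjFun_indFun K θ⟩
  funext x
  have h1 := congrArg conj (congrFun e x)
  simpa [conjFun] using h1

theorem inducedIrrAbove_finite (A : Subgroup L) : (inducedIrrAbove K A).Finite :=
  (Set.finite_range fun θ : IrrCharacter K => indFun K (θ : K → ℂ)).subset
    fun _ ⟨θ, hθ, _, _, e⟩ => ⟨⟨θ, hθ⟩, e.symm⟩

theorem inducedIrrAbove_subset_bot (A : Subgroup L) : inducedIrrAbove K A ⊆ inducedIrrAbove K ⊥ :=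
  fun _ ⟨θ, hθ, hne, _, e⟩ => ⟨θ, hθ, hne,
    fun a ha => congrArg θ (Subtype.ext (by simpa using ha) : a = 1), e⟩

theorem exists_linear_kernel [K.Normal] (hsolv : Group.IsSolvable K) (A : Subgroup L) [A.Normal]
    (hAK : A < K) : ∃ θ : K → ℂ, IsIrrCharacter K θ ∧ θ ≠ (fun _ => 1) ∧
      (∀ a : K, (a : L) ∈ A → θ a = θ 1) ∧ θ 1 = 1 := by
  classical
  haveI : (A.subgroupOf K).Normal := Subgroup.Normal.subgroupOf ‹A.Normal› K
  haveI : Nontrivial (K ⧸ A.subgroupOf K) :=
    QuotientGroup.nontrivial_iff.2 fun h => not_le_of_gt hAK (Subgroup.subgroupOf_eq_top.1 h)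
  haveI := hsolv
  have hlt : commutator (K ⧸ A.subgroupOf K) < ⊤ := Group.IsSolvable.commutator_lt_top_of_nontrivial _
  have hcard := card_linear_eq_index (G := K ⧸ A.subgroupOf K)
  haveI : Finite ((K ⧸ A.subgroupOf K) →* ℂˣ) :=
    Nat.finite_of_card_ne_zero (hcard ▸ Subgroup.index_ne_zero_of_finite)
  haveI : Nontrivial ((K ⧸ A.subgroupOf K) →* ℂˣ) := by
    rw [← Finite.one_lt_card_iff_nontrivial, hcard]
    exact Subgroup.one_lt_index_of_ne_top hlt.ne
  obtain ⟨f, hf⟩ := exists_ne (1 : (K ⧸ A.subgroupOf K) →* ℂˣ)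
  refine ⟨fun x => ((f (QuotientGroup.mk' (A.subgroupOf K) x) : ℂˣ) : ℂ),
    isIrrCharacter_linear (f.comp (QuotientGroup.mk' (A.subgroupOf K))), fun e => hf ?_, fun a ha => ?_,
    by simp⟩
  · refine MonoidHom.ext fun q => ?_
    obtain ⟨x, rfl⟩ := QuotientGroup.mk_surjective q
    exact Units.ext (congrFun e x)
  · simp only [map_one, Units.val_one]
    rw [QuotientGroup.mk'_apply, (QuotientGroup.eq_one_iff a).2 (Subgroup.mem_subgroupOf.2 ha), map_one,
      Units.val_one]

theorem inducedIrrAbove_nonempty [K.Normal] (hsolv : Group.IsSolvable K) (A : Subgroup L) [A.Normal]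
    (hAK : A < K) : (inducedIrrAbove K A).Nonempty := by
  obtain ⟨θ, hθ, hne, hA, -⟩ := exists_linear_kernel K hsolv A hAK
  exact ⟨_, θ, hθ, hne, hA, rfl⟩

open Classical in
/-- The sum of `φ(1)² / ⟨φ, φ⟩` over the characters induced from those of `K/A`. -/
theorem sum_sq_div_norm [K.Normal] [Fintype K] (A : Subgroup L) [A.Normal] (T : Finset (L → ℂ))
    (hT : (↑T : Set (L → ℂ)) = inducedIrrAbove K A) {d n : (L → ℂ) → ℕ} (hd : ∀ φ ∈ T, φ 1 = (d φ : ℂ))
    (hn : ∀ φ ∈ T, classInner φ φ = (n φ : ℂ)) :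
    ∑ φ ∈ T, ((d φ : ℝ) ^ 2 / (n φ : ℝ)) = (K.index : ℝ) * ((A.relIndex K : ℝ) - 1) := by
  haveI : (A.subgroupOf K).Normal := Subgroup.Normal.subgroupOf ‹A.Normal› K
  let P : IrrCharacter K → Prop := fun θ => ∀ a : K, (a : L) ∈ A → (θ : K → ℂ) a = (θ : K → ℂ) 1
  let one : IrrCharacter K := ⟨fun _ => 1, isIrrCharacter_one⟩
  let TA : Finset (IrrCharacter K) := Finset.univ.filter fun θ => θ ≠ one ∧ P θ
  let ind : IrrCharacter K → L → ℂ := fun θ => indFun K (θ : K → ℂ)
  have hTA : T = TA.image ind := by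
    apply Finset.coe_injective
    rw [hT, Finset.coe_image]
    ext φ
    simp only [Set.mem_image, TA, Finset.coe_filter, Finset.mem_univ, true_and, Set.mem_ofPred_eq]
    constructor
    · rintro ⟨θ, hθ, hne, hA, rfl⟩
      exact ⟨⟨θ, hθ⟩, ⟨fun e => hne (congrArg Subtype.val e), hA⟩, rfl⟩
    · rintro ⟨θ, ⟨hne, hA⟩, rfl⟩
      exact ⟨θ, θ.2, fun e => hne (Subtype.ext e), hA, rfl⟩
  -- the degrees squared over `K/A`
  have hsum : ∑ θ ∈ TA, ((charDegree (θ : K → ℂ) : ℝ)) ^ 2 = (A.relIndex K : ℝ) - 1 := by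
    have h := sum_sq_degree (G := K ⧸ A.subgroupOf K)
    rw [← (irrQuotientEquiv (A.subgroupOf K)).symm.sum_comp] at h
    have h' : ∑ θ : {θ : IrrCharacter K // ∀ a ∈ A.subgroupOf K, (θ : K → ℂ) a = (θ : K → ℂ) 1},
        (charDegree ((θ : IrrCharacter K) : K → ℂ) : ℂ) ^ 2 = (A.relIndex K : ℂ) := by
      rw [Subgroup.relIndex, Subgroup.index_eq_card, ← h]
      refine Finset.sum_congr rfl fun θ _ => ?_
      obtain ⟨ψ, rfl⟩ := (irrQuotientEquiv (A.subgroupOf K)).surjective θ
      rw [Equiv.symm_apply_apply, ← (((irrQuotientEquiv (A.subgroupOf K)) ψ).1.2.apply_one_eq_charDegree)]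
      rfl
    rw [← Finset.sum_subtype (Finset.univ.filter fun θ => P θ) (by simp [P, Subgroup.mem_subgroupOf])
      (fun θ : IrrCharacter K => (charDegree (θ : K → ℂ) : ℂ) ^ 2)] at h'
    have hR : ∑ θ ∈ Finset.univ.filter (fun θ => P θ), (charDegree (θ : K → ℂ) : ℝ) ^ 2 =
        (A.relIndex K : ℝ) := by exact_mod_cast h'
    have h1 : (charDegree (one : K → ℂ) : ℝ) = 1 := by simp [one, charDegree]
    have hsplit := Finset.sum_erase_add (Finset.univ.filter fun θ => P θ)
      (fun θ : IrrCharacter K => (charDegree (θ : K → ℂ) : ℝ) ^ 2)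
      (show one ∈ Finset.univ.filter fun θ => P θ by simp [P, one])
    rw [hR, h1] at hsplit
    rw [show TA = (Finset.univ.filter fun θ => P θ).erase one by ext θ; simp [TA]]
    linarith
  rw [← hsum, Finset.mul_sum, ← Finset.sum_fiberwise_of_maps_to (g := ind) (t := T)
    (fun θ hθ => hTA ▸ Finset.mem_image_of_mem _ hθ)]
  refine Finset.sum_congr rfl fun φ hφ => ?_
  obtain ⟨θ, hθ, rfl⟩ := Finset.mem_image.1 (hTA ▸ hφ)
  obtain ⟨hθne, hθA⟩ : θ ≠ one ∧ P θ := (Finset.mem_filter.1 hθ).2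
  -- the fibre is the orbit
  have hdeg : ∀ θ' : IrrCharacter K, (θ' : K → ℂ) ∈ twistOrbit K (θ : K → ℂ) →
      charDegree (θ' : K → ℂ) = charDegree (θ : K → ℂ) := by
    intro θ' h
    obtain ⟨g, hg⟩ := (mem_twistOrbit K).1 h
    unfold charDegree
    rw [← hg, conjTwist_apply_one]
  have hfib : (TA.filter fun θ' => ind θ' = ind θ).card = (inertia K (θ : K → ℂ)).index := by
    rw [← card_twistOrbit]
    refine Finset.card_bij (fun θ' _ => (θ' : K → ℂ)) (fun θ' h => ?_) (fun a _ b _ e => Subtype.ext e)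
      fun η hη => ?_
    · have he : ind θ' = ind θ := (Finset.mem_filter.1 h).2
      by_contra hnot
      have h0 := classInner_indFun_of_notMem K θ.2 θ'.2 hnot
      change classInner (ind θ') (ind θ) = 0 at h0
      rw [he] at h0
      have h1 := classInner_indFun_self K θ.2
      change (Nat.card K : ℂ) * classInner (ind θ) (ind θ) = _ at h1
      rw [h0, mul_zero] at h1
      exact Nat.cast_ne_zero.2 (Nat.card_pos (α := inertia K (θ : K → ℂ))).ne' h1.symm
    · have hη' := isIrrCharacter_of_mem_twistOrbit K θ.2 hη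
      obtain ⟨g, hg⟩ := (mem_twistOrbit K).1 hη
      refine ⟨⟨η, hη'⟩, Finset.mem_filter.2 ⟨Finset.mem_filter.2 ⟨Finset.mem_univ _, fun e => hθne ?_,
        fun a ha => ?_⟩, indFun_eq_of_mem_orbit K hη⟩, rfl⟩
      · have e' : η = fun _ => 1 := congrArg Subtype.val e
        refine Subtype.ext ?_
        have := conjTwist_conjTwist K (θ : K → ℂ) g g⁻¹
        funext x
        have h2 := congrFun (congrArg (fun f => conjTwist K f g⁻¹) (hg.trans e')) x
        simp only [conjTwist_apply] at h2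
        simpa [one, mul_assoc] using h2
      · change η a = η 1
        rw [← hg, conjTwist_apply, conjTwist_apply_one]
        exact hθA _ (‹A.Normal›.conj_mem _ ha g)
  rw [Finset.sum_congr rfl (g := fun _ => (K.index : ℝ) * (charDegree (θ : K → ℂ) : ℝ) ^ 2) (fun θ' h' => ?_),
    Finset.sum_const, hfib, nsmul_eq_mul]
  · have e1 : d (ind θ) = K.index * charDegree (θ : K → ℂ) := by
      have h := hd (ind θ) hφ
      change indFun K (θ : K → ℂ) 1 = _ at h
      rw [indFun_apply_one, θ.2.apply_one_eq_charDegree] at h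
      exact_mod_cast h.symm
    have e2 : Nat.card K * n (ind θ) = Nat.card (inertia K (θ : K → ℂ)) := by
      have h := classInner_indFun_self K θ.2
      change (Nat.card K : ℂ) * classInner (ind θ) (ind θ) = _ at h
      rw [hn (ind θ) hφ] at h
      exact_mod_cast h
    have e3 : n (ind θ) * (inertia K (θ : K → ℂ)).index = K.index := by
      have h1 := (inertia K (θ : K → ℂ)).card_mul_index
      rw [← e2, ← K.card_mul_index, mul_assoc] at h1
      exact Nat.eq_of_mul_eq_mul_left Nat.card_pos h1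
    have hn0 : (n (ind θ) : ℝ) ≠ 0 := by
      intro h
      rw [Nat.cast_eq_zero] at h
      rw [h, mul_zero] at e2
      exact Nat.card_pos.ne' e2.symm
    rw [e1, ← e3, div_eq_iff hn0]
    push_cast
    ring
  · simp only [Finset.mem_filter] at h'
    have hm : (θ' : K → ℂ) ∈ twistOrbit K (θ : K → ℂ) := by
      by_contra hnot
      have h0 := classInner_indFun_of_notMem K θ.2 θ'.2 hnot
      change classInner (ind θ') (ind θ) = 0 at h0
      rw [h'.2] at h0
      have h1 := classInner_indFun_self K θ.2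
      change (Nat.card K : ℂ) * classInner (ind θ) (ind θ) = _ at h1
      rw [h0, mul_zero] at h1
      exact Nat.cast_ne_zero.2 (Nat.card_pos (α := inertia K (θ : K → ℂ))).ne' h1.symm
    rw [hdeg θ' hm]

/-- An irreducible character with a central section in the kernel has bounded degree. -/
theorem sq_degree_le_of_central {C : Type u} [Group C] [Fintype C] (D : Subgroup C) [Fintype D] {η : C → ℂ}
    (hη : IsIrrCharacter C η) (hc : ∀ x ∈ D, ∀ y : C, η (x * y * x⁻¹ * y⁻¹) = η 1) :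
    (η 1).re ^ 2 ≤ (D.index : ℝ) := by
  classical
  obtain ⟨m, ρ, hρ, rfl⟩ := hη
  haveI := hρ
  have hnorm : ∀ x ∈ D, ‖ρ.character x‖ = (ρ.character 1).re := by
    intro x hx
    have hcomm : ∀ y, ρ x * ρ y = ρ y * ρ x := by
      intro y
      have h := hc x hx y
      rw [Representation.char_one, character_eq_finrank_iff] at h
      have e : x * y = (x * y * x⁻¹ * y⁻¹) * (y * x) := by group
      rw [← map_mul, ← map_mul, e, map_mul, h, ← Module.End.one_eq_id, one_mul]
    let T : Representation.IntertwiningMap ρ ρ := ⟨ρ x, fun y => hcomm y⟩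
    obtain ⟨c, hcc⟩ := (Representation.IsIrreducible.algebraMap_intertwiningMap_bijective_of_isAlgClosed
      (ρ := ρ)).2 T
    have hT : ρ x = c • LinearMap.id := (congrArg Representation.IntertwiningMap.toLinearMap hcc).symm
    have hs := norm_character_eq_iff ρ x
    rw [Representation.char_one, Complex.natCast_re]
    exact hs.2 ⟨c, hT⟩
  have hsum := classInner_irreducible_self ρ
  rw [classInner, inv_mul_eq_one₀ (Nat.cast_ne_zero.2 Nat.card_pos.ne')] at hsum
  have hR : ∑ g : C, ‖ρ.character g‖ ^ 2 = (Nat.card C : ℝ) := by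
    have h := congrArg Complex.re hsum
    rw [Complex.natCast_re, Complex.re_sum] at h
    rw [h]
    refine Finset.sum_congr rfl fun g _ => ?_
    rw [Complex.mul_conj, Complex.ofReal_re, Complex.normSq_eq_norm_sq]
  have hle : ∑ g ∈ Finset.univ.filter (· ∈ D), ‖ρ.character g‖ ^ 2 ≤ ∑ g : C, ‖ρ.character g‖ ^ 2 :=
    Finset.sum_le_sum_of_subset_of_nonneg (Finset.filter_subset _ _) fun _ _ _ => sq_nonneg _
  rw [hR, Finset.sum_congr rfl (fun g hg => by rw [hnorm g (Finset.mem_filter.1 hg).2]), Finset.sum_const,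
    ← Fintype.card_subtype, ← Nat.card_eq_fintype_card, nsmul_eq_mul, ← D.card_mul_index, Nat.cast_mul] at hle
  exact le_of_mul_le_mul_left hle (by exact_mod_cast Nat.card_pos (α := D))

/-- Peterfalvi's Theorem 6.2. -/
theorem _root_.Cfsg.IsCoherenceSystem.central_step {G : Type v} [Group G] [Fintype G] [K.Normal]
    (hsolv : Group.IsSolvable K) {τ : (L → ℂ) → (G → ℂ)} {R : (L → ℂ) → Finset (G → ℂ)}
    (hS : IsCoherenceSystem (inducedIrrAbove K ⊥) τ R) (A B C D : Subgroup L) [A.Normal] [B.Normal] [C.Normal]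
    (hAK : A < K) (hBK : B < K) (hDC : D ≤ C) (hCK : C ≤ K)
    (hcent : ∀ x ∈ D, ∀ y ∈ C, x * y * x⁻¹ * y⁻¹ ∈ B) (hA : IsCoherent (inducedIrrAbove K A) {1}ᶜ τ)
    (hlt : 4 * C.index ^ 2 * D.relIndex C < (A.relIndex K - 1) ^ 2) :
    IsCoherent (inducedIrrAbove K B) {1}ᶜ τ := by
  classical
  haveI := Fintype.ofFinite K
  set S := inducedIrrAbove K ⊥
  have hdex : ∀ φ : L → ℂ, ∃ d n : ℕ, φ ∈ S → φ 1 = (d : ℂ) ∧ classInner φ φ = (n : ℂ) := by
    intro φ
    by_cases h : φ ∈ S
    · obtain ⟨d, hd⟩ := (hS.isCharacter φ h).exists_degree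
      obtain ⟨n, hn⟩ := (hS.isCharacter φ h).exists_nat_classInner (hS.isCharacter φ h)
      exact ⟨d, n, fun _ => ⟨hd, hn⟩⟩
    · exact ⟨0, 0, fun e => absurd e h⟩
  choose d n hdn using hdex
  let SA := (inducedIrrAbove_finite K A).toFinset
  let SB := (inducedIrrAbove_finite K B).toFinset
  let cl : Finset (Finset (L → ℂ)) := (SA ∪ SB).powerset.filter fun T => SA ⊆ T ∧
    (∀ φ ∈ T, conjFun φ ∈ T) ∧ IsCoherent (↑T : Set (L → ℂ)) {1}ᶜ τ
  have hne : cl.Nonempty := ⟨SA, Finset.mem_filter.2 ⟨Finset.mem_powerset.2 Finset.subset_union_left,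
    subset_rfl, fun φ hφ => by
      simp only [SA, Set.Finite.mem_toFinset] at hφ ⊢
      exact conjFun_mem_inducedIrrAbove K A hφ, by simpa [SA] using hA⟩⟩
  obtain ⟨T, hT, hmax⟩ := Finset.exists_max_image cl Finset.card hne
  obtain ⟨hTsub, hSAT, hTc, hTcoh⟩ := Finset.mem_filter.1 hT
  rw [Finset.mem_powerset] at hTsub
  have hTS : (↑T : Set (L → ℂ)) ⊆ S := fun φ hφ => by
    rcases Finset.mem_union.1 (hTsub hφ) with h | h <;> simp only [SA, SB, Set.Finite.mem_toFinset] at h
    · exact inducedIrrAbove_subset_bot K A h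
    · exact inducedIrrAbove_subset_bot K B h
  by_cases hall : SB ⊆ T
  · obtain ⟨χ, hχ⟩ := inducedIrrAbove_nonempty K hsolv B hBK
    have hsub : inducedIrrAbove K B ⊆ (↑T : Set (L → ℂ)) := fun φ hφ => hall (by simpa [SB] using hφ)
    obtain ⟨-, τ₁, hτ₁, hag⟩ := hTcoh
    refine ⟨⟨χ - conjFun χ, mem_zspanOn_one.2 ⟨zspan_sub (mem_zspan_self hχ)
      (mem_zspan_self (conjFun_mem_inducedIrrAbove K B hχ)), ?_⟩, sub_ne_zero.2 (Ne.symm ?_)⟩,
      τ₁, hτ₁.mono (zspan_mono hsub), fun α hα => hag α (zspanOn_mono hsub _ hα)⟩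
    · obtain ⟨_, -, h1, h2, -⟩ := hS.exists_deg (inducedIrrAbove_subset_bot K B hχ)
      rw [Pi.sub_apply, h1, h2, sub_self]
    · exact hS.conj_ne χ (inducedIrrAbove_subset_bot K B hχ)
  · exfalso
    obtain ⟨χ, hχB, hχT⟩ := Finset.not_subset.1 hall
    have hχB' : χ ∈ inducedIrrAbove K B := by simpa [SB] using hχB
    have hχS : χ ∈ S := inducedIrrAbove_subset_bot K B hχB'
    have hcT : conjFun χ ∉ T := fun h => hχT (by simpa [conjFun_conjFun] using hTc _ h)
    obtain ⟨lam, hlam, hlne, hlA, hl1⟩ := exists_linear_kernel K hsolv A hAK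
    set χ₁ := indFun K lam
    have hχ₁A : χ₁ ∈ inducedIrrAbove K A := ⟨lam, hlam, hlne, hlA, rfl⟩
    have hd1 : d χ₁ = K.index := by
      have h := (hdn χ₁ (inducedIrrAbove_subset_bot K A hχ₁A)).1
      change indFun K lam 1 = _ at h
      rw [indFun_apply_one, hl1, mul_one] at h
      exact_mod_cast h.symm
    obtain ⟨θ, hθ, -, hθB, hχe⟩ := hχB'
    have hdχ : d χ = K.index * charDegree θ := by
      have h := (hdn χ hχS).1
      rw [hχe, indFun_apply_one, hθ.apply_one_eq_charDegree, ← hχe] at h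
      exact_mod_cast h.symm
    -- the bound on the degree of `θ`
    set C' := C.subgroupOf K
    haveI : C'.Normal := Subgroup.Normal.subgroupOf ‹C.Normal› K
    haveI := Fintype.ofFinite C'
    set D' := (D.subgroupOf K).subgroupOf C'
    haveI := Fintype.ofFinite D'
    obtain ⟨η, hη⟩ := exists_irr_constituent_res C' hθ
    have hres : IsCharacter C' (fun x : C' => θ x) := hθ.isCharacter.comp C'.subtype
    have hηB : ∀ x ∈ D', ∀ y : C', (η : C' → ℂ) (x * y * x⁻¹ * y⁻¹) = (η : C' → ℂ) 1 := fun x hx y =>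
      Block.constituent_apply_eq hres η.2 hη (by
        show θ _ = θ _
        exact hθB _ (hcent _ hx _ y.2))
    have hb := sq_degree_le_of_central D' η.2 hηB
    have hθle : (θ 1).re ≤ (C'.index : ℝ) * ((η : C' → ℂ) 1).re := by
      have h := degree_le_of_constituent hθ (isCharacter_indFun C' η.2.isCharacter) (by
        rw [classInner_indFun C' _ hθ.isClassFunction, ← classInner_conj_symm]
        exact fun e => hη ((map_eq_zero _).mp e))
      rw [indFun_apply_one] at h
      simpa using h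
    have hCK' : C'.index * K.index = C.index := Subgroup.relIndex_mul_index hCK
    have hD' : D'.index = D.relIndex C := by
      show (D.subgroupOf K).relIndex (C.subgroupOf K) = _
      exact Subgroup.relIndex_subgroupOf hCK
    have hθd : (θ 1).re = (charDegree θ : ℝ) := by rw [hθ.apply_one_eq_charDegree, Complex.natCast_re]
    have hη0 : 0 ≤ ((η : C' → ℂ) 1).re := η.2.isCharacter.degree_re_nonneg
    have hbound : (d χ : ℝ) ^ 2 ≤ (C.index : ℝ) ^ 2 * (D.relIndex C : ℝ) := by
      rw [hdχ, ← hCK', ← hD', Nat.cast_mul, Nat.cast_mul]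
      rw [hθd] at hθle
      have h0 : (0 : ℝ) ≤ charDegree θ := Nat.cast_nonneg _
      calc ((K.index : ℝ) * charDegree θ) ^ 2 ≤ (K.index : ℝ) ^ 2 * ((C'.index : ℝ) * ((η : C' → ℂ) 1).re) ^ 2 := by
            rw [mul_pow]
            exact mul_le_mul_of_nonneg_left (pow_le_pow_left₀ h0 hθle 2) (sq_nonneg _)
        _ ≤ ((C'.index : ℝ) * K.index) ^ 2 * (D'.index : ℝ) := by
            rw [mul_pow, mul_pow, ← mul_assoc, mul_comm ((K.index : ℝ) ^ 2)]
            exact mul_le_mul_of_nonneg_left hb (mul_nonneg (sq_nonneg _) (sq_nonneg _))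
    have hkey : 2 * (d χ : ℝ) < (A.relIndex K : ℝ) - 1 := by
      have hpos : 1 ≤ A.relIndex K := Nat.one_le_iff_ne_zero.2 (relIndex_ne_zero_fin _ _)
      have hltR : 4 * (C.index : ℝ) ^ 2 * (D.relIndex C : ℝ) < ((A.relIndex K : ℝ) - 1) ^ 2 := by
        have h := (Nat.cast_lt (α := ℝ)).2 hlt
        push_cast [hpos] at h
        exact h
      have h1 : (1 : ℝ) ≤ (A.relIndex K : ℝ) := by exact_mod_cast hpos
      nlinarith [sq_nonneg (2 * (d χ : ℝ) - ((A.relIndex K : ℝ) - 1))]
    have hsum := sum_sq_div_norm K A SA (by simp [SA]) (d := d) (n := n)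
      (fun φ hφ => (hdn φ (inducedIrrAbove_subset_bot K A (by simpa [SA] using hφ))).1)
      (fun φ hφ => (hdn φ (inducedIrrAbove_subset_bot K A (by simpa [SA] using hφ))).2)
    have hineq : (2 * d χ * d χ₁ : ℝ) < ∑ φ ∈ T, ((d φ : ℝ) ^ 2 / (n φ : ℝ)) := by
      refine lt_of_lt_of_le ?_ (Finset.sum_le_sum_of_subset_of_nonneg hSAT fun _ _ _ => by positivity)
      rw [hsum, hd1, mul_comm (K.index : ℝ)]
      exact mul_lt_mul_of_pos_right hkey (by exact_mod_cast Nat.pos_of_ne_zero Subgroup.index_ne_zero_of_finite)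
    have hext := hS.coherent_extend (fun φ hφ => (hdn φ hφ).1) (fun φ hφ => (hdn φ hφ).2) T hTS hTc hTcoh hχS
      hχT hcT (hSAT (by simpa [SA] using hχ₁A)) (hd1 ▸ hdχ ▸ dvd_mul_right _ _) hineq
    have hnew : insert χ (insert (conjFun χ) T) ∈ cl := by
      refine Finset.mem_filter.2 ⟨Finset.mem_powerset.2 ?_, ?_, ?_, ?_⟩
      · refine Finset.insert_subset (Finset.mem_union_right _ hχB) (Finset.insert_subset ?_ hTsub)
        refine Finset.mem_union_right _ ?_
        simp only [SB, Set.Finite.mem_toFinset] at hχB ⊢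
        exact conjFun_mem_inducedIrrAbove K B hχB
      · exact fun x hx => Finset.mem_insert_of_mem (Finset.mem_insert_of_mem (hSAT hx))
      · intro φ hφ
        simp only [Finset.mem_insert] at hφ ⊢
        rcases hφ with rfl | rfl | hφ
        · exact Or.inr (Or.inl rfl)
        · exact Or.inl (conjFun_conjFun χ)
        · exact Or.inr (Or.inr (hTc φ hφ))
      · rw [Finset.coe_insert, Finset.coe_insert]
        convert hext using 1
        ext φ
        simp only [Set.mem_insert_iff, Set.mem_union, Set.mem_singleton_iff]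
        tauto
    have h := hmax _ hnew
    rw [Finset.card_insert_of_notMem (by
      simp only [Finset.mem_insert, not_or]
      exact ⟨Ne.symm (hS.conj_ne χ hχS), hχT⟩), Finset.card_insert_of_notMem hcT] at h
    omega

/-- Peterfalvi's Theorem 6.3. -/
theorem _root_.Cfsg.IsCoherenceSystem.nilpotent_section {G : Type v} [Group G] [Fintype G] [K.Normal]
    (hsolv : Group.IsSolvable K) {τ : (L → ℂ) → (G → ℂ)} {R : (L → ℂ) → Finset (G → ℂ)}
    (hS : IsCoherenceSystem (inducedIrrAbove K ⊥) τ R) (M H₁ H : Subgroup L) [M.Normal] [H₁.Normal] [H.Normal]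
    (hMH₁ : M ≤ H₁) (hH₁H : H₁ ≤ H) (hHK : H ≤ K) [(M.subgroupOf H).Normal]
    (hnil : Group.IsNilpotent (↥H ⧸ M.subgroupOf H)) (hcoh : IsCoherent (inducedIrrAbove K H₁) {1}ᶜ τ)
    (hbig : 4 * K.index ^ 2 + 1 < H₁.relIndex H) : IsCoherent (inducedIrrAbove K M) {1}ᶜ τ := by
  classical
  obtain ⟨A, ⟨hAn, hMA, hAH₁, hAcoh⟩, hmin⟩ := Set.Finite.exists_minimal
    (Set.toFinite {A : Subgroup L | A.Normal ∧ M ≤ A ∧ A ≤ H₁ ∧ IsCoherent (inducedIrrAbove K A) {1}ᶜ τ})
    ⟨H₁, ‹H₁.Normal›, hMH₁, le_rfl, hcoh⟩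
  by_cases hAM : A = M
  · rw [← hAM]; exact hAcoh
  exfalso
  haveI := hAn
  have hAH : A ≤ H := hAH₁.trans hH₁H
  set B := ⁅H, A⁆ ⊔ M
  haveI : B.Normal := Subgroup.sup_normal _ _
  have hBA : B ≤ A := sup_le (Subgroup.commutator_le_right H A) hMA
  have hBlt : B < A := by
    refine lt_of_le_of_ne hBA fun e => hAM (le_antisymm (fun a ha => ?_) hMA)
    haveI := hnil
    have hl : ∀ k, ∀ x : H, (x : L) ∈ A → QuotientGroup.mk' (M.subgroupOf H) x ∈
        Subgroup.lowerCentralSeries (⊤ : Subgroup (↥H ⧸ M.subgroupOf H)) k := by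
      intro k
      induction k with
      | zero => intro x _; exact Subgroup.mem_top _
      | succ k ih =>
        let P := (Subgroup.lowerCentralSeries (⊤ : Subgroup (↥H ⧸ M.subgroupOf H)) (k + 1)).comap
          (QuotientGroup.mk' (M.subgroupOf H))
        have hle : A ≤ P.map H.subtype := by
          rw [← e]
          refine sup_le (Subgroup.commutator_le.2 fun h hh b hb => ?_) fun m hm => ?_
          · refine ⟨⁅(⟨h, hh⟩ : H), (⟨b, hAH hb⟩ : H)⁆, ?_, rfl⟩
            show ⁅(⟨h, hh⟩ : H), (⟨b, hAH hb⟩ : H)⁆ ∈ P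
            rw [Subgroup.mem_comap, map_commutatorElement, Subgroup.lowerCentralSeries_succ, ← commutatorElement_inv]
            exact inv_mem (Subgroup.commutator_mem_commutator (ih ⟨b, hAH hb⟩ hb) (Subgroup.mem_top _))
          · refine ⟨⟨m, hAH (hMA hm)⟩, ?_, rfl⟩
            show _ ∈ P
            rw [Subgroup.mem_comap, QuotientGroup.mk'_apply, (QuotientGroup.eq_one_iff _).2 (Subgroup.mem_subgroupOf.2 hm : (⟨m, hAH (hMA hm)⟩ : H) ∈ M.subgroupOf H)]
            exact one_mem _
        intro x hx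
        obtain ⟨y, hy, hyx⟩ := hle hx
        rw [Subtype.ext hyx] at hy
        exact hy
    obtain ⟨k, hk⟩ := Subgroup.nilpotent_iff_lowerCentralSeries.1 hnil
    have h := hl k ⟨a, hAH ha⟩ ha
    rw [hk, Subgroup.mem_bot] at h
    exact Subgroup.mem_subgroupOf.1 ((QuotientGroup.eq_one_iff _).1 h)
  have hh : 4 * K.index ^ 2 + 1 < A.relIndex H := lt_of_lt_of_le hbig
    (Nat.le_of_dvd (Nat.pos_of_ne_zero (relIndex_ne_zero_fin _ _)) (Subgroup.relIndex_dvd_of_le_left H hAH₁))
  have hk : A.relIndex K = A.relIndex H * H.relIndex K := (Subgroup.relIndex_mul_relIndex _ _ _ hAH hHK).symm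
  have hHi : H.index = H.relIndex K * K.index := (Subgroup.relIndex_mul_index hHK).symm
  have hAK : A < K := lt_of_le_of_ne (hAH.trans hHK) fun e => by
    subst e
    rw [le_antisymm hAH hHK, Subgroup.relIndex_self] at hh
    omega
  have hk1 : 1 ≤ H.relIndex K := Nat.one_le_iff_ne_zero.2 (relIndex_ne_zero_fin _ _)
  have hlt : 4 * H.index ^ 2 * A.relIndex H < (A.relIndex K - 1) ^ 2 := by
    rw [hk, hHi]
    generalize A.relIndex H = h at hh ⊢
    generalize H.relIndex K = k at hk1 ⊢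
    generalize K.index = e at hh ⊢
    obtain ⟨j, rfl⟩ : ∃ j, h = j + 1 := ⟨h - 1, by omega⟩
    have h1 : k * j ≤ (j + 1) * k - 1 := by
      have : (j + 1) * k = k * j + k := by ring
      omega
    refine lt_of_lt_of_le ?_ (Nat.pow_le_pow_left h1 2)
    have h2 : 4 * e ^ 2 * (j + 1) < j ^ 2 := by nlinarith
    calc 4 * (k * e) ^ 2 * (j + 1) = k ^ 2 * (4 * e ^ 2 * (j + 1)) := by ring
      _ < k ^ 2 * j ^ 2 := Nat.mul_lt_mul_of_pos_left h2 (by positivity)
      _ = (k * j) ^ 2 := by ring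
  have hBcoh := hS.central_step K hsolv A B H A hAK (lt_of_lt_of_le hBlt (hAH.trans hHK)) hAH hHK
    (fun x hx y hy => by
      have hm : ⁅x, y⁆ ∈ ⁅A, H⁆ := Subgroup.commutator_mem_commutator hx hy
      rw [Subgroup.commutator_comm] at hm
      exact Subgroup.mem_sup_left hm) hAcoh hlt
  exact hBlt.not_ge (hmin ⟨‹B.Normal›, le_sup_right, hBA.trans hAH₁, hBcoh⟩ hBlt.le)

end Cfsg.Lib.Char
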