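import Mathlib
import Cfsg.Agent.Lib.Char.CoherenceDescent

/-!
# Coherence of the characters nontrivial on a nilpotent kernel

Peterfalvi's Theorems 6.5 and 6.6: the characters induced from a nilpotent normal subgroup `K` with
Frobenius action on `K/K'` form a coherent set outside a small exceptional case, and those nontrivial
on a central subgroup always do.
-/

set_option autoImplicit false
set_option linter.unusedSectionVars false
set_option linter.style.haveILetI false

namespace Cfsg.Lib.Char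

open Cfsg
open scoped ComplexConjugate commutatorElement

universe u v

theorem commutator_le_frattini_of_nilpotent {Q : Type u} [Group Q] [Finite Q] (h : Group.IsNilpotent Q) :
    commutator Q ≤ frattini Q := by
  haveI := h
  refine le_iInf₂ fun M hM => ?_
  haveI : M.Normal := Subgroup.NormalizerCondition.normal_of_coatom M Group.normalizerCondition_of_isNilpotent hM
  haveI : Nontrivial (Q ⧸ M) := QuotientGroup.nontrivial_iff.2 hM.1
  have hlt : commutator (Q ⧸ M) < ⊤ := Group.IsSolvable.commutator_lt_top_of_nontrivial _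
  have hle : M ≤ (commutator (Q ⧸ M)).comap (QuotientGroup.mk' M) := fun x hx => by
    rw [Subgroup.mem_comap, QuotientGroup.mk'_apply, (QuotientGroup.eq_one_iff x).2 hx]
    exact one_mem _
  have hne : (commutator (Q ⧸ M)).comap (QuotientGroup.mk' M) ≠ ⊤ := fun e => hlt.ne
    (top_unique fun q _ => by
      obtain ⟨x, rfl⟩ := QuotientGroup.mk_surjective q
      exact Subgroup.mem_comap.1 (e ▸ Subgroup.mem_top x))
  rw [commutator_def, Subgroup.commutator_le]
  intro a _ b _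
  have hab : ⁅a, b⁆ ∈ (commutator (Q ⧸ M)).comap (QuotientGroup.mk' M) := by
    rw [Subgroup.mem_comap, map_commutatorElement, commutator_def]
    exact Subgroup.commutator_mem_commutator (Subgroup.mem_top _) (Subgroup.mem_top _)
  rcases eq_or_lt_of_le hle with e | e
  · rw [e]; exact hab
  · exact absurd (hM.2 _ e) hne

/-- In a nilpotent group every prime divisor of the order divides the index of the commutator subgroup. -/
theorem dvd_index_commutator {Q : Type u} [Group Q] [Finite Q] (h : Group.IsNilpotent Q) {q : ℕ}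
    [Fact q.Prime] (hq : q ∣ Nat.card Q) : q ∣ (commutator Q).index := by
  by_contra hnot
  haveI := h
  obtain ⟨P⟩ : Nonempty (Sylow q Q) := inferInstance
  haveI hPn : (P : Subgroup Q).Normal :=
    P.normal_of_normalizerCondition Group.normalizerCondition_of_isNilpotent
  obtain ⟨C, hC⟩ := Subgroup.exists_right_complement'_of_coprime (P.card_coprime_index)
  have hP : (P : Subgroup Q) ≤ commutator Q := by
    intro x hx
    rw [← Abelianization.ker_of, MonoidHom.mem_ker]
    obtain ⟨k, hk⟩ := P.2 ⟨x, hx⟩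
    have h1 : Abelianization.of x ^ q ^ k = 1 := by
      rw [← map_pow, show x ^ q ^ k = 1 by simpa using congrArg Subtype.val hk, map_one]
    have h2 : Abelianization.of x ^ (commutator Q).index = 1 := by
      rw [Subgroup.index_eq_card]
      exact pow_card_eq_one'
    have hg := pow_gcd_eq_one.2 ⟨h1, h2⟩
    rwa [Nat.Coprime.gcd_eq_one (Nat.Coprime.pow_left k
      (((Fact.out : q.Prime).coprime_iff_not_dvd).2 hnot)), pow_one] at hg
  have htop : C ⊔ frattini Q = ⊤ := top_unique (by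
    rw [← hC.sup_eq_top]
    exact sup_le ((hP.trans (commutator_le_frattini_of_nilpotent h)).trans le_sup_right) le_sup_left)
  have hCt := frattini_nongenerating htop
  have hP1 : Nat.card (P : Subgroup Q) = 1 := by
    have := hC.card_mul
    rw [hCt, Subgroup.card_top] at this
    exact Nat.eq_of_mul_eq_mul_right Nat.card_pos (this.trans (one_mul _).symm)
  rw [P.card_eq_multiplicity] at hP1
  have := (Fact.out : q.Prime).factorization_pos_of_dvd Nat.card_pos.ne' hq
  exact (Nat.one_lt_pow this.ne' (Fact.out : q.Prime).one_lt).ne' hP1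

variable {L : Type u} [Group L] [Fintype L]

/-- A coherence system restricts to a nonempty subset closed under conjugation. -/
theorem _root_.Cfsg.IsCoherenceSystem.restrict {G : Type v} [Group G] [Fintype G] {S X : Set (L → ℂ)}
    {τ : (L → ℂ) → (G → ℂ)} {R : (L → ℂ) → Finset (G → ℂ)} (hS : IsCoherenceSystem S τ R) (hX : X ⊆ S)
    (hne : X.Nonempty) (hc : ∀ χ ∈ X, conjFun χ ∈ X) : IsCoherenceSystem X τ R :=
  { nonempty := hne
    isCharacter := fun χ h => hS.isCharacter χ (hX h)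
    conj_mem := hc
    conj_ne := fun χ h => hS.conj_ne χ (hX h)
    isometry := hS.isometry.mono (zspanOn_mono hX _)
    map_one := fun α h => hS.map_one α (zspanOn_mono hX _ h)
    orthogonal := fun χ h φ h' => hS.orthogonal χ (hX h) φ (hX h')
    orthonormal := fun χ h => hS.orthonormal χ (hX h)
    virtual := fun χ h => hS.virtual χ (hX h)
    sum_eq := fun χ h => hS.sum_eq χ (hX h)
    disjoint := fun χ h φ h' => hS.disjoint χ (hX h) φ (hX h') }

variable (K : Subgroup L) [hKn : K.Normal]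

/-- The number of elements of a normal section, less one, is divisible by `|L : K|` when only `K`
centralises its nontrivial elements. -/
theorem index_dvd_relIndex_sub_one (H₁ N : Subgroup L) [H₁.Normal] [hNn : N.Normal] (hH₁N : H₁ ≤ N)
    (hNK : N ≤ K) (hKK : ⁅K, K⁆ ≤ H₁)
    (hfrob : ∀ k ∈ K, k ∉ H₁ → ∀ x : L, x * k * x⁻¹ * k⁻¹ ∈ H₁ → x ∈ K) :
    K.index ∣ H₁.relIndex N - 1 := by
  classical
  let π := QuotientGroup.mk' H₁
  let Nq := N.map π
  have hNq : Nq.Normal := hNn.map π (QuotientGroup.mk'_surjective H₁)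
  let X := {q : L ⧸ H₁ // q ∈ Nq ∧ q ≠ 1}
  letI : MulAction L X :=
    { smul := fun l q => ⟨π l * q.1 * (π l)⁻¹, hNq.conj_mem _ q.2.1 _,
        fun e => q.2.2 (conj_eq_one_iff.1 e)⟩
      one_smul := fun q => Subtype.ext (show π 1 * q.1 * (π 1)⁻¹ = q.1 by simp)
      mul_smul := fun a b q => Subtype.ext
        (show π (a * b) * q.1 * (π (a * b))⁻¹ = π a * (π b * q.1 * (π b)⁻¹) * (π a)⁻¹ by
          rw [map_mul, mul_inv_rev]; simp only [mul_assoc]) }
  have hstab : ∀ q : X, MulAction.stabilizer L q = K := by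
    intro q
    obtain ⟨n, hn, hnq⟩ := q.2.1
    have hn1 : n ∉ H₁ := fun h => q.2.2 (by rw [← hnq]; exact (QuotientGroup.eq_one_iff n).2 h)
    ext l
    rw [MulAction.mem_stabilizer_iff]
    have hiff : l • q = q ↔ l * n * l⁻¹ * n⁻¹ ∈ H₁ := by
      rw [Subtype.ext_iff]
      change π l * q.1 * (π l)⁻¹ = q.1 ↔ _
      rw [← hnq, ← QuotientGroup.eq_one_iff]
      change π l * π n * (π l)⁻¹ = π n ↔ π (l * n * l⁻¹ * n⁻¹) = 1
      rw [map_mul, map_mul, map_mul, map_inv, map_inv, mul_inv_eq_one]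
    rw [hiff]
    exact ⟨hfrob n (hNK hn) hn1 l, fun hl => hKK (Subgroup.commutator_mem_commutator hl (hNK hn))⟩
  have hcard : Nat.card X = H₁.relIndex N - 1 := by
    have e : Nat.card Nq = H₁.relIndex N := by
      have h := Subgroup.relIndex_ker (K := N) π
      rw [QuotientGroup.ker_mk'] at h
      exact h.symm
    rw [← e]
    let e' : X ≃ {x : Nq // x ≠ 1} :=
      { toFun := fun q => ⟨⟨q.1, q.2.1⟩, fun h => q.2.2 (congrArg Subtype.val h)⟩
        invFun := fun x => ⟨x.1.1, x.1.2, fun h => x.2 (Subtype.ext h)⟩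
        left_inv := fun _ => rfl
        right_inv := fun _ => rfl }
    haveI := Fintype.ofFinite Nq
    rw [Nat.card_congr e', Nat.card_eq_fintype_card, Fintype.card_subtype_compl, Nat.card_eq_fintype_card,
      Fintype.card_subtype_eq]
  rw [← hcard, Nat.card_congr (MulAction.selfEquivSigmaOrbits L X)]
  haveI := Fintype.ofFinite (Quotient (MulAction.orbitRel L X))
  rw [Nat.card_sigma]
  refine Finset.dvd_sum fun w _ => ?_
  rw [← Nat.card_congr (MulAction.orbitEquivQuotientStabilizer L w.out).symm, ← Subgroup.index_eq_card, hstab]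

theorem section_bound {e a b : ℕ} (he : Odd e) (he3 : 3 ≤ e) (ha : Odd a) (hb : Odd b) (ha1 : 1 < a)
    (hb1 : 1 < b) (hab : e ∣ a * b - 1) (hda : e ∣ a - 1) : 4 * e ^ 2 + 1 < a * b := by
  have hdb : e ∣ b - 1 := by
    have h : a * b - 1 = a * (b - 1) + (a - 1) := by
      obtain ⟨a, rfl⟩ : ∃ a', a = a' + 1 := ⟨a - 1, by omega⟩
      obtain ⟨b, rfl⟩ : ∃ b', b = b' + 1 := ⟨b - 1, by omega⟩
      rw [Nat.add_sub_cancel, Nat.add_sub_cancel]
      have : (a + 1) * (b + 1) = (a + 1) * b + a + 1 := by ring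
      omega
    have h' : e ∣ a * (b - 1) := (Nat.dvd_add_left hda).1 (h ▸ hab)
    refine Nat.Coprime.dvd_of_dvd_mul_left ?_ h'
    refine Nat.coprime_of_dvd fun k hk hke hka => ?_
    have h1 : k ∣ a - 1 := hke.trans hda
    have h2 : k ∣ 1 := by
      have := Nat.dvd_sub hka h1
      rwa [show a - (a - 1) = 1 by omega] at this
    exact hk.not_dvd_one h2
  have key : ∀ {x : ℕ}, Odd x → 1 < x → e ∣ x - 1 → 2 * e + 1 ≤ x := by
    rintro x ⟨r, rfl⟩ hx ⟨c, hc⟩
    rcases Nat.lt_or_ge c 2 with hc2 | hc2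
    · interval_cases c
      · omega
      · obtain ⟨s, rfl⟩ := he; omega
    · have : e * 2 ≤ e * c := Nat.mul_le_mul_left e hc2
      omega
  have h1 := Nat.mul_le_mul (key ha ha1 hda) (key hb hb1 hdb)
  nlinarith

/-- Peterfalvi's Theorem 6.5. -/
theorem _root_.Cfsg.IsCoherenceSystem.kernel_coherent {G : Type v} [Group G] [Fintype G]
    (hsolv : Group.IsSolvable K) {τ : (L → ℂ) → (G → ℂ)} {R : (L → ℂ) → Finset (G → ℂ)}
    (hS : IsCoherenceSystem (inducedIrrAbove K ⊥) τ R) (hodd : Odd (Nat.card L)) (M : Subgroup L) [M.Normal]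
    (hMK : M ≤ K) [(M.subgroupOf K).Normal] (hnil : Group.IsNilpotent (↥K ⧸ M.subgroupOf K)) (H₁ : Subgroup L)
    (hH₁ : H₁ = ⁅K, K⁆ ⊔ M) (hH₁K : H₁ < K) (hKL : K < ⊤)
    (hfrob : ∀ k ∈ K, k ∉ H₁ → ∀ x : L, x * k * x⁻¹ * k⁻¹ ∈ H₁ → x ∈ K)
    (hgood : (∃ N : Subgroup L, N.Normal ∧ H₁ < N ∧ N < K) ∨ 4 * K.index ^ 2 + 1 < H₁.relIndex K ∨
      (¬ ∃ p m : ℕ, p.Prime ∧ M.relIndex K = p ^ m) ∨ ⁅K, K⁆ ≤ M ∨
      (∃ p m : ℕ, p.Prime ∧ M.relIndex K = p ^ m ∧ K.index ∣ p - 1)) :
    IsCoherent (inducedIrrAbove K M) {1}ᶜ τ := by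
  classical
  haveI := Fintype.ofFinite K
  haveI hH₁n : H₁.Normal := hH₁ ▸ Subgroup.sup_normal _ _
  have hKK : ⁅K, K⁆ ≤ H₁ := hH₁ ▸ le_sup_left
  have hMH : M ≤ H₁ := hH₁ ▸ le_sup_right
  have hne1 : H₁.relIndex K ≠ 1 := fun h => hH₁K.not_ge (Subgroup.relIndex_eq_one.1 h)
  have hh1 : 1 < H₁.relIndex K := by have := relIndex_ne_zero_fin H₁ K; omega
  have hoddr : ∀ A B : Subgroup L, Odd (A.relIndex B) := fun A B =>
    hodd.of_dvd_nat ((Subgroup.relIndex_dvd_card A B).trans B.card_subgroup_dvd_card)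
  have he : Odd K.index := hodd.of_dvd_nat K.index_dvd_card
  have he3 : 3 ≤ K.index := by
    have h1 : K.index ≠ 1 := fun h => hKL.ne (Subgroup.index_eq_one.1 h)
    obtain ⟨r, hr⟩ := he
    omega
  have hdvd : K.index ∣ H₁.relIndex K - 1 :=
    index_dvd_relIndex_sub_one K H₁ K hH₁K.le le_rfl hKK hfrob
  have hcoh : IsCoherent (inducedIrrAbove K H₁) {1}ᶜ τ := by
    refine (hS.restrict (inducedIrrAbove_subset_bot K H₁) (inducedIrrAbove_nonempty K hsolv H₁ hH₁K)
      fun χ h => conjFun_mem_inducedIrrAbove K H₁ h).coherent_of_constant_degree ?_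
    have hlin : ∀ φ ∈ inducedIrrAbove K H₁, φ 1 = (K.index : ℂ) := by
      rintro φ ⟨θ, hθ, -, hA, rfl⟩
      haveI : (H₁.subgroupOf K).Normal := hH₁n.subgroupOf K
      haveI := Fintype.ofFinite (↥K ⧸ H₁.subgroupOf K)
      obtain ⟨ψ, hψ, he'⟩ := exists_deflate_irr (H₁.subgroupOf K) hθ fun a ha => hA a (Subgroup.mem_subgroupOf.1 ha)
      have h1 := degree_eq_one_of_comm (fun a b => ?_) hψ
      · rw [indFun_apply_one, show θ 1 = 1 from (he' 1).symm.trans h1, mul_one]
      · obtain ⟨a, rfl⟩ := QuotientGroup.mk_surjective a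
        obtain ⟨b, rfl⟩ := QuotientGroup.mk_surjective b
        rw [← QuotientGroup.mk_mul, ← QuotientGroup.mk_mul, QuotientGroup.eq, Subgroup.mem_subgroupOf]
        refine hKK ?_
        have : ((a * b)⁻¹ * (b * a) : K) = ⁅b⁻¹, a⁻¹⁆ := by simp [commutatorElement_def, mul_assoc]
        rw [this]
        exact Subgroup.commutator_mem_commutator (b⁻¹).2 (a⁻¹).2
    exact fun φ hφ ψ hψ => (hlin φ hφ).trans (hlin ψ hψ).symm
  have hbig : 4 * K.index ^ 2 + 1 < H₁.relIndex K → IsCoherent (inducedIrrAbove K M) {1}ᶜ τ := fun h =>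
    hS.nilpotent_section K hsolv M H₁ K hMH hH₁K.le le_rfl hnil hcoh h
  have hN : (∃ N : Subgroup L, N.Normal ∧ H₁ < N ∧ N < K) → 4 * K.index ^ 2 + 1 < H₁.relIndex K := by
    rintro ⟨N, hNn, h1, h2⟩
    haveI := hNn
    have hm := Subgroup.relIndex_mul_relIndex H₁ N K h1.le h2.le
    rw [← hm]
    refine section_bound he he3 (hoddr _ _) (hoddr _ _) ?_ ?_ (hm.symm ▸ hdvd)
      (index_dvd_relIndex_sub_one K H₁ N h1.le h2.le hKK hfrob)
    · have := relIndex_ne_zero_fin H₁ N
      have : H₁.relIndex N ≠ 1 := fun h => h1.not_ge (Subgroup.relIndex_eq_one.1 h)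
      omega
    · have := relIndex_ne_zero_fin N K
      have : N.relIndex K ≠ 1 := fun h => h2.not_ge (Subgroup.relIndex_eq_one.1 h)
      omega
  have hab : ⁅K, K⁆ ≤ M → IsCoherent (inducedIrrAbove K M) {1}ᶜ τ := fun h => by
    have e : H₁ = M := hH₁ ▸ sup_eq_right.2 h
    exact e ▸ hcoh
  -- the abelianisation of `K/M`
  have hcomm : ∀ q : ℕ, q.Prime → q ∣ M.relIndex K → q ∣ H₁.relIndex K := by
    intro q hq hqd
    haveI := Fact.mk hq
    have h := dvd_index_commutator hnil (q := q) (by rwa [← Subgroup.index_eq_card])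
    refine h.trans ?_
    rw [← Subgroup.index_comap_of_surjective _ (QuotientGroup.mk'_surjective (M.subgroupOf K))]
    refine Subgroup.index_dvd_of_le ?_
    intro x hx
    rw [Subgroup.mem_subgroupOf, hH₁] at hx
    obtain ⟨a, ha, b, hb, hab'⟩ := Subgroup.mem_sup_of_normal_right.1 hx
    have hxa : x = (⟨a, Subgroup.commutator_le_self K ha⟩ : K) * ⟨b, hMK hb⟩ := Subtype.ext hab'.symm
    rw [hxa, Subgroup.mem_comap, map_mul,
      show QuotientGroup.mk' (M.subgroupOf K) (⟨b, hMK hb⟩ : K) = 1 from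
        (QuotientGroup.eq_one_iff _).2 (Subgroup.mem_subgroupOf.2 hb : (⟨b, hMK hb⟩ : K) ∈ M.subgroupOf K), mul_one]
    have ha' : (⟨a, Subgroup.commutator_le_self K ha⟩ : K) ∈ commutator K := by
      have h2 : a ∈ (commutator K).map K.subtype := by rw [Subgroup.map_subtype_commutator]; exact ha
      obtain ⟨y, hy, hya⟩ := h2
      rwa [show (⟨a, Subgroup.commutator_le_self K ha⟩ : K) = y from Subtype.ext hya.symm]
    have := Subgroup.mem_map_of_mem (QuotientGroup.mk' (M.subgroupOf K)) ha'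
    rw [commutator_def, Subgroup.map_commutator] at this
    rw [commutator_def]
    exact Subgroup.commutator_mono le_top le_top this
  rcases hgood with h | h | h | h | h
  · exact hbig (hN h)
  · exact hbig h
  · -- two primes in the abelianisation give a normal subgroup strictly between
    refine hbig (hN ?_)
    have hr1 : M.relIndex K ≠ 1 := fun e => hH₁K.not_ge ((Subgroup.relIndex_eq_one.1 e).trans hMH)
    obtain ⟨p, hp, hpd⟩ := Nat.exists_prime_and_dvd hr1
    obtain ⟨q, hq, hqd, hqp⟩ : ∃ q, q.Prime ∧ q ∣ M.relIndex K ∧ q ≠ p := by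
      by_contra hno
      push Not at hno
      exact h ⟨p, _, hp, Nat.eq_prime_pow_of_unique_prime_dvd (relIndex_ne_zero_fin _ _) fun {d} hd hdd => hno d hd hdd⟩
    have hph := hcomm p hp hpd
    have hqh := hcomm q hq hqd
    set m := p ^ (H₁.relIndex K).factorization p
    let π := QuotientGroup.mk' H₁
    have hcK : ∀ a ∈ K, ∀ b ∈ K, Commute (π a) (π b) := by
      intro a ha b hb
      have h1 : π ⁅a, b⁆ = 1 := (QuotientGroup.eq_one_iff _).2 (hKK (Subgroup.commutator_mem_commutator ha hb))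
      rw [map_commutatorElement] at h1
      exact commutatorElement_eq_one_iff_commute.1 h1
    let N : Subgroup L :=
      { carrier := {x | x ∈ K ∧ π x ^ m = 1}
        one_mem' := ⟨one_mem _, by simp⟩
        mul_mem' := fun {a b} ha hb => ⟨mul_mem ha.1 hb.1, by
          rw [map_mul, (hcK a ha.1 b hb.1).mul_pow, ha.2, hb.2, one_mul]⟩
        inv_mem' := fun {a} ha => ⟨inv_mem ha.1, by rw [map_inv, inv_pow, ha.2, inv_one]⟩ }
    let Kq := K.map π
    have hKq : Nat.card Kq = H₁.relIndex K := by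
      have e := Subgroup.relIndex_ker (K := K) π
      rw [QuotientGroup.ker_mk'] at e
      exact e.symm
    have hex : ∀ r : ℕ, r.Prime → r ∣ H₁.relIndex K → ∃ x ∈ K, orderOf (π x) = r := by
      intro r hr hrd
      haveI := Fact.mk hr
      obtain ⟨⟨y, hy⟩, ho⟩ := exists_prime_orderOf_dvd_card' (G := Kq) r (hKq ▸ hrd)
      obtain ⟨x, hx, rfl⟩ := hy
      exact ⟨x, hx, (Subgroup.orderOf_coe (⟨π x, ⟨x, hx, rfl⟩⟩ : Kq)).trans ho⟩
    refine ⟨N, ⟨fun x hx g => ⟨hKn.conj_mem x hx.1 g, ?_⟩⟩, lt_of_le_of_ne (fun x hx => ⟨hH₁K.le hx, ?_⟩) ?_,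
      lt_of_le_of_ne (fun x hx => hx.1) ?_⟩
    · rw [map_mul, map_mul, map_inv, conj_pow, hx.2, mul_one, mul_inv_cancel]
    · rw [show π x = 1 from (QuotientGroup.eq_one_iff x).2 hx, one_pow]
    · intro e
      obtain ⟨x, hx, ho⟩ := hex p hp hph
      have hxN : x ∈ N := ⟨hx, orderOf_dvd_iff_pow_eq_one.1 (by
        rw [ho]; exact dvd_pow_self p (hp.factorization_pos_of_dvd (relIndex_ne_zero_fin _ _) hph).ne')⟩
      rw [← e] at hxN
      rw [show π x = 1 from (QuotientGroup.eq_one_iff x).2 hxN, orderOf_one] at ho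
      exact hp.one_lt.ne ho
    · intro e
      obtain ⟨x, hx, ho⟩ := hex q hq hqh
      have hxN : x ∈ N := by rw [e]; exact hx
      have h1 := orderOf_dvd_iff_pow_eq_one.2 hxN.2
      rw [ho] at h1
      exact hqp ((Nat.prime_dvd_prime_iff_eq hq hp).1 (hq.dvd_of_dvd_pow h1))
  · exact hab h
  · obtain ⟨p, m, hp, hm, hep⟩ := h
    by_cases hk : ⁅K, K⁆ ≤ M
    · exact hab hk
    obtain ⟨j, -, hj⟩ := (Nat.dvd_prime_pow hp).1 (hm ▸ Subgroup.relIndex_dvd_of_le_left K hMH)
    rcases Nat.lt_or_ge j 2 with hj2 | hj2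
    · -- cyclic, hence abelian
      exfalso
      have hj1 : j = 1 := by
        rcases Nat.eq_zero_or_pos j with rfl | hpos
        · rw [hj, pow_zero] at hh1; omega
        · omega
      rw [hj1, pow_one] at hj
      haveI : (H₁.subgroupOf K).Normal := hH₁n.subgroupOf K
      haveI := Fact.mk hp
      haveI : IsCyclic (↥K ⧸ H₁.subgroupOf K) := isCyclic_of_prime_card (p := p) (by rw [← Subgroup.index_eq_card]; exact hj)
      obtain ⟨g, hg⟩ := IsCyclic.exists_generator (α := ↥K ⧸ H₁.subgroupOf K)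
      obtain ⟨g, rfl⟩ := QuotientGroup.mk_surjective g
      let ψ := QuotientGroup.mk' (M.subgroupOf K)
      have htop : Subgroup.zpowers (ψ g) ⊔ frattini (↥K ⧸ M.subgroupOf K) = ⊤ := by
        refine top_unique fun y _ => ?_
        obtain ⟨y, rfl⟩ := QuotientGroup.mk_surjective y
        obtain ⟨i, hi⟩ := Subgroup.mem_zpowers_iff.1 (hg (y : ↥K ⧸ H₁.subgroupOf K))
        have hz : (g ^ i)⁻¹ * y ∈ H₁.subgroupOf K := QuotientGroup.eq.1 hi
        have hz' : ψ ((g ^ i)⁻¹ * y) ∈ frattini (↥K ⧸ M.subgroupOf K) := by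
          rw [Subgroup.mem_subgroupOf, hH₁] at hz
          obtain ⟨a, ha, b, hb, hab'⟩ := Subgroup.mem_sup_of_normal_right.1 hz
          have hxa : (g ^ i)⁻¹ * y = (⟨a, Subgroup.commutator_le_self K ha⟩ : K) * ⟨b, hMK hb⟩ := Subtype.ext hab'.symm
          rw [hxa, map_mul, show ψ (⟨b, hMK hb⟩ : K) = 1 from
            (QuotientGroup.eq_one_iff _).2 (Subgroup.mem_subgroupOf.2 hb : (⟨b, hMK hb⟩ : K) ∈ M.subgroupOf K), mul_one]
          refine commutator_le_frattini_of_nilpotent hnil ?_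
          have h2 : a ∈ (commutator K).map K.subtype := by rw [Subgroup.map_subtype_commutator]; exact ha
          obtain ⟨z, hzc, hza⟩ := h2
          rw [show (⟨a, Subgroup.commutator_le_self K ha⟩ : K) = z from Subtype.ext hza.symm]
          have := Subgroup.mem_map_of_mem ψ hzc
          rw [commutator_def, Subgroup.map_commutator] at this
          rw [commutator_def]
          exact Subgroup.commutator_mono le_top le_top this
        rw [show ((y : ↥K ⧸ M.subgroupOf K)) = ψ (g ^ i) * ψ ((g ^ i)⁻¹ * y) by rw [← map_mul, mul_inv_cancel_left]; rfl]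
        exact mul_mem (Subgroup.mem_sup_left (by rw [map_zpow]; exact Subgroup.zpow_mem_zpowers _ i))
          (Subgroup.mem_sup_right hz')
      have hzt := frattini_nongenerating htop
      apply hk
      rw [Subgroup.commutator_le]
      intro a ha b hb
      have hab2 : ψ ⁅(⟨a, ha⟩ : K), (⟨b, hb⟩ : K)⁆ = 1 := by
        rw [map_commutatorElement, commutatorElement_eq_one_iff_commute]
        obtain ⟨i, hi⟩ := Subgroup.mem_zpowers_iff.1 (hzt ▸ Subgroup.mem_top (ψ ⟨a, ha⟩))
        obtain ⟨i', hi'⟩ := Subgroup.mem_zpowers_iff.1 (hzt ▸ Subgroup.mem_top (ψ ⟨b, hb⟩))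
        rw [← hi, ← hi']
        exact (Commute.refl _).zpow_zpow i i'
      exact Subgroup.mem_subgroupOf.1 ((QuotientGroup.eq_one_iff _).1 hab2)
    · refine hbig ?_
      rw [hj]
      have hp2 : 2 * K.index + 1 ≤ p := by
        have hpo : Odd p := (hoddr M K).of_dvd_nat (by
          rw [hm]; exact dvd_pow_self p (fun hm0 => by rw [hm0, pow_zero] at hm; exact hH₁K.not_ge ((Subgroup.relIndex_eq_one.1 hm).trans hMH)))
        obtain ⟨c, hc⟩ := hep
        obtain ⟨r, hr⟩ := hpo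
        have := hp.two_le
        rcases Nat.lt_or_ge c 2 with hc2 | hc2
        · interval_cases c
          · omega
          · obtain ⟨s, hs⟩ := he; omega
        · have : K.index * 2 ≤ K.index * c := Nat.mul_le_mul_left _ hc2
          omega
      calc 4 * K.index ^ 2 + 1 < (2 * K.index + 1) ^ 2 := by nlinarith
        _ ≤ p ^ 2 := Nat.pow_le_pow_left hp2 2
        _ ≤ p ^ j := Nat.pow_le_pow_right hp.pos hj2

/-- An integer identity for the prime-power degrees below a bound. -/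
theorem low_sum_ge {ι : Type*} (X : Finset ι) (t : ι → ℕ) {p e a i j : ℕ} (hp : p.Prime) (hp3 : 3 ≤ p)
    (hpe : e.Coprime p) (ht : ∀ x ∈ X, ∃ k, t x = p ^ k) (htot : e * ∑ x ∈ X, t x ^ 2 = a)
    (ha : p ^ (2 * i) ∣ a) (x₀ : ι) (hx₀ : x₀ ∈ X) (hj : t x₀ = p ^ j) (hji : j < i) :
    2 * p ^ i * p ^ j < ∑ x ∈ X.filter (fun x => t x < p ^ i), t x ^ 2 := by
  classical
  have hhigh : p ^ (2 * i) ∣ ∑ x ∈ X.filter (fun x => ¬ t x < p ^ i), t x ^ 2 := by
    refine Finset.dvd_sum fun x hx => ?_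
    obtain ⟨hxX, hx'⟩ := Finset.mem_filter.1 hx
    obtain ⟨k, hk⟩ := ht x hxX
    rw [hk, not_lt] at hx'
    rw [hk, ← pow_mul]
    exact pow_dvd_pow p (by have := (Nat.pow_le_pow_iff_right hp.one_lt).1 hx'; omega)
  set Slow := ∑ x ∈ X.filter (fun x => t x < p ^ i), t x ^ 2 with hS
  have hlow : p ^ (2 * i) ∣ Slow := by
    have h := htot ▸ ha
    rw [← Finset.sum_filter_add_sum_filter_not X (fun x => t x < p ^ i), ← hS] at h
    have h' := (Nat.Coprime.pow_left (2 * i) hpe.symm).dvd_of_dvd_mul_left h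
    exact (Nat.dvd_add_left hhigh).1 h'
  have hpos : 0 < Slow := by
    refine lt_of_lt_of_le ?_ (Finset.single_le_sum (f := fun x => t x ^ 2) (fun _ _ => Nat.zero_le _)
      (Finset.mem_filter.2 ⟨hx₀, hj ▸ Nat.pow_lt_pow_right hp.one_lt hji⟩))
    rw [hj]; exact pow_pos (pow_pos hp.pos j) 2
  refine lt_of_lt_of_le ?_ (Nat.le_of_dvd hpos hlow)
  calc 2 * p ^ i * p ^ j = p ^ i * (2 * p ^ j) := by ring
    _ < p ^ i * (3 * p ^ j) := Nat.mul_lt_mul_of_pos_left (Nat.mul_lt_mul_of_pos_right (by norm_num) (pow_pos hp.pos j)) (pow_pos hp.pos i)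
    _ ≤ p ^ i * p ^ i := Nat.mul_le_mul_left _ (le_trans (by rw [pow_succ']; exact Nat.mul_le_mul_right _ hp3)
        (Nat.pow_le_pow_right hp.pos hji))
    _ = p ^ (2 * i) := by rw [two_mul, pow_add]

set_option maxHeartbeats 1000000 in
/-- Peterfalvi's Theorem 6.6. -/
theorem _root_.Cfsg.IsCoherenceSystem.central_coherent {G : Type v} [Group G] [Fintype G]
    (hsolv : Group.IsSolvable K) {τ : (L → ℂ) → (G → ℂ)} {R : (L → ℂ) → Finset (G → ℂ)}
    (hS : IsCoherenceSystem (inducedIrrAbove K ⊥) τ R) (hodd : Odd (Nat.card L)) (hnil : Group.IsNilpotent K)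
    (hH₁K : ⁅K, K⁆ < K) (hKL : K < ⊤)
    (hfrob : ∀ k ∈ K, k ∉ ⁅K, K⁆ → ∀ x : L, x * k * x⁻¹ * k⁻¹ ∈ ⁅K, K⁆ → x ∈ K) (Z : Subgroup L) [hZn : Z.Normal]
    (hZ1 : Z ≠ ⊥) (hZK : Z ≤ K) (hZc : ∀ z ∈ Z, ∀ k ∈ K, z * k = k * z)
    (hirr : ∀ χ ∈ inducedIrrAbove K ⊥ \ inducedIrrAbove K Z, IsIrrCharacter L χ) :
    inducedIrrAbove K ⊥ \ inducedIrrAbove K Z = {χ | IsIrrCharacter L χ ∧ ∃ z ∈ Z, χ z ≠ χ 1} ∧
      IsCoherent (inducedIrrAbove K ⊥ \ inducedIrrAbove K Z) {1}ᶜ τ := by
  classical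
  haveI := Fintype.ofFinite K
  set X := inducedIrrAbove K ⊥ \ inducedIrrAbove K Z with hX
  have hres : ∀ {θ : K → ℂ}, IsIrrCharacter K θ → classInner (fun x : K => indFun K θ x) θ ≠ 0 := by
    intro θ hθ
    rw [← classInner_conj_symm]
    intro h
    rw [map_eq_zero, ← classInner_indFun K θ (isClassFunction_indFun K θ)] at h
    have h1 := classInner_indFun_self K hθ
    rw [h, mul_zero] at h1
    exact Nat.cast_ne_zero.2 (Nat.card_pos (α := inertia K θ)).ne' h1.symm
  have heq : X = {χ | IsIrrCharacter L χ ∧ ∃ z ∈ Z, χ z ≠ χ 1} := by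
    ext χ
    constructor
    · intro hχ
      refine ⟨hirr χ hχ, ?_⟩
      by_contra hno
      push Not at hno
      obtain ⟨⟨θ, hθ, hne, -, rfl⟩, hnot⟩ := hχ
      exact hnot ⟨θ, hθ, hne, fun a ha => Block.constituent_apply_eq
        ((isCharacter_indFun K hθ.isCharacter).comp K.subtype) hθ (hres hθ) (hno _ ha), rfl⟩
    · rintro ⟨hχ, z, hz, hne⟩
      obtain ⟨θ, hθc⟩ := exists_irr_constituent_res K hχ
      have hθnot : ¬ ∀ a : K, (a : L) ∈ Z → (θ : K → ℂ) a = (θ : K → ℂ) 1 := by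
        intro hall
        apply hne
        have h := clifford_res K hχ θ.2 hθc
        have e1 := congrFun h ⟨z, hZK hz⟩
        have e2 := congrFun h 1
        simp only [OneMemClass.coe_one] at e2
        refine e1.trans (Eq.trans ?_ e2.symm)
        simp only [Pi.smul_apply, Finset.sum_apply]
        congr 1
        refine Finset.sum_congr rfl fun φ hφ => ?_
        obtain ⟨g, rfl⟩ := (mem_twistOrbit K).1 hφ
        rw [conjTwist_apply, conjTwist_apply_one]
        exact hall _ (hZn.conj_mem _ hz g)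
      have hmem : indFun K (θ : K → ℂ) ∈ X := by
        refine ⟨⟨θ, θ.2, fun e => hθnot (fun a _ => by rw [e]), fun a ha =>
          congrArg (θ : K → ℂ) (Subtype.ext (by simpa using ha) : a = 1), rfl⟩, ?_⟩
        rintro ⟨η, hη, -, hηZ, heq⟩
        refine hθnot fun a ha => ?_
        have hconst : indFun K η a = indFun K η 1 := by
          rw [indFun_normal_apply K η a, indFun_apply_one]
          rw [Finset.sum_congr rfl (g := fun _ => η 1) fun x _ => ?_, Finset.sum_const, Finset.card_univ,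
            nsmul_eq_mul, ← Nat.card_eq_fintype_card, ← mul_assoc, card_inv_mul_card]
          exact hηZ _ (by
            first
              | exact hZn.conj_mem' _ ha x
              | exact hZn.conj_mem _ ha x)
        refine Block.constituent_apply_eq ((isCharacter_indFun K θ.2.isCharacter).comp K.subtype) θ.2 (hres θ.2) ?_
        simp only [Subgroup.coe_subtype, Function.comp_apply, OneMemClass.coe_one, heq]
        exact hconst
      have hirrθ := hirr _ hmem
      have he : indFun K (θ : K → ℂ) = χ := by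
        by_contra hne'
        have h0 := classInner_irr_ne hirrθ hχ hne'
        rw [classInner_indFun K _ hχ.isClassFunction, ← classInner_conj_symm, map_eq_zero] at h0
        exact hθc h0
      exact he ▸ hmem
  refine ⟨heq, ?_⟩
  have hXc : ∀ χ ∈ X, conjFun χ ∈ X := fun χ h => ⟨conjFun_mem_inducedIrrAbove K ⊥ h.1, fun h' => h.2 (by
    simpa [conjFun_conjFun] using conjFun_mem_inducedIrrAbove K Z h')⟩
  have hXne : X.Nonempty := by
    obtain ⟨z, hz, hz1⟩ := (Subgroup.bot_or_exists_ne_one Z).resolve_left hZ1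
    obtain ⟨χ, hχ⟩ : ∃ χ : IrrCharacter L, (χ : L → ℂ) z ≠ (χ : L → ℂ) 1 := by
      by_contra hcon
      push Not at hcon
      exact hz1 (isConj_one_left.1 ((isConj_iff_forall_irr z 1).2 hcon))
    exact ⟨χ, heq ▸ ⟨χ.2, z, hz, hχ⟩⟩
  have hsys := hS.restrict Set.sdiff_subset hXne hXc
  by_cases hpow : ∃ p m : ℕ, p.Prime ∧ (⊥ : Subgroup L).relIndex K = p ^ m
  swap
  · haveI : ((⊥ : Subgroup L).subgroupOf K).Normal := Subgroup.Normal.subgroupOf inferInstance K
    have hnilq : Group.IsNilpotent (↥K ⧸ (⊥ : Subgroup L).subgroupOf K) := by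
      haveI := hnil
      exact Group.nilpotent_of_surjective (QuotientGroup.mk' _) (QuotientGroup.mk'_surjective _)
    have hcoh := hS.kernel_coherent K hsolv hodd ⊥ bot_le hnilq ⁅K, K⁆ (sup_bot_eq _).symm hH₁K hKL hfrob
      (Or.inr (Or.inr (Or.inl hpow)))
    obtain ⟨-, τ₁, hτ₁, hag⟩ := hcoh
    obtain ⟨χ, hχ⟩ := hXne
    refine ⟨⟨χ - conjFun χ, ?_, sub_ne_zero.2 (Ne.symm (hsys.conj_ne χ hχ))⟩, τ₁,
      hτ₁.mono (zspan_mono Set.sdiff_subset), fun α hα => hag α (zspanOn_mono Set.sdiff_subset _ hα)⟩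
    exact hsys.diff_mem hχ
  · obtain ⟨p, m, hp, hm⟩ := hpow
    rw [Subgroup.relIndex_bot_left] at hm
    haveI := Fact.mk hp
    have hm0 : m ≠ 0 := fun h => by
      rw [h, pow_zero] at hm
      exact hZ1 (le_bot_iff.1 (hZK.trans (le_of_eq (Subgroup.eq_bot_of_card_eq K hm))))
    have hpK : p ∣ Nat.card K := hm ▸ dvd_pow_self p hm0
    have hp3 : 3 ≤ p := by
      have := hp.two_le
      rcases Nat.eq_or_lt_of_le this with h | h
      · exfalso
        obtain ⟨r, hr⟩ := hodd.of_dvd_nat (hpK.trans K.card_subgroup_dvd_card)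
        omega
      · omega
    set e := K.index
    have hpe : e.Coprime p := by
      haveI : (⁅K, K⁆ : Subgroup L).Normal := Subgroup.commutator_normal _ _
      have hd := index_dvd_relIndex_sub_one K ⁅K, K⁆ K hH₁K.le le_rfl le_rfl hfrob
      obtain ⟨j, -, hj⟩ := (Nat.dvd_prime_pow hp).1 (hm ▸ Subgroup.relIndex_dvd_card ⁅K, K⁆ K)
      have hj0 : j ≠ 0 := fun h => hH₁K.not_ge (Subgroup.relIndex_eq_one.1 (by rw [hj, h, pow_zero]))
      refine ((hp.coprime_iff_not_dvd).2 fun hpe => ?_).symm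
      have h1 : p ∣ p ^ j - 1 := hpe.trans (hj ▸ hd)
      have h2 := Nat.dvd_sub (dvd_pow_self p hj0) h1
      rw [show p ^ j - (p ^ j - 1) = 1 by have := pow_pos hp.pos j; omega] at h2
      exact hp.not_dvd_one h2
    have hfin : X.Finite := (inducedIrrAbove_finite K ⊥).subset Set.sdiff_subset
    let XF := hfin.toFinset
    have hmemX : ∀ {φ}, φ ∈ XF → φ ∈ X := fun h => hfin.mem_toFinset.1 h
    have hdex : ∀ φ : L → ℂ, ∃ t : ℕ, φ ∈ X → φ 1 = ((e * t : ℕ) : ℂ) ∧ (∃ k, t = p ^ k) ∧ t ^ 2 ∣ Z.relIndex K := by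
      intro φ
      by_cases hφ : φ ∈ X
      · obtain ⟨⟨θ, hθ, hne, -, rfl⟩, -⟩ := hφ
        have hd : charDegree θ ∣ p ^ m := hm ▸ charDegree_dvd_card hθ
        obtain ⟨k, -, hk⟩ := (Nat.dvd_prime_pow hp).1 hd
        refine ⟨charDegree θ, fun _ => ⟨by rw [indFun_apply_one, hθ.apply_one_eq_charDegree]; push_cast; rfl, ⟨k, hk⟩, ?_⟩⟩
        haveI := Fintype.ofFinite (Z.subgroupOf K)
        have hb := sq_degree_le_of_central (Z.subgroupOf K) hθ fun x hx y => by
          congr 1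
          have : x * y = y * x := Subtype.ext (hZc _ hx _ y.2)
          rw [this]; group
        rw [hθ.apply_one_eq_charDegree, Complex.natCast_re] at hb
        have hb' : charDegree θ ^ 2 ≤ Z.relIndex K := by exact_mod_cast hb
        obtain ⟨r, -, hr⟩ := (Nat.dvd_prime_pow hp).1 (hm ▸ Subgroup.relIndex_dvd_card Z K)
        rw [hk, hr, ← pow_mul] at hb' ⊢
        exact pow_dvd_pow p ((Nat.pow_le_pow_iff_right hp.one_lt).1 hb')
      · exact ⟨0, fun h => absurd h hφ⟩
    choose t ht using hdex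
    have htot : e * ∑ φ ∈ XF, t φ ^ 2 = Nat.card K - Z.relIndex K := by
      have hex2 : ∀ φ : L → ℂ, ∃ d n : ℕ, φ ∈ inducedIrrAbove K ⊥ → φ 1 = (d : ℂ) ∧ classInner φ φ = (n : ℂ) := by
        intro φ
        by_cases h : φ ∈ inducedIrrAbove K ⊥
        · obtain ⟨d, hd⟩ := (hS.isCharacter φ h).exists_degree
          obtain ⟨n, hn⟩ := (hS.isCharacter φ h).exists_nat_classInner (hS.isCharacter φ h)
          exact ⟨d, n, fun _ => ⟨hd, hn⟩⟩
        · exact ⟨0, 0, fun e => absurd e h⟩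
      choose d n hdn using hex2
      let S0 := (inducedIrrAbove_finite K ⊥).toFinset
      let SZ := (inducedIrrAbove_finite K Z).toFinset
      have h0 := sum_sq_div_norm K ⊥ S0 (by simp [S0]) (d := d) (n := n)
        (fun φ hφ => (hdn φ (by simpa [S0] using hφ)).1) (fun φ hφ => (hdn φ (by simpa [S0] using hφ)).2)
      have hZs := sum_sq_div_norm K Z SZ (by simp [SZ]) (d := d) (n := n)
        (fun φ hφ => (hdn φ (inducedIrrAbove_subset_bot K Z (by simpa [SZ] using hφ))).1)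
        (fun φ hφ => (hdn φ (inducedIrrAbove_subset_bot K Z (by simpa [SZ] using hφ))).2)
      have hsub : SZ ⊆ S0 := fun φ hφ => by
        simp only [SZ, S0, Set.Finite.mem_toFinset] at hφ ⊢
        exact inducedIrrAbove_subset_bot K Z hφ
      have hsd : S0 \ SZ = XF := by ext φ; simp [S0, SZ, XF, hX]
      rw [← Finset.sum_sdiff hsub, hZs, hsd, Subgroup.relIndex_bot_left] at h0
      have h1 : ∑ φ ∈ XF, ((d φ : ℝ) ^ 2 / (n φ : ℝ)) = (e : ℝ) ^ 2 * ∑ φ ∈ XF, (t φ : ℝ) ^ 2 := by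
        rw [Finset.mul_sum]
        refine Finset.sum_congr rfl fun φ hφ => ?_
        obtain ⟨hd', hn'⟩ := hdn φ (hmemX hφ).1
        have e1 : d φ = e * t φ := by
          have h := hd'.symm.trans (ht φ (hmemX hφ)).1
          exact_mod_cast h
        have e2 : n φ = 1 := by
          rw [classInner_irr_self (hirr φ (hmemX hφ))] at hn'
          exact_mod_cast hn'.symm
        rw [e1, e2]; push_cast; ring
      rw [h1] at h0
      have he0 : (e : ℝ) ≠ 0 := Nat.cast_ne_zero.2 Subgroup.index_ne_zero_of_finite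
      have h2 : (e : ℝ) * ∑ φ ∈ XF, (t φ : ℝ) ^ 2 = (Nat.card K : ℝ) - (Z.relIndex K : ℝ) :=
        mul_left_cancel₀ he0 (by linear_combination h0)
      have h3 : e * ∑ φ ∈ XF, t φ ^ 2 + Z.relIndex K = Nat.card K := by
        have : ((e * ∑ φ ∈ XF, t φ ^ 2 + Z.relIndex K : ℕ) : ℝ) = (Nat.card K : ℝ) := by push_cast; linarith
        exact_mod_cast this
      omega
    have hz : ∀ k, p ^ k ∣ Z.relIndex K → p ^ k ∣ Nat.card K - Z.relIndex K := fun k h =>
      Nat.dvd_sub (h.trans (Subgroup.relIndex_dvd_card Z K)) h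
    obtain ⟨φ₀, hφ₀, hmin⟩ := Finset.exists_min_image XF t (hfin.toFinset_nonempty.2 hXne)
    obtain ⟨j, hj⟩ := (ht φ₀ (hmemX hφ₀)).2.1
    let T₀ := XF.filter fun φ => t φ = t φ₀
    have hdc : ∀ φ ∈ XF, conjFun φ ∈ XF ∧ t (conjFun φ) = t φ := by
      intro φ hφ
      refine ⟨hfin.mem_toFinset.2 (hXc φ (hmemX hφ)), ?_⟩
      have h1 := (ht _ (hXc φ (hmemX hφ))).1
      rw [conjFun, (ht φ (hmemX hφ)).1, Complex.conj_natCast, Nat.cast_inj] at h1
      exact (Nat.eq_of_mul_eq_mul_left (Nat.pos_of_ne_zero Subgroup.index_ne_zero_of_finite) h1).symm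
    let cl : Finset (Finset (L → ℂ)) := XF.powerset.filter fun T => T₀ ⊆ T ∧
      (∀ φ ∈ T, conjFun φ ∈ T) ∧ IsCoherent (↑T : Set (L → ℂ)) {1}ᶜ τ
    have hne : cl.Nonempty := by
      refine ⟨T₀, Finset.mem_filter.2 ⟨Finset.mem_powerset.2 (Finset.filter_subset _ _), subset_rfl, fun φ hφ => ?_, ?_⟩⟩
      · obtain ⟨h1, h2⟩ := Finset.mem_filter.1 hφ
        exact Finset.mem_filter.2 ⟨(hdc φ h1).1, (hdc φ h1).2.trans h2⟩
      · have hT₀m : ∀ φ ∈ T₀, φ ∈ XF ∧ t φ = t φ₀ := fun φ hφ => Finset.mem_filter.1 hφ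
        have hT₀i : ∀ φ ∈ XF, t φ = t φ₀ → φ ∈ T₀ := fun φ h1 h2 => Finset.mem_filter.2 ⟨h1, h2⟩
        clear_value T₀
        have hr : IsCoherenceSystem (↑T₀ : Set (L → ℂ)) τ R := hsys.restrict
          (fun φ hφ => hmemX (hT₀m φ (Finset.mem_coe.1 hφ)).1)
          ⟨φ₀, Finset.mem_coe.2 (hT₀i φ₀ hφ₀ rfl)⟩ fun φ hφ => by
            obtain ⟨h1, h2⟩ := hT₀m φ (Finset.mem_coe.1 hφ)
            exact Finset.mem_coe.2 (hT₀i _ (hdc φ h1).1 ((hdc φ h1).2.trans h2))
        refine hr.coherent_of_constant_degree fun a ha b hb => ?_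
        obtain ⟨ha1, ha2⟩ := hT₀m a (Finset.mem_coe.1 ha)
        obtain ⟨hb1, hb2⟩ := hT₀m b (Finset.mem_coe.1 hb)
        rw [(ht a (hmemX ha1)).1, (ht b (hmemX hb1)).1, ha2, hb2]
    obtain ⟨T, hT, hmax⟩ := Finset.exists_max_image cl Finset.card hne
    obtain ⟨hTsub, hT0, hTc, hTcoh⟩ := Finset.mem_filter.1 hT
    rw [Finset.mem_powerset] at hTsub
    by_cases hall : XF ⊆ T
    · have : (↑T : Set (L → ℂ)) = X := by
        rw [Finset.Subset.antisymm hTsub hall]; exact hfin.coe_toFinset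
      exact this ▸ hTcoh
    exfalso
    obtain ⟨χ, hχ, hχmin⟩ := Finset.exists_min_image (XF \ T) t
      (Finset.sdiff_nonempty.2 hall)
    obtain ⟨hχX, hχT⟩ := Finset.mem_sdiff.1 hχ
    obtain ⟨i, hi⟩ := (ht χ (hmemX hχX)).2.1
    have hji : j < i := by
      by_contra hle
      push Not at hle
      have h1 : t φ₀ ≤ t χ := hmin χ hχX
      have h2 : t χ ≤ t φ₀ := by rw [hi, hj]; exact Nat.pow_le_pow_right hp.pos hle
      exact hχT (hT0 (Finset.mem_filter.2 ⟨hχX, le_antisymm h2 h1⟩))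
    have hsum := low_sum_ge XF t hp hp3 hpe (fun φ hφ => (ht φ (hmemX hφ)).2.1) htot
      (hz _ (by
        have h := (ht χ (hmemX hχX)).2.2
        rwa [hi, ← pow_mul, mul_comm] at h)) φ₀ hφ₀ hj hji
    have hlow : XF.filter (fun φ => t φ < p ^ i) ⊆ T := fun φ hφ => by
      obtain ⟨h1, h2⟩ := Finset.mem_filter.1 hφ
      by_contra hn
      have := hχmin φ (Finset.mem_sdiff.2 ⟨h1, hn⟩)
      omega
    have hineq : (2 * (e * t χ : ℕ) * (e * t φ₀ : ℕ) : ℝ) <
        ∑ φ ∈ T, (((e * t φ : ℕ) : ℝ) ^ 2 / ((1 : ℕ) : ℝ)) := by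
      refine lt_of_lt_of_le ?_ (Finset.sum_le_sum_of_subset_of_nonneg hlow fun _ _ _ => by positivity)
      have h' : ((2 * p ^ i * p ^ j : ℕ) : ℝ) < ((∑ φ ∈ XF.filter (fun φ => t φ < p ^ i), t φ ^ 2 : ℕ) : ℝ) := by
        exact_mod_cast hsum
      rw [hi, hj]
      push_cast at h' ⊢
      simp only [div_one, mul_pow, ← Finset.mul_sum]
      have he : (0 : ℝ) < (e : ℝ) ^ 2 := by
        have : 0 < e := Nat.pos_of_ne_zero Subgroup.index_ne_zero_of_finite
        positivity
      calc (2 : ℝ) * ((e : ℝ) * (p : ℝ) ^ i) * ((e : ℝ) * (p : ℝ) ^ j) = (e : ℝ) ^ 2 * (2 * (p : ℝ) ^ i * (p : ℝ) ^ j) := by ring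
        _ < _ := mul_lt_mul_of_pos_left h' he
    have hcT : conjFun χ ∉ T := fun h => hχT (by simpa [conjFun_conjFun] using hTc _ h)
    have hext := hsys.coherent_extend (d := fun φ => e * t φ) (n := fun _ => 1) (fun φ hφ => (ht φ hφ).1)
      (fun φ hφ => by rw [classInner_irr_self (hirr φ hφ), Nat.cast_one]) T (fun φ hφ => hmemX (hTsub hφ)) hTc hTcoh
      (hmemX hχX) hχT hcT (hT0 (Finset.mem_filter.2 ⟨hφ₀, rfl⟩))
      (Nat.mul_dvd_mul_left e (by rw [hi, hj]; exact pow_dvd_pow p hji.le)) hineq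
    have hnew : insert χ (insert (conjFun χ) T) ∈ cl := by
      refine Finset.mem_filter.2 ⟨Finset.mem_powerset.2 (Finset.insert_subset hχX
        (Finset.insert_subset (hdc χ hχX).1 hTsub)), ?_, ?_, ?_⟩
      · exact fun x hx => Finset.mem_insert_of_mem (Finset.mem_insert_of_mem (hT0 hx))
      · intro φ hφ
        simp only [Finset.mem_insert] at hφ ⊢
        rcases hφ with rfl | rfl | hφ
        · exact Or.inr (Or.inl rfl)
        · exact Or.inl (conjFun_conjFun χ)
        · exact Or.inr (Or.inr (hTc φ hφ))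
      · rw [Finset.coe_insert, Finset.coe_insert]
        convert hext using 1
        ext φ
        simp only [Set.mem_insert_iff, Set.mem_union, Set.mem_singleton_iff]
        tauto
    have h := hmax _ hnew
    rw [Finset.card_insert_of_notMem (by
      simp only [Finset.mem_insert, not_or]
      exact ⟨Ne.symm (hsys.conj_ne χ (hmemX hχX)), hχT⟩), Finset.card_insert_of_notMem hcT] at h
    omega

end Cfsg.Lib.Char
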