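import Cfsg.Agent.Lib.Char.Clifford
import Cfsg.Agent.Lib.Char.Formulas
import Cfsg.Agent.Lib.Char.Constituents

/-!
# Multiplication by an extension: Gallagher's correspondence
-/

set_option autoImplicit false
set_option linter.unusedSectionVars false
set_option linter.style.haveILetI false

namespace Cfsg.Lib.Char

open Cfsg
open scoped ComplexConjugate

universe u

variable {G : Type u} [Group G] [Fintype G]

/-- A constituent is trivial where the character is. -/
theorem apply_eq_of_constituent {ψ χ : G → ℂ} (hψ : IsCharacter G ψ) (hχ : IsIrrCharacter G χ)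
    (hc : classInner ψ χ ≠ 0) {b : G} (hb : ψ b = ψ 1) : χ b = χ 1 := by
  classical
  choose m hm using fun φ : IrrCharacter G => hψ.exists_nat_classInner φ.2.isCharacter
  have e := eq_sum_classInner hψ.isClassFunction
  have eb := congrArg Complex.re (congrFun e b)
  have e1 := congrArg Complex.re (congrFun e 1)
  simp only [Finset.sum_apply, Pi.smul_apply, smul_eq_mul, hm, Complex.re_sum, Complex.mul_re,
    Complex.natCast_re, Complex.natCast_im, zero_mul, sub_zero] at eb e1
  have h0 : ∑ φ : IrrCharacter G,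
      ((m φ : ℝ) * ((φ : G → ℂ) 1).re - (m φ : ℝ) * ((φ : G → ℂ) b).re) = 0 := by
    rw [Finset.sum_sub_distrib, ← e1, ← eb, hb, sub_self]
  have h1 : ∀ φ : IrrCharacter G, ((φ : G → ℂ) b).re ≤ ((φ : G → ℂ) 1).re := fun φ =>
    (Complex.re_le_norm _).trans (φ.2.isCharacter.norm_le b)
  have h2 := (Finset.sum_eq_zero_iff_of_nonneg fun φ _ => by
    rw [← mul_sub]; exact mul_nonneg (Nat.cast_nonneg _) (sub_nonneg.mpr (h1 φ))).mp h0 ⟨χ, hχ⟩
    (Finset.mem_univ _)
  rw [← mul_sub, mul_eq_zero, sub_eq_zero] at h2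
  have h3 : (χ 1).re = (χ b).re := h2.resolve_left fun h => hc (by
    rw [hm ⟨χ, hχ⟩]; exact_mod_cast h)
  obtain ⟨t, -, ht⟩ := hχ.exists_degree
  have h4 := hχ.isCharacter.norm_le b
  rw [ht] at h3 h4 ⊢
  simp only [Complex.natCast_re] at h3 h4
  have h5 : (χ b).re ^ 2 + (χ b).im ^ 2 = ‖χ b‖ ^ 2 := by
    rw [← Complex.normSq_eq_norm_sq, Complex.normSq_apply]; ring
  have h7 : ‖χ b‖ ^ 2 ≤ (t : ℝ) ^ 2 := pow_le_pow_left₀ (norm_nonneg _) h4 2
  rw [← h3] at h5
  have h6 : (χ b).im = 0 := by nlinarith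
  exact Complex.ext (by simp [← h3]) (by simp [h6])

variable (N : Subgroup G) [hN : N.Normal] [Fintype N]

theorem indFun_one_apply (n : N) : indFun N (fun _ => 1) n = indFun N (fun _ => 1) 1 := by
  have h : ∀ m : N, indFun N (fun _ => (1 : ℂ)) m = (Nat.card N : ℂ)⁻¹ * (Fintype.card G : ℂ) := by
    intro m
    rw [indFun_normal_apply N (fun _ => (1 : ℂ)) m]
    simp
  have h1 := h 1
  rw [OneMemClass.coe_one] at h1
  rw [h n, h1]

/-- Averaging an irreducible character over cosets of a normal subgroup. -/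
theorem sum_coset_char {γ : G → ℂ} (hγ : IsIrrCharacter G γ) (g : G) :
    ∑ n : N, γ ((n : G) * g) =
      (Nat.card N : ℂ) * classInner (fun n : N => γ n) (fun _ => 1) * γ g / γ 1 := by
  have hG : (Nat.card G : ℂ) ≠ 0 := Nat.cast_ne_zero.mpr Nat.card_pos.ne'
  have hN0 : (Nat.card N : ℂ) ≠ 0 := Nat.cast_ne_zero.mpr Nat.card_pos.ne'
  have hperm : ∀ x : G, ∑ n : N, γ ((n : G) * g) = ∑ n : N, γ (g * (x * n * x⁻¹)) := by
    intro x
    rw [Finset.sum_congr rfl (g := fun n : N => γ (g * n)) fun n _ => by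
      rw [show g * (n : G) = g * ((n : G) * g) * g⁻¹ by group, hγ.isClassFunction]]
    exact (Fintype.sum_equiv (MulAut.conjNormal x : MulAut N).toEquiv
      (fun n : N => γ (g * (x * n * x⁻¹))) (fun n : N => γ (g * n)) fun n => by simp).symm
  have h1 : (Nat.card G : ℂ) * ∑ n : N, γ ((n : G) * g) =
      (Nat.card G : ℂ) * (γ g / γ 1 * ∑ n : N, γ n) := by
    calc (Nat.card G : ℂ) * ∑ n : N, γ ((n : G) * g)
        = ∑ _x : G, ∑ n : N, γ ((n : G) * g) := by
          rw [Finset.sum_const, Finset.card_univ, nsmul_eq_mul, Nat.card_eq_fintype_card]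
      _ = ∑ x : G, ∑ n : N, γ (g * (x * n * x⁻¹)) := Finset.sum_congr rfl fun x _ => hperm x
      _ = _ := by
          rw [Finset.sum_comm, Finset.mul_sum, Finset.mul_sum]
          refine Finset.sum_congr rfl fun n _ => ?_
          rw [sum_char_mul_conj hγ]
          ring
  rw [mul_left_cancel₀ hG h1, classInner_one_right, ← mul_assoc (Nat.card N : ℂ),
    mul_inv_cancel₀ hN0, one_mul]
  ring

theorem sum_coset_char_cases {γ : G → ℂ} (hγ : IsIrrCharacter G γ) :
    (∀ g, ∑ n : N, γ ((n : G) * g) = 0) ∨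
      ((∀ n : N, γ n = γ 1) ∧ classInner (indFun N (fun _ => 1)) γ ≠ 0 ∧
        ∀ g, ∑ n : N, γ ((n : G) * g) = (Nat.card N : ℂ) * γ g) := by
  by_cases h : classInner (fun n : N => γ n) (fun _ => 1) = 0
  · exact Or.inl fun g => by rw [sum_coset_char N hγ g, h]; simp
  · have hne : classInner (indFun N (fun _ => 1)) γ ≠ 0 := by
      rw [classInner_indFun N _ hγ.isClassFunction, ← classInner_conj_symm]
      exact (map_ne_zero _).mpr h
    have hker : ∀ n : N, γ n = γ 1 := fun n => apply_eq_of_constituent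
      (isCharacter_indFun N isIrrCharacter_one.isCharacter) hγ hne (indFun_one_apply N n)
    refine Or.inr ⟨hker, hne, fun g => ?_⟩
    simp only [fun n : N => hγ.isCharacter.apply_mul_of_mem_ker (hker n) g, Finset.sum_const,
      Finset.card_univ, nsmul_eq_mul, Nat.card_eq_fintype_card]

/-- Multiplication by an extension of `ϑ` is a bijection from the characters over `φ` to those
over `φ * ϑ`. -/
theorem gallagher_bijOn {φ ϑ : N → ℂ} (hφ : IsIrrCharacter N φ)
    (hφinv : ∀ g, conjTwist N φ g = φ) (hϑinv : ∀ g, conjTwist N ϑ g = ϑ)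
    (hprod : IsIrrCharacter N (φ * ϑ)) {χ : G → ℂ} (hχ : IsCharacter G χ)
    (hext : ∀ n : N, χ n = ϑ n) :
    Set.BijOn (fun β : G → ℂ => β * χ)
      {β : G → ℂ | IsIrrCharacter G β ∧ classInner (indFun N φ) β ≠ 0}
      {ψ : G → ℂ | IsIrrCharacter G ψ ∧ classInner (indFun N (φ * ϑ)) ψ ≠ 0} := by
  classical
  have hN0 : (Nat.card N : ℂ) ≠ 0 := Nat.cast_ne_zero.mpr Nat.card_pos.ne'
  have hpinv : ∀ g, conjTwist N (φ * ϑ) g = φ * ϑ := fun g => by
    funext n
    exact congrArg₂ (· * ·) (congrFun (hφinv g) n) (congrFun (hϑinv g) n)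
  have hnorm : classInner (indFun N φ) (indFun N φ) =
      classInner (indFun N (φ * ϑ)) (indFun N (φ * ϑ)) := by
    apply mul_left_cancel₀ hN0
    rw [classInner_indFun_self N hφ, classInner_indFun_self N hprod,
      show inertia N φ = inertia N (φ * ϑ) from Subgroup.ext fun g => by
        rw [mem_inertia, mem_inertia]
        exact iff_of_true (hφinv g) (hpinv g)]
  have hind : indFun N (φ * ϑ) = indFun N φ * χ := by
    rw [show (φ * ϑ : N → ℂ) = fun n : N => φ n * χ n from funext fun n => by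
      rw [Pi.mul_apply, hext n], indFun_mul N φ hχ.isClassFunction]
    rfl
  have hΦ := isCharacter_indFun N hφ.isCharacter
  choose e he using fun β : IrrCharacter G => hΦ.exists_nat_classInner β.2.isCharacter
  have hexp : indFun N φ = ∑ β : IrrCharacter G, (e β : ℂ) • (β : G → ℂ) := by
    conv_lhs => rw [eq_sum_classInner hΦ.isClassFunction]
    simp only [he]
  have hexp' : indFun N (φ * ϑ) = ∑ β : IrrCharacter G, (e β : ℂ) • ((β : G → ℂ) * χ) := by
    rw [hind, hexp, Finset.sum_mul]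
    exact Finset.sum_congr rfl fun β _ => smul_mul_assoc _ _ _
  choose c hc using fun β γ : IrrCharacter G =>
    (β.2.isCharacter.mul hχ).exists_nat_classInner (γ.2.isCharacter.mul hχ)
  have hdiag : ∀ β, 1 ≤ c β β := fun β => by
    by_contra h
    have h0 : classInner ((β : G → ℂ) * χ) ((β : G → ℂ) * χ) = 0 := by
      rw [hc β β]; simp [show c β β = 0 by omega]
    have h1 := congrFun (eq_zero_of_classInner_self h0) 1
    rw [Pi.mul_apply, Pi.zero_apply, mul_eq_zero] at h1
    rcases h1 with h1 | h1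
    · exact β.2.apply_one_ne_zero h1
    · exact hprod.apply_one_ne_zero (by
        rw [Pi.mul_apply, ← hext 1, OneMemClass.coe_one, h1, mul_zero])
  have hS : ∑ β, ∑ γ, e β * e γ * c β γ = ∑ β, e β * e β := by
    have h1 : classInner (indFun N φ) (indFun N φ) = ((∑ β, e β * e β : ℕ) : ℂ) := by
      rw [classInner_eq_sum hΦ.isClassFunction]
      push_cast
      simp only [he, Complex.conj_natCast]
    have h2 : classInner (indFun N (φ * ϑ)) (indFun N (φ * ϑ)) =
        ((∑ β, ∑ γ, e β * e γ * c β γ : ℕ) : ℂ) := by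
      rw [hexp', classInner_sum_left]
      simp only [classInner_smul_left, classInner_sum_right, classInner_smul_right,
        Complex.conj_natCast, hc, Finset.mul_sum]
      push_cast
      exact Finset.sum_congr rfl fun a _ => Finset.sum_congr rfl fun b _ => by ring
    rw [h1, h2] at hnorm
    exact_mod_cast hnorm.symm
  have hle : ∀ β, e β * e β ≤ ∑ γ, e β * e γ * c β γ := fun β =>
    le_trans (Nat.le_mul_of_pos_right _ (hdiag β))
      (Finset.single_le_sum (f := fun γ => e β * e γ * c β γ) (fun _ _ => Nat.zero_le _)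
        (Finset.mem_univ β))
  have heach : ∀ β, e β ≠ 0 → c β β = 1 ∧ ∀ γ, γ ≠ β → e γ ≠ 0 → c β γ = 0 := by
    intro β hβ
    have h1 := ((Finset.sum_eq_sum_iff_of_le fun i _ => hle i).mp hS.symm) β (Finset.mem_univ _)
    rw [← Finset.add_sum_erase _ _ (Finset.mem_univ β)] at h1
    have hpos : 0 < e β * e β := Nat.mul_pos (Nat.pos_of_ne_zero hβ) (Nat.pos_of_ne_zero hβ)
    have h2 : e β * e β ≤ e β * e β * c β β := Nat.le_mul_of_pos_right _ (hdiag β)
    have h3 : e β * e β * c β β = e β * e β := by omega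
    refine ⟨by nlinarith, fun γ hne hγ => ?_⟩
    have h4 : ∑ γ ∈ Finset.univ.erase β, e β * e γ * c β γ = 0 := by omega
    have h5 := (Finset.sum_eq_zero_iff.mp h4) γ (Finset.mem_erase.mpr ⟨hne, Finset.mem_univ _⟩)
    simpa [hβ, hγ] using h5
  refine ⟨fun β ⟨hβ, hβc⟩ => ?_, fun β ⟨hβ, hβc⟩ γ ⟨hγ, hγc⟩ h => ?_, fun ψ ⟨hψ, hψc⟩ => ?_⟩
  · have hne : e ⟨β, hβ⟩ ≠ 0 := fun h0 => hβc (by rw [he ⟨β, hβ⟩, h0, Nat.cast_zero])
    have hirr : IsIrrCharacter G (β * χ) := isIrrCharacter_of_norm_one (hβ.isCharacter.mul hχ) (by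
      rw [hc ⟨β, hβ⟩ ⟨β, hβ⟩, (heach _ hne).1, Nat.cast_one])
    refine ⟨hirr, ?_⟩
    rw [hexp', classInner_sum_left, Finset.sum_eq_single ⟨β, hβ⟩]
    · rw [classInner_smul_left, classInner_irr_self hirr, mul_one]
      exact Nat.cast_ne_zero.mpr hne
    · intro γ _ hγ
      rw [classInner_smul_left]
      by_cases h0 : e γ = 0
      · simp [h0]
      · rw [hc γ ⟨β, hβ⟩, (heach γ h0).2 _ hγ.symm hne, Nat.cast_zero, mul_zero]
    · simp
  · by_contra hne'
    have h0 : e ⟨β, hβ⟩ ≠ 0 := fun h0 => hβc (by rw [he ⟨β, hβ⟩, h0, Nat.cast_zero])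
    have h0' : e ⟨γ, hγ⟩ ≠ 0 := fun h0 => hγc (by rw [he ⟨γ, hγ⟩, h0, Nat.cast_zero])
    have h1 := hc ⟨β, hβ⟩ ⟨γ, hγ⟩
    have h2 : β * χ = γ * χ := h
    rw [(heach _ h0).2 ⟨γ, hγ⟩ (fun e' => hne' (congrArg Subtype.val e').symm) h0', Nat.cast_zero,
      ← h2, hc ⟨β, hβ⟩ ⟨β, hβ⟩, (heach _ h0).1, Nat.cast_one] at h1
    exact one_ne_zero h1
  · rw [hexp', classInner_sum_left] at hψc
    obtain ⟨β, -, hβ⟩ := Finset.exists_ne_zero_of_sum_ne_zero hψc
    rw [classInner_smul_left] at hβ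
    have h0 : e β ≠ 0 := fun h => left_ne_zero_of_mul hβ (by rw [h, Nat.cast_zero])
    refine ⟨β, ⟨β.2, by rw [he β]; exact Nat.cast_ne_zero.mpr h0⟩, ?_⟩
    by_contra hne'
    exact right_ne_zero_of_mul hβ (classInner_irr_ne (isIrrCharacter_of_norm_one
      (β.2.isCharacter.mul hχ) (by rw [hc β β, (heach β h0).1, Nat.cast_one])) hψ hne')

end Cfsg.Lib.Char
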