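import Cfsg.Agent.Lib.Char.Clifford
import Cfsg.Agent.Lib.Char.PermLemma

/-!
# Characters of a normal subgroup fixed by an element; Frobenius groups
-/

set_option autoImplicit false
set_option linter.unusedSectionVars false
set_option linter.style.haveILetI false

namespace Cfsg.Lib.Char

open Cfsg
open scoped ComplexConjugate

universe u

variable {G : Type u} [Group G] [Finite G] (H : Subgroup G) [hN : H.Normal]

/-- An element fixes a non-principal irreducible character of a normal subgroup iff it fixes a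
non-trivial class of it. -/
theorem exists_fixed_irr_iff (x : G) :
    (∃ θ : H → ℂ, IsIrrCharacter H θ ∧ θ ≠ (fun _ => 1) ∧ conjTwist H θ x = θ) ↔
      ∃ h : H, h ≠ 1 ∧ ∃ m : H, x * (h : G) * x⁻¹ = m * h * (m : G)⁻¹ := by
  classical
  haveI := Fintype.ofFinite G
  haveI : Finite (ConjClasses H) := Quotient.finite _
  let f : IrrCharacter H → IrrCharacter H :=
    fun χ => ⟨conjTwist H (χ : H → ℂ) x, isIrrCharacter_conjTwist H χ.2 x⟩
  let e : MulAut H := MulAut.conjNormal x⁻¹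
  let h : ConjClasses H → ConjClasses H := ConjClasses.map e.toMonoidHom
  have hmk : ∀ a, h (ConjClasses.mk a) = ConjClasses.mk (e a) := fun a => rfl
  have hh : Function.Bijective h := by
    rw [Finite.injective_iff_bijective.symm]
    intro C D hCD
    obtain ⟨a, rfl⟩ := C.exists_rep
    obtain ⟨b, rfl⟩ := D.exists_rep
    rw [hmk, hmk, ConjClasses.mk_eq_mk_iff_isConj] at hCD
    exact ConjClasses.mk_eq_mk_iff_isConj.mpr
      (by simpa using e.symm.toMonoidHom.map_isConj hCD)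
  have key := brauer_permutation f h hh fun χ g g' hg => by
    rw [hmk, ConjClasses.mk_eq_mk_iff_isConj] at hg
    obtain ⟨c, hc⟩ := isConj_iff.mp hg
    have hcl : IsClassFunction H (χ : H → ℂ) := χ.2.isClassFunction
    show (χ : H → ℂ) ⟨x * g' * x⁻¹, _⟩ = _
    set w : H := ⟨x * g' * x⁻¹, hN.conj_mem g' g'.2 x⟩ with hw
    have : e w = g' := Subtype.ext (by simp [e, w, MulAut.conjNormal_apply, mul_assoc])
    have hgw : g = e.symm c * w * (e.symm c)⁻¹ := by
      apply e.injective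
      rw [map_mul, map_mul, map_inv, MulEquiv.apply_symm_apply, this, hc]
    rw [hgw, hcl]
  have hfix : ∀ a : H, h (ConjClasses.mk a) = ConjClasses.mk a ↔
      ∃ m : H, x * (a : G) * x⁻¹ = m * a * (m : G)⁻¹ := by
    intro a
    rw [hmk, ConjClasses.mk_eq_mk_iff_isConj]
    constructor
    · intro hconj
      have h2 := e.symm.toMonoidHom.map_isConj hconj
      simp only [MulEquiv.coe_toMonoidHom, MulEquiv.symm_apply_apply] at h2
      obtain ⟨m, hm⟩ := isConj_iff.mp h2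
      refine ⟨m, ?_⟩
      have h3 := congrArg Subtype.val hm
      simp [e, MulAut.conjNormal_symm_apply] at h3
      exact h3.symm
    · rintro ⟨m, hm⟩
      have h2 : IsConj a (e.symm a) := isConj_iff.mpr ⟨m, Subtype.ext (by
        simp [e, MulAut.conjNormal_symm_apply, hm])⟩
      have h3 := e.toMonoidHom.map_isConj h2
      simpa using h3
  let θ₀ : IrrCharacter H := ⟨fun _ => 1, isIrrCharacter_one⟩
  have hθ₀ : f θ₀ = θ₀ := rfl
  have h1 : h (ConjClasses.mk 1) = ConjClasses.mk 1 := by rw [hmk, map_one]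
  constructor
  · rintro ⟨θ, hθ, hne, heq⟩
    have : 1 < Nat.card {χ : IrrCharacter H // f χ = χ} :=
      Finite.one_lt_card_iff_nontrivial.mpr ⟨⟨⟨θ₀, hθ₀⟩, ⟨⟨θ, hθ⟩, Subtype.ext heq⟩,
        fun e' => hne (congrArg (fun p => (p.1.1 : H → ℂ)) e').symm⟩⟩
    rw [key] at this
    haveI := Finite.one_lt_card_iff_nontrivial.mp this
    obtain ⟨C, hC⟩ := exists_ne (⟨ConjClasses.mk 1, h1⟩ : {C : ConjClasses H // h C = C})
    obtain ⟨a, ha⟩ := C.1.exists_rep
    refine ⟨a, fun e' => hC (Subtype.ext ?_), (hfix a).mp ?_⟩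
    · rw [← ha, e']
    · rw [ha]; exact C.2
  · rintro ⟨a, ha, hm⟩
    have : 1 < Nat.card {C : ConjClasses H // h C = C} :=
      Finite.one_lt_card_iff_nontrivial.mpr ⟨⟨⟨_, h1⟩, ⟨_, (hfix a).mpr hm⟩, fun e' => ha
        (isConj_one_right.mp (ConjClasses.mk_eq_mk_iff_isConj.mp
          (congrArg Subtype.val e')))⟩⟩
    rw [← key] at this
    haveI := Finite.one_lt_card_iff_nontrivial.mp this
    obtain ⟨χ, hχ⟩ := exists_ne (⟨θ₀, hθ₀⟩ : {χ : IrrCharacter H // f χ = χ})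
    exact ⟨(χ.1 : H → ℂ), χ.1.2, fun e' => hχ (Subtype.ext (Subtype.ext e')),
      congrArg Subtype.val χ.2⟩

theorem inertia_eq_of_centralizer_le [Fintype G]
    (hC : ∀ n ∈ H, n ≠ 1 → Subgroup.centralizer ({n} : Set G) ≤ H) {θ : H → ℂ}
    (hθ : IsIrrCharacter H θ) (hθ1 : θ ≠ fun _ => 1) : inertia H θ = H := by
  refine le_antisymm (fun x hx => ?_) (le_inertia H hθ.isClassFunction)
  obtain ⟨h, hh, m, hm⟩ := (exists_fixed_irr_iff H x).mp ⟨θ, hθ, hθ1, hx⟩
  have h1 : (m : G)⁻¹ * x ∈ Subgroup.centralizer ({(h : G)} : Set G) := by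
    rw [Subgroup.mem_centralizer_singleton_iff]
    calc (m : G)⁻¹ * x * h = (m : G)⁻¹ * (x * h * x⁻¹) * x := by group
      _ = (m : G)⁻¹ * ((m : G) * h * (m : G)⁻¹) * x := by rw [hm]
      _ = (h : G) * ((m : G)⁻¹ * x) := by group
  have h2 := hC h h.2 (fun e => hh (Subtype.ext e)) h1
  simpa using H.mul_mem m.2 h2

theorem isIrrCharacter_indFun_of_inertia [Fintype G] {θ : H → ℂ} (hθ : IsIrrCharacter H θ)
    (hI : inertia H θ = H) : IsIrrCharacter G (indFun H θ) := by
  haveI := Fintype.ofFinite H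
  refine isIrrCharacter_of_norm_one (isCharacter_indFun H hθ.isCharacter) ?_
  have h := classInner_indFun_self H hθ
  rw [hI] at h
  exact mul_left_cancel₀ (Nat.cast_ne_zero.mpr Nat.card_pos.ne')
    (h.trans (mul_one _).symm)

/-- A fixed-point-free complement: every element of a non-trivial coset is conjugate to the
complement. -/
theorem exists_conj_of_fpf_complement {K : Subgroup G} [K.Normal] {C : Subgroup G}
    (hsup : K ⊔ C = ⊤) (hfpf : ∀ h ∈ C, h ≠ 1 → ∀ k ∈ K, h * k = k * h → k = 1)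
    {g : G} (hg : g ∉ K) : ∃ k ∈ K, ∃ h ∈ C, h ≠ 1 ∧ g = k * h * k⁻¹ := by
  have hgm : g ∈ K ⊔ C := hsup ▸ Subgroup.mem_top g
  obtain ⟨k₀, hk₀, h, hh, rfl⟩ := Subgroup.mem_sup_of_normal_left.mp hgm
  have hne : h ≠ 1 := fun e => hg (by simpa [e] using hk₀)
  let φ : K → K := fun k => ⟨k * (h * (k : G)⁻¹ * h⁻¹),
    K.mul_mem k.2 (Subgroup.Normal.conj_mem inferInstance _ (K.inv_mem k.2) h)⟩
  have hφ : Function.Injective φ := by
    intro a b hab
    have h1 : (a : G) * (h * (a : G)⁻¹ * h⁻¹) = b * (h * (b : G)⁻¹ * h⁻¹) :=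
      congrArg Subtype.val hab
    have h2 : h * ((b : G)⁻¹ * a) = (b : G)⁻¹ * a * h := by
      have h3 : (b : G)⁻¹ * a * h * (a : G)⁻¹ = h * (b : G)⁻¹ := by
        have h4 := congrArg (fun t => (b : G)⁻¹ * t * h) h1
        simpa [mul_assoc] using h4
      rw [← mul_assoc, ← h3]
      group
    exact Subtype.ext (inv_mul_eq_one.mp
      (hfpf h hh hne _ (K.mul_mem (K.inv_mem b.2) a.2) h2)).symm
  obtain ⟨k, hk⟩ := (Finite.injective_iff_surjective.mp hφ) ⟨k₀, hk₀⟩
  refine ⟨k, k.2, h, hh, hne, ?_⟩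
  rw [show k₀ = (k : G) * (h * (k : G)⁻¹ * h⁻¹) from (congrArg Subtype.val hk).symm]
  group

theorem centralizer_le_of_fpf_complement {K : Subgroup G} [K.Normal] {C : Subgroup G}
    (hsup : K ⊔ C = ⊤) (hfpf : ∀ h ∈ C, h ≠ 1 → ∀ k ∈ K, h * k = k * h → k = 1) :
    ∀ n ∈ K, n ≠ 1 → Subgroup.centralizer ({n} : Set G) ≤ K := by
  intro n hn hn1 g hg
  by_contra hgK
  obtain ⟨k, hk, h, hh, hne, rfl⟩ := exists_conj_of_fpf_complement hsup hfpf hgK
  rw [Subgroup.mem_centralizer_singleton_iff] at hg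
  have h2 : h * (k⁻¹ * n * k) = k⁻¹ * n * k * h := by
    calc h * (k⁻¹ * n * k) = k⁻¹ * ((k * h * k⁻¹) * n) * k := by group
      _ = k⁻¹ * (n * (k * h * k⁻¹)) * k := by rw [hg]
      _ = k⁻¹ * n * k * h := by group
  have h3 := hfpf h hh hne _ (K.mul_mem (K.mul_mem (K.inv_mem hk) hn) hk) h2
  apply hn1
  calc n = k * (k⁻¹ * n * k) * k⁻¹ := by group
    _ = 1 := by rw [h3]; group

end Cfsg.Lib.Char
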