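import Cfsg.Agent.Lib.Char.FixedChar
import Cfsg.Agent.Lib.Char.Gallagher
import Cfsg.Agent.Lib.Char.Quotient
import Cfsg.Agent.Lib.Char.Central
import Cfsg.Agent.S1528
import Cfsg.Agent.S0850

/-!
# Exceptional characters over a self-centralizing normal subgroup
-/

set_option autoImplicit false
set_option linter.style.haveILetI false
set_option linter.unusedSectionVars false

namespace Cfsg.Lib.Char

open Cfsg
open scoped ComplexConjugate

section FrobeniusKernel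

variable {N : Type*} [Group N] [Fintype N] {K : Subgroup N} [K.Normal]

/-- Characters nontrivial on `K` have degree a multiple of the index. -/
theorem frobKernel_degree (hC : ∀ k ∈ K, k ≠ 1 → Subgroup.centralizer ({k} : Set N) ≤ K)
    {ξ : N → ℂ} (hξ : IsIrrCharacter N ξ) (hne : ∃ k ∈ K, ξ k ≠ ξ 1) :
    (∃ θ : ℕ, 0 < θ ∧ θ ∣ Nat.card K ∧ ξ 1 = (K.index : ℂ) * θ) ∧ ∀ x, x ∉ K → ξ x = 0 := by
  haveI := Fintype.ofFinite K
  obtain ⟨φ, hφ, rfl⟩ := Cfsg.Agent.S1528.result K hC ξ hξ hne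
  obtain ⟨d, hd0, hd⟩ := hφ.exists_degree
  exact ⟨⟨d, hd0, degree_dvd_card hφ hd, by rw [indFun_apply_one, hd]⟩,
    fun x hx => indFun_normal_of_notMem K φ hx⟩

open Classical in
theorem sum_sq_trivialOn (K : Subgroup N) [K.Normal] :
    ∑ η ∈ Finset.univ.filter (fun η : IrrCharacter N =>
      ∀ k ∈ K, (η : N → ℂ) k = (η : N → ℂ) 1), (η : N → ℂ) 1 ^ 2 = (K.index : ℂ) := by
  haveI := Fintype.ofFinite (N ⧸ K)
  rw [Subgroup.index_eq_card, ← sum_sq_degree (G := N ⧸ K)]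
  rw [Finset.sum_subtype _ (p := fun η : IrrCharacter N => ∀ k ∈ K, (η : N → ℂ) k = (η : N → ℂ) 1)
    (by simp)]
  refine (Fintype.sum_equiv (irrQuotientEquiv K) _ _ fun ψ => ?_).symm
  rfl

open Classical in
/-- The characters nontrivial on `K` have degree squares summing to `|N| - [N : K]`. -/
theorem sum_nontrivialOn (K : Subgroup N) [K.Normal] {k : N} (hk : k ∈ K) :
    ∑ η ∈ Finset.univ.filter (fun η : IrrCharacter N =>
      ¬ ∀ k ∈ K, (η : N → ℂ) k = (η : N → ℂ) 1), (η : N → ℂ) 1 * (η : N → ℂ) k =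
      (if k = 1 then (Nat.card N : ℂ) else 0) - (K.index : ℂ) := by
  have h : ∑ η ∈ Finset.univ.filter (fun η : IrrCharacter N =>
      ∀ k ∈ K, (η : N → ℂ) k = (η : N → ℂ) 1), (η : N → ℂ) 1 * (η : N → ℂ) k = (K.index : ℂ) := by
    rw [← sum_sq_trivialOn K]
    refine Finset.sum_congr rfl fun η hη => ?_
    rw [(Finset.mem_filter.mp hη).2 k hk, pow_two]
  rw [← sum_degree_mul (G := N) k, ← Finset.sum_filter_add_sum_filter_not Finset.univ
    (fun η : IrrCharacter N => ∀ k ∈ K, (η : N → ℂ) k = (η : N → ℂ) 1), h]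
  ring

/-- A number which is integral against all the degrees over a Frobenius kernel is an integer. -/
theorem frobKernel_int (hK : K ≠ ⊥) (hC : ∀ k ∈ K, k ≠ 1 → Subgroup.centralizer ({k} : Set N) ≤ K)
    (t : ℂ) (h : ∀ ξ : N → ℂ, IsIrrCharacter N ξ → (∃ k ∈ K, ξ k ≠ ξ 1) → ∃ z : ℤ, t * ξ 1 = z) :
    ∃ z : ℤ, t * (K.index : ℂ) = z := by
  classical
  have hs : (K.index : ℂ) ≠ 0 := Nat.cast_ne_zero.mpr Subgroup.index_ne_zero_of_finite
  set F := Finset.univ.filter (fun η : IrrCharacter N => ¬ ∀ k ∈ K, (η : N → ℂ) k = (η : N → ℂ) 1)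
  have hsum : ∑ η ∈ F, (η : N → ℂ) 1 * (η : N → ℂ) 1 = (K.index : ℂ) * ((Nat.card K : ℂ) - 1) := by
    rw [sum_nontrivialOn K K.one_mem, if_pos rfl, ← K.card_mul_index]
    push_cast; ring
  have hmem : ∀ η ∈ F, ∃ k ∈ K, (η : N → ℂ) k ≠ (η : N → ℂ) 1 := fun η hη => by
    have := (Finset.mem_filter.mp hη).2; push Not at this; exact this
  have hint : ∀ η ∈ F, ∃ z : ℤ, t * ((η : N → ℂ) 1 * (η : N → ℂ) 1) = (z : ℂ) * K.index := by
    intro η hη
    obtain ⟨⟨θ, -, -, hθ⟩, -⟩ := frobKernel_degree hC η.2 (hmem η hη)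
    obtain ⟨z, hz⟩ := h η η.2 (hmem η hη)
    exact ⟨z * θ, by rw [← mul_assoc, hz, hθ]; push_cast; ring⟩
  choose! z hz using hint
  have h1 : t * (K.index : ℂ) * ((Nat.card K : ℂ) - 1) = ((∑ η ∈ F, z η : ℤ) : ℂ) * K.index := by
    rw [mul_assoc, ← hsum, Finset.mul_sum, Finset.sum_congr rfl hz, ← Finset.sum_mul]
    push_cast
    rfl
  have hne : F.Nonempty := by
    by_contra h0
    rw [Finset.not_nonempty_iff_eq_empty] at h0
    rw [h0, Finset.sum_empty] at hsum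
    have h2 : (Nat.card K : ℂ) = 1 := sub_eq_zero.mp ((mul_eq_zero.mp hsum.symm).resolve_left hs)
    exact hK (Subgroup.eq_bot_of_card_eq K (by exact_mod_cast h2))
  obtain ⟨η, hη⟩ := hne
  obtain ⟨⟨θ, -, ⟨c, hc⟩, hθ⟩, -⟩ := frobKernel_degree hC η.2 (hmem η hη)
  obtain ⟨w, hw⟩ := h η η.2 (hmem η hη)
  refine ⟨w * c - (∑ η ∈ F, z η) * K.index, ?_⟩
  push_cast at h1 ⊢
  rw [← h1, hc, ← hw, hθ]
  push_cast
  ring

/-- A generalized character whose coefficients on the nontrivial part are proportional to the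
degrees is a constant integer off the identity of `K`. -/
theorem frobKernel_constant (hK : K ≠ ⊥)
    (hC : ∀ k ∈ K, k ≠ 1 → Subgroup.centralizer ({k} : Set N) ≤ K) {f : N → ℂ}
    (hf : IsGeneralizedCharacter N f)
    (hp : ∀ ξ ξ' : N → ℂ, IsIrrCharacter N ξ → (∃ k ∈ K, ξ k ≠ ξ 1) → IsIrrCharacter N ξ' →
      (∃ k ∈ K, ξ' k ≠ ξ' 1) → ξ 1 * classInner f ξ' = ξ' 1 * classInner f ξ) :
    ∃ A : ℤ, ∀ k ∈ K, k ≠ 1 → f k = A := by
  classical
  set F := Finset.univ.filter (fun η : IrrCharacter N => ¬ ∀ k ∈ K, (η : N → ℂ) k = (η : N → ℂ) 1)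
  choose c hc using fun η : IrrCharacter N => hf.exists_int_classInner η.2.isGeneralized
  obtain ⟨t, ht⟩ : ∃ t : ℂ, ∀ ξ : N → ℂ, IsIrrCharacter N ξ → (∃ k ∈ K, ξ k ≠ ξ 1) →
      classInner f ξ = t * ξ 1 := by
    by_cases h : ∃ ξ₀ : N → ℂ, IsIrrCharacter N ξ₀ ∧ ∃ k ∈ K, ξ₀ k ≠ ξ₀ 1
    · obtain ⟨ξ₀, h0, hn0⟩ := h
      exact ⟨classInner f ξ₀ / ξ₀ 1, fun ξ hξ hn => by
        rw [div_mul_eq_mul_div, eq_div_iff h0.apply_one_ne_zero, mul_comm (classInner f ξ),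
          mul_comm (classInner f ξ₀)]
        exact hp ξ₀ ξ h0 hn0 hξ hn⟩
    · exact ⟨0, fun ξ hξ hn => absurd ⟨ξ, hξ, hn⟩ h⟩
  obtain ⟨T, hT⟩ := frobKernel_int hK hC t fun ξ hξ hn =>
    ⟨c ⟨ξ, hξ⟩, (ht ξ hξ hn).symm.trans (hc ⟨ξ, hξ⟩)⟩
  have hdeg : ∀ η : IrrCharacter N, ∃ d : ℕ, (η : N → ℂ) 1 = d := fun η => by
    obtain ⟨d, -, hd⟩ := η.2.exists_degree; exact ⟨d, hd⟩
  choose d hd using hdeg
  refine ⟨(∑ η ∈ Finset.univ.filter (fun η : IrrCharacter N =>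
    ∀ k ∈ K, (η : N → ℂ) k = (η : N → ℂ) 1), c η * d η) - T, fun k hk hk1 => ?_⟩
  have hexp := congrFun (eq_sum_classInner hf.isClassFunction) k
  rw [Finset.sum_apply, ← Finset.sum_filter_add_sum_filter_not Finset.univ
    (fun η : IrrCharacter N => ∀ k ∈ K, (η : N → ℂ) k = (η : N → ℂ) 1)] at hexp
  rw [hexp]
  push_cast
  rw [sub_eq_add_neg]
  congr 1
  · refine Finset.sum_congr rfl fun η hη => ?_
    rw [Pi.smul_apply, smul_eq_mul, (Finset.mem_filter.mp hη).2 k hk, hc, hd]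
  · refine (Finset.sum_congr rfl (g := fun η : IrrCharacter N =>
      t * ((η : N → ℂ) 1 * (η : N → ℂ) k)) fun η hη => ?_).trans ?_
    · have hn := (Finset.mem_filter.mp hη).2
      push Not at hn
      rw [Pi.smul_apply, smul_eq_mul, ht _ η.2 hn, mul_assoc]
    · rw [← Finset.mul_sum, sum_nontrivialOn K hk, if_neg hk1, zero_sub, mul_neg, hT]

/-- A character nontrivial on `K` and constant off the identity of `K` is the only such. -/
theorem frobKernel_not_constant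
    (hC : ∀ k ∈ K, k ≠ 1 → Subgroup.centralizer ({k} : Set N) ≤ K) {χ ξ : N → ℂ}
    (hχ : IsIrrCharacter N χ) (hχn : ∃ k ∈ K, χ k ≠ χ 1) (hξ : IsIrrCharacter N ξ)
    (hξn : ∃ k ∈ K, ξ k ≠ ξ 1) (hne : χ ≠ ξ) {C : ℂ} (hconst : ∀ k ∈ K, k ≠ 1 → χ k = C) :
    False := by
  classical
  haveI := Fintype.ofFinite K
  obtain ⟨-, hoff⟩ := frobKernel_degree hC hχ hχn
  have hsum0 : ∑ k : K, ξ k = 0 := by
    rcases sum_coset_char_cases K hξ with h | ⟨h, -, -⟩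
    · simpa using h 1
    · obtain ⟨k, hk, hk'⟩ := hξn
      exact absurd (h ⟨k, hk⟩) hk'
  have h0 := classInner_irr_ne hχ hξ hne
  simp only [classInner, mul_eq_zero, inv_eq_zero, card_cast_ne_zero, false_or] at h0
  rw [← Finset.sum_subset (Finset.subset_univ (Finset.univ.filter (· ∈ K))) (fun x _ hx => by
      rw [hoff x (by simpa using hx), zero_mul]),
    Finset.sum_subtype (F := ‹Fintype K›) (Finset.univ.filter (· ∈ K)) (p := (· ∈ K)) (by simp)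
      (fun x => χ x * conj (ξ x))] at h0
  have hval : ∀ k : K, χ k * conj (ξ k) =
      C * conj (ξ k) + if k = 1 then (χ 1 - C) * conj (ξ 1) else 0 := fun k => by
    by_cases h : k = 1
    · subst h; rw [if_pos rfl, OneMemClass.coe_one]; ring
    · rw [if_neg h, add_zero, hconst k k.2 fun e => h (Subtype.ext e)]
  simp only [hval, Finset.sum_add_distrib, ← Finset.mul_sum, ← map_sum, hsum0, map_zero, mul_zero,
    zero_add, Finset.sum_ite_eq', Finset.mem_univ, if_true, mul_eq_zero, map_eq_zero,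
    hξ.apply_one_ne_zero, or_false, sub_eq_zero] at h0
  obtain ⟨k, hk, hk'⟩ := hχn
  exact hk' ((hconst k hk fun e => hk' (by rw [e])).trans h0.symm)

end FrobeniusKernel

section TI

variable {G : Type*} [Group G] [Fintype G] {K : Subgroup G}

local notation "NN" => (Subgroup.normalizer (K : Set G))

theorem subgroupOf_normalizer_frob (hlt : K < NN)
    (hC : ∀ k ∈ K, k ≠ 1 → Subgroup.centralizer ({k} : Set G) ≤ K) :
    ∀ k ∈ K.subgroupOf NN, k ≠ 1 → Subgroup.centralizer ({k} : Set NN) ≤ K.subgroupOf NN := by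
  intro k hk hk1 x hx
  exact hC k hk (fun h => hk1 (Subtype.ext h)) (Subgroup.mem_centralizer_singleton_iff.mpr
    (congrArg Subtype.val (Subgroup.mem_centralizer_singleton_iff.mp hx)))

/-- The extension agrees with induction on the degree zero combinations of two exceptional
characters. -/
theorem star_pair 
  (hTI : ∀ g : G, g ∉ NN → ∀ k ∈ K, g * k * g⁻¹ ∈ K → k = 1) (hlt : K < NN)
  (hC : ∀ k ∈ K, k ≠ 1 → Subgroup.centralizer ({k} : Set G) ≤ K) [Fintype NN]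
  {S : Set (NN → ℂ)} (hS : S = {χ | IsIrrCharacter NN χ ∧ ∃ k : NN, (k : G) ∈ K ∧ χ k ≠ χ 1})
  {star : (NN → ℂ) → (G → ℂ)} (hstar : IsLinearIsometryOn (zspan S) star)
  (hext : ∀ α ∈ zspanOn S ({1}ᶜ : Set NN), star α = indFun NN α)
    {χ ξ : NN → ℂ} (hχ : χ ∈ S) (hξ : ξ ∈ S) {a b : ℕ} (ha : χ 1 = a) (hb : ξ 1 = b) :
    star ((b : ℂ) • χ - (a : ℂ) • ξ) = (b : ℂ) • star χ - (a : ℂ) • star ξ ∧
      star ((b : ℂ) • χ - (a : ℂ) • ξ) = indFun NN ((b : ℂ) • χ - (a : ℂ) • ξ) ∧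
      ∀ k : NN, (k : G) ∈ K → indFun NN ((b : ℂ) • χ - (a : ℂ) • ξ) k =
        (b : ℂ) * χ k - (a : ℂ) * ξ k := by
  have hz : ∀ {φ : NN → ℂ}, φ ∈ S → φ ∈ zspan S := fun h => Submodule.subset_span (R := ℤ) h
  have e : (b : ℂ) • χ - (a : ℂ) • ξ = ((b : ℤ) • χ) + (-(a : ℤ)) • ξ := by
    funext x
    simp [sub_eq_add_neg]
  have hmem : (b : ℂ) • χ - (a : ℂ) • ξ ∈ zspan S := by
    rw [e]
    exact Submodule.add_mem _ (Submodule.smul_mem _ _ (hz hχ)) (Submodule.smul_mem _ _ (hz hξ))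
  have h1 : ((b : ℂ) • χ - (a : ℂ) • ξ) 1 = 0 := by simp [ha, hb]; ring
  refine ⟨?_, hext _ (show _ ∈ zspanOn S _ from ⟨hmem, fun (x : ↥NN) (hx : x ∉ ({1}ᶜ : Set ↥NN)) => ?_⟩), ?_⟩
  · rw [e, hstar.1 _ (Submodule.smul_mem _ _ (hz hχ)) _ (Submodule.smul_mem _ _ (hz hξ)),
      hstar.2.1 _ (hz hχ), hstar.2.1 _ (hz hξ)]
    funext x
    simp [sub_eq_add_neg]
  · rw [show x = 1 by simpa using hx]; exact h1
  · intro k hk
    rw [hS] at hχ hξ
    haveI : (K.subgroupOf NN).Normal := Subgroup.normal_in_normalizer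
    have hoff : ∀ φ : NN → ℂ, (IsIrrCharacter NN φ ∧ ∃ k : NN, (k : G) ∈ K ∧ φ k ≠ φ 1) →
        ∀ x : NN, (x : G) ∉ K → φ x = 0 := fun φ hφ x hx =>
      (frobKernel_degree (subgroupOf_normalizer_frob hlt hC) hφ.1 hφ.2).2 x hx
    refine ((Cfsg.Agent.S0850.result K hTI hlt hC).2 _ ?_ (fun x hx => ?_) h1 k).trans ?_
    · intro x y
      simp [hχ.1.isClassFunction x y, hξ.1.isClassFunction x y]
    · simp [hoff χ hχ x hx, hoff ξ hξ x hx]
    · simp

/-- Inner products with the restriction of a class function. -/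
theorem star_pair_inner 
  (hTI : ∀ g : G, g ∉ NN → ∀ k ∈ K, g * k * g⁻¹ ∈ K → k = 1) (hlt : K < NN)
  (hC : ∀ k ∈ K, k ≠ 1 → Subgroup.centralizer ({k} : Set G) ≤ K) [Fintype NN]
  {S : Set (NN → ℂ)} (hS : S = {χ | IsIrrCharacter NN χ ∧ ∃ k : NN, (k : G) ∈ K ∧ χ k ≠ χ 1})
  {star : (NN → ℂ) → (G → ℂ)} (hstar : IsLinearIsometryOn (zspan S) star)
  (hext : ∀ α ∈ zspanOn S ({1}ᶜ : Set NN), star α = indFun NN α)
    {f : G → ℂ} (hf : IsClassFunction G f) {χ ξ : NN → ℂ} (hχ : χ ∈ S)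
    (hξ : ξ ∈ S) {a b : ℕ} (ha : χ 1 = a) (hb : ξ 1 = b) :
    (b : ℂ) * classInner (fun x : NN => f x) χ - (a : ℂ) * classInner (fun x : NN => f x) ξ =
      (b : ℂ) * classInner f (star χ) - (a : ℂ) * classInner f (star ξ) := by
  obtain ⟨h1, h2, -⟩ := star_pair hTI hlt hC hS hstar hext hχ hξ ha hb
  have h := classInner_indFun_right NN ((b : ℂ) • χ - (a : ℂ) • ξ) hf
  rw [← h2, h1] at h
  simpa [classInner_sub_right, classInner_smul_right] using h.symm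

end TI

end Cfsg.Lib.Char
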