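import Mathlib
import Cfsg.Agent.Lib.Char.CoherenceUnion
import Cfsg.Agent.Lib.Char.CoherenceKernel
import Cfsg.Agent.Lib.Char.TIExceptional
import Cfsg.Agent.Lib.Solv.Nilpotent
import Cfsg.Agent.Lib.Thompson.FixedPointFree

/-!
# Feit's coherence theorem

The irreducible characters nontrivial on the kernel of a Frobenius group are coherent when the
abelianised kernel is large or the kernel is not of prime power order.
-/

set_option autoImplicit false
set_option linter.unusedSectionVars false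
set_option linter.style.haveILetI false

namespace Cfsg.Lib.Char

open Cfsg
open scoped ComplexConjugate commutatorElement

universe u v

/-- The irreducible characters whose kernel does not contain `H`. -/
def irrNontrivialOn {L : Type u} [Group L] [Fintype L] (H : Subgroup L) : Set (L → ℂ) :=
  {χ | IsIrrCharacter L χ ∧ ∃ h ∈ H, χ h ≠ χ 1}

/-- The irreducible characters whose kernel contains `B` and not `H`. -/
def irrBetween {L : Type u} [Group L] [Fintype L] (H B : Subgroup L) : Set (L → ℂ) :=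
  {χ | χ ∈ irrNontrivialOn H ∧ ∀ b ∈ B, χ b = χ 1}

variable {G : Type v} [Group G] [Fintype G] {L : Type u} [Group L] [Fintype L]

theorem irrBetween_bot (H : Subgroup L) : irrBetween H ⊥ = irrNontrivialOn H :=
  Set.ext fun χ => ⟨fun h => h.1, fun h => ⟨h, fun b hb => by rw [Subgroup.mem_bot.1 hb]⟩⟩

theorem irrNontrivialOn_finite (H : Subgroup L) : (irrNontrivialOn H).Finite :=
  (Set.finite_range fun χ : IrrCharacter L => (χ : L → ℂ)).subset fun χ h => ⟨⟨χ, h.1⟩, rfl⟩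

theorem irrBetween_finite (H B : Subgroup L) : (irrBetween H B).Finite :=
  (irrNontrivialOn_finite H).subset fun _ h => h.1

theorem irrBetween_anti (H : Subgroup L) {A B : Subgroup L} (h : B ≤ A) :
    irrBetween H A ⊆ irrBetween H B := fun _ hχ => ⟨hχ.1, fun b hb => hχ.2 b (h hb)⟩

/-- Adjoining characters one at a time to a coherent set. -/
theorem coherent_extend_bound {S : Set (L → ℂ)} (hirr : ∀ ξ ∈ S, IsIrrCharacter L ξ)
    {τ : (L → ℂ) → (G → ℂ)} (hτ : IsLinearIsometryOn (zspanOn S {1}ᶜ) τ)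
    (hτ1 : ∀ α ∈ zspanOn S {1}ᶜ, τ α 1 = 0) (d : (L → ℂ) → ℕ) (hd : ∀ ξ ∈ S, ξ 1 = (d ξ : ℂ))
    (T U : Finset (L → ℂ)) (hTU : T ⊆ U) (hUS : ↑U ⊆ S) (hcoh : IsCoherent (↑T : Set (L → ℂ)) {1}ᶜ τ)
    {ψ : L → ℂ} (hψ : ψ ∈ T) (hdvd : ∀ χ ∈ U, d ψ ∣ d χ)
    (hlt : ∀ χ ∈ U, χ ∉ T → 2 * d ψ * d χ < ∑ ξ ∈ T, d ξ ^ 2) :
    IsCoherent (↑U : Set (L → ℂ)) {1}ᶜ τ := by
  classical
  suffices H : ∀ W : Finset (L → ℂ), W ⊆ U → IsCoherent (↑(T ∪ W) : Set (L → ℂ)) {1}ᶜ τ by
    simpa [Finset.union_eq_right.2 hTU] using H U subset_rfl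
  intro W
  induction W using Finset.induction with
  | empty => intro _; simpa using hcoh
  | @insert χ W hχW ih =>
    intro hW
    have hχU : χ ∈ U := hW (Finset.mem_insert_self _ _)
    have hWU : W ⊆ U := fun x hx => hW (Finset.mem_insert_of_mem hx)
    rw [Finset.union_insert]
    by_cases hmem : χ ∈ T ∪ W
    · rw [Finset.insert_eq_of_mem hmem]; exact ih hWU
    have hsub : (↑(insert χ (T ∪ W)) : Set (L → ℂ)) ⊆ S := fun x hx => hUS (by
      rcases Finset.mem_insert.1 (Finset.mem_coe.1 hx) with rfl | hx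
      · exact hχU
      · exact Finset.union_subset hTU hWU hx)
    exact coherent_insert_irr (T ∪ W) χ (fun ξ hξ => hirr ξ (hsub (Finset.mem_insert_of_mem hξ)))
      (hirr χ (hUS hχU)) hmem d (fun ξ hξ => hd ξ (hsub hξ)) τ (hτ.mono (zspanOn_mono hsub _))
      (fun α hα => hτ1 α (zspanOn_mono hsub _ hα)) (ih hWU) ψ (Finset.mem_union_left _ hψ) (hdvd χ hχU)
      (lt_of_lt_of_le (hlt χ hχU fun h => hmem (Finset.mem_union_left _ h))
        (Finset.sum_le_sum_of_subset Finset.subset_union_left))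

variable {H : Subgroup L} [hHn : H.Normal]

/-- Degrees of the characters nontrivial on the kernel. -/
theorem exists_kernel_degree (hC : ∀ h ∈ H, h ≠ 1 → Subgroup.centralizer ({h} : Set L) ≤ H) :
    ∃ t : (L → ℂ) → ℕ, ∀ χ ∈ irrNontrivialOn H,
      χ 1 = ((H.index * t χ : ℕ) : ℂ) ∧ 0 < t χ ∧ t χ ∣ Nat.card H := by
  have h : ∀ χ : L → ℂ, ∃ t : ℕ, χ ∈ irrNontrivialOn H →
      χ 1 = ((H.index * t : ℕ) : ℂ) ∧ 0 < t ∧ t ∣ Nat.card H := by
    intro χ
    by_cases hχ : χ ∈ irrNontrivialOn H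
    · obtain ⟨⟨θ, h0, hd, h1⟩, -⟩ := frobKernel_degree hC hχ.1 hχ.2
      exact ⟨θ, fun _ => ⟨by rw [h1]; push_cast; rfl, h0, hd⟩⟩
    · exact ⟨0, fun h => absurd h hχ⟩
  choose t ht using h
  exact ⟨t, ht⟩

open Classical in
/-- The degrees of the characters between `B` and `H`. -/
theorem sum_sq_irrBetween (B : Subgroup L) [B.Normal] (hBH : B ≤ H) (T : Finset (L → ℂ))
    (hT : (↑T : Set (L → ℂ)) = irrBetween H B) (t : (L → ℂ) → ℕ)
    (ht : ∀ χ ∈ T, χ 1 = ((H.index * t χ : ℕ) : ℂ)) :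
    H.index * (∑ χ ∈ T, t χ ^ 2) + 1 = B.relIndex H := by
  have h1 := sum_sq_trivialOn (N := L) B
  have h2 := sum_sq_trivialOn (N := L) H
  have hsub : Finset.univ.filter (fun η : IrrCharacter L => ∀ k ∈ H, (η : L → ℂ) k = (η : L → ℂ) 1) ⊆
      Finset.univ.filter (fun η : IrrCharacter L => ∀ k ∈ B, (η : L → ℂ) k = (η : L → ℂ) 1) :=
    fun η hη => Finset.mem_filter.2 ⟨Finset.mem_univ _, fun k hk => (Finset.mem_filter.1 hη).2 k (hBH hk)⟩
  set F := Finset.univ.filter (fun η : IrrCharacter L => ∀ k ∈ B, (η : L → ℂ) k = (η : L → ℂ) 1) \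
    Finset.univ.filter (fun η : IrrCharacter L => ∀ k ∈ H, (η : L → ℂ) k = (η : L → ℂ) 1) with hF
  have hTF : T = F.image fun η : IrrCharacter L => (η : L → ℂ) := by
    ext χ
    rw [← Finset.mem_coe, hT]
    simp only [hF, Finset.mem_image, Finset.mem_sdiff, Finset.mem_filter, Finset.mem_univ, true_and]
    constructor
    · rintro ⟨⟨hi, h, hh, hne⟩, hB⟩
      exact ⟨⟨χ, hi⟩, ⟨hB, fun hall => hne (hall h hh)⟩, rfl⟩
    · rintro ⟨η, ⟨hB, hH⟩, rfl⟩
      push Not at hH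
      exact ⟨⟨η.2, hH⟩, hB⟩
  rw [← Finset.sum_sdiff hsub, ← hF, h2] at h1
  have h3 : ∑ η ∈ F, (η : L → ℂ) 1 ^ 2 = ((H.index ^ 2 * ∑ χ ∈ T, t χ ^ 2 : ℕ) : ℂ) := by
    rw [← Finset.sum_image (f := fun χ : L → ℂ => χ 1 ^ 2) (fun a _ b _ e => Subtype.ext e), ← hTF]
    push_cast
    rw [Finset.mul_sum]
    exact Finset.sum_congr rfl fun χ hχ => by rw [ht χ hχ]; push_cast; ring
  rw [h3, ← Subgroup.relIndex_mul_index hBH] at h1
  have h4 : H.index ^ 2 * (∑ χ ∈ T, t χ ^ 2) + H.index = B.relIndex H * H.index := by exact_mod_cast h1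
  have h0 : 0 < H.index := Nat.pos_of_ne_zero Subgroup.index_ne_zero_of_finite
  exact Nat.eq_of_mul_eq_mul_right h0 (by rw [← h4]; ring)

/-- The index of the kernel divides the order of each normal section, less one. -/
theorem index_dvd_section (hC : ∀ h ∈ H, h ≠ 1 → Subgroup.centralizer ({h} : Set L) ≤ H)
    (B A : Subgroup L) [B.Normal] [A.Normal] (hBA : B ≤ A) (hAH : A ≤ H) :
    H.index ∣ B.relIndex A - 1 := by
  obtain ⟨t, ht⟩ := exists_kernel_degree hC
  have key : ∀ C : Subgroup L, C.Normal → C ≤ H → (H.index : ℤ) ∣ (C.relIndex H : ℤ) - 1 := by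
    intro C hCn hCH
    haveI := hCn
    have h := sum_sq_irrBetween C hCH (irrBetween_finite H C).toFinset (by simp) t
      (fun χ hχ => (ht χ ((irrBetween_finite H C).mem_toFinset.1 hχ).1).1)
    rw [← h]; push_cast
    rw [add_sub_cancel_right]
    exact dvd_mul_right _ _
  have h1 := key B inferInstance (hBA.trans hAH)
  have h2 := key A inferInstance hAH
  rw [← Subgroup.relIndex_mul_relIndex B A H hBA hAH] at h1
  push_cast at h1
  have h3 : (H.index : ℤ) ∣ (B.relIndex A : ℤ) - 1 := by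
    have := dvd_sub h1 (h2.mul_left (B.relIndex A : ℤ))
    rwa [show (B.relIndex A : ℤ) * (A.relIndex H : ℤ) - 1 - (B.relIndex A : ℤ) * ((A.relIndex H : ℤ) - 1) =
      (B.relIndex A : ℤ) - 1 by ring] at this
  have h0 : 1 ≤ B.relIndex A := Nat.pos_of_ne_zero (relIndex_ne_zero_fin _ _)
  rw [← Int.natCast_dvd_natCast, Nat.cast_sub h0, Nat.cast_one]
  exact h3

theorem index_add_one_le (hC : ∀ h ∈ H, h ≠ 1 → Subgroup.centralizer ({h} : Set L) ≤ H)
    (B A : Subgroup L) [B.Normal] [A.Normal] (hBA : B < A) (hAH : A ≤ H) :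
    H.index + 1 ≤ B.relIndex A := by
  have h0 : B.relIndex A ≠ 0 := relIndex_ne_zero_fin _ _
  have h1 : B.relIndex A ≠ 1 := fun h => hBA.not_ge (Subgroup.relIndex_eq_one.1 h)
  have := Nat.le_of_dvd (by omega) (index_dvd_section hC B A hBA.le hAH)
  omega

theorem frobKernel_coprime (hC : ∀ h ∈ H, h ≠ 1 → Subgroup.centralizer ({h} : Set L) ≤ H) :
    (Nat.card H).Coprime H.index := by
  have h := index_dvd_section hC ⊥ H bot_le le_rfl
  rw [Subgroup.relIndex_bot_left] at h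
  have h0 : 0 < Nat.card H := Nat.card_pos
  refine Nat.coprime_of_dvd fun r hr hrH hre => ?_
  have h1 := Nat.dvd_sub hrH (hre.trans h)
  rw [show Nat.card H - (Nat.card H - 1) = 1 by omega] at h1
  exact hr.not_dvd_one h1

/-- An element of prime order outside the kernel acts without fixed points. -/
theorem exists_fpf_kernel (hC : ∀ h ∈ H, h ≠ 1 → Subgroup.centralizer ({h} : Set L) ≤ H) {r : ℕ}
    (hr : r.Prime) (hre : r ∣ H.index) :
    ∃ φ : H ≃* H, MonoidHom.FixedPointFree φ ∧ (⇑φ)^[r] = id := by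
  haveI := Fact.mk hr
  have hrL : r ∣ Nat.card L := hre.trans H.index_dvd_card
  obtain ⟨x, hx⟩ := exists_prime_orderOf_dvd_card' r hrL
  have hxH : x ∉ H := fun h => hr.not_dvd_one (by
    have h1 : r ∣ Nat.card H := hx ▸ Subgroup.orderOf_dvd_natCard H h
    have h2 := Nat.dvd_gcd h1 hre
    rwa [frobKernel_coprime hC] at h2)
  refine ⟨MulAut.conjNormal x, fun h hh => ?_, ?_⟩
  · by_contra h1
    apply hxH
    refine hC h h.2 (fun e => h1 (Subtype.ext e)) (Subgroup.mem_centralizer_singleton_iff.2 ?_)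
    have h2 : x * (h : L) * x⁻¹ = h := by rw [← MulAut.conjNormal_apply]; exact congrArg Subtype.val hh
    exact mul_inv_eq_iff_eq_mul.1 h2
  · have key : ∀ (n : ℕ) (h : H), ((⇑(MulAut.conjNormal x : H ≃* H))^[n] h : L) = x ^ n * h * (x ^ n)⁻¹ := by
      intro n
      induction n with
      | zero => intro h; simp
      | succ n ih =>
        intro h
        rw [Function.iterate_succ_apply', MulAut.conjNormal_apply, ih, pow_succ']
        group
    funext h
    apply Subtype.ext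
    rw [key, ← hx, pow_orderOf_eq_one]
    simp

theorem frobKernel_isNilpotent (hH2 : H ≠ ⊤)
    (hC : ∀ h ∈ H, h ≠ 1 → Subgroup.centralizer ({h} : Set L) ≤ H) : Group.IsNilpotent H := by
  obtain ⟨r, hr, hre⟩ := Nat.exists_prime_and_dvd (show H.index ≠ 1 from fun h => hH2 (Subgroup.index_eq_one.1 h))
  obtain ⟨φ, hφ, hpow⟩ := exists_fpf_kernel hC hr hre
  exact Cfsg.Lib.Thompson.isNilpotent_of_fpf hr φ hφ hpow

theorem frobKernel_comm_of_even (hC : ∀ h ∈ H, h ≠ 1 → Subgroup.centralizer ({h} : Set L) ≤ H)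
    (he : Even H.index) : ∀ a ∈ H, ∀ b ∈ H, a * b = b * a := by
  obtain ⟨φ, hφ, hpow⟩ := exists_fpf_kernel hC Nat.prime_two (even_iff_two_dvd.1 he)
  have hinv : Function.Involutive φ := fun h => congrFun hpow h
  intro a ha b hb
  exact congrArg Subtype.val
    (MonoidHom.FixedPointFree.commute_all_of_involutive hφ hinv ⟨a, ha⟩ ⟨b, hb⟩).eq

/-- Degree bound from a central section. -/
theorem irrBetween_sq_le (hC : ∀ h ∈ H, h ≠ 1 → Subgroup.centralizer ({h} : Set L) ≤ H)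
    (B Z : Subgroup L) [B.Normal] (hBH : B ≤ H) (hZH : Z ≤ H) (hZB : ∀ z ∈ Z, ∀ y ∈ H, z * y * z⁻¹ * y⁻¹ ∈ B)
    {χ : L → ℂ} (hχ : χ ∈ irrBetween H B) {t : ℕ} (ht : χ 1 = ((H.index * t : ℕ) : ℂ)) :
    t ^ 2 ≤ Z.relIndex H := by
  classical
  haveI := Fintype.ofFinite H
  haveI := Fintype.ofFinite (Z.subgroupOf H)
  obtain ⟨θ, hθ, rfl⟩ := Cfsg.Agent.S1528.result H hC χ hχ.1.1 hχ.1.2
  have hres : classInner (fun x : H => indFun H θ x) θ ≠ 0 := by
    rw [← classInner_conj_symm]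
    intro h
    rw [map_eq_zero, ← classInner_indFun H θ (isClassFunction_indFun H θ), classInner_irr_self hχ.1.1] at h
    exact one_ne_zero h
  have hθB : ∀ b : H, (b : L) ∈ B → θ b = θ 1 := fun b hb => Block.constituent_apply_eq
    ((isCharacter_indFun H hθ.isCharacter).comp H.subtype) hθ hres (hχ.2 _ hb)
  have hb := sq_degree_le_of_central (Z.subgroupOf H) hθ fun x hx y => hθB _ (hZB _ hx _ y.2)
  obtain ⟨n, -, hn⟩ := hθ.exists_degree
  rw [indFun_apply_one, hn] at ht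
  have h' : H.index * n = H.index * t := by exact_mod_cast ht
  obtain rfl := Nat.eq_of_mul_eq_mul_left (Nat.pos_of_ne_zero Subgroup.index_ne_zero_of_finite) h'
  rw [hn, Complex.natCast_re] at hb
  have hb' : n ^ 2 ≤ (Z.subgroupOf H).index := by exact_mod_cast hb
  exact hb'

theorem frobKernel_commutator_lt (hH1 : H ≠ ⊥) (hnil : Group.IsNilpotent H) : ⁅H, H⁆ < H := by
  haveI := hnil
  haveI : Nontrivial H := (Subgroup.nontrivial_iff_ne_bot H).2 hH1
  refine lt_of_le_of_ne (Subgroup.commutator_le_self H) fun e => ?_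
  have h := Group.IsSolvable.commutator_lt_top_of_nontrivial H
  refine h.ne (Subgroup.map_injective H.subtype_injective ?_)
  rw [Subgroup.map_subtype_commutator, ← MonoidHom.range_eq_map, Subgroup.range_subtype]
  exact e

/-- The linear characters of the kernel give a coherent set. -/
theorem coherent_irrBetween_commutator (hH1 : H ≠ ⊥)
    (hC : ∀ h ∈ H, h ≠ 1 → Subgroup.centralizer ({h} : Set L) ≤ H)
    {τ : (L → ℂ) → (G → ℂ)} (hτ : IsLinearIsometryOn (zspanOn (irrNontrivialOn H) {1}ᶜ) τ)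
    (hτ1 : ∀ α ∈ zspanOn (irrNontrivialOn H) {1}ᶜ, τ α 1 = 0)
    (hnil : Group.IsNilpotent H) (hne : ⁅H, H⁆.relIndex H ≠ H.index + 1) :
    (∀ χ ∈ irrBetween H ⁅H, H⁆, χ 1 = (H.index : ℂ)) ∧
      IsCoherent (irrBetween H ⁅H, H⁆) {1}ᶜ τ := by
  classical
  haveI : (⁅H, H⁆ : Subgroup L).Normal := Subgroup.commutator_normal _ _
  obtain ⟨t, ht⟩ := exists_kernel_degree hC
  have h1 : ∀ χ ∈ irrBetween H ⁅H, H⁆, t χ = 1 := by
    intro χ hχ
    have h := irrBetween_sq_le hC ⁅H, H⁆ H (Subgroup.commutator_le_self H) le_rfl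
      (fun z hz y hy => Subgroup.commutator_mem_commutator hz hy) hχ (ht χ hχ.1).1
    rw [Subgroup.relIndex_self] at h
    have := (ht χ hχ.1).2.1
    nlinarith
  have hdeg : ∀ χ ∈ irrBetween H ⁅H, H⁆, χ 1 = (H.index : ℂ) := fun χ hχ => by
    rw [(ht χ hχ.1).1, h1 χ hχ, mul_one]
  refine ⟨hdeg, ?_⟩
  have hfin := irrBetween_finite H ⁅H, H⁆
  have hsum := sum_sq_irrBetween ⁅H, H⁆ (Subgroup.commutator_le_self H) hfin.toFinset (by simp) t
    (fun χ hχ => (ht χ (hfin.mem_toFinset.1 hχ).1).1)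
  rw [Finset.sum_congr rfl (g := fun _ => 1) (fun χ hχ => by rw [h1 χ (hfin.mem_toFinset.1 hχ)]; rfl),
    Finset.sum_const, smul_eq_mul, mul_one] at hsum
  have hlt := frobKernel_commutator_lt hH1 hnil
  have hq1 : ⁅H, H⁆.relIndex H ≠ 1 := fun h => hlt.not_ge (Subgroup.relIndex_eq_one.1 h)
  have htwo : 1 < hfin.toFinset.card := by
    by_contra h
    push Not at h
    interval_cases hcard : hfin.toFinset.card
    · simp at hsum; exact hq1 hsum.symm
    · exact hne (by omega)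
  obtain ⟨a, ha, b, hb, hab⟩ := Finset.one_lt_card.1 htwo
  have hsub : (↑hfin.toFinset : Set (L → ℂ)) ⊆ irrNontrivialOn H := fun χ hχ => (hfin.mem_toFinset.1 hχ).1
  have := coherent_of_equal_degree hfin.toFinset (fun χ hχ => (hsub hχ).1) ⟨a, ha, b, hb, hab⟩
    (fun φ hφ ψ hψ => by rw [hdeg φ (hfin.mem_toFinset.1 hφ), hdeg ψ (hfin.mem_toFinset.1 hψ)])
    (hτ.mono (zspanOn_mono hsub _)) (fun α hα => hτ1 α (zspanOn_mono hsub _ hα))
  rwa [hfin.coe_toFinset] at this

/-- A proper normal section between the commutator subgroup and a kernel of mixed order. -/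
theorem relIndex_commutator_ge (hH1 : H ≠ ⊥)
    (hC : ∀ h ∈ H, h ≠ 1 → Subgroup.centralizer ({h} : Set L) ≤ H) (hnil : Group.IsNilpotent H)
    (hmix : ¬ ∃ p m : ℕ, p.Prime ∧ Nat.card H = p ^ m) :
    (H.index + 1) ^ 2 ≤ ⁅H, H⁆.relIndex H := by
  classical
  haveI hDn : (⁅H, H⁆ : Subgroup L).Normal := Subgroup.commutator_normal _ _
  let π := QuotientGroup.mk' ⁅H, H⁆
  have hcH : ∀ a ∈ H, ∀ b ∈ H, Commute (π a) (π b) := fun a ha b hb => by
    have h1 : π ⁅a, b⁆ = 1 :=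
      (QuotientGroup.eq_one_iff _).2 (Subgroup.commutator_mem_commutator ha hb)
    rw [map_commutatorElement] at h1
    exact commutatorElement_eq_one_iff_commute.1 h1
  obtain ⟨p, hp, hpd⟩ := Nat.exists_prime_and_dvd (show Nat.card H ≠ 1 from fun h => hH1 (Subgroup.eq_bot_of_card_eq H h))
  obtain ⟨r, hr, hrd, hrp⟩ : ∃ r : ℕ, r.Prime ∧ r ∣ Nat.card H ∧ r ≠ p := by
    by_contra hcon
    push Not at hcon
    exact hmix ⟨p, (Nat.card H).primeFactorsList.length, hp,
      Nat.eq_prime_pow_of_unique_prime_dvd Nat.card_pos.ne' fun {d} hd hdd => hcon d hd hdd⟩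
  let M : Subgroup L :=
    { carrier := {x | x ∈ H ∧ ∃ k : ℕ, π x ^ p ^ k = 1}
      one_mem' := ⟨one_mem _, 0, by simp⟩
      mul_mem' := fun {a b} ha hb => ⟨mul_mem ha.1 hb.1, by
        obtain ⟨i, hi⟩ := ha.2
        obtain ⟨j, hj⟩ := hb.2
        refine ⟨i + j, ?_⟩
        rw [map_mul, (hcH a ha.1 b hb.1).mul_pow, pow_add, pow_mul, hi, one_pow, one_mul, ← pow_add,
          add_comm, pow_add, pow_mul, hj, one_pow]⟩
      inv_mem' := fun {a} ha => ⟨inv_mem ha.1, by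
        obtain ⟨i, hi⟩ := ha.2
        exact ⟨i, by rw [map_inv, inv_pow, hi, inv_one]⟩⟩ }
  haveI hMn : M.Normal := ⟨fun x hx g => ⟨hHn.conj_mem x hx.1 g, by
    obtain ⟨i, hi⟩ := hx.2
    exact ⟨i, by rw [map_mul, map_mul, map_inv, conj_pow, hi, mul_one, mul_inv_cancel]⟩⟩⟩
  have hKq : Nat.card (H.map π) = ⁅H, H⁆.relIndex H := by
    have e := Subgroup.relIndex_ker (K := H) π
    rw [QuotientGroup.ker_mk'] at e
    exact e.symm
  have hex : ∀ s : ℕ, s.Prime → s ∣ Nat.card H → ∃ x ∈ H, orderOf (π x) = s := by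
    intro s hs hsd
    haveI := Fact.mk hs
    have hd : s ∣ Nat.card (H.map π) := by
      rw [hKq]
      refine (dvd_index_commutator hnil hsd).trans (dvd_of_eq ?_)
      rw [Subgroup.relIndex, ← Subgroup.map_subtype_commutator H, Subgroup.subgroupOf,
        Subgroup.comap_map_eq_self_of_injective H.subtype_injective]
    obtain ⟨⟨y, hy⟩, ho⟩ := exists_prime_orderOf_dvd_card' (G := H.map π) s hd
    obtain ⟨x, hx, rfl⟩ := hy
    exact ⟨x, hx, (Subgroup.orderOf_coe (⟨π x, ⟨x, hx, rfl⟩⟩ : H.map π)).trans ho⟩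
  have hDM : ⁅H, H⁆ < M := by
    refine lt_of_le_of_ne (fun x hx => ⟨Subgroup.commutator_le_self H hx, 0, by
      rw [show π x = 1 from (QuotientGroup.eq_one_iff x).2 hx, one_pow]⟩) fun e => ?_
    obtain ⟨x, hx, ho⟩ := hex p hp hpd
    have hxM : x ∈ M := ⟨hx, 1, by rw [pow_one, ← ho, pow_orderOf_eq_one]⟩
    rw [← e] at hxM
    rw [show π x = 1 from (QuotientGroup.eq_one_iff x).2 hxM, orderOf_one] at ho
    exact hp.one_lt.ne ho
  have hMH : M < H := by
    refine lt_of_le_of_ne (fun x hx => hx.1) fun e => ?_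
    obtain ⟨x, hx, ho⟩ := hex r hr hrd
    rw [← e] at hx
    obtain ⟨k, hk⟩ := hx.2
    have h1 := hr.dvd_of_dvd_pow (ho ▸ orderOf_dvd_of_pow_eq_one hk)
    exact hrp ((Nat.prime_dvd_prime_iff_eq hr hp).1 h1)
  rw [← Subgroup.relIndex_mul_relIndex ⁅H, H⁆ M H hDM.le hMH.le, pow_two]
  exact Nat.mul_le_mul (index_add_one_le hC _ _ hDM hMH.le) (index_add_one_le hC _ _ hMH le_rfl)

set_option maxHeartbeats 1000000 in
/-- Feit's coherence theorem. -/
theorem feit_coherence (hH1 : H ≠ ⊥) (hH2 : H ≠ ⊤)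
    (hC : ∀ h ∈ H, h ≠ 1 → Subgroup.centralizer ({h} : Set L) ≤ H)
    {τ : (L → ℂ) → (G → ℂ)} (hτ : IsLinearIsometryOn (zspanOn (irrNontrivialOn H) {1}ᶜ) τ)
    (hτ1 : ∀ α ∈ zspanOn (irrNontrivialOn H) {1}ᶜ, τ α 1 = 0)
    (hgood : ((∀ a ∈ H, ∀ b ∈ H, a * b = b * a) ∧ Nat.card H ≠ H.index + 1) ∨
      4 * H.index ^ 2 + 1 < ⁅H, H⁆.relIndex H ∨ ¬ ∃ p m : ℕ, p.Prime ∧ Nat.card H = p ^ m) :
    IsCoherent (irrNontrivialOn H) {1}ᶜ τ := by
  classical
  have hnil := frobKernel_isNilpotent hH2 hC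
  haveI hDn : (⁅H, H⁆ : Subgroup L).Normal := Subgroup.commutator_normal _ _
  have he2 : 2 ≤ H.index := by
    have h1 : H.index ≠ 1 := fun h => hH2 (Subgroup.index_eq_one.1 h)
    have h0 : H.index ≠ 0 := Subgroup.index_ne_zero_of_finite
    omega
  rw [← irrBetween_bot]
  rcases hgood with ⟨hab, hne⟩ | hbig
  · have hbot : ⁅H, H⁆ = (⊥ : Subgroup L) := eq_bot_iff.2 (Subgroup.commutator_le.2 fun a ha b hb =>
      Subgroup.mem_bot.2 (commutatorElement_eq_one_iff_commute.2 (hab a ha b hb)))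
    have h := (coherent_irrBetween_commutator hH1 hC hτ hτ1 hnil
      (by rw [hbot, Subgroup.relIndex_bot_left]; exact hne)).2
    rwa [hbot] at h
  have hqne : ⁅H, H⁆.relIndex H ≠ H.index + 1 := by
    rcases hbig with h | h
    · nlinarith
    · have := relIndex_commutator_ge hH1 hC hnil h
      nlinarith
  obtain ⟨hdeg0, hcoh0⟩ := coherent_irrBetween_commutator hH1 hC hτ hτ1 hnil hqne
  obtain ⟨t, ht⟩ := exists_kernel_degree hC
  obtain ⟨ψ, hψ⟩ : (irrBetween H ⁅H, H⁆).Nonempty := by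
    obtain ⟨⟨α, ⟨hα, -⟩, hα0⟩, -⟩ := hcoh0
    by_contra h
    rw [Set.not_nonempty_iff_eq_empty] at h
    rw [h, zspan, Submodule.span_empty] at hα
    exact hα0 (by simpa using hα)
  have htψ : t ψ = 1 := by
    have h := hdeg0 ψ hψ
    rw [(ht ψ hψ.1).1, Nat.cast_inj] at h
    exact Nat.eq_of_mul_eq_mul_left (by omega : 0 < H.index) (h.trans (mul_one _).symm)
  -- descend through central sections
  suffices key : ∀ B : Subgroup L, B.Normal → B ≤ ⁅H, H⁆ → IsCoherent (irrBetween H B) {1}ᶜ τ from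
    key ⊥ inferInstance bot_le
  intro B
  induction B using WellFoundedGT.induction with
  | _ B ih =>
  intro hBn hBD
  rcases hBD.eq_or_lt with rfl | hlt
  · exact hcoh0
  have hBH : B ≤ H := hBD.trans (Subgroup.commutator_le_self H)
  let π := QuotientGroup.mk' B
  let Hq := H.map π
  haveI hHqn : Hq.Normal := hHn.map π (QuotientGroup.mk'_surjective B)
  let Z : Subgroup L := (Hq ⊓ Subgroup.centralizer (Hq : Set (L ⧸ B))).comap π
  haveI hZn : Z.Normal := inferInstance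
  have hZmem : ∀ x, x ∈ Z → x ∈ H ∧ ∀ y ∈ H, x * y * x⁻¹ * y⁻¹ ∈ B := by
    intro x hx
    obtain ⟨⟨h, hh, e⟩, hc⟩ := Subgroup.mem_comap.1 hx
    refine ⟨?_, fun y hy => (QuotientGroup.eq_one_iff _).1 ?_⟩
    · have : h⁻¹ * x ∈ B := QuotientGroup.eq.1 e
      simpa using mul_mem hh (hBH this)
    · show π (x * y * x⁻¹ * y⁻¹) = 1
      rw [map_mul, map_mul, map_mul, map_inv, map_inv, mul_inv_eq_one, mul_inv_eq_iff_eq_mul]
      exact (Subgroup.mem_centralizer_iff.1 hc (π y) ⟨y, hy, rfl⟩).symm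
  haveI hHqnil : Group.IsNilpotent Hq := by
    haveI := hnil
    exact Group.nilpotent_of_surjective (π.subgroupMap H) (π.subgroupMap_surjective H)
  -- a central section inside the commutator subgroup
  let Dq := (⁅H, H⁆ : Subgroup L).map π
  haveI hDqn : Dq.Normal := hDn.map π (QuotientGroup.mk'_surjective B)
  have hDq : Dq.subgroupOf Hq ≠ ⊥ := by
    intro h
    rw [Subgroup.subgroupOf_eq_bot, disjoint_iff,
      inf_eq_left.2 (Subgroup.map_mono (Subgroup.commutator_le_self H))] at h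
    refine hlt.not_ge fun x hx => (QuotientGroup.eq_one_iff x).1 ?_
    exact Subgroup.mem_bot.1 (h ▸ Subgroup.mem_map_of_mem π hx)
  have hlift : ∀ N : Subgroup Hq, N.Normal → N ≠ ⊥ →
      ∃ x ∈ Z, π x ≠ 1 ∧ (π x) ∈ N.map Hq.subtype := by
    intro N hN hN1
    haveI := hN
    obtain ⟨z, hz, hz1⟩ := (Subgroup.bot_or_exists_ne_one _).resolve_left
      (Cfsg.Lib.Solv.inf_center_ne_bot_of_isNilpotent hN1)
    obtain ⟨x, hxe⟩ := QuotientGroup.mk'_surjective B (z : L ⧸ B)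
    refine ⟨x, Subgroup.mem_comap.2 (show π x ∈ Hq ⊓ _ from hxe ▸ ⟨z.2, Subgroup.mem_centralizer_iff.2
      fun y hy => congrArg Subtype.val (Subgroup.mem_center_iff.1 hz.2 ⟨y, hy⟩)⟩), ?_,
      hxe ▸ Subgroup.mem_map_of_mem Hq.subtype hz.1⟩
    rw [hxe]
    exact fun e => hz1 (Subtype.ext e)
  haveI : (Dq.subgroupOf Hq).Normal := Subgroup.Normal.subgroupOf hDqn Hq
  obtain ⟨x, hxZ, hx1, hxD⟩ := hlift (Dq.subgroupOf Hq) inferInstance hDq
  rw [Subgroup.subgroupOf_map_subtype] at hxD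
  have hxD' : x ∈ (⁅H, H⁆ : Subgroup L) := by
    obtain ⟨d, hd, e⟩ := hxD.1
    have : d⁻¹ * x ∈ B := QuotientGroup.eq.1 e
    simpa using mul_mem hd (hBD this)
  obtain ⟨p, hp, hpo⟩ := Nat.exists_prime_and_dvd (show orderOf (π x) ≠ 1 from fun h => hx1 (orderOf_eq_one_iff.1 h))
  have hcomm : ∀ a ∈ Z, ∀ b ∈ Z, Commute (π a) (π b) := fun a ha b hb =>
    (Subgroup.mem_centralizer_iff.1 (Subgroup.mem_comap.1 ha).2 (π b) (Subgroup.mem_comap.1 hb).1).symm
  let A : Subgroup L :=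
    { carrier := {a | a ∈ Z ∧ a ∈ (⁅H, H⁆ : Subgroup L) ∧ π a ^ p = 1}
      one_mem' := ⟨one_mem _, one_mem _, by simp⟩
      mul_mem' := fun {a b} ha hb => ⟨mul_mem ha.1 hb.1, mul_mem ha.2.1 hb.2.1, by
        rw [map_mul, (hcomm a ha.1 b hb.1).mul_pow, ha.2.2, hb.2.2, one_mul]⟩
      inv_mem' := fun {a} ha => ⟨inv_mem ha.1, inv_mem ha.2.1, by rw [map_inv, inv_pow, ha.2.2, inv_one]⟩ }
  haveI hAn : A.Normal := ⟨fun a ha g => ⟨hZn.conj_mem a ha.1 g, hDn.conj_mem a ha.2.1 g,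
    by rw [map_mul, map_mul, map_inv, conj_pow, ha.2.2, mul_one, mul_inv_cancel]⟩⟩
  have hBA : B < A := by
    refine lt_of_le_of_ne (fun b hb => ?_) fun e => ?_
    · have h1 : π b = 1 := (QuotientGroup.eq_one_iff b).2 hb
      exact ⟨Subgroup.mem_comap.2 (h1 ▸ one_mem _), hBD hb, by rw [h1, one_pow]⟩
    · have hmem : x ^ (orderOf (π x) / p) ∈ A := ⟨pow_mem hxZ _, pow_mem hxD' _, by
        rw [map_pow, ← pow_mul, Nat.div_mul_cancel hpo, pow_orderOf_eq_one]⟩
      rw [← e] at hmem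
      have h1 : π (x ^ (orderOf (π x) / p)) = 1 := (QuotientGroup.eq_one_iff _).2 hmem
      rw [map_pow] at h1
      have h2 := Nat.le_of_dvd (Nat.div_pos (Nat.le_of_dvd (orderOf_pos _) hpo) hp.pos) (orderOf_dvd_of_pow_eq_one h1)
      exact absurd h2 (not_le.2 (Nat.div_lt_self (orderOf_pos _) hp.one_lt))
  have hAD : A ≤ ⁅H, H⁆ := fun a ha => ha.2.1
  have hAH : A ≤ H := hAD.trans (Subgroup.commutator_le_self H)
  have hAZ : A ≤ Z := fun a ha => ha.1
  have hZH : Z ≤ H := fun z hz => (hZmem z hz).1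
  have hQk : A.relIndex Z * Z.relIndex H = A.relIndex H := Subgroup.relIndex_mul_relIndex A Z H hAZ hZH
  have hqQ : ⁅H, H⁆.relIndex H ≤ A.relIndex H := Nat.le_of_dvd
    (Nat.pos_of_ne_zero (relIndex_ne_zero_fin _ _)) (Subgroup.relIndex_dvd_of_le_left H hAD)
  have hm0 : A.relIndex Z ≠ 0 := relIndex_ne_zero_fin _ _
  have hk0 : Z.relIndex H ≠ 0 := relIndex_ne_zero_fin _ _
  have hkey : 4 * H.index ^ 2 * Z.relIndex H < (A.relIndex H - 1) ^ 2 := by
    rcases hbig with hb | hb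
    · have h1 : Z.relIndex H ≤ A.relIndex H := Nat.le_of_dvd
        (Nat.pos_of_ne_zero (relIndex_ne_zero_fin _ _)) (hQk ▸ dvd_mul_left _ _)
      generalize A.relIndex H = Q at *
      generalize Z.relIndex H = k at *
      generalize H.index = e at *
      obtain ⟨Q', rfl⟩ : ∃ Q', Q = Q' + 1 := ⟨Q - 1, by omega⟩
      rw [Nat.add_sub_cancel]
      nlinarith
    · -- a second prime gives room between `A` and `Z`
      obtain ⟨r, hr, hrd, hrp⟩ : ∃ r : ℕ, r.Prime ∧ r ∣ Nat.card H ∧ r ≠ p := by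
        by_contra hcon
        push Not at hcon
        exact hb ⟨p, (Nat.card H).primeFactorsList.length, hp,
          Nat.eq_prime_pow_of_unique_prime_dvd Nat.card_pos.ne' fun {d} hd hdd => hcon d hd hdd⟩
      have hrq : r ∣ Nat.card Hq := by
        have e : Nat.card Hq = B.relIndex H := by
          have h := Subgroup.relIndex_ker (K := H) π
          rw [QuotientGroup.ker_mk'] at h
          exact h.symm
        rw [e]
        haveI := Fact.mk hr
        refine ((dvd_index_commutator hnil hrd).trans ?_).trans (Subgroup.relIndex_dvd_of_le_left H hBD)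
        rw [Subgroup.relIndex, ← Subgroup.map_subtype_commutator H, Subgroup.subgroupOf,
          Subgroup.comap_map_eq_self_of_injective H.subtype_injective]
      haveI := hHqnil
      haveI := Fact.mk hr
      obtain ⟨R⟩ : Nonempty (Sylow r Hq) := ⟨default⟩
      have hRn : (R : Subgroup Hq).Normal := inferInstance
      have hR1 : (R : Subgroup Hq) ≠ ⊥ := R.ne_bot_of_dvd_card hrq
      obtain ⟨z, hzZ, hz1, hzR⟩ := hlift _ hRn hR1
      have hlt' : A < Z := by
        refine lt_of_le_of_ne hAZ fun e => ?_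
        have hzA : z ∈ A := e ▸ hzZ
        obtain ⟨w, hw, hwe⟩ := hzR
        obtain ⟨i, hi⟩ := IsPGroup.iff_orderOf.1 R.2 ⟨w, hw⟩
        rw [Subgroup.orderOf_mk, ← orderOf_injective Hq.subtype Hq.subtype_injective, hwe] at hi
        rcases (Nat.dvd_prime hp).1 (orderOf_dvd_of_pow_eq_one hzA.2.2) with h | h
        · exact hz1 (orderOf_eq_one_iff.1 h)
        · rw [hi] at h
          exact hrp ((Nat.prime_dvd_prime_iff_eq hp hr).1 (hp.dvd_of_dvd_pow (dvd_of_eq h.symm))).symm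
      have hm := index_add_one_le hC A Z hlt' hZH
      have hk1 : Z.relIndex H ≠ 1 := fun h => by
        have hle := Subgroup.relIndex_eq_one.1 h
        refine hlt.not_ge (Subgroup.commutator_le.2 fun a ha b hb => ?_)
        exact (hZmem a (hle ha)).2 b hb
      have hk := index_dvd_section hC Z H hZH le_rfl
      have hk2 := Nat.le_of_dvd (by omega) hk
      have he3 : 3 ≤ H.index := by
        by_contra hlt3
        have hcomm' := frobKernel_comm_of_even hC ⟨1, by omega⟩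
        have hbot : ⁅H, H⁆ = (⊥ : Subgroup L) := eq_bot_iff.2 (Subgroup.commutator_le.2 fun a ha b hb =>
          Subgroup.mem_bot.2 (commutatorElement_eq_one_iff_commute.2 (hcomm' a ha b hb)))
        exact not_lt_bot (hbot ▸ hlt)
      rw [← hQk]
      generalize A.relIndex Z = m at *
      generalize Z.relIndex H = k at *
      generalize H.index = e at *
      obtain ⟨k', rfl⟩ : ∃ k', k = k' + 4 := ⟨k - 4, by omega⟩
      obtain ⟨m', rfl⟩ : ∃ m', m = m' + (e + 1) := ⟨m - (e + 1), by omega⟩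
      have h2 : (e * (k' + 4)) ^ 2 < ((m' + (e + 1)) * (k' + 4) - 1) ^ 2 := by
        apply Nat.pow_lt_pow_left _ two_ne_zero
        apply Nat.lt_sub_of_add_lt
        nlinarith
      nlinarith
  -- extend
  have hA := ih A hBA hAn hAD
  have hfA := irrBetween_finite H A
  have hfB := irrBetween_finite H B
  have hS : ↑hfB.toFinset ⊆ irrNontrivialOn H := fun χ hχ => (hfB.mem_toFinset.1 hχ).1
  have hd : ∀ ξ ∈ irrNontrivialOn H, ξ 1 = ((H.index * t ξ : ℕ) : ℂ) := fun ξ hξ => (ht ξ hξ).1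
  have hsum := sum_sq_irrBetween A hAH hfA.toFinset (by simp) t
    (fun χ hχ => hd χ (hfA.mem_toFinset.1 hχ).1)
  have := coherent_extend_bound (S := irrNontrivialOn H) (fun ξ hξ => hξ.1) hτ hτ1 (fun ξ => H.index * t ξ) hd
    hfA.toFinset hfB.toFinset (fun χ hχ => hfB.mem_toFinset.2 (irrBetween_anti H hBA.le (hfA.mem_toFinset.1 hχ)))
    hS (by rwa [hfA.coe_toFinset]) (ψ := ψ) (hfA.mem_toFinset.2 (irrBetween_anti H hAD hψ))
    (fun χ _ => by simp [htψ]) (fun χ hχ _ => by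
      have hb2 := irrBetween_sq_le hC B Z hBH hZH (fun z hz => (hZmem z hz).2) (hfB.mem_toFinset.1 hχ)
        (hd χ (hS hχ))
      simp only [htψ, mul_pow, ← Finset.mul_sum]
      have h1 : H.index * ∑ ξ ∈ hfA.toFinset, t ξ ^ 2 = A.relIndex H - 1 := by omega
      have h2 : (2 * H.index * t χ) ^ 2 < (A.relIndex H - 1) ^ 2 := lt_of_le_of_lt (by
        rw [mul_pow, mul_pow, show (2 : ℕ) ^ 2 = 4 by rfl]
        exact Nat.mul_le_mul_left _ hb2) hkey
      have h3 : 2 * H.index * t χ < A.relIndex H - 1 := lt_of_pow_lt_pow_left₀ 2 (Nat.zero_le _) h2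
      calc 2 * (H.index * 1) * (H.index * t χ) = H.index * (2 * H.index * t χ) := by ring
        _ < H.index * (A.relIndex H - 1) := Nat.mul_lt_mul_of_pos_left h3 (by omega)
        _ = H.index ^ 2 * ∑ ξ ∈ hfA.toFinset, t ξ ^ 2 := by rw [← h1]; ring)
  rwa [hfB.coe_toFinset] at this

end Cfsg.Lib.Char
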