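import Cfsg.Agent.Lib.Char.Dade

/-!
# Signed irreducible characters

Virtual characters of norm one, the four-signed-irreducibles lemma, and the isometry lemma behind
exceptional characters.
-/

set_option autoImplicit false
set_option linter.unusedSectionVars false

namespace Cfsg.Lib.Char

open Cfsg
open scoped ComplexConjugate

universe u

variable {G : Type u} [Group G] [Fintype G]

/-- A virtual character of norm one is a signed irreducible character. -/
theorem exists_signed_irr_of_norm_one {f : G → ℂ} (hf : IsGeneralizedCharacter G f)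
    (h : classInner f f = 1) :
    ∃ (ε : ℤ) (μ : IrrCharacter G), (ε = 1 ∨ ε = -1) ∧ f = (ε : ℂ) • (μ : G → ℂ) := by
  classical
  have hcf := (isGeneralizedCharacter_iff.1 hf).1
  choose n hn using fun χ : IrrCharacter G => (isGeneralizedCharacter_iff.1 hf).2 χ χ.2
  have hsum : ∑ χ, n χ * n χ = 1 := by
    rw [classInner_eq_sum hcf] at h
    simp only [hn, map_intCast] at h
    exact_mod_cast h
  obtain ⟨μ, -, hμ⟩ := Finset.exists_ne_zero_of_sum_ne_zero (hsum.trans_ne one_ne_zero)
  have hle : ∀ χ, n χ * n χ ≤ 1 := fun χ =>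
    hsum ▸ Finset.single_le_sum (f := fun y => n y * n y) (fun _ _ => mul_self_nonneg _)
      (Finset.mem_univ χ)
  have hnμ : n μ * n μ = 1 := by
    have h1 := hle μ
    have h2 : 0 < n μ * n μ := mul_self_pos.mpr (left_ne_zero_of_mul hμ)
    omega
  have h0 : ∀ χ, χ ≠ μ → n χ = 0 := by
    intro χ hne
    have hsplit := Finset.sum_erase_add Finset.univ (fun χ => n χ * n χ) (Finset.mem_univ μ)
    have : n χ * n χ ≤ ∑ y ∈ Finset.univ.erase μ, n y * n y :=
      Finset.single_le_sum (f := fun y => n y * n y) (fun _ _ => mul_self_nonneg _)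
        (by simp [hne])
    have h3 := mul_self_nonneg (n χ)
    exact mul_self_eq_zero.mp (by omega)
  refine ⟨n μ, μ, ?_, ?_⟩
  · rcases mul_self_eq_one_iff.mp hnμ with h | h <;> simp [h]
  · conv_lhs => rw [eq_sum_classInner hcf]
    rw [Finset.sum_eq_single μ (fun χ _ hne => by simp [hn, h0 χ hne]) (by simp), hn]

/-- A signed irreducible character is a real nonzero multiple of an irreducible one. -/
theorem exists_real_mul_irr {α : G → ℂ} (h : IsIrrCharacter G α ∨ IsIrrCharacter G (-α)) :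
    ∃ (r : ℝ) (μ : G → ℂ), IsIrrCharacter G μ ∧ r ≠ 0 ∧ α = (r : ℂ) • μ := by
  rcases h with h | h
  · exact ⟨1, α, h, one_ne_zero, by simp⟩
  · exact ⟨-1, -α, h, by norm_num, by simp⟩

theorem exists_real_mul_irr_of_norm_one {f : G → ℂ} (hf : IsGeneralizedCharacter G f)
    (h : classInner f f = 1) :
    ∃ (r : ℝ) (μ : G → ℂ), IsIrrCharacter G μ ∧ r ≠ 0 ∧ f = (r : ℂ) • μ := by
  obtain ⟨ε, μ, hε, e⟩ := exists_signed_irr_of_norm_one hf h
  refine ⟨(ε : ℝ), μ, μ.2, ?_, by rw [e]; push_cast; rfl⟩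
  rcases hε with h | h <;> simp [h]

/-- Two combinations of pairs of irreducible characters vanishing at `1` are orthogonal only if the
pairs are disjoint. -/
theorem irr_pairs_disjoint {μ ν γ δ : G → ℂ} (hμ : IsIrrCharacter G μ) (hν : IsIrrCharacter G ν)
    (hγ : IsIrrCharacter G γ) (hδ : IsIrrCharacter G δ) (hμν : μ ≠ ν) (hγδ : γ ≠ δ) {p q u v : ℝ}
    (hp : p ≠ 0) (hq : q ≠ 0) (hu : u ≠ 0) (hv : v ≠ 0)
    (h1 : (p : ℂ) * μ 1 = (q : ℂ) * ν 1) (h2 : (u : ℂ) * γ 1 = (v : ℂ) * δ 1)
    (h : classInner ((p : ℂ) • μ - (q : ℂ) • ν) ((u : ℂ) • γ - (v : ℂ) • δ) = 0) :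
    μ ≠ γ ∧ μ ≠ δ ∧ ν ≠ γ ∧ ν ≠ δ := by
  classical
  obtain ⟨a, ha0, ha⟩ := hμ.exists_degree
  obtain ⟨b, hb0, hb⟩ := hν.exists_degree
  simp only [classInner_sub_left, classInner_sub_right, classInner_smul_left,
    classInner_smul_right, Complex.conj_ofReal, classInner_irr hμ hγ, classInner_irr hμ hδ,
    classInner_irr hν hγ, classInner_irr hν hδ] at h
  rw [ha, hb] at h1
  have hab : p * (a : ℝ) = q * (b : ℝ) := by exact_mod_cast h1
  have haR : (0 : ℝ) < a := Nat.cast_pos.mpr ha0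
  have hbR : (0 : ℝ) < b := Nat.cast_pos.mpr hb0
  by_cases e1 : μ = γ
  · exfalso
    subst e1
    by_cases e2 : ν = δ
    · subst e2
      rw [if_pos rfl, if_pos rfl, if_neg hμν, if_neg (Ne.symm hμν)] at h
      have h' : p * u + q * v = 0 := by
        have : ((p * u + q * v : ℝ) : ℂ) = 0 := by push_cast; linear_combination h
        exact_mod_cast this
      rw [ha, hb] at h2
      have huv : u * (a : ℝ) = v * (b : ℝ) := by exact_mod_cast h2
      have h3 : q * v * (b * b + a * a) = 0 := by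
        linear_combination (a * a) * h' - (a * u) * hab - (q * b) * huv
      rcases mul_eq_zero.mp h3 with h4 | h4
      · exact mul_ne_zero hq hv h4
      · nlinarith
    · rw [if_pos rfl, if_neg hγδ, if_neg (Ne.symm hμν), if_neg e2] at h
      simp only [mul_one, mul_zero, sub_zero, mul_eq_zero, Complex.ofReal_eq_zero] at h
      tauto
  by_cases e2 : μ = δ
  · exfalso
    subst e2
    by_cases e3 : ν = γ
    · subst e3
      rw [if_neg hμν, if_pos rfl, if_pos rfl, if_neg (Ne.symm hμν)] at h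
      have h' : p * v + q * u = 0 := by
        have : ((p * v + q * u : ℝ) : ℂ) = 0 := by push_cast; linear_combination -h
        exact_mod_cast this
      rw [ha, hb] at h2
      have huv : u * (b : ℝ) = v * (a : ℝ) := by exact_mod_cast h2
      have h3 : q * u * (b * b + a * a) = 0 := by
        linear_combination (a * a) * h' - (a * v) * hab + (q * b) * huv
      rcases mul_eq_zero.mp h3 with h4 | h4
      · exact mul_ne_zero hq hu h4
      · nlinarith
    · rw [if_neg e1, if_pos rfl, if_neg e3, if_neg (Ne.symm hμν)] at h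
      simp only [mul_one, mul_zero, sub_zero, zero_sub, neg_eq_zero, mul_eq_zero,
        Complex.ofReal_eq_zero] at h
      tauto
  refine ⟨e1, e2, ?_, ?_⟩
  · intro e3
    subst e3
    rw [if_neg e1, if_neg e2, if_pos rfl, if_neg hγδ] at h
    simp only [mul_one, mul_zero, sub_zero, zero_sub, neg_eq_zero, mul_eq_zero,
      Complex.ofReal_eq_zero] at h
    tauto
  · intro e4
    subst e4
    rw [if_neg e1, if_neg e2, if_neg hγδ.symm, if_pos rfl] at h
    simp only [mul_one, mul_zero, zero_sub, sub_self, neg_eq_zero, mul_eq_zero,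
      Complex.ofReal_eq_zero] at h
    tauto

theorem classInner_real_mul_irr_eq_zero {μ ν : G → ℂ} (hμ : IsIrrCharacter G μ)
    (hν : IsIrrCharacter G ν) (r s : ℂ) (h : μ ≠ ν) : classInner (r • μ) (s • ν) = 0 := by
  rw [classInner_smul_left, classInner_smul_right, classInner_irr_ne hμ hν h, mul_zero, mul_zero]

theorem ne_of_classInner_real_mul {μ ν : G → ℂ} (hμ : IsIrrCharacter G μ)
    {r s : ℝ} (hr : r ≠ 0) (hs : s ≠ 0)
    (h : classInner ((r : ℂ) • μ) ((s : ℂ) • ν) = 0) : μ ≠ ν := by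
  rintro rfl
  rw [classInner_smul_left, classInner_smul_right, classInner_irr_self hμ, Complex.conj_ofReal,
    mul_one, ← Complex.ofReal_mul, Complex.ofReal_eq_zero] at h
  exact mul_ne_zero hr hs h

/-- The isometry lemma behind exceptional characters. -/
theorem exists_exceptional_irr {ι : Type*} (i₀ : ι) (τ : ι → G → ℂ) (h0 : τ i₀ = 0)
    (hgen : ∀ i, IsGeneralizedCharacter G (τ i)) (hone : ∀ i, τ i 1 = 0)
    (hdiag : ∀ i, i ≠ i₀ → classInner (τ i) (τ i) = 2)
    (hoff : ∀ i j, i ≠ i₀ → j ≠ i₀ → i ≠ j → classInner (τ i) (τ j) = 1) :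
    ∃ ε : ℂ, (ε = 1 ∨ ε = -1) ∧ ∃ μ : ι → (G → ℂ), (∀ i, IsIrrCharacter G (μ i)) ∧
      Function.Injective μ ∧ ∀ i, τ i = ε • (μ i - μ i₀) := by
  classical
  have h : ∀ i : {i // i ≠ i₀}, ∃ μ ν : IrrCharacter G, μ ≠ ν ∧
      τ i = (μ : G → ℂ) - (ν : G → ℂ) := fun i =>
    exists_irr_sub_of_norm_two (hgen i) (hone i) (hdiag i i.2)
  choose μ ν hne he using h
  have hne' : ∀ i, (μ i : G → ℂ) ≠ ν i := fun i e => hne i (Subtype.ext e)
  have key : ∀ i j, i ≠ j →
      ((μ i : G → ℂ) = μ j ∧ (ν i : G → ℂ) ≠ ν j) ∨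
      ((μ i : G → ℂ) ≠ μ j ∧ (ν i : G → ℂ) = ν j) := by
    intro i j hij
    have h1 := hoff i j i.2 j.2 (fun e => hij (Subtype.ext e))
    rw [he i, he j] at h1
    simp only [classInner_sub_left, classInner_sub_right, classInner_irr (μ i).2 (μ j).2,
      classInner_irr (μ i).2 (ν j).2, classInner_irr (ν i).2 (μ j).2,
      classInner_irr (ν i).2 (ν j).2] at h1
    by_cases a : (μ i : G → ℂ) = μ j <;> by_cases d : (ν i : G → ℂ) = ν j
    · exfalso
      rw [if_pos a, if_pos d, if_neg (fun e => hne' j (a.symm.trans e)),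
        if_neg (fun e => hne' i (a.trans e.symm))] at h1
      norm_num at h1
    · exact Or.inl ⟨a, d⟩
    · exact Or.inr ⟨a, d⟩
    · exfalso
      rw [if_neg a, if_neg d] at h1
      split_ifs at h1 <;> norm_num at h1
  by_cases hA : ∀ i j, (μ i : G → ℂ) = μ j
  · -- a common first member
    obtain ⟨m, hm⟩ : ∃ m : IrrCharacter G, ∀ i, (μ i : G → ℂ) = m := by
      by_cases hex : ∃ i : {i // i ≠ i₀}, True
      · obtain ⟨i, -⟩ := hex
        exact ⟨μ i, fun j => hA j i⟩
      · exact ⟨⟨fun _ => 1, isIrrCharacter_one⟩, fun j => absurd ⟨j, trivial⟩ hex⟩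
    refine ⟨-1, Or.inr rfl, fun i => if h : i = i₀ then (m : G → ℂ) else ν ⟨i, h⟩, ?_, ?_, ?_⟩
    · intro i
      beta_reduce
      split_ifs with h
      exacts [m.2, (ν _).2]
    · intro i j e
      beta_reduce at e
      split_ifs at e with hi hj hj
      · rw [hi, hj]
      · exact absurd e ((hm ⟨j, hj⟩) ▸ hne' ⟨j, hj⟩)
      · exact absurd e.symm ((hm ⟨i, hi⟩) ▸ hne' ⟨i, hi⟩)
      · by_contra hij
        have hij' : (⟨i, hi⟩ : {i // i ≠ i₀}) ≠ ⟨j, hj⟩ := fun e' => hij (congrArg Subtype.val e')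
        rcases key _ _ hij' with ⟨-, d⟩ | ⟨a, -⟩
        · exact d e
        · exact a (hA _ _)
    · intro i
      by_cases hi : i = i₀
      · simp [hi, h0]
      · beta_reduce; rw [dif_neg hi, dif_pos rfl, he ⟨i, hi⟩, hm ⟨i, hi⟩]
        simp [neg_sub]
  · push Not at hA
    obtain ⟨a, b, hab⟩ := hA
    have hνab : (ν a : G → ℂ) = ν b :=
      ((key a b fun e => hab (e ▸ rfl)).resolve_left fun h => hab h.1).2
    have hB : ∀ k, (ν k : G → ℂ) = ν a := by
      intro k
      by_contra hk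
      have hka : k ≠ a := fun e => hk (e ▸ rfl)
      have hkb : k ≠ b := fun e => hk (e ▸ hνab.symm)
      have h1 := ((key k a hka).resolve_right fun h => hk h.2).1
      have h2 := ((key k b hkb).resolve_right fun h => hk (h.2.trans hνab.symm)).1
      exact hab (h1.symm.trans h2)
    refine ⟨1, Or.inl rfl, fun i => if h : i = i₀ then (ν a : G → ℂ) else μ ⟨i, h⟩, ?_, ?_, ?_⟩
    · intro i
      beta_reduce
      split_ifs with h
      exacts [(ν a).2, (μ _).2]
    · intro i j e
      beta_reduce at e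
      split_ifs at e with hi hj hj
      · rw [hi, hj]
      · exact absurd e ((hB ⟨j, hj⟩) ▸ (hne' ⟨j, hj⟩).symm)
      · exact absurd e ((hB ⟨i, hi⟩) ▸ hne' ⟨i, hi⟩)
      · by_contra hij
        have hij' : (⟨i, hi⟩ : {i // i ≠ i₀}) ≠ ⟨j, hj⟩ := fun e' => hij (congrArg Subtype.val e')
        rcases key _ _ hij' with ⟨-, d⟩ | ⟨d, -⟩
        · exact d ((hB _).trans (hB _).symm)
        · exact d e
    · intro i
      by_cases hi : i = i₀
      · simp [hi, h0]
      · beta_reduce; rw [dif_neg hi, dif_pos rfl, he ⟨i, hi⟩, hB ⟨i, hi⟩, one_smul]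

end Cfsg.Lib.Char
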