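import Mathlib
import Cfsg.Agent.Lib.Char.CoherenceFeit
import Cfsg.Agent.Lib.Char.PermLemma
import Cfsg.Agent.Lib.Char.TI
import Cfsg.Agent.S1514
import Cfsg.Agent.S1523

/-!
# Sibley's coherence theorem

The characters nontrivial on a trivial-intersection nilpotent kernel with odd normalizer are
coherent for induction.
-/

set_option autoImplicit false
set_option linter.unusedSectionVars false
set_option linter.style.haveILetI false

namespace Cfsg.Lib.Char

open Cfsg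
open scoped ComplexConjugate commutatorElement

universe u v

section Kernel

variable {L : Type u} [Group L] [Fintype L] {H : Subgroup L} [hHn : H.Normal]

/-- Over a Frobenius kernel the nontrivial characters are the induced ones. -/
theorem irrNontrivialOn_eq_induced (hC : ∀ h ∈ H, h ≠ 1 → Subgroup.centralizer ({h} : Set L) ≤ H) :
    irrNontrivialOn H = inducedIrrAbove H ⊥ := by
  haveI := Fintype.ofFinite H
  ext χ
  constructor
  · intro hχ
    obtain ⟨θ, hθ, rfl⟩ := Cfsg.Agent.S1528.result H hC χ hχ.1 hχ.2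
    refine ⟨θ, hθ, fun e => ?_, fun a ha => congrArg θ (Subtype.ext (by simpa using ha) : a = 1), rfl⟩
    obtain ⟨-, h, hh, hne⟩ := hχ
    apply hne
    rw [e, indFun_normal_apply H _ (⟨h, hh⟩ : H), indFun_apply_one]
    simp only [Finset.sum_const, Finset.card_univ, nsmul_eq_mul, mul_one]
    rw [← Nat.card_eq_fintype_card, card_inv_mul_card]
  · rintro ⟨θ, hθ, hne, -, rfl⟩
    have hirr := isIrrCharacter_indFun_of_inertia H hθ (inertia_eq_of_centralizer_le H hC hθ hne)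
    refine ⟨hirr, ?_⟩
    by_contra hno
    push Not at hno
    apply hne
    have hres : classInner (fun x : H => indFun H θ x) θ ≠ 0 := by
      rw [← classInner_conj_symm]
      intro h
      rw [map_eq_zero, ← classInner_indFun H θ (isClassFunction_indFun H θ), classInner_irr_self hirr] at h
      exact one_ne_zero h
    have hconst : ∀ a : H, θ a = θ 1 := fun a => Block.constituent_apply_eq
      ((isCharacter_indFun H hθ.isCharacter).comp H.subtype) hθ hres (hno a a.2)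
    have hn := classInner_irr_self hθ
    have h1 := hθ.isCharacter.exists_degree
    obtain ⟨n, hn1⟩ := h1
    have hc : θ = (n : ℂ) • fun _ => (1 : ℂ) := by
      funext a; rw [hconst a, hn1]; simp
    rw [hc, classInner_smul_left, classInner_smul_right, classInner_irr_self isIrrCharacter_one,
      Complex.conj_natCast, mul_one, ← Nat.cast_mul, Nat.cast_eq_one] at hn
    rw [hc, Nat.eq_one_of_mul_eq_one_left hn, Nat.cast_one, one_smul]

theorem irrNontrivialOn_conjFun {χ : L → ℂ} (hχ : χ ∈ irrNontrivialOn H) : conjFun χ ∈ irrNontrivialOn H := by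
  obtain ⟨hi, h, hh, hne⟩ := hχ
  exact ⟨isIrrCharacter_conjFn hi, h, hh, fun e => hne (RingHom.injective (starRingEnd ℂ) e)⟩

theorem irrBetween_conjFun (B : Subgroup L) {χ : L → ℂ} (hχ : χ ∈ irrBetween H B) :
    conjFun χ ∈ irrBetween H B :=
  ⟨irrNontrivialOn_conjFun hχ.1, fun b hb => congrArg (starRingEnd ℂ) (hχ.2 b hb)⟩

theorem irrNontrivialOn_conjFun_ne (hodd : Odd (Nat.card L)) {χ : L → ℂ} (hχ : χ ∈ irrNontrivialOn H) :
    conjFun χ ≠ χ := by
  intro e
  obtain ⟨hi, h, hh, hne⟩ := hχ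
  have h1 := real_irr_eq_one hodd ⟨χ, hi⟩ fun g => Complex.conj_eq_iff_im.1 (congrFun e g)
  exact hne ((congrFun h1 h).trans (congrFun h1 1).symm)

/-- Outside the commutator subgroup only the kernel centralizes modulo the commutator subgroup. -/
theorem mem_kernel_of_commutator_mem (hC : ∀ h ∈ H, h ≠ 1 → Subgroup.centralizer ({h} : Set L) ≤ H)
    {k : L} (hk : k ∈ H) (hkD : k ∉ (⁅H, H⁆ : Subgroup L)) {x : L}
    (hx : x * k * x⁻¹ * k⁻¹ ∈ (⁅H, H⁆ : Subgroup L)) : x ∈ H := by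
  classical
  by_contra hxH
  haveI hDn : (⁅H, H⁆ : Subgroup L).Normal := Subgroup.commutator_normal _ _
  let π := QuotientGroup.mk' (⁅H, H⁆ : Subgroup L)
  -- a power of prime order, off `H`
  obtain ⟨r, hr, hro, hrH⟩ : ∃ r : ℕ, r.Prime ∧ r ∣ orderOf x ∧ ¬ r ∣ Nat.card H := by
    by_contra hcon
    push Not at hcon
    apply hxH
    have h1 : (orderOf x).Coprime H.index := Nat.coprime_of_dvd fun s hs hso hse => hs.not_dvd_one (by
      have := Nat.dvd_gcd (hcon s hs hso) hse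
      rwa [frobKernel_coprime hC] at this)
    have h2 : orderOf (QuotientGroup.mk' H x) = 1 := Nat.Coprime.eq_one_of_dvd
      (Nat.Coprime.coprime_dvd_left (orderOf_map_dvd _ x) h1) (orderOf_dvd_natCard _ |>.trans
        (dvd_of_eq H.index_eq_card.symm))
    exact (QuotientGroup.eq_one_iff x).1 (orderOf_eq_one_iff.1 h2)
  haveI := Fact.mk hr
  set y := x ^ (orderOf x / r) with hy
  have hyo : orderOf y = r := orderOf_pow_orderOf_div (orderOf_pos x).ne' hro
  have hyk : Commute (π y) (π k) := by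
    rw [hy, map_pow]
    refine Commute.pow_left ?_ _
    have h1 : π (x * k * x⁻¹ * k⁻¹) = 1 := (QuotientGroup.eq_one_iff _).2 hx
    rw [map_mul, map_mul, map_mul, map_inv, map_inv, mul_inv_eq_one, mul_inv_eq_iff_eq_mul] at h1
    exact h1
  let Co := {h : L // π h = π k}
  have hCmem : ∀ h : Co, h.1 ∈ H := fun h => by
    have : k⁻¹ * h.1 ∈ (⁅H, H⁆ : Subgroup L) := QuotientGroup.eq.1 h.2.symm
    simpa using mul_mem hk (Subgroup.commutator_le_self H this)
  letI : MulAction (Subgroup.zpowers y) Co :=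
    { smul := fun g h => ⟨(g : L) * h.1 * (g : L)⁻¹, by
        obtain ⟨i, hi⟩ := Subgroup.mem_zpowers_iff.1 g.2
        rw [map_mul, map_mul, map_inv, h.2, ← hi, map_zpow, (hyk.zpow_left i).eq, mul_inv_cancel_right]⟩
      one_smul := fun h => Subtype.ext (show ((1 : Subgroup.zpowers y) : L) * h.1 * _ = h.1 by simp)
      mul_smul := fun a b h => Subtype.ext (show ((a * b : Subgroup.zpowers y) : L) * h.1 * _ =
        (a : L) * ((b : L) * h.1 * (b : L)⁻¹) * (a : L)⁻¹ by simp [mul_assoc]) }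
  have hcard : Nat.card Co = Nat.card (⁅H, H⁆ : Subgroup L) := Nat.card_congr
    { toFun := fun h => ⟨k⁻¹ * h.1, QuotientGroup.eq.1 h.2.symm⟩
      invFun := fun d => ⟨k * d.1, by
        rw [map_mul, show π d.1 = 1 from (QuotientGroup.eq_one_iff _).2 d.2, mul_one]⟩
      left_inv := fun h => Subtype.ext (mul_inv_cancel_left _ _)
      right_inv := fun d => Subtype.ext (inv_mul_cancel_left _ _) }
  have hp : IsPGroup r (Subgroup.zpowers y) := IsPGroup.of_card (n := 1) (by rw [Nat.card_zpowers, hyo, pow_one])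
  haveI : Finite Co := Subtype.finite
  obtain ⟨h, hh⟩ := hp.nonempty_fixed_point_of_prime_not_dvd_card Co fun hd => hrH (by
    rw [hcard] at hd
    exact hd.trans (Subgroup.card_dvd_of_le (Subgroup.commutator_le_self H)))
  have h1 : y * h.1 * y⁻¹ = h.1 := congrArg Subtype.val (hh ⟨y, Subgroup.mem_zpowers y⟩)
  have hne : h.1 ≠ 1 := fun e => hkD ((QuotientGroup.eq_one_iff k).1 (show π k = 1 by rw [← h.2, e, map_one]))
  have hyH : y ∈ H := hC _ (hCmem h) hne (Subgroup.mem_centralizer_singleton_iff.2 (mul_inv_eq_iff_eq_mul.1 h1))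
  exact hrH (hyo ▸ Subgroup.orderOf_dvd_natCard H hyH)

end Kernel

section TI

variable {G : Type v} [Group G] [Fintype G] {H N : Subgroup G} [Fintype N]

/-- Induction from the normalizer of a trivial-intersection kernel is an isometry on the combinations
vanishing at `1`. -/
theorem isometry_indFun_TI [(H.subgroupOf N).Normal]
    (hTI : ∀ g : G, g ∉ N → ∀ k ∈ H, g * k * g⁻¹ ∈ H → k = 1)
    (hC : ∀ h ∈ H.subgroupOf N, h ≠ 1 → Subgroup.centralizer ({h} : Set N) ≤ H.subgroupOf N) :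
    IsLinearIsometryOn (zspanOn (irrNontrivialOn (H.subgroupOf N)) {1}ᶜ) (fun α : N → ℂ => indFun N α) ∧
      ∀ α ∈ zspanOn (irrNontrivialOn (H.subgroupOf N)) ({1}ᶜ : Set N), indFun N α 1 = 0 := by
  classical
  have hprop : ∀ α ∈ zspan (irrNontrivialOn (H.subgroupOf N)), IsClassFunction N α ∧
      (∀ x : N, (x : G) ∉ H → α x = 0) ∧ IsGeneralizedCharacter N α := by
    intro α hα
    refine Submodule.span_induction (fun χ hχ => ?_) ?_ (fun a b _ _ ha hb => ?_) (fun z a _ ha => ?_) hα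
    · exact ⟨hχ.1.isClassFunction, (frobKernel_degree hC hχ.1 hχ.2).2, hχ.1.isCharacter.isGeneralized⟩
    · exact ⟨fun x y => rfl, fun x _ => rfl, isGeneralizedCharacter_zero⟩
    · exact ⟨isClassFunction_add ha.1 hb.1, fun x hx => by simp [ha.2.1 x hx, hb.2.1 x hx], ha.2.2.add hb.2.2⟩
    · rw [← Int.cast_smul_eq_zsmul ℂ]
      exact ⟨fun x y => by simp [ha.1 x y], fun x hx => by simp [ha.2.1 x hx], ha.2.2.intCast_smul z⟩
  have hT : ∀ x : G, x ∉ N → ∀ t ∈ (H : Set G), t ≠ 1 → x * t * x⁻¹ ∉ (H : Set G) :=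
    fun x hx t ht ht1 h => ht1 (hTI x hx t ht h)
  refine ⟨⟨fun a _ b _ => indFun_add N a b, fun a _ n => ?_, fun a ha b hb => ?_, fun a ha => ?_⟩, fun a ha => ?_⟩
  · show indFun N (n • a) = n • indFun N a
    rw [← Int.cast_smul_eq_zsmul ℂ, indFun_smul, Int.cast_smul_eq_zsmul]
  · exact classInner_indFun_TI N (H : Set G) hT (hprop b hb.1).1 (hprop a ha.1).2.1 (hprop b hb.1).2.1
      (mem_zspanOn_one.1 ha).2
  · exact isGeneralizedCharacter_indFun N (hprop a ha.1).2.2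
  · rw [indFun_apply_one, (mem_zspanOn_one.1 ha).2, mul_zero]

end TI

section Sibley

variable {G : Type v} [Group G] [Fintype G] {p : ℕ} [Fact p.Prime] (P : Sylow p G)

set_option maxHeartbeats 2000000 in
/-- Sibley's theorem for a Sylow subgroup. -/
theorem sibley_sylow (NN : Subgroup G) [Fintype NN] (hNN : Subgroup.normalizer ((P : Subgroup G) : Set G) = NN)
    (hTI : IsTISubset ((P : Subgroup G) : Set G)) (hodd : Odd (Nat.card NN)) (hlt : (P : Subgroup G) < NN)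
    (hC : ∀ k ∈ (P : Subgroup G), k ≠ 1 → NN ⊓ Subgroup.centralizer ({k} : Set G) ≤ (P : Subgroup G))
    (hna : ¬ ∀ a ∈ (P : Subgroup G), ∀ b ∈ (P : Subgroup G), a * b = b * a) :
    IsCoherent (irrNontrivialOn ((P : Subgroup G).subgroupOf NN)) {1}ᶜ (fun α => indFun NN α) := by
  classical
  set K := (P : Subgroup G).subgroupOf NN with hK
  have hp : p.Prime := Fact.out
  have hPN : (P : Subgroup G) ≤ NN := hlt.le
  haveI hKn : K.Normal := ⟨fun n hn g =>
    (Subgroup.mem_normalizer_iff.1 (hNN.ge g.2) (n : G)).1 hn⟩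
  have hC' : ∀ h ∈ K, h ≠ 1 → Subgroup.centralizer ({h} : Set NN) ≤ K := fun h hh h1 x hx =>
    hC h hh (fun e => h1 (Subtype.ext e)) ⟨x.2, Subgroup.mem_centralizer_singleton_iff.2
      (congrArg Subtype.val (Subgroup.mem_centralizer_singleton_iff.1 hx))⟩
  have hK2 : K ≠ ⊤ := fun h => hlt.not_ge (Subgroup.subgroupOf_eq_top.1 h)
  have hcardK : Nat.card K = Nat.card (P : Subgroup G) := Nat.card_congr (Subgroup.subgroupOfEquivOfLe hPN).toEquiv
  have hP1 : (P : Subgroup G) ≠ ⊥ := fun h => hna fun a ha b hb => by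
    rw [h, Subgroup.mem_bot] at ha hb; rw [ha, hb]
  have hK1 : K ≠ ⊥ := fun h => hP1 (Subgroup.eq_bot_of_card_eq _ (by rw [← hcardK, h, Subgroup.card_bot]))
  have hnil := frobKernel_isNilpotent hK2 hC'
  haveI := hnil
  haveI hDn : (⁅K, K⁆ : Subgroup NN).Normal := Subgroup.commutator_normal _ _
  have hDlt := frobKernel_commutator_lt hK1 hnil
  obtain ⟨m, hm⟩ : ∃ m, Nat.card K = p ^ m := by
    obtain ⟨m, hm⟩ := IsPGroup.iff_card.1 P.2
    exact ⟨m, hcardK.trans hm⟩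
  have heodd : Odd K.index := hodd.of_dvd_nat K.index_dvd_card
  have hHodd : Odd (Nat.card K) := hodd.of_dvd_nat K.card_subgroup_dvd_card
  obtain ⟨hτ, hτ1⟩ := isometry_indFun_TI (H := (P : Subgroup G)) (N := NN)
    (fun g hg k hk h => hTI g (hNN.symm ▸ hg) k hk h) hC'
  obtain ⟨t, ht⟩ := exists_kernel_degree hC'
  -- the central subgroup inside the commutator subgroup
  set Z : Subgroup NN := ⁅K, K⁆ ⊓ Subgroup.centralizer (K : Set NN) with hZ
  haveI hZn : Z.Normal := inferInstance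
  have hZD : Z ≤ ⁅K, K⁆ := inf_le_left
  have hZK : Z ≤ K := hZD.trans (Subgroup.commutator_le_self K)
  have hZc : ∀ z ∈ Z, ∀ k ∈ K, z * k = k * z := fun z hz k hk =>
    (Subgroup.mem_centralizer_iff.1 hz.2 k hk).symm
  have hZ1 : Z ≠ ⊥ := by
    have hD1 : (commutator K) ≠ ⊥ := fun h => hna fun a ha b hb => by
      have hmem : ⁅(⟨⟨a, hPN ha⟩, ha⟩ : K), ⟨⟨b, hPN hb⟩, hb⟩⁆ ∈ commutator K := by
        rw [commutator_def]
        exact Subgroup.commutator_mem_commutator (Subgroup.mem_top _) (Subgroup.mem_top _)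
      rw [h, Subgroup.mem_bot, commutatorElement_eq_one_iff_commute] at hmem
      exact congrArg (fun x : K => ((x : NN) : G)) hmem.eq
    obtain ⟨z, hz, hz1⟩ := (Subgroup.bot_or_exists_ne_one _).resolve_left
      (Cfsg.Lib.Solv.inf_center_ne_bot_of_isNilpotent hD1)
    intro h
    have hzZ : (z : NN) ∈ Z := ⟨by rw [← Subgroup.map_subtype_commutator]; exact Subgroup.mem_map_of_mem _ hz.1,
      Subgroup.mem_centralizer_iff.2 fun y hy => congrArg Subtype.val (Subgroup.mem_center_iff.1 hz.2 ⟨y, hy⟩)⟩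
    rw [h, Subgroup.mem_bot] at hzZ
    exact hz1 (Subtype.ext hzZ)
  have hZlt : ⊥ < Z := bot_lt_iff_ne_bot.2 hZ1
  -- the coherence system and the two pieces
  have hirr : ∀ χ ∈ irrNontrivialOn K, IsIrrCharacter NN χ := fun χ h => h.1
  have hSne : (irrBetween K ⁅K, K⁆).Nonempty ∧ ⁅K, K⁆.relIndex K ≠ K.index + 1 := by
    have hq : Odd (⁅K, K⁆.relIndex K) := hHodd.of_dvd_nat (Subgroup.relIndex_dvd_card _ _)
    have hq1 : ⁅K, K⁆.relIndex K ≠ 1 := fun h => hDlt.not_ge (Subgroup.relIndex_eq_one.1 h)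
    refine ⟨?_, fun h => ?_⟩
    · by_contra h
      rw [Set.not_nonempty_iff_eq_empty] at h
      have hs := sum_sq_irrBetween ⁅K, K⁆ (Subgroup.commutator_le_self K) ∅ (by simp [h]) t (by simp)
      simp at hs
      exact hq1 hs.symm
    · rw [h] at hq
      obtain ⟨a, ha⟩ := hq
      obtain ⟨b, hb⟩ := heodd
      omega
  obtain ⟨R, hsys⟩ := Cfsg.Agent.S1514.result (irrNontrivialOn K)
    (hSne.1.mono fun χ h => h.1) hirr
    (fun χ h => ⟨irrNontrivialOn_conjFun h, irrNontrivialOn_conjFun_ne hodd h⟩) _ hτ hτ1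
  rw [irrNontrivialOn_eq_induced hC'] at hsys
  obtain ⟨hXeq, hXcoh⟩ := hsys.central_coherent K inferInstance hodd hnil hDlt (lt_top_iff_ne_top.2 hK2)
    (fun k hk hkD x hx => mem_kernel_of_commutator_mem hC' hk hkD hx) Z hZ1 hZK hZc
    (fun χ hχ => ((irrNontrivialOn_eq_induced hC').symm ▸ hχ.1 : χ ∈ irrNontrivialOn K).1)
  rw [hXeq] at hXcoh
  obtain ⟨hdeg0, hYcoh⟩ := coherent_irrBetween_commutator hK1 hC' hτ hτ1 hnil hSne.2
  obtain ⟨η, hη⟩ := hSne.1
  set XS : Set (NN → ℂ) := {χ | IsIrrCharacter NN χ ∧ ∃ z ∈ Z, χ z ≠ χ 1} with hXS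
  have hXsub : XS ⊆ irrNontrivialOn K := fun χ ⟨h, z, hz, hne⟩ => ⟨h, z, hZK hz, hne⟩
  have hXfin := (irrNontrivialOn_finite K).subset hXsub
  have hYfin := irrBetween_finite K ⁅K, K⁆
  set X := hXfin.toFinset with hX
  set Y := hYfin.toFinset with hY
  have hmX : ∀ {χ}, χ ∈ X → χ ∈ XS := fun h => hXfin.mem_toFinset.1 h
  have hmY : ∀ {χ}, χ ∈ Y → χ ∈ irrBetween K ⁅K, K⁆ := fun h => hYfin.mem_toFinset.1 h
  have hdis : Disjoint X Y := Finset.disjoint_left.2 fun χ hχ hχY => by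
    obtain ⟨-, z, hz, hne⟩ := hmX hχ
    exact hne ((hmY hχY).2 z (hZD hz))
  have htp : ∀ χ ∈ irrNontrivialOn K, ∃ i, t χ = p ^ i := fun χ hχ => by
    obtain ⟨i, -, hi⟩ := (Nat.dvd_prime_pow hp).1 (hm ▸ (ht χ hχ).2.2)
    exact ⟨i, hi⟩
  -- the sum of the degrees nontrivial on `Z`
  have hfZ := irrBetween_finite K Z
  have hfS := irrNontrivialOn_finite K
  have hsumS := sum_sq_irrBetween (⊥ : Subgroup NN) bot_le hfS.toFinset (by rw [hfS.coe_toFinset, irrBetween_bot]) t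
    (fun χ hχ => (ht χ (hfS.mem_toFinset.1 hχ)).1)
  have hsumZ := sum_sq_irrBetween Z hZK hfZ.toFinset (by simp) t
    (fun χ hχ => (ht χ (hfZ.mem_toFinset.1 hχ).1).1)
  rw [Subgroup.relIndex_bot_left] at hsumS
  have hsplit : hfS.toFinset \ hfZ.toFinset = X := by
    ext χ
    simp only [Finset.mem_sdiff, Set.Finite.mem_toFinset, hX, hXS, Set.mem_setOf_eq]
    constructor
    · rintro ⟨h, hn⟩
      refine ⟨h.1, ?_⟩
      by_contra hno
      push Not at hno
      exact hn ⟨h, hno⟩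
    · rintro ⟨h, z, hz, hne⟩
      exact ⟨hXsub ⟨h, z, hz, hne⟩, fun h' => hne (h'.2 z hz)⟩
  have hsumX : K.index * (∑ χ ∈ X, t χ ^ 2) + Z.relIndex K = Nat.card K := by
    rw [← hsumS, ← hsumZ, ← hsplit, ← Finset.sum_sdiff (s₁ := hfZ.toFinset) (s₂ := hfS.toFinset)
      (fun χ hχ => hfS.mem_toFinset.2 (hfZ.mem_toFinset.1 hχ).1), mul_add]
    ring
  have hrel : Z.relIndex K * Nat.card Z = Nat.card K := by
    rw [← Subgroup.relIndex_bot_left (H := Z), mul_comm, Subgroup.relIndex_mul_relIndex ⊥ Z K bot_le hZK,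
      Subgroup.relIndex_bot_left]
  have hk0 : Z.relIndex K ≠ 0 := relIndex_ne_zero_fin _ _
  have hZcard : 2 * K.index + 1 ≤ Nat.card Z := by
    have h1 := index_add_one_le hC' ⊥ Z hZlt hZK
    obtain ⟨c, hc⟩ := index_dvd_section hC' ⊥ Z bot_le hZK
    rw [Subgroup.relIndex_bot_left] at h1 hc
    obtain ⟨a, ha⟩ := hHodd.of_dvd_nat (Subgroup.card_dvd_of_le hZK)
    obtain ⟨b, hb⟩ := heodd
    rcases Nat.lt_or_ge c 2 with hc2 | hc2
    · interval_cases c
      · omega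
      · omega
    · have := Nat.mul_le_mul_left K.index hc2
      omega
  have hXbig : 2 * Z.relIndex K ≤ ∑ χ ∈ X, t χ ^ 2 := by
    rw [← hrel] at hsumX
    have hK0 : 0 < K.index := Nat.pos_of_ne_zero Subgroup.index_ne_zero_of_finite
    nlinarith
  have hXne : X.Nonempty := by
    by_contra h
    rw [Finset.not_nonempty_iff_eq_empty] at h
    rw [h, Finset.sum_empty] at hXbig
    omega
  obtain ⟨φ₁, hφ₁, hmin⟩ := Finset.exists_min_image X t hXne
  obtain ⟨i₁, hi₁⟩ := htp φ₁ (hXsub (hmX hφ₁))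
  have hdvd1 : ∀ φ ∈ X, p ^ i₁ ∣ t φ := fun φ hφ => by
    obtain ⟨i, hi⟩ := htp φ (hXsub (hmX hφ))
    rw [hi]
    have h := hmin φ hφ
    rw [hi, hi₁] at h
    exact pow_dvd_pow p ((Nat.pow_le_pow_iff_right hp.one_lt).1 h)
  obtain ⟨-, σ, hσ, hσα⟩ := hXcoh
  obtain ⟨-, ρ, hρ, hρα⟩ := hYcoh
  have hcX : (↑X : Set (NN → ℂ)) = XS := hXfin.coe_toFinset
  have hcY : (↑Y : Set (NN → ℂ)) = irrBetween K ⁅K, K⁆ := hYfin.coe_toFinset
  have hindex : ∀ χ ∈ irrNontrivialOn K, χ 1 = ((K.index * t χ : ℕ) : ℂ) := fun χ hχ => (ht χ hχ).1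
  have hdη : η 1 = (K.index : ℂ) := hdeg0 η hη
  have hU := coherent_glue (S := irrNontrivialOn K) X Y hirr (hcX.trans_subset hXsub)
    (hcY.trans_subset fun χ h => h.1) hdis hτ hτ1 (σ := σ) (ρ := ρ) (hcX ▸ hσ) (hcX ▸ hσα) (hcY ▸ hρ) (hcY ▸ hρα)
    (φ₁ := φ₁) (η := η) hφ₁ (hYfin.mem_toFinset.2 hη)
    (by
      obtain ⟨hi, z, hz, hne⟩ := hmX hφ₁
      exact hXfin.mem_toFinset.2 ⟨isIrrCharacter_conjFn hi, z, hz, fun e => hne (RingHom.injective (starRingEnd ℂ) e)⟩)
    (irrNontrivialOn_conjFun_ne hodd (hXsub (hmX hφ₁)))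
    (hYfin.mem_toFinset.2 (irrBetween_conjFun _ hη)) (irrNontrivialOn_conjFun_ne hodd hη.1)
    (fun φ => t φ / p ^ i₁) (fun _ => 1)
    (fun φ hφ => by
      rw [hindex φ (hXsub (hmX hφ)), hindex φ₁ (hXsub (hmX hφ₁)), hi₁, ← Nat.cast_mul,
        Nat.mul_left_comm, Nat.div_mul_cancel (hdvd1 φ hφ)])
    (fun ψ hψ => by rw [hdeg0 ψ (hmY hψ), hdη, Nat.cast_one, one_mul])
    (p ^ i₁) (by rw [hindex φ₁ (hXsub (hmX hφ₁)), hi₁, hdη]; push_cast; ring)
    ?_
  · -- extend to everything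
    rw [← Finset.coe_union] at hU
    have hXY : X ∪ Y ⊆ hfS.toFinset := fun χ hχ => hfS.mem_toFinset.2 (by
      rcases Finset.mem_union.1 hχ with h | h
      exacts [hXsub (hmX h), (hmY h).1])
    have hall := coherent_extend_bound (S := irrNontrivialOn K) hirr hτ hτ1 (fun ξ => K.index * t ξ) hindex
      (X ∪ Y) hfS.toFinset hXY hfS.coe_toFinset.le hU (ψ := η)
      (Finset.mem_union_right _ (hYfin.mem_toFinset.2 hη))
      (fun χ _ => by
        have h1 : K.index * t η = K.index := by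
          have h := (hindex η hη.1).symm.trans hdη
          exact_mod_cast h
        rw [h1]; exact dvd_mul_right _ _)
      (fun χ hχ hχT => by
        have hχS := hfS.mem_toFinset.1 hχ
        have hχZ : χ ∈ hfZ.toFinset := by
          by_contra h
          exact hχT (Finset.mem_union_left _ (hsplit ▸ Finset.mem_sdiff.2 ⟨hχ, h⟩))
        have h1 : K.index * t η = K.index := by
          have h := (hindex η hη.1).symm.trans hdη
          exact_mod_cast h
        have h2 : t χ ^ 2 < Z.relIndex K := by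
          have h3 : t χ ^ 2 ≤ ∑ ξ ∈ hfZ.toFinset, t ξ ^ 2 :=
            Finset.single_le_sum (f := fun ξ => t ξ ^ 2) (fun _ _ => Nat.zero_le _) hχZ
          have h4 : 1 * ∑ ξ ∈ hfZ.toFinset, t ξ ^ 2 ≤ K.index * ∑ ξ ∈ hfZ.toFinset, t ξ ^ 2 :=
            Nat.mul_le_mul_right _ (Nat.one_le_iff_ne_zero.2 Subgroup.index_ne_zero_of_finite)
          omega
        have h5 : t χ ≤ t χ ^ 2 := Nat.le_self_pow two_ne_zero _
        have h6 : ∑ ξ ∈ X, t ξ ^ 2 ≤ ∑ ξ ∈ X ∪ Y, t ξ ^ 2 :=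
          Finset.sum_le_sum_of_subset Finset.subset_union_left
        rw [h1]
        simp only [mul_pow, ← Finset.mul_sum]
        calc 2 * K.index * (K.index * t χ) = K.index ^ 2 * (2 * t χ) := by ring
          _ < K.index ^ 2 * ∑ ξ ∈ X ∪ Y, t ξ ^ 2 := Nat.mul_lt_mul_of_pos_left (by omega)
              (pow_pos (Nat.pos_of_ne_zero Subgroup.index_ne_zero_of_finite) 2))
    rwa [hfS.coe_toFinset] at hall
  -- the divisibility from the congruence on `Z`
  intro ξ hξ hξX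
  haveI := Fintype.ofFinite Z
  set res : NN → ℂ := fun x => ξ x with hres
  have hresgen : IsGeneralizedCharacter NN res := (hξ.isCharacter.comp NN.subtype).isGeneralized
  have hrescf : IsClassFunction NN res := fun x y => hξ.isClassFunction (x : G) (y : G)
  obtain ⟨c₁, hc₁⟩ := (hirr φ₁ (hXsub (hmX hφ₁))).isCharacter.isGeneralized.exists_int_classInner hresgen
  obtain ⟨cη, hcη⟩ := (hirr η hη.1).isCharacter.isGeneralized.exists_int_classInner hresgen
  have hA : ∀ φ ∈ X, classInner φ res = ((t φ / p ^ i₁ : ℕ) : ℂ) * c₁ := by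
    intro φ hφ
    have hp' : φ - ((t φ / p ^ i₁ : ℕ) : ℂ) • φ₁ ∈ zspanOn XS ({1}ᶜ : Set NN) := mem_zspanOn_one.2
      ⟨zspan_sub (mem_zspan_self (hmX hφ)) (zspan_natCast_smul (mem_zspan_self (hmX hφ₁)) _), by
        rw [Pi.sub_apply, Pi.smul_apply, smul_eq_mul, hindex φ (hXsub (hmX hφ)), hindex φ₁ (hXsub (hmX hφ₁)),
          hi₁, ← Nat.cast_mul, Nat.mul_left_comm, Nat.div_mul_cancel (hdvd1 φ hφ), sub_self]⟩
    have h1 := classInner_indFun NN (φ - ((t φ / p ^ i₁ : ℕ) : ℂ) • φ₁) hξ.isClassFunction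
    rw [show indFun NN (φ - ((t φ / p ^ i₁ : ℕ) : ℂ) • φ₁) = σ (φ - ((t φ / p ^ i₁ : ℕ) : ℂ) • φ₁) from (hσα _ hp').symm,
      hσ.map_sub' (mem_zspan_self (hmX hφ)) (zspan_natCast_smul (mem_zspan_self (hmX hφ₁)) _)
      (zspan_zsmul (zspan_natCast_smul (mem_zspan_self (hmX hφ₁)) _) _),
      hσ.map_natCast_smul (mem_zspan_self (hmX hφ₁)), classInner_sub_left, classInner_smul_left, hξX φ hφ,
      hξX φ₁ hφ₁, mul_zero, sub_zero, classInner_sub_left, classInner_smul_left] at h1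
    rw [← hc₁]
    linear_combination -h1
  have hmul : ∀ z ∈ Z, z ≠ 1 → (p ^ i₁ : ℂ) * (res z - res 1) = -((c₁ : ℂ) * (Nat.card K : ℂ)) := by
    intro z hz hz1
    have he0 : (K.index : ℂ) ≠ 0 := Nat.cast_ne_zero.2 Subgroup.index_ne_zero_of_finite
    apply mul_left_cancel₀ he0
    rw [eq_sum_classInner hrescf]
    simp only [Finset.sum_apply, Pi.smul_apply, smul_eq_mul, ← Finset.sum_sub_distrib, Finset.mul_sum]
    have hterm : ∀ η' : IrrCharacter NN, (K.index : ℂ) * ((p ^ i₁ : ℂ) * (classInner res η' * (η' : NN → ℂ) z -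
        classInner res η' * (η' : NN → ℂ) 1)) =
        (c₁ : ℂ) * ((η' : NN → ℂ) 1 * (η' : NN → ℂ) z - (η' : NN → ℂ) 1 * (η' : NN → ℂ) 1) := by
      intro η'
      by_cases hη' : (η' : NN → ℂ) ∈ XS
      · have hmem := hXfin.mem_toFinset.2 hη'
        rw [← classInner_conj_symm (η' : NN → ℂ) res, hA _ hmem, map_mul, Complex.conj_natCast, map_intCast]
        have e : (K.index : ℂ) * (p ^ i₁ : ℂ) * ((t (η' : NN → ℂ) / p ^ i₁ : ℕ) : ℂ) = (η' : NN → ℂ) 1 := by
          rw [hindex _ (hXsub hη'), ← Nat.cast_pow, ← Nat.cast_mul, ← Nat.cast_mul, mul_assoc,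
            Nat.mul_div_cancel' (hdvd1 _ hmem)]
        linear_combination ((c₁ : ℂ) * ((η' : NN → ℂ) z - (η' : NN → ℂ) 1)) * e
      · have h : (η' : NN → ℂ) z = (η' : NN → ℂ) 1 := by
          by_contra hne
          exact hη' ⟨η'.2, z, hz, hne⟩
        rw [h]; ring
    rw [Finset.sum_congr rfl fun η' _ => hterm η', ← Finset.mul_sum, Finset.sum_sub_distrib,
      sum_degree_mul, if_neg hz1, sum_degree_mul, if_pos rfl, ← K.card_mul_index]
    push_cast; ring
  have hpi : (p ^ i₁ : ℂ) ≠ 0 := pow_ne_zero _ (Nat.cast_ne_zero.2 hp.ne_zero)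
  set ZG := Z.map NN.subtype with hZG
  have hZG1 : ZG ≠ ⊥ := fun h => hZ1 (Subgroup.map_eq_bot_iff_of_injective _ NN.subtype_injective |>.1 h)
  have hC1 : ∀ z ∈ ZG, z ≠ 1 → NN ⊓ Subgroup.centralizer ({z} : Set G) = (P : Subgroup G) := by
    rintro _ ⟨z, hz, rfl⟩ hz1
    refine le_antisymm (hC _ (hZK hz) hz1) fun y hy => ⟨hPN hy, Subgroup.mem_centralizer_singleton_iff.2 ?_⟩
    exact (congrArg Subtype.val (hZc z hz ⟨y, hPN hy⟩ hy)).symm
  obtain ⟨z₀, hz₀, hz₀1⟩ := (Subgroup.bot_or_exists_ne_one Z).resolve_left hZ1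
  obtain ⟨n, dd, hn, hd, hdiv⟩ := Cfsg.Agent.S1523.result p P hTI (hNN.symm ▸ hodd) ZG hZG1
    (by rintro _ ⟨z, hz, rfl⟩; exact hZK hz)
    (by rintro x hx _ ⟨z, hz, rfl⟩; exact ⟨_, hZn.conj_mem z hz ⟨x, hNN ▸ hx⟩, rfl⟩)
    (by rintro _ ⟨z, hz, rfl⟩ y hy; exact congrArg Subtype.val (hZc z hz ⟨y, hPN hy⟩ hy))
    (fun a ha b hb ha1 hb1 => by rw [hNN, hC1 a ha ha1, hC1 b hb hb1]) ξ hξ
    (by
      rintro _ ⟨a, ha, rfl⟩ _ ⟨b, hb, rfl⟩ ha1 hb1
      have h1 := hmul a ha fun e => ha1 (by rw [e]; rfl)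
      rw [← hmul b hb fun e => hb1 (by rw [e]; rfl)] at h1
      exact sub_left_inj.1 (mul_left_cancel₀ hpi h1))
    (z₀ : G) (Subgroup.mem_map_of_mem NN.subtype hz₀) (fun e => hz₀1 (Subtype.ext e))
  obtain ⟨q, hq⟩ := hdiv
  rw [← hcardK] at hq
  have h1 := hmul z₀ hz₀ hz₀1
  simp only [hres, OneMemClass.coe_one, hn, hd] at h1
  have h2 : (p ^ i₁ : ℤ) * q = c₁ := by
    have hK0 : (Nat.card K : ℂ) ≠ 0 := card_cast_ne_zero
    have hq' : ((dd : ℂ) - n) = (Nat.card K : ℂ) * q := by exact_mod_cast hq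
    have h3 : (((p ^ i₁ : ℤ) * q : ℤ) : ℂ) = (c₁ : ℂ) := by
      apply mul_left_cancel₀ hK0
      push_cast
      linear_combination -h1 - (p ^ i₁ : ℂ) * hq'
    exact_mod_cast h3
  refine ⟨q - cη, ?_⟩
  rw [classInner_indFun NN _ hξ.isClassFunction, classInner_sub_left, classInner_smul_left]
  rw [hc₁, hcη, ← h2]
  push_cast; ring

end Sibley

end Cfsg.Lib.Char

namespace Cfsg.Lib.Char

open Cfsg
open scoped ComplexConjugate commutatorElement

universe w

section Applications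

variable {G : Type w} [Group G] [Fintype G]

/-- A prime-power trivial-intersection Frobenius kernel is a Sylow subgroup. -/
theorem exists_sylow_eq_kernel {p : ℕ} [Fact p.Prime] (H L : Subgroup G) [Fintype L] (hH1 : H ≠ ⊥)
    (hN : Subgroup.normalizer (H : Set G) = L)
    (hC : ∀ h ∈ H.subgroupOf L, h ≠ 1 → Subgroup.centralizer ({h} : Set L) ≤ H.subgroupOf L)
    (hp : IsPGroup p H) : ∃ P : Sylow p G, (P : Subgroup G) = H := by
  subst hN
  obtain ⟨P, hHP⟩ := hp.exists_le_sylow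
  refine ⟨P, (eq_of_le_of_not_lt hHP fun hlt => ?_).symm⟩
  haveI : Group.IsNilpotent (P : Subgroup G) := P.2.isNilpotent
  have hnc : NormalizerCondition (P : Subgroup G) := Group.normalizerCondition_of_isNilpotent
  obtain ⟨g, hg, hgH⟩ := SetLike.exists_of_lt (hnc (H.subgroupOf P)
    (lt_top_iff_ne_top.2 fun h => hlt.not_ge (Subgroup.subgroupOf_eq_top.1 h)))
  have hgN : (g : G) ∈ Subgroup.normalizer (H : Set G) := Subgroup.mem_normalizer_iff.2 fun x => by
    constructor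
    · intro hx
      exact (Subgroup.mem_normalizer_iff.1 hg ⟨x, hHP hx⟩).1 hx
    · intro hx
      have hxP : x ∈ (P : Subgroup G) := by
        have h1 := mul_mem (mul_mem (inv_mem g.2) (hHP hx)) g.2
        rwa [show (g : G)⁻¹ * ((g : G) * x * (g : G)⁻¹) * g = x by group] at h1
      exact (Subgroup.mem_normalizer_iff.1 hg ⟨x, hxP⟩).2 hx
  set NN := Subgroup.normalizer (H : Set G)
  haveI : (H.subgroupOf NN).Normal := Subgroup.normal_in_normalizer
  obtain ⟨i, hi⟩ := IsPGroup.iff_card.1 hp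
  have hpH : p ∣ Nat.card (H.subgroupOf NN) := by
    rw [Nat.card_congr (Subgroup.subgroupOfEquivOfLe (Subgroup.le_normalizer)).toEquiv, hi]
    refine dvd_pow_self p fun h => hH1 (Subgroup.eq_bot_of_card_eq H ?_)
    rw [hi, h, pow_zero]
  apply hgH
  rw [Subgroup.mem_subgroupOf]
  obtain ⟨j, hj⟩ := IsPGroup.iff_orderOf.1 P.2 g
  have hord : orderOf (⟨g, hgN⟩ : NN) = p ^ j := by rw [Subgroup.orderOf_mk, Subgroup.orderOf_coe, hj]
  have h2 : orderOf (QuotientGroup.mk' (H.subgroupOf NN) ⟨g, hgN⟩) = 1 := by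
    refine Nat.eq_one_of_dvd_coprimes ?_ ((orderOf_map_dvd _ _).trans (dvd_of_eq hord))
      ((orderOf_dvd_natCard _).trans (dvd_of_eq (Subgroup.index_eq_card _).symm))
    exact Nat.Coprime.pow_left _ (Nat.Coprime.coprime_dvd_left hpH (frobKernel_coprime hC))
  have h3 : (⟨g, hgN⟩ : NN) ∈ H.subgroupOf NN := (QuotientGroup.eq_one_iff _).1 (orderOf_eq_one_iff.1 h2)
  exact h3

/-- Coherence for a trivial-intersection kernel, outside the exceptional cases. -/
theorem coherence_TI_kernel (H L : Subgroup G) [Fintype L] (hH1 : H ≠ ⊥) (hlt : H < L)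
    (hN : Subgroup.normalizer (H : Set G) = L) (hTI : IsTISubset (H : Set G))
    (hC : ∀ h ∈ H, h ≠ 1 → L ⊓ Subgroup.centralizer ({h} : Set G) ≤ H) :
    IsCoherent (irrNontrivialOn (H.subgroupOf L)) {1}ᶜ (fun α => indFun L α) ∨
      ((∀ a ∈ H, ∀ b ∈ H, a * b = b * a) ∧ Nat.card H = (H.subgroupOf L).index + 1) ∨
      ((¬ ∀ a ∈ H, ∀ b ∈ H, a * b = b * a) ∧ Odd (H.subgroupOf L).index ∧
        3 ≤ (H.subgroupOf L).index ∧ (∃ m, Nat.card H = 2 ^ m) ∧
        (∃ P : Sylow 2 G, (P : Subgroup G) = H) ∧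
        (⁅H, H⁆.subgroupOf H).index ≤ 4 * (H.subgroupOf L).index ^ 2 + 1) := by
  classical
  set K := H.subgroupOf L with hK
  haveI hKn : K.Normal := ⟨fun n hn g => (Subgroup.mem_normalizer_iff.1 (hN.ge g.2) (n : G)).1 hn⟩
  have hC' : ∀ h ∈ K, h ≠ 1 → Subgroup.centralizer ({h} : Set L) ≤ K := fun h hh h1 x hx =>
    hC h hh (fun e => h1 (Subtype.ext e)) ⟨x.2, Subgroup.mem_centralizer_singleton_iff.2
      (congrArg Subtype.val (Subgroup.mem_centralizer_singleton_iff.1 hx))⟩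
  have hK2 : K ≠ ⊤ := fun h => hlt.not_ge (Subgroup.subgroupOf_eq_top.1 h)
  have hcardK : Nat.card K = Nat.card H := Nat.card_congr (Subgroup.subgroupOfEquivOfLe hlt.le).toEquiv
  have hK1 : K ≠ ⊥ := fun h => hH1 (Subgroup.eq_bot_of_card_eq _ (by rw [← hcardK, h, Subgroup.card_bot]))
  have hcommK : (∀ a ∈ K, ∀ b ∈ K, a * b = b * a) ↔ ∀ a ∈ H, ∀ b ∈ H, a * b = b * a :=
    ⟨fun h a ha b hb => congrArg Subtype.val (h ⟨a, hlt.le ha⟩ ha ⟨b, hlt.le hb⟩ hb),
      fun h a ha b hb => Subtype.ext (h a ha b hb)⟩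
  obtain ⟨hτ, hτ1⟩ := isometry_indFun_TI (H := H) (N := L)
    (fun g hg k hk h => hTI g (hN.symm ▸ hg) k hk h) hC'
  by_cases hab : ∀ a ∈ H, ∀ b ∈ H, a * b = b * a
  · by_cases he : Nat.card H = K.index + 1
    · exact Or.inr (Or.inl ⟨hab, he⟩)
    · exact Or.inl (feit_coherence hK1 hK2 hC' hτ hτ1 (Or.inl ⟨hcommK.2 hab, hcardK ▸ he⟩))
  have heodd : Odd K.index := Nat.not_even_iff_odd.1 fun h => hab (hcommK.1 (frobKernel_comm_of_even hC' h))
  by_cases hgood : 4 * K.index ^ 2 + 1 < ⁅K, K⁆.relIndex K ∨ ¬ ∃ p m : ℕ, p.Prime ∧ Nat.card K = p ^ m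
  · exact Or.inl (feit_coherence hK1 hK2 hC' hτ hτ1 (Or.inr hgood))
  push Not at hgood
  obtain ⟨hq, p, m, hp, hm⟩ := hgood
  haveI := Fact.mk hp
  obtain ⟨P, hP⟩ := exists_sylow_eq_kernel (p := p) H L hH1 hN hC' (IsPGroup.of_card (n := m) (hcardK ▸ hm))
  rcases eq_or_ne p 2 with rfl | hp2
  · refine Or.inr (Or.inr ⟨hab, heodd, ?_, ⟨m, hcardK ▸ hm⟩, ⟨P, hP⟩, ?_⟩)
    · have h1 : K.index ≠ 1 := fun h => hK2 (Subgroup.index_eq_one.1 h)
      obtain ⟨c, hc⟩ := heodd
      omega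
    · refine le_trans (le_of_eq ?_) hq
      show ⁅H, H⁆.relIndex H = ⁅K, K⁆.relIndex K
      have hmap : K.map L.subtype = H := by rw [hK, Subgroup.subgroupOf_map_subtype]; exact inf_eq_left.2 hlt.le
      rw [← Subgroup.relIndex_map_map_of_injective _ _ L.subtype_injective, Subgroup.map_commutator, hmap]
  · have hodd : Odd (Nat.card L) := by
      rw [← K.card_mul_index, hm]
      exact ((hp.odd_of_ne_two hp2).pow).mul heodd
    subst hP
    exact Or.inl (sibley_sylow P L hN hTI hodd hlt hC hab)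

/-- A coherent set restricts to any subset with two members. -/
theorem coherent_subset {L : Type*} [Group L] [Fintype L] {S X : Set (L → ℂ)}
    (hirr : ∀ χ ∈ S, IsIrrCharacter L χ) (hXS : X ⊆ S) (htwo : ∃ a ∈ X, ∃ b ∈ X, a ≠ b)
    {τ : (L → ℂ) → (G → ℂ)} (h : IsCoherent S {1}ᶜ τ) : IsCoherent X {1}ᶜ τ := by
  obtain ⟨-, τ₁, hτ₁, hag⟩ := h
  obtain ⟨a, ha, b, hb, hab⟩ := htwo
  obtain ⟨m, hm0, hm⟩ := (hirr a (hXS ha)).exists_degree
  obtain ⟨n, hn0, hn⟩ := (hirr b (hXS hb)).exists_degree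
  refine ⟨⟨(n : ℂ) • a - (m : ℂ) • b, mem_zspanOn_one.2 ⟨zspan_sub (zspan_natCast_smul (mem_zspan_self ha) _)
    (zspan_natCast_smul (mem_zspan_self hb) _), by simp [hm, hn, mul_comm]⟩, fun h0 => ?_⟩,
    τ₁, hτ₁.mono (zspan_mono hXS), fun α hα => hag α (zspanOn_mono hXS _ hα)⟩
  have h1 := congrArg (fun F => classInner F a) h0
  simp only [classInner_sub_left, classInner_smul_left, classInner_irr_self (hirr a (hXS ha)),
    classInner_irr_ne (hirr b (hXS hb)) (hirr a (hXS ha)) hab.symm, classInner_zero_left, mul_one, mul_zero,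
    sub_zero, Nat.cast_eq_zero] at h1
  omega

/-- An abelian kernel of order `e + 1` carries one character and is elementary abelian. -/
theorem exceptional_small_kernel {L : Type*} [Group L] [Fintype L] {K : Subgroup L} [hKn : K.Normal]
    (hK1 : K ≠ ⊥) (hC : ∀ h ∈ K, h ≠ 1 → Subgroup.centralizer ({h} : Set L) ≤ K)
    (hcard : Nat.card K = K.index + 1) (hab : ∀ a ∈ K, ∀ b ∈ K, a * b = b * a) :
    Nat.card {χ : L → ℂ // χ ∈ irrNontrivialOn K} = 1 ∧ ∀ p : ℕ, p.Prime → p ∣ Nat.card K →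
      ∀ a ∈ K, a ^ p = 1 := by
  classical
  obtain ⟨t, ht⟩ := exists_kernel_degree hC
  refine ⟨?_, fun p hp hpd a ha => ?_⟩
  · have hfin := irrNontrivialOn_finite K
    have hs := sum_sq_irrBetween (⊥ : Subgroup L) bot_le hfin.toFinset (by rw [hfin.coe_toFinset, irrBetween_bot]) t
      (fun χ hχ => (ht χ (hfin.mem_toFinset.1 hχ)).1)
    rw [Subgroup.relIndex_bot_left, hcard, Nat.add_right_cancel_iff] at hs
    have h1 : ∑ χ ∈ hfin.toFinset, t χ ^ 2 = 1 :=
      Nat.eq_of_mul_eq_mul_left (Nat.pos_of_ne_zero Subgroup.index_ne_zero_of_finite) (hs.trans (mul_one _).symm)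
    have h2 : hfin.toFinset.card ≤ 1 := by
      rw [← h1, Finset.card_eq_sum_ones]
      exact Finset.sum_le_sum fun χ hχ => Nat.one_le_pow _ _ (ht χ (hfin.mem_toFinset.1 hχ)).2.1
    have h3 : hfin.toFinset.card ≠ 0 := by
      intro h; rw [Finset.card_eq_zero.1 h, Finset.sum_empty] at h1; omega
    show Nat.card (irrNontrivialOn K) = 1
    rw [Nat.card_coe_set_eq, Set.ncard_eq_toFinset_card _ hfin]
    omega
  · haveI := Fact.mk hp
    let M : Subgroup L :=
      { carrier := {x | x ∈ K ∧ x ^ p = 1}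
        one_mem' := ⟨one_mem _, one_pow _⟩
        mul_mem' := fun {x y} hx hy => ⟨mul_mem hx.1 hy.1, by
          rw [(show Commute x y from hab x hx.1 y hy.1).mul_pow, hx.2, hy.2, one_mul]⟩
        inv_mem' := fun {x} hx => ⟨inv_mem hx.1, by rw [inv_pow, hx.2, inv_one]⟩ }
    haveI : M.Normal := ⟨fun x hx g => ⟨hKn.conj_mem x hx.1 g, by
      rw [conj_pow, hx.2, mul_one, mul_inv_cancel]⟩⟩
    obtain ⟨x, hx⟩ := exists_prime_orderOf_dvd_card' (G := K) p hpd
    have hM1 : ⊥ < M := bot_lt_iff_ne_bot.2 fun h => by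
      have hxM : (x : L) ∈ M := ⟨x.2, by rw [← hx, ← Subgroup.orderOf_coe, pow_orderOf_eq_one]⟩
      rw [h, Subgroup.mem_bot, OneMemClass.coe_eq_one] at hxM
      rw [hxM, orderOf_one] at hx
      exact hp.one_lt.ne hx
    have hMK : M ≤ K := fun y hy => hy.1
    have h1 := index_add_one_le hC ⊥ M hM1 hMK
    rw [Subgroup.relIndex_bot_left, ← hcard] at h1
    rw [← Subgroup.eq_of_le_of_card_ge hMK h1] at ha
    exact ha.2

end Applications

end Cfsg.Lib.Char
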