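import Cfsg.Agent.Lib.Char.LiftTrace

/-!
# The fixed point formula for coprime actions of Frobenius groups
-/

set_option autoImplicit false

namespace Cfsg.Lib.Char.FrobFixed

open Matrix Cfsg.Lib.Char.LiftTrace

section Partition

variable {Γ : Type*} [Group Γ] [Finite Γ] (U E : Subgroup Γ) [U.Normal]

theorem isCompl (hd : U ⊓ E = ⊥) (hj : U ⊔ E = ⊤) : U.IsComplement' E := by
  apply Subgroup.isComplement'_of_disjoint_and_mul_eq_univ (disjoint_iff.2 hd)
  rw [← Subgroup.normal_mul, hj, Subgroup.coe_top]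

/-- The Frobenius partition identity for a class function. -/
theorem sum_partition [Fintype Γ] [Fintype U] [Fintype E] {M : Type*} [AddCommMonoid M]
    (hd : U ⊓ E = ⊥) (hj : U ⊔ E = ⊤)
    (hfpf : ∀ e ∈ E, e ≠ 1 → ∀ u ∈ U, e * u = u * e → u = 1)
    (χ : Γ → M) (hχ : ∀ c g, χ (c * g * c⁻¹) = χ g) :
    ∑ g, χ g + Fintype.card U • χ 1 = ∑ u : U, χ u + Fintype.card U • ∑ x : E, χ x := by
  classical
  let F : U × {x : E // x ≠ 1} → {g : Γ // g ∉ U} := fun p =>
    ⟨(p.1 : Γ) * p.2.1 * (p.1 : Γ)⁻¹, fun h => p.2.2 (by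
      have h1 := Subgroup.Normal.conj_mem (inferInstance : U.Normal) _ h (p.1 : Γ)⁻¹
      simp only [mul_assoc, inv_mul_cancel_left, inv_inv, inv_mul_cancel, mul_one] at h1
      exact Subtype.ext ((Subgroup.disjoint_def.1 (disjoint_iff.2 hd)) h1 p.2.1.2))⟩
  have hinj : Function.Injective F := by
    rintro ⟨c, x, hx⟩ ⟨c', x', hx'⟩ h
    simp only [F, Subtype.mk.injEq] at h
    set d : Γ := (c' : Γ)⁻¹ * c with hdd
    have hdU : d ∈ U := mul_mem (inv_mem c'.2) c.2
    have h2 : d * (x : Γ) * d⁻¹ = x' := by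
      rw [hdd]
      calc _ = (c' : Γ)⁻¹ * ((c : Γ) * x * (c : Γ)⁻¹) * c' := by group
        _ = _ := by rw [h]; group
    have h3 : (x : Γ)⁻¹ * x' ∈ U ⊓ E := by
      refine Subgroup.mem_inf.2 ⟨?_, E.mul_mem (E.inv_mem x.2) x'.2⟩
      rw [← h2, show (x : Γ)⁻¹ * (d * x * d⁻¹) = ((x : Γ)⁻¹ * d * ((x : Γ)⁻¹)⁻¹) * d⁻¹ by group]
      exact U.mul_mem (Subgroup.Normal.conj_mem inferInstance _ hdU _) (U.inv_mem hdU)
    rw [hd, Subgroup.mem_bot, inv_mul_eq_one] at h3
    have hxx : x = x' := Subtype.ext h3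
    subst hxx
    have h4 : (x : Γ) * d = d * x := by
      have := congrArg (· * d) h2
      simpa [mul_assoc] using this.symm
    have h5 := hfpf _ x.2 (fun h => hx (Subtype.ext h)) d hdU h4
    rw [hdd, inv_mul_eq_one] at h5
    simp [Subtype.ext h5.symm]
  have hcard : Fintype.card (U × {x : E // x ≠ 1}) = Fintype.card {g : Γ // g ∉ U} := by
    have h1 : Fintype.card U * Fintype.card E = Fintype.card Γ := by
      simpa [Nat.card_eq_fintype_card] using (isCompl U E hd hj).card_mul
    rw [Fintype.card_prod, Fintype.card_subtype_compl, Fintype.card_subtype_compl, ← h1,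
      Fintype.card_subtype_eq, Nat.mul_sub, mul_one]
  have hbij := (Fintype.bijective_iff_injective_and_card F).2 ⟨hinj, hcard⟩
  have h1 : ∑ g : {g : Γ // g ∉ U}, χ g = Fintype.card U • ∑ x : {x : E // x ≠ 1}, χ x.1 := by
    rw [← hbij.sum_comp, Fintype.sum_prod_type]
    simp [F, hχ]
  have h2 := Fintype.sum_subtype_add_sum_subtype (fun g => g ∈ U) χ
  have h3 := Fintype.sum_subtype_add_sum_subtype (fun x : E => x ≠ 1) (fun x : E => χ x)
  have h4 : ∑ x : {x : E // ¬ x ≠ 1}, χ (x.1 : Γ) = χ 1 := by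
    rw [Fintype.sum_eq_single (⟨1, by simp⟩ : {x : E // ¬ x ≠ 1})]
    · simp
    · rintro ⟨x, hx⟩ hne
      exact absurd (Subtype.ext (not_not.1 hx)) hne
  rw [← h2, h1, ← h3, h4, smul_add]
  rw [add_assoc]
  congr 1
  exact Finset.sum_congr (by ext; simp) (fun _ _ => rfl)

end Partition

section Linear

variable {r : ℕ} [Fact r.Prime] {ι : Type*} [Fintype ι] [DecidableEq ι]

theorem finrank_range_avg {Γ : Type*} [Group Γ] (A : Subgroup Γ) [Fintype A]
    (hA : (Fintype.card A : ZMod r) ≠ 0) (ρ : Γ →* GL ι (ZMod r)) (c : ZMod r)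
    (hc : c * (Fintype.card A : ZMod r) = 1) :
    (LinearMap.range (Matrix.toLin' (c • ∑ a : A, (ρ a : Matrix ι ι (ZMod r)))) :
      Set (ι → ZMod r)) = {v | ∀ a : A, (ρ a : Matrix ι ι (ZMod r)) *ᵥ v = v} := by
  ext v
  simp only [SetLike.mem_coe, LinearMap.mem_range, Set.mem_ofPred_eq, Matrix.toLin'_apply]
  constructor
  · rintro ⟨w, rfl⟩ a
    rw [Matrix.mulVec_mulVec, Matrix.mul_smul, Finset.mul_sum]
    congr 2
    exact Fintype.sum_equiv (Equiv.mulLeft a) _ _ (fun b => by simp)
  · intro h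
    refine ⟨v, ?_⟩
    rw [Matrix.smul_mulVec, Matrix.sum_mulVec, Finset.sum_congr rfl (fun a _ => h a),
      Finset.sum_const, Finset.card_univ, ← Nat.cast_smul_eq_nsmul (ZMod r), smul_smul, hc, one_smul]

/-- Fixed points of a matrix group. -/
noncomputable def fixDim {Γ : Type*} [Group Γ] (A : Subgroup Γ) (ρ : Γ →* GL ι (ZMod r)) : ℕ :=
  Nat.card {v : ι → ZMod r // ∀ a : A, (ρ a : Matrix ι ι (ZMod r)) *ᵥ v = v}

theorem linear_formula {Γ : Type*} [Group Γ] [Finite Γ] (U E : Subgroup Γ) [U.Normal]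
    (hd : U ⊓ E = ⊥) (hj : U ⊔ E = ⊤)
    (hfpf : ∀ e ∈ E, e ≠ 1 → ∀ u ∈ U, e * u = u * e → u = 1)
    (hcop : (Nat.card Γ).Coprime r) (ρ : Γ →* GL ι (ZMod r)) :
    fixDim ⊤ ρ ^ Nat.card E * r ^ Fintype.card ι = fixDim E ρ ^ Nat.card E * fixDim U ρ := by
  classical
  have : Fintype Γ := Fintype.ofFinite Γ
  set n := Fintype.card ι with hn
  set u := Fintype.card U with hu
  set e := Fintype.card E with he
  set m := (e + 1) * n with hm
  obtain ⟨φ, hφ⟩ := exists_lift r m hcop ρ
  set R := ZMod (r ^ (m + 1))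
  have hr := (Fact.out : r.Prime)
  have hunit : ∀ (A : Subgroup Γ), IsUnit (Fintype.card A : R) := fun A => by
    rw [ZMod.isUnit_iff_coprime]
    apply Nat.Coprime.pow_right
    refine Nat.Coprime.coprime_dvd_left ?_ hcop
    rw [← Nat.card_eq_fintype_card]
    exact A.card_subgroup_dvd_card
  let χ : Γ → R := fun g => (φ g : Matrix ι ι R).trace
  have hχc : ∀ c g, χ (c * g * c⁻¹) = χ g := fun c g => by
    simp only [χ, map_mul, map_inv, Units.val_mul, Matrix.trace_units_conj]
  have havg : ∀ (A : Subgroup Γ), ∃ d : ℕ, fixDim A ρ = r ^ d ∧ d ≤ n ∧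
      ∑ a : A, χ a = (Fintype.card A : R) * d := by
    intro A
    obtain ⟨w, hw⟩ := hunit A
    set S : Matrix ι ι R := ∑ a : A, (φ a : Matrix ι ι R) with hS
    set P : Matrix ι ι R := ((w⁻¹ : Rˣ) : R) • S with hP
    have hSS : S * S = (Fintype.card A : R) • S := by
      rw [Nat.cast_smul_eq_nsmul, ← Finset.card_univ, ← Finset.sum_const]
      nth_rewrite 1 [hS]
      rw [Finset.sum_mul]
      refine Finset.sum_congr rfl fun a _ => ?_
      rw [hS, Finset.mul_sum]
      exact Fintype.sum_equiv (Equiv.mulLeft a) _ _ (fun b => by simp)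
    have hPP : P * P = P := by
      rw [hP, Matrix.smul_mul, Matrix.mul_smul, hSS, smul_smul, smul_smul, ← hw, mul_assoc,
        Units.inv_mul, mul_one]
    have htr := trace_idem (isUnit_of_red r m) (red_surjective r m) hPP
    set c : ZMod r := red r m ((w⁻¹ : Rˣ) : R)
    have hc : c * (Fintype.card A : ZMod r) = 1 := by
      rw [← map_natCast (red r m), ← map_mul, ← hw, Units.inv_mul, map_one]
    have hred : (red r m).mapMatrix P = c • ∑ a : A, (ρ a : Matrix ι ι (ZMod r)) := by
      have hs : (red r m).mapMatrix S = ∑ a : A, (ρ a : Matrix ι ι (ZMod r)) := by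
        rw [hS, map_sum]; exact Finset.sum_congr rfl fun a _ => hφ a
      rw [← hs, hP, RingHom.mapMatrix_apply, RingHom.mapMatrix_apply]
      ext i j; simp [c]
    refine ⟨Module.finrank (ZMod r) (LinearMap.range (Matrix.toLin' ((red r m).mapMatrix P))), ?_, ?_, ?_⟩
    · have hne : (Fintype.card A : ZMod r) ≠ 0 := fun h => by simp [h] at hc
      have h1 := finrank_range_avg A hne ρ c hc
      rw [← hred] at h1
      exact (Nat.card_congr (Equiv.subtypeEquivRight (Set.ext_iff.1 h1)).symm).trans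
        ((Module.natCard_eq_pow_finrank (K := ZMod r)
          (V := LinearMap.range (Matrix.toLin' ((red r m).mapMatrix P)))).trans (by rw [Nat.card_zmod]))
    · exact (Submodule.finrank_le _).trans (by simp [hn])
    · rw [← htr, hP, Matrix.trace_smul, hS, Matrix.trace_sum, smul_eq_mul, ← mul_assoc, ← hw,
        Units.mul_inv, one_mul]
  obtain ⟨dG, hG, hGn, hsG⟩ := havg ⊤
  obtain ⟨dE, hE, hEn, hsE⟩ := havg E
  obtain ⟨dU, hU, hUn, hsU⟩ := havg U
  have h := sum_partition U E hd hj hfpf χ hχc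
  have hG' : ∑ g, χ g = ((u * e : ℕ) : R) * dG := by
    have h1 : u * e = Fintype.card (⊤ : Subgroup Γ) := by
      rw [← Nat.card_eq_fintype_card, Subgroup.card_top, ← (isCompl U E hd hj).card_mul]
      simp [hu, he, Nat.card_eq_fintype_card]
    rw [h1, ← hsG]
    exact (Fintype.sum_equiv Subgroup.topEquiv.toEquiv _ _ (fun x => rfl)).symm
  have h1 : χ 1 = (n : R) := by simp [χ, hn]
  rw [hG', h1, hsU, hsE, nsmul_eq_mul, nsmul_eq_mul] at h
  have h2 : ((u : R) * ((e * dG + n : ℕ) : R)) = (u : R) * ((dU + e * dE : ℕ) : R) := by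
    push_cast at h ⊢
    rw [← hu, ← he] at h
    simp only [Nat.cast_add, Nat.cast_mul, R] at h ⊢
    linear_combination h
  have h3 : e * dG + n = dU + e * dE := by
    have h4 := (hunit U).mul_left_cancel h2
    rw [ZMod.natCast_eq_natCast_iff'] at h4
    have hb : (e + 1) * n < r ^ (m + 1) := by
      rw [← hm]; exact (Nat.lt_succ_self m).trans_le (Nat.le_of_lt (Nat.lt_pow_self hr.one_lt))
    have b1 : e * dG + n < r ^ (m + 1) := by nlinarith
    have b2 : dU + e * dE < r ^ (m + 1) := by nlinarith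
    rwa [Nat.mod_eq_of_lt b1, Nat.mod_eq_of_lt b2] at h4
  rw [hG, hE, hU, Nat.card_eq_fintype_card, ← he, ← pow_mul, ← pow_mul, ← pow_add, ← pow_add]
  congr 1
  linarith

end Linear

end Cfsg.Lib.Char.FrobFixed

namespace Cfsg.Lib.Char.FrobFixed

open Matrix Cfsg.Lib.Char.LiftTrace

section Groups

universe v

/-- Number of fixed points of a subgroup of an acting group. -/
noncomputable def fixCard {Γ : Type*} [Group Γ] (A : Subgroup Γ) (G : Type*) [Group G]
    [MulDistribMulAction Γ G] : ℕ :=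
  Nat.card {g : G // ∀ a : A, (a : Γ) • g = g}

theorem elementary_add {Γ : Type*} [Group Γ] [Finite Γ] (U E : Subgroup Γ) [U.Normal]
    (hd : U ⊓ E = ⊥) (hj : U ⊔ E = ⊤)
    (hfpf : ∀ e ∈ E, e ≠ 1 → ∀ u ∈ U, e * u = u * e → u = 1)
    {r : ℕ} [Fact r.Prime] (hcop : (Nat.card Γ).Coprime r)
    {M : Type*} [AddCommGroup M] [Module (ZMod r) M] [Finite M] [DistribMulAction Γ M] :
    Nat.card {x : M // ∀ a : (⊤ : Subgroup Γ), (a : Γ) • x = x} ^ Nat.card E * Nat.card M =
      Nat.card {x : M // ∀ a : E, (a : Γ) • x = x} ^ Nat.card E *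
        Nat.card {x : M // ∀ a : U, (a : Γ) • x = x} := by
  classical
  let b := Module.finBasis (ZMod r) M
  set n := Module.finrank (ZMod r) M with hn
  let L : Γ →* Module.End (ZMod r) M :=
    { toFun := fun g => AddMonoidHom.toZModLinearMap r (DistribMulAction.toAddMonoidHom M g)
      map_one' := by ext x; simp
      map_mul' := fun g h => by ext x; simp [mul_smul] }
  let ρ : Γ →* GL (Fin n) (ZMod r) :=
    (((LinearMap.toMatrixAlgEquiv b).toAlgHom.toRingHom.toMonoidHom).comp L).toHomUnits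
  have hρ : ∀ (g : Γ) (x : M), (ρ g : Matrix (Fin n) (Fin n) (ZMod r)) *ᵥ b.equivFun x =
      b.equivFun (g • x) := by
    intro g x
    exact LinearMap.toMatrix_mulVec_repr b b (L g) x
  have hfix : ∀ A : Subgroup Γ, Nat.card {x : M // ∀ a : A, (a : Γ) • x = x} = fixDim A ρ := by
    intro A
    refine Nat.card_congr (Equiv.subtypeEquiv b.equivFun.toEquiv ?_)
    intro x
    refine forall_congr' fun a => ?_
    change _ ↔ _ *ᵥ b.equivFun x = b.equivFun x
    rw [hρ, b.equivFun.injective.eq_iff]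
  have hM : Nat.card M = r ^ Fintype.card (Fin n) := by
    rw [Module.natCard_eq_pow_finrank (K := ZMod r), Nat.card_zmod, Fintype.card_fin]
  rw [hfix, hfix, hfix, hM]
  exact linear_formula U E hd hj hfpf hcop ρ

theorem elementary_formula {Γ : Type*} [Group Γ] [Finite Γ] (U E : Subgroup Γ) [U.Normal]
    (hd : U ⊓ E = ⊥) (hj : U ⊔ E = ⊤)
    (hfpf : ∀ e ∈ E, e ≠ 1 → ∀ u ∈ U, e * u = u * e → u = 1)
    {r : ℕ} [Fact r.Prime] (hcop : (Nat.card Γ).Coprime r)
    {M : Type*} [CommGroup M] [Finite M] [MulDistribMulAction Γ M] (hexp : ∀ x : M, x ^ r = 1) :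
    fixCard (⊤ : Subgroup Γ) M ^ Nat.card E * Nat.card M = fixCard E M ^ Nat.card E * fixCard U M := by
  letI inst : Module (ZMod r) (Additive M) := AddCommGroup.zmodModule (fun x => by
    apply Additive.toMul.injective; simpa using hexp x.toMul)
  let act : DistribMulAction Γ (Additive M) :=
    { smul := fun g x => Additive.ofMul (g • Additive.toMul x)
      one_smul := fun x => congrArg Additive.ofMul (one_smul Γ (Additive.toMul x))
      mul_smul := fun g h x => congrArg Additive.ofMul (mul_smul g h (Additive.toMul x))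
      smul_zero := fun g => congrArg Additive.ofMul (smul_one g)
      smul_add := fun g x y => congrArg Additive.ofMul (smul_mul' g (Additive.toMul x) (Additive.toMul y)) }
  exact @elementary_add Γ _ _ U E _ hd hj hfpf r _ hcop (Additive M) _ inst _ act

theorem formula {Γ : Type*} [Group Γ] [Finite Γ] (U E : Subgroup Γ) [U.Normal]
    (hd : U ⊓ E = ⊥) (hj : U ⊔ E = ⊤)
    (hfpf : ∀ e ∈ E, e ≠ 1 → ∀ u ∈ U, e * u = u * e → u = 1) :
    ∀ (k : ℕ) (G : Type v) [Group G] [Finite G] [MulDistribMulAction Γ G], Group.IsSolvable G →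
      (Nat.card Γ).Coprime (Nat.card G) → Nat.card G = k →
      fixCard (⊤ : Subgroup Γ) G ^ Nat.card E * Nat.card G = fixCard E G ^ Nat.card E * fixCard U G := by
  intro k
  induction k using Nat.strong_induction_on with
  | _ k IH =>
  intro G _ _ _ hsolv hcop hk
  subst hk
  rcases subsingleton_or_nontrivial G with hG | hG
  · have h1 : ∀ A : Subgroup Γ, fixCard A G = 1 := fun A => by
      have : Subsingleton {g : G // ∀ a : A, (a : Γ) • g = g} := inferInstance
      exact Nat.card_eq_one_iff_unique.2 ⟨this, ⟨⟨1, fun a => smul_one _⟩⟩⟩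
    simp [h1]
  classical
  have hex : ∃ j, derivedSeries G j = ⊥ := (Group.isSolvable_def _).1 hsolv
  obtain ⟨j, hj1, hj2⟩ : ∃ j, derivedSeries G j ≠ ⊥ ∧ derivedSeries G (j + 1) = ⊥ := by
    have h0 : Nat.find hex ≠ 0 := fun h => by
      have := Nat.find_spec hex
      rw [h, derivedSeries_zero] at this
      exact top_ne_bot this
    obtain ⟨j, hj⟩ := Nat.exists_eq_succ_of_ne_zero h0
    exact ⟨j, Nat.find_min hex (by omega), by rw [← Nat.succ_eq_add_one, ← hj]; exact Nat.find_spec hex⟩
  have hDc : ∀ x ∈ derivedSeries G j, ∀ y ∈ derivedSeries G j, x * y = y * x := by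
    intro x hx y hy
    refine commutatorElement_eq_one_iff_mul_comm.1 ?_
    rw [← Subgroup.mem_bot, ← hj2, derivedSeries_succ]
    exact Subgroup.commutator_mem_commutator hx hy
  have hcard1 : Nat.card (derivedSeries G j) ≠ 1 := by
    rwa [Ne, Subgroup.card_eq_one]
  obtain ⟨r, hr, hrd⟩ := Nat.exists_prime_and_dvd hcard1
  have : Fact r.Prime := ⟨hr⟩
  let N : Subgroup G :=
    { carrier := {x | x ∈ derivedSeries G j ∧ x ^ r = 1}
      one_mem' := ⟨one_mem _, one_pow _⟩
      mul_mem' := fun {x y} hx hy => ⟨mul_mem hx.1 hy.1, by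
        rw [(show Commute x y from hDc x hx.1 y hy.1).mul_pow, hx.2, hy.2, one_mul]⟩
      inv_mem' := fun {x} hx => ⟨inv_mem hx.1, by rw [inv_pow, hx.2, inv_one]⟩ }
  have hDn : (derivedSeries G j).Normal := inferInstance
  have hNn : N.Normal := ⟨fun x hx g => ⟨hDn.conj_mem x hx.1 g, by
    rw [conj_pow, hx.2, mul_one, mul_inv_cancel]⟩⟩
  have hNinv : ∀ (a : Γ) (x : G), x ∈ N → a • x ∈ N := fun a x hx => ⟨by
    have h := (Subgroup.characteristic_iff_map_le.1 (inferInstance : (derivedSeries G j).Characteristic)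
      (MulDistribMulAction.toMulEquiv G a))
    exact h ⟨x, hx.1, rfl⟩, by rw [← smul_pow', hx.2, smul_one]⟩
  have hN1 : N ≠ ⊥ := by
    obtain ⟨x, hx⟩ := exists_prime_orderOf_dvd_card' r hrd
    intro h
    have : (x : G) ∈ N := ⟨x.2, by
      rw [← SubgroupClass.coe_pow, ← hx, pow_orderOf_eq_one]; rfl⟩
    rw [h, Subgroup.mem_bot, OneMemClass.coe_eq_one] at this
    rw [this, orderOf_one] at hx
    exact hr.ne_one hx.symm
  have hcopr : (Nat.card Γ).Coprime r :=
    hcop.coprime_dvd_right (hrd.trans (Subgroup.card_subgroup_dvd_card _))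
  let actN : MulDistribMulAction Γ N :=
    { smul := fun a x => ⟨a • (x : G), hNinv a x x.2⟩
      one_smul := fun x => Subtype.ext (one_smul Γ (x : G))
      mul_smul := fun a b x => Subtype.ext (mul_smul a b (x : G))
      smul_mul := fun a x y => Subtype.ext (smul_mul' a (x : G) y)
      smul_one := fun a => Subtype.ext (smul_one a) }
  let cN : CommGroup N :=
    { (inferInstance : Group N) with
      mul_comm := fun x y => Subtype.ext (hDc _ x.2.1 _ y.2.1) }
  have hN : fixCard (⊤ : Subgroup Γ) N ^ Nat.card E * Nat.card N =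
      fixCard E N ^ Nat.card E * fixCard U N :=
    elementary_formula U E hd hj hfpf hcopr (M := N) (fun x => Subtype.ext x.2.2)
  have hq : ∀ (a : Γ) (x : G), x ∈ N → a • x ∈ N := hNinv
  let actQ : MulDistribMulAction Γ (G ⧸ N) :=
    { smul := fun a => QuotientGroup.map N N (MulDistribMulAction.toMonoidHom G a) (fun x hx => hNinv a x hx)
      one_smul := fun x => by
        obtain ⟨g, rfl⟩ := QuotientGroup.mk_surjective x
        exact congrArg QuotientGroup.mk (one_smul Γ g)
      mul_smul := fun a b x => by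
        obtain ⟨g, rfl⟩ := QuotientGroup.mk_surjective x
        exact congrArg QuotientGroup.mk (mul_smul a b g)
      smul_mul := fun a x y => map_mul (QuotientGroup.map N N (MulDistribMulAction.toMonoidHom G a) _) x y
      smul_one := fun a => map_one (QuotientGroup.map N N (MulDistribMulAction.toMonoidHom G a) _) }
  have hmk : ∀ (a : Γ) (g : G), a • (g : G ⧸ N) = ((a • g : G) : G ⧸ N) := fun a g => rfl
  have hlt : Nat.card (G ⧸ N) < Nat.card G := by
    have h1 : 1 < Nat.card N := (Subgroup.one_lt_card_iff_ne_bot N).2 hN1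
    rw [Subgroup.card_eq_card_quotient_mul_card_subgroup N]
    exact lt_mul_of_one_lt_right Nat.card_pos h1
  have hQ : fixCard (⊤ : Subgroup Γ) (G ⧸ N) ^ Nat.card E * Nat.card (G ⧸ N) =
      fixCard E (G ⧸ N) ^ Nat.card E * fixCard U (G ⧸ N) :=
    IH _ hlt (G ⧸ N) (Group.isSolvable_of_surjective (QuotientGroup.mk'_surjective N))
      (hcop.coprime_dvd_right (Subgroup.card_quotient_dvd_card N)) rfl
  have hmul : ∀ A : Subgroup Γ, fixCard A G = fixCard A (G ⧸ N) * fixCard A N := by
    intro A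
    let FG : Subgroup G :=
      { carrier := {g | ∀ a : A, (a : Γ) • g = g}
        one_mem' := fun a => smul_one _
        mul_mem' := fun {x y} hx hy a => by rw [smul_mul', hx a, hy a]
        inv_mem' := fun {x} hx a => by rw [smul_inv', hx a] }
    let π : FG →* G ⧸ N := (QuotientGroup.mk' N).comp FG.subtype
    have hrange : Nat.card π.range = fixCard A (G ⧸ N) := by
      refine Nat.card_congr (Equiv.subtypeEquivRight fun q => ?_)
      constructor
      · rintro ⟨g, rfl⟩ a
        exact congrArg QuotientGroup.mk (g.2 a)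
      · intro hq
        obtain ⟨g, rfl⟩ := QuotientGroup.mk_surjective q
        have : Fintype A := Fintype.ofFinite _
        let c : A → N := fun a => ⟨g⁻¹ * (a : Γ) • g, QuotientGroup.eq.1 (by
          have := hq a; rw [hmk] at this; exact this.symm)⟩
        set s : N := ∏ a : A, c a with hs
        have hc : ∀ a : A, s = c a ^ Fintype.card A * (a : Γ) • s := by
          intro a
          have h1 : ∀ b : A, c (a * b) = c a * (a : Γ) • c b := fun b => Subtype.ext (by
            change g⁻¹ * ((a * b : A) : Γ) • g = g⁻¹ * (a : Γ) • g * (a : Γ) • (g⁻¹ * (b : Γ) • g)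
            rw [smul_mul', smul_inv', Subgroup.coe_mul, mul_smul]; group)
          calc s = ∏ b, c (a * b) := (Equiv.prod_comp (Equiv.mulLeft a) c).symm
            _ = _ := by
              simp only [h1, Finset.prod_mul_distrib, Finset.prod_const, Finset.card_univ]
              rw [hs, ← MulDistribMulAction.toMonoidHom_apply, map_prod]
              rfl
        have hAr : (Fintype.card A).Coprime r := by
          refine hcopr.coprime_dvd_left ?_
          rw [← Nat.card_eq_fintype_card]; exact A.card_subgroup_dvd_card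
        obtain ⟨l, hl⟩ : ∃ l, Fintype.card A * l ≡ 1 [MOD r] := Nat.exists_mul_mod_eq_one_of_coprime hAr hr.one_lt |>.imp fun l h => by
          simpa [Nat.ModEq, Nat.one_mod_eq_one.2 hr.ne_one] using h.2
        set t : N := s ^ l with ht
        have hfixed : ∀ a : A, (a : Γ) • (g * (t : G)) = g * (t : G) := by
          intro a
          have h2 : t = c a * (a : Γ) • t := by
            rw [ht]
            conv_lhs => rw [hc a, mul_pow, ← pow_mul, ← smul_pow']
            congr 1
            have hx : (c a) ^ r = 1 := Subtype.ext (c a).2.2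
            rw [pow_eq_pow_mod (Fintype.card A * l) hx, hl, Nat.one_mod_eq_one.2 hr.ne_one, pow_one]
          rw [smul_mul']
          conv_rhs => rw [h2]
          change _ = g * (g⁻¹ * (a : Γ) • g * (a : Γ) • (t : G))
          group
        refine ⟨⟨g * t, hfixed⟩, ?_⟩
        exact (QuotientGroup.eq.2 (by simp [t.2])).symm
    have hker : Nat.card π.ker = fixCard A N := Nat.card_congr
      { toFun := fun x => ⟨⟨x.1.1, (QuotientGroup.eq_one_iff _).1 x.2⟩, fun a => Subtype.ext (x.1.2 a)⟩
        invFun := fun x => ⟨⟨x.1.1, fun a => congrArg Subtype.val (x.2 a)⟩,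
          (QuotientGroup.eq_one_iff _).2 x.1.2⟩
        left_inv := fun x => rfl
        right_inv := fun x => rfl }
    rw [← hker, ← hrange, ← Subgroup.index_ker]
    exact (π.ker.index_mul_card).symm
  rw [hmul, hmul, hmul, Subgroup.card_eq_card_quotient_mul_card_subgroup N, mul_pow, mul_pow]
  calc _ = (fixCard (⊤ : Subgroup Γ) (G ⧸ N) ^ Nat.card E * Nat.card (G ⧸ N)) *
        (fixCard (⊤ : Subgroup Γ) N ^ Nat.card E * Nat.card N) := by ring
    _ = _ := by rw [hQ, hN]; ring

end Groups

end Cfsg.Lib.Char.FrobFixed
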