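import Cfsg.Prelude.Def_Blocks
import Cfsg.Agent.Lib.Char.Central
import Cfsg.Agent.Lib.Char.Formulas
import Cfsg.Agent.Lib.Char.Clifford
import Cfsg.Agent.Lib.Char.Linear
import Mathlib.GroupTheory.Transfer
import Mathlib.GroupTheory.Sylow

/-!
# Sylow subgroups all of whose nonidentity elements have the same centralizer: characters of small degree
-/

set_option autoImplicit false
set_option linter.unusedSectionVars false
set_option linter.style.haveILetI false

namespace Cfsg.Lib.Char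

open Cfsg
open scoped ComplexConjugate

universe u

variable {G : Type u} [Group G]

/-- central elements act by scalars in an irreducible character -/
theorem irr_apply_central_mul [Fintype G] {χ : G → ℂ} (hχ : IsIrrCharacter G χ) {z : G}
    (hz : ∀ g, g * z = z * g) (g : G) : χ (z * g) * χ 1 = χ z * χ g := by
  classical
  obtain ⟨n, ρ, hρ, rfl⟩ := hχ
  have hcl : classFinset z = {z} := by
    ext x
    rw [mem_classFinset, Finset.mem_singleton, isConj_iff]
    refine ⟨fun ⟨c, hc⟩ => ?_, fun h => ⟨1, by simp [h]⟩⟩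
    rw [← hc, hz c, mul_inv_cancel_right]
  have h := sum_class_smul ρ z
  rw [hcl, Finset.sum_singleton, Finset.card_singleton, Nat.cast_one, one_mul] at h
  have hne : (Module.finrank ℂ (Fin n → ℂ) : ℂ) ≠ 0 :=
    Nat.cast_ne_zero.mpr (irreducible_finrank_pos ρ).ne'
  generalize hc : ρ.character z / (Module.finrank ℂ (Fin n → ℂ) : ℂ) = c at h
  have h2 : ρ (z * g) = c • ρ g := by
    rw [map_mul, h, smul_mul_assoc]
    rfl
  have h3 : ρ.character (z * g) = c * ρ.character g := by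
    simp only [Representation.character]
    rw [h2, map_smul, smul_eq_mul]
  rw [h3, ← hc, Representation.char_one]
  field_simp

/-- a generalized character of norm two vanishing at one is a difference of two irreducibles -/
theorem exists_eq_sub_of_norm_two [Fintype G] {f : G → ℂ} (hf : IsGeneralizedCharacter G f)
    (h2 : classInner f f = 2) (h1 : f 1 = 0) (η : IrrCharacter G) (m : ℕ) (hm : 1 ≤ m)
    (hη : classInner f (η : G → ℂ) = m) :
    m = 1 ∧ ∃ η' : IrrCharacter G, η' ≠ η ∧ charDegree (η' : G → ℂ) = charDegree (η : G → ℂ) ∧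
      f = (η : G → ℂ) - (η' : G → ℂ) := by
  classical
  have hn : ∀ ψ : IrrCharacter G, ∃ n : ℤ, classInner f (ψ : G → ℂ) = n :=
    fun ψ => (isGeneralizedCharacter_iff.mp hf).2 _ ψ.2
  choose n hn using hn
  have hne : n η = m := by
    have := hn η
    rw [hη] at this
    exact_mod_cast this.symm
  have hsq : ∑ ψ : IrrCharacter G, n ψ ^ 2 = 2 := by
    have h := classInner_eq_sum (f' := f) hf.isClassFunction
    simp only [hn, map_intCast, h2] at h
    refine Int.cast_injective (α := ℂ) ?_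
    push_cast
    rw [h]
    exact Finset.sum_congr rfl fun ψ _ => by ring
  rw [← Finset.add_sum_erase _ _ (Finset.mem_univ η), hne] at hsq
  have hnonneg : 0 ≤ ∑ ψ ∈ Finset.univ.erase η, n ψ ^ 2 := Finset.sum_nonneg fun _ _ => sq_nonneg _
  have hm1 : m = 1 := by
    by_contra h
    have : (2 : ℤ) ≤ (m : ℤ) := by omega
    nlinarith
  subst hm1
  have hrest : ∑ ψ ∈ Finset.univ.erase η, n ψ ^ 2 = 1 := by push_cast at hsq; linarith
  obtain ⟨η', hη', hη'0⟩ : ∃ η' ∈ Finset.univ.erase η, n η' ^ 2 ≠ 0 := by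
    by_contra hcon
    push Not at hcon
    rw [Finset.sum_eq_zero hcon] at hrest
    exact zero_ne_one hrest
  rw [← Finset.add_sum_erase _ _ hη'] at hrest
  have hrest0 : 0 ≤ ∑ ψ ∈ (Finset.univ.erase η).erase η', n ψ ^ 2 :=
    Finset.sum_nonneg fun _ _ => sq_nonneg _
  have hpos : 0 < n η' ^ 2 := lt_of_le_of_ne (sq_nonneg _) (Ne.symm hη'0)
  have hzero : ∀ ψ, ψ ≠ η → ψ ≠ η' → n ψ = 0 := by
    intro ψ ha hb
    have h := (Finset.sum_eq_zero_iff_of_nonneg (fun _ _ => sq_nonneg _)).mp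
      (show ∑ ψ ∈ (Finset.univ.erase η).erase η', n ψ ^ 2 = 0 by omega) ψ (by simp [ha, hb])
    exact pow_eq_zero_iff two_ne_zero |>.mp h
  have hne' : η' ≠ η := (Finset.mem_erase.mp hη').1
  have hexp : f = (η : G → ℂ) + (n η' : ℂ) • (η' : G → ℂ) := by
    conv_lhs => rw [eq_sum_classInner hf.isClassFunction]
    rw [← Finset.add_sum_erase _ _ (Finset.mem_univ η),
      Finset.sum_eq_single_of_mem η' hη' (fun ψ hψ hψ' => by
        rw [hn, hzero ψ (Finset.mem_erase.mp hψ).1 hψ', Int.cast_zero, zero_smul]),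
      hη, hn η', Nat.cast_one, one_smul]
  have hsgn : n η' = -1 := by
    have h3 : n η' ^ 2 = 1 := by omega
    rcases sq_eq_one_iff.mp h3 with h | h
    · exfalso
      have h4 := congrFun hexp 1
      rw [h1, h, Int.cast_one, one_smul, Pi.add_apply, η.2.apply_one_eq_charDegree,
        η'.2.apply_one_eq_charDegree, ← Nat.cast_add] at h4
      have h5 : charDegree (η : G → ℂ) + charDegree (η' : G → ℂ) = 0 := by exact_mod_cast h4.symm
      have := η.2.charDegree_pos
      omega
    · exact h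
  have hfe : f = (η : G → ℂ) - (η' : G → ℂ) := by
    rw [hexp, hsgn, Int.cast_neg, Int.cast_one, neg_one_smul, sub_eq_add_neg]
  refine ⟨rfl, η', hne', ?_, hfe⟩
  have h4 := congrFun hfe 1
  rw [h1, Pi.sub_apply, η.2.apply_one_eq_charDegree, η'.2.apply_one_eq_charDegree, eq_comm,
    sub_eq_zero] at h4
  exact (Nat.cast_injective h4).symm

theorem exists_hom_bijOn_sylow {X : Type u} [Group X] [Finite X] {p : ℕ} [Fact p.Prime] (Q : Sylow p X)
    (hQ : Subgroup.normalizer ((Q : Subgroup X) : Set X) ≤ Subgroup.centralizer ((Q : Subgroup X) : Set X)) :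
    ∃ τ : X →* (Q : Subgroup X), Function.Bijective (fun a : (Q : Subgroup X) => τ (a : X)) := by
  refine ⟨MonoidHom.transferSylow Q hQ, ?_⟩
  have hd := MonoidHom.transferSylow_domRestrict_eq_pow Q hQ
  have hb : Function.Bijective (fun a : (Q : Subgroup X) => a ^ (Q : Subgroup X).index) :=
    (Q.2.powEquiv' Q.not_dvd_index).bijective
  have h2 : Function.Bijective ((MonoidHom.transferSylow Q hQ).domRestrict (Q : Subgroup X)) := by
    rw [hd]; exact hb
  exact h2

section UC

open scoped Classical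

variable (p : ℕ) [Fact p.Prime] (P : Sylow p G)

/-- all nonidentity elements of `P` have the centralizer of `P` -/
def IsUniformCent : Prop :=
  ∀ y ∈ (P : Subgroup G), y ≠ 1 →
    Subgroup.centralizer ({y} : Set G) = Subgroup.centralizer ((P : Subgroup G) : Set G)

local notation "CC" => Subgroup.centralizer ((P : Subgroup G) : Set G)
local notation "NN" => Subgroup.normalizer ((P : Subgroup G) : Set G)

variable {p} {P}

theorem uc_comm (h : IsUniformCent p P) {a b : G} (ha : a ∈ (P : Subgroup G))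
    (hb : b ∈ (P : Subgroup G)) : a * b = b * a := by
  by_cases ha1 : a = 1
  · simp [ha1]
  have h1 : a ∈ CC := by
    rw [← h a ha ha1]
    exact Subgroup.mem_centralizer_singleton_iff.mpr rfl
  exact (Subgroup.mem_centralizer_iff.mp h1 b hb).symm

theorem uc_le (h : IsUniformCent p P) : (P : Subgroup G) ≤ CC := fun _ ha =>
  Subgroup.mem_centralizer_iff.mpr fun _ hb => uc_comm h hb ha

theorem uc_mem_of_pow {c : G} (hc : c ∈ CC) {k : ℕ} (hk : c ^ p ^ k = 1) :
    c ∈ (P : Subgroup G) := by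
  have hn : Subgroup.zpowers c ≤ NN := by
    rw [Subgroup.zpowers_le]
    exact Subgroup.centralizer_le_normalizer _ hc
  have hz : IsPGroup p (Subgroup.zpowers c) := by
    rintro ⟨x, hx⟩
    obtain ⟨i, rfl⟩ := Subgroup.mem_zpowers_iff.mp hx
    refine ⟨k, Subtype.ext ?_⟩
    simp only [SubmonoidClass.coe_pow, Subgroup.coe_one]
    rw [← zpow_natCast, ← zpow_mul, mul_comm, zpow_mul, zpow_natCast, hk, one_zpow]
  have h2 := P.3 (IsPGroup.to_sup_of_normal_left' P.2 hz hn) le_sup_left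
  exact h2 ▸ (le_sup_right : _ ≤ (P : Subgroup G) ⊔ Subgroup.zpowers c) (Subgroup.mem_zpowers c)

/-- elements whose cyclic subgroup meets `P` -/
def ucSing (c : G) : Prop := ∃ k : ℕ, c ^ k ∈ (P : Subgroup G) ∧ c ^ k ≠ 1

variable [Fintype G]

theorem uc_not_dvd {c : G} (hc : c ∈ CC) (hT : ¬ ucSing (P := P) c) : ¬ p ∣ orderOf c := by
  intro hd
  apply hT
  have hp : p.Prime := Fact.out
  obtain ⟨v, m, hm, hcm⟩ := Nat.exists_eq_pow_mul_and_not_dvd (orderOf_pos c).ne' p hp.ne_one
  refine ⟨m, uc_mem_of_pow (pow_mem hc m) (k := v) ?_, ?_⟩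
  · rw [← pow_mul, mul_comm, ← hcm, pow_orderOf_eq_one]
  · intro h1
    exact hm (hd.trans (orderOf_dvd_of_pow_eq_one h1))

theorem uc_not_sing_of_not_dvd {c : G} (hd : ¬ p ∣ orderOf c) : ¬ ucSing (P := P) c := by
  rintro ⟨k, hk, hk1⟩
  apply hk1
  obtain ⟨i, hi⟩ := P.2 ⟨c ^ k, hk⟩
  have h1 : orderOf (c ^ k) ∣ p ^ i := orderOf_dvd_of_pow_eq_one (congrArg Subtype.val hi)
  have h2 : orderOf (c ^ k) ∣ orderOf c := orderOf_pow_dvd k
  have hcop : Nat.Coprime (p ^ i) (orderOf c) :=
    ((Nat.Prime.coprime_iff_not_dvd Fact.out).mpr hd).pow_left _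
  exact orderOf_eq_one_iff.mp (Nat.dvd_one.mp (hcop ▸ Nat.dvd_gcd h1 h2))

theorem uc_mem_normalizer (h : IsUniformCent p P) {c x : G} (hc : c ∈ CC)
    (hT : ucSing (P := P) c) (hx : x⁻¹ * c * x ∈ CC) : x ∈ NN := by
  obtain ⟨k, hk, hk1⟩ := hT
  set y := c ^ k with hy
  have hy' : x⁻¹ * y * x = (x⁻¹ * c * x) ^ k := by
    rw [hy]
    conv_rhs => rw [show x⁻¹ * c * x = x⁻¹ * c * x⁻¹⁻¹ by rw [inv_inv], conj_pow, inv_inv]
  obtain ⟨i, hi⟩ := P.2 ⟨y, hk⟩
  have hi' : y ^ p ^ i = 1 := congrArg Subtype.val hi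
  have hyP : x⁻¹ * y * x ∈ (P : Subgroup G) := by
    refine uc_mem_of_pow (hy' ▸ pow_mem hx k) (k := i) ?_
    rw [show x⁻¹ * y * x = x⁻¹ * y * x⁻¹⁻¹ by rw [inv_inv], conj_pow, hi', mul_one, mul_inv_cancel]
  have hy1 : x⁻¹ * y * x ≠ 1 := fun e => hk1 (by simpa [mul_assoc] using congrArg (fun t => x * t * x⁻¹) e)
  have hconj : ∀ a ∈ (P : Subgroup G), x * a * x⁻¹ ∈ (P : Subgroup G) := by
    intro a ha
    have h1 : a ∈ Subgroup.centralizer ({x⁻¹ * y * x} : Set G) := by
      rw [h _ hyP hy1]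
      exact uc_le h ha
    have h2 : x * a * x⁻¹ ∈ CC := by
      rw [← h y hk hk1, Subgroup.mem_centralizer_singleton_iff]
      have h3 := Subgroup.mem_centralizer_singleton_iff.mp h1
      calc x * a * x⁻¹ * y = x * (a * (x⁻¹ * y * x)) * x⁻¹ := by group
        _ = x * ((x⁻¹ * y * x) * a) * x⁻¹ := by rw [h3]
        _ = _ := by group
    obtain ⟨j, hj⟩ := P.2 ⟨a, ha⟩
    refine uc_mem_of_pow h2 (k := j) ?_
    rw [conj_pow, show a ^ p ^ j = 1 from congrArg Subtype.val hj, mul_one, mul_inv_cancel]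
  have he : (P : Subgroup G).map (MulAut.conj x).toMonoidHom = (P : Subgroup G) := by
    refine Subgroup.eq_of_le_of_card_ge ?_ (le_of_eq ?_)
    · rintro _ ⟨a, ha, rfl⟩
      simpa using hconj a ha
    · exact Nat.card_congr ((P : Subgroup G).equivMapOfInjective (MulAut.conj x).toMonoidHom
        (MulAut.conj x).injective).toEquiv
  rw [Subgroup.mem_normalizer_iff]
  intro a
  conv_rhs => rw [← he]
  exact (Subgroup.mem_map_iff_mem (f := (MulAut.conj x).toMonoidHom) (MulAut.conj x).injective).symm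

/-- conjugation on the centralizer by an element of the normalizer -/
noncomputable def ucConj (x : NN) : CC ≃* CC where
  toFun c := ⟨(x : G) * c * (x : G)⁻¹, by
    rw [Subgroup.mem_centralizer_iff]
    intro a ha
    have h1 := (Subgroup.mem_normalizer_iff.mp (Subgroup.inv_mem _ x.2) a).mp ha
    rw [inv_inv] at h1
    have h2 := Subgroup.mem_centralizer_iff.mp c.2 _ h1
    calc a * ((x : G) * c * (x : G)⁻¹) = x * (((x : G)⁻¹ * a * x) * c) * (x : G)⁻¹ := by group
      _ = x * ((c : G) * ((x : G)⁻¹ * a * x)) * (x : G)⁻¹ := by rw [h2]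
      _ = _ := by group⟩
  invFun c := ⟨(x : G)⁻¹ * c * (x : G), by
    rw [Subgroup.mem_centralizer_iff]
    intro a ha
    have h1 := (Subgroup.mem_normalizer_iff.mp x.2 a).mp ha
    have h2 := Subgroup.mem_centralizer_iff.mp c.2 _ h1
    calc a * ((x : G)⁻¹ * c * x) = (x : G)⁻¹ * (((x : G) * a * (x : G)⁻¹) * c) * x := by group
      _ = (x : G)⁻¹ * ((c : G) * ((x : G) * a * (x : G)⁻¹)) * x := by rw [h2]
      _ = _ := by group⟩
  left_inv c := Subtype.ext (by simp [mul_assoc])
  right_inv c := Subtype.ext (by simp [mul_assoc])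
  map_mul' c d := Subtype.ext (by simp only [Subgroup.coe_mul]; group)

theorem coe_ucConj (x : NN) (c : CC) : ((ucConj x c : CC) : G) = (x : G) * c * (x : G)⁻¹ := rfl

/-- the twist of a function on the centralizer -/
noncomputable def ucTw (x : NN) (f : CC → ℂ) : CC → ℂ := fun c => f (ucConj x c)

theorem ucTw_one (f : CC → ℂ) : ucTw (1 : NN) f = f :=
  funext fun c => congrArg f (show ucConj (1 : NN) c = c from Subtype.ext (by rw [coe_ucConj]; simp))

theorem ucTw_mul (a b : NN) (f : CC → ℂ) : ucTw a (ucTw b f) = ucTw (b * a) f :=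
  funext fun c => congrArg f (show ucConj b (ucConj a c) = ucConj (b * a) c from Subtype.ext (by simp only [coe_ucConj, Subgroup.coe_mul]; group))

open Classical in
/-- the orbit -/
noncomputable def ucOrb (f : CC → ℂ) : Finset (CC → ℂ) :=
  Finset.univ.image (fun x : NN => ucTw x f)

/-- the orbit sum -/
noncomputable def ucSum (f : CC → ℂ) : CC → ℂ := ∑ φ ∈ ucOrb f, φ

theorem mem_ucOrb {f φ : CC → ℂ} : φ ∈ ucOrb f ↔ ∃ x : NN, ucTw x f = φ := by
  classical
  simp [ucOrb]

theorem self_mem_ucOrb (f : CC → ℂ) : f ∈ ucOrb f := mem_ucOrb.mpr ⟨1, ucTw_one f⟩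

theorem ucOrb_symm {f φ : CC → ℂ} (h : φ ∈ ucOrb f) : f ∈ ucOrb φ := by
  obtain ⟨x, rfl⟩ := mem_ucOrb.mp h
  exact mem_ucOrb.mpr ⟨x⁻¹, by rw [ucTw_mul, mul_inv_cancel, ucTw_one]⟩

theorem ucOrb_trans {f φ ψ : CC → ℂ} (h : φ ∈ ucOrb f) (h' : ψ ∈ ucOrb φ) : ψ ∈ ucOrb f := by
  obtain ⟨x, rfl⟩ := mem_ucOrb.mp h
  obtain ⟨y, rfl⟩ := mem_ucOrb.mp h'
  exact mem_ucOrb.mpr ⟨x * y, (ucTw_mul y x f).symm⟩

theorem isIrr_of_mem_ucOrb {f φ : CC → ℂ} (hf : IsIrrCharacter CC f) (h : φ ∈ ucOrb f) :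
    IsIrrCharacter CC φ := by
  obtain ⟨x, rfl⟩ := mem_ucOrb.mp h
  exact isIrrCharacter_comp_equiv (ucConj x) hf

/-- nontrivial on `P` -/
def ucNontriv (f : CC → ℂ) : Prop := ∃ y : CC, (y : G) ∈ (P : Subgroup G) ∧ f y ≠ f 1

theorem ucOrb_one : ucOrb (P := P) (fun _ => (1 : ℂ)) = {fun _ => (1 : ℂ)} := by
  classical
  ext φ
  rw [mem_ucOrb, Finset.mem_singleton]
  exact ⟨fun ⟨x, hx⟩ => hx.symm, fun h => ⟨1, by rw [h]; rfl⟩⟩

theorem nontriv_of_mem_ucOrb {f φ : CC → ℂ} (hf : ucNontriv f) (h : φ ∈ ucOrb f) : ucNontriv φ := by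
  obtain ⟨x, rfl⟩ := mem_ucOrb.mp h
  obtain ⟨y, hy, hy1⟩ := hf
  refine ⟨(ucConj x).symm y, ?_, ?_⟩
  · have h1 := (Subgroup.mem_normalizer_iff.mp (Subgroup.inv_mem _ x.2) (y : G)).mp hy
    rw [inv_inv] at h1
    exact h1
  · show f (ucConj x ((ucConj x).symm y)) ≠ f (ucConj x 1)
    rwa [MulEquiv.apply_symm_apply, map_one]

theorem uc_central (h : IsUniformCent p P) {y : CC} (hy : (y : G) ∈ (P : Subgroup G)) (c : CC) :
    c * y = y * c :=
  Subtype.ext ((Subgroup.mem_centralizer_iff.mp c.2 (y : G) hy).symm)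

theorem uc_apply_mul (h : IsUniformCent p P) {f : CC → ℂ} (hf : IsIrrCharacter CC f) {y : CC}
    (hy : (y : G) ∈ (P : Subgroup G)) (c : CC) : f (y * c) * f 1 = f y * f c := by
  haveI := Fintype.ofFinite CC
  exact irr_apply_central_mul hf (uc_central h hy) c

theorem uc_apply_ne_zero (h : IsUniformCent p P) {f : CC → ℂ} (hf : IsIrrCharacter CC f) {y : CC}
    (hy : (y : G) ∈ (P : Subgroup G)) : f y ≠ 0 := by
  intro h0
  have h1 := uc_apply_mul h hf hy y⁻¹
  rw [mul_inv_cancel, h0, zero_mul, mul_self_eq_zero] at h1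
  exact hf.apply_one_ne_zero h1

/-- the stabilizer of an irreducible nontrivial on `P` is the centralizer -/
theorem uc_stab (h : IsUniformCent p P) {f : CC → ℂ} (hf : IsIrrCharacter CC f) (hfn : ucNontriv f)
    {x : NN} (hx : ucTw x f = f) : (x : G) ∈ CC := by
  by_contra hxC
  let F : ↥(P : Subgroup G) → ↥(P : Subgroup G) := fun y =>
    ⟨(x : G) * y * (x : G)⁻¹ * (y : G)⁻¹,
      Subgroup.mul_mem _ ((Subgroup.mem_normalizer_iff.mp x.2 (y : G)).mp y.2) (Subgroup.inv_mem _ y.2)⟩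
  have hinj : Function.Injective F := by
    intro a b hab
    have h1 : (x : G) * a * (x : G)⁻¹ * (a : G)⁻¹ = x * b * (x : G)⁻¹ * (b : G)⁻¹ :=
      congrArg Subtype.val hab
    set d := (b : G)⁻¹ * a with hd
    have hdP : d ∈ (P : Subgroup G) := Subgroup.mul_mem _ (Subgroup.inv_mem _ b.2) a.2
    have h2 : (x : G) * d * (x : G)⁻¹ = d := by
      have hbP : (x : G) * (b : G)⁻¹ * (x : G)⁻¹ ∈ (P : Subgroup G) :=
        (Subgroup.mem_normalizer_iff.mp x.2 _).mp (Subgroup.inv_mem _ b.2)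
      calc (x : G) * d * (x : G)⁻¹
          = ((x : G) * (b : G)⁻¹ * (x : G)⁻¹) * (((x : G) * a * (x : G)⁻¹ * (a : G)⁻¹) * a) := by
            rw [hd]; group
        _ = ((x : G) * (b : G)⁻¹ * (x : G)⁻¹) * (((x : G) * b * (x : G)⁻¹ * (b : G)⁻¹) * a) := by rw [h1]
        _ = d := by rw [hd]; group
    by_contra hne
    refine hxC (h d hdP (fun e => hne (Subtype.ext (inv_mul_eq_one.mp e).symm)) ▸ ?_)
    rw [Subgroup.mem_centralizer_singleton_iff]
    calc (x : G) * d = (x : G) * d * (x : G)⁻¹ * x := by group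
      _ = d * x := by rw [h2]
  obtain ⟨z, hz, hz1⟩ := hfn
  obtain ⟨y, hy⟩ := Finite.injective_iff_surjective.mp hinj ⟨z, hz⟩
  have hzy : ucConj x ⟨y, uc_le h y.2⟩ = z * ⟨y, uc_le h y.2⟩ := by
    refine Subtype.ext ?_
    rw [Subgroup.coe_mul, coe_ucConj, show (z : G) = x * y * (x : G)⁻¹ * (y : G)⁻¹ from
      (congrArg Subtype.val hy).symm]
    group
  have h3 := congrFun hx ⟨y, uc_le h y.2⟩
  rw [ucTw, hzy] at h3
  have h4 := uc_apply_mul h hf hz ⟨(y : G), uc_le h y.2⟩
  rw [h3] at h4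
  exact hz1 (mul_right_cancel₀ (uc_apply_ne_zero h hf (y := ⟨(y : G), uc_le h y.2⟩) y.2)
    (h4.symm.trans (mul_comm _ _)))

theorem uc_C_le_N : CC ≤ NN := Subgroup.centralizer_le_normalizer _

/-- the order of the automorphism group induced on `P` -/
noncomputable def ucE (p : ℕ) (P : Sylow p G) : ℕ :=
  Nat.card (Subgroup.normalizer ((P : Subgroup G) : Set G)) /
    Nat.card (Subgroup.centralizer ((P : Subgroup G) : Set G))

theorem uc_tw_eq_of_mem (x : NN) {f : CC → ℂ} (hf : IsIrrCharacter CC f) (hx : (x : G) ∈ CC) :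
    ucTw x f = f := by
  funext c
  show f (ucConj x c) = f c
  rw [← hf.isClassFunction c ⟨(x : G), hx⟩]
  rfl

theorem sum_ucTw (h : IsUniformCent p P) {f : CC → ℂ} (hf : IsIrrCharacter CC f)
    (hfn : ucNontriv f) :
    (ucOrb f).card = ucE p P ∧ Nat.card NN = ucE p P * Nat.card CC ∧
      ∑ x : NN, ucTw x f = (Nat.card CC : ℂ) • ucSum f := by
  classical
  have hfib : ∀ φ ∈ ucOrb f, (Finset.univ.filter fun x : NN => ucTw x f = φ).card = Nat.card CC := by
    intro φ hφ
    obtain ⟨x₀, rfl⟩ := mem_ucOrb.mp hφ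
    rw [← Nat.card_eq_finsetCard]
    refine Nat.card_congr
      { toFun := fun x => ⟨((x.1 * x₀⁻¹ : NN) : G), uc_stab h hf hfn (by
          have h1 := (Finset.mem_filter.mp x.2).2
          rw [← ucTw_mul, h1, ucTw_mul, mul_inv_cancel, ucTw_one])⟩
        invFun := fun c => ⟨⟨(c : G), uc_C_le_N c.2⟩ * x₀, by
          rw [Finset.mem_filter]
          refine ⟨Finset.mem_univ _, ?_⟩
          rw [← ucTw_mul, uc_tw_eq_of_mem _ hf c.2]⟩
        left_inv := fun x => Subtype.ext (Subtype.ext (by simp [mul_assoc]))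
        right_inv := fun c => Subtype.ext (by simp [mul_assoc]) }
  have hN : Nat.card NN = (ucOrb f).card * Nat.card CC := by
    rw [Nat.card_eq_fintype_card, ← Finset.card_univ,
      Finset.card_eq_sum_card_fiberwise (t := ucOrb f) (f := fun x : NN => ucTw x f)
        (fun x _ => mem_ucOrb.mpr ⟨x, rfl⟩), Finset.sum_congr rfl hfib, Finset.sum_const, smul_eq_mul]
  have hE : ucE p P = (ucOrb f).card := by
    rw [ucE, hN, Nat.mul_div_cancel _ Nat.card_pos]
  refine ⟨hE.symm, hE ▸ hN, ?_⟩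
  rw [ucSum, Finset.smul_sum, ← Finset.sum_fiberwise_of_maps_to (t := ucOrb f)
    (g := fun x : NN => ucTw x f) (fun x _ => mem_ucOrb.mpr ⟨x, rfl⟩)]
  refine Finset.sum_congr rfl fun φ hφ => ?_
  rw [Finset.sum_congr rfl fun x hx => (Finset.mem_filter.mp hx).2, Finset.sum_const, hfib φ hφ,
    Nat.cast_smul_eq_nsmul]

theorem classInner_ucSum {f κ : CC → ℂ} (hf : IsIrrCharacter CC f)
    (hκ : IsIrrCharacter CC κ) [Decidable (f ∈ ucOrb κ)] :
    classInner f (ucSum κ) = if f ∈ ucOrb κ then 1 else 0 := by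
  classical
  rw [ucSum, classInner_sum_right]
  split_ifs with h
  · rw [Finset.sum_eq_single f (fun φ hφ hne => classInner_irr_ne hf (isIrr_of_mem_ucOrb hκ hφ) hne.symm)
      (fun h' => absurd h h'), classInner_irr_self hf]
  · exact Finset.sum_eq_zero fun φ hφ =>
      classInner_irr_ne hf (isIrr_of_mem_ucOrb hκ hφ) fun e => h (e ▸ hφ)

/-- agreement off the singular elements -/
def ucRel (f σ : CC → ℂ) : Prop := ∀ c : CC, ¬ ucSing (P := P) (c : G) → σ c = f c

theorem ucRel_apply_one {f σ : CC → ℂ} (hr : ucRel f σ) : σ 1 = f 1 := by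
  refine hr 1 ?_
  rintro ⟨k, -, hk⟩
  exact hk (one_pow k)

theorem indFun_res_sub (h : IsUniformCent p P) {f σ : CC → ℂ}
    (hr : ucRel f σ) (c : CC) :
    indFun CC (f - σ) (c : G) = (Nat.card CC : ℂ)⁻¹ * ∑ x : NN, (ucTw x f - ucTw x σ) c := by
  classical
  simp only [indFun]
  congr 1
  rw [show ∑ x : NN, (ucTw x f - ucTw x σ) c =
      ∑ x : NN, extendByZero CC (f - σ) ((x : G) * c * (x : G)⁻¹) by
    refine Finset.sum_congr rfl fun x _ => ?_
    rw [← coe_ucConj, extendByZero_coe]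
    rfl]
  rw [Fintype.sum_equiv (Equiv.inv G) (fun x => extendByZero CC (f - σ) (x⁻¹ * c * x))
    (fun x => extendByZero CC (f - σ) (x * c * x⁻¹)) (fun x => by simp)]
  rw [← Finset.sum_subset (Finset.subset_univ (Finset.univ.filter fun x : G => x ∈ NN))]
  · exact Finset.sum_subtype _ (fun x => by simp) (fun x => extendByZero CC (f - σ) (x * c * x⁻¹))
  · intro x _ hx
    by_cases hm : x * (c : G) * x⁻¹ ∈ CC
    · rw [extendByZero_of_mem CC _ hm, Pi.sub_apply, sub_eq_zero, hr _ fun hT => ?_]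
      refine hx (Finset.mem_filter.mpr ⟨Finset.mem_univ _, uc_mem_normalizer h hm hT ?_⟩)
      simpa [mul_assoc] using c.2
    · exact extendByZero_of_notMem CC _ hm

theorem indFun_res_orb (h : IsUniformCent p P) {f σ : CC → ℂ}
    (hf : IsIrrCharacter CC f) (hfn : ucNontriv f) (hσ : IsIrrCharacter CC σ) (hσn : ucNontriv σ)
    (hr : ucRel f σ) (c : CC) :
    indFun CC (f - σ) (c : G) = ucSum f c - ucSum σ c := by
  rw [indFun_res_sub h hr c]
  simp only [Pi.sub_apply, Finset.sum_sub_distrib]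
  rw [← Finset.sum_apply c Finset.univ (fun x : NN => ucTw x f),
    ← Finset.sum_apply c Finset.univ (fun x : NN => ucTw x σ)]
  rw [(sum_ucTw h hf hfn).2.2, (sum_ucTw h hσ hσn).2.2]
  simp only [Pi.smul_apply, smul_eq_mul]
  rw [← mul_sub, ← mul_assoc, inv_mul_cancel₀ (Nat.cast_ne_zero.mpr Nat.card_pos.ne'), one_mul]

/-- the constituents nontrivial on `P` of a restriction -/
noncomputable def ucSupp (θ : G → ℂ) : Finset (IrrCharacter CC) := by
  classical
  exact Finset.univ.filter fun σ : IrrCharacter CC => ucNontriv (σ : CC → ℂ) ∧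
    classInner (fun c : CC => θ c) (σ : CC → ℂ) ≠ 0

theorem mem_ucSupp {θ : G → ℂ} {σ : IrrCharacter CC} :
    σ ∈ ucSupp (P := P) θ ↔ ucNontriv (σ : CC → ℂ) ∧
      classInner (fun c : CC => θ c) (σ : CC → ℂ) ≠ 0 := by
  classical
  simp [ucSupp]

theorem classInner_res_tw {θ : G → ℂ} (hθ : IsClassFunction G θ)
    {f φ : CC → ℂ} (h : φ ∈ ucOrb f) :
    classInner (fun c : CC => θ c) φ = classInner (fun c : CC => θ c) f := by
  obtain ⟨x, rfl⟩ := mem_ucOrb.mp h
  have h1 := classInner_comp_equiv (ucConj x) (fun c : CC => θ c) f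
  rw [← h1]
  congr 1
  funext c
  exact (hθ (c : G) (x : G)).symm

theorem exists_retraction (h : IsUniformCent p P) :
    ∃ π : CC →* (P : Subgroup G),
      Function.Bijective (fun y : (P : Subgroup G) => π ⟨y, uc_le h y.2⟩) ∧
      ∀ c : CC, ¬ p ∣ orderOf (c : G) → π c = 1 := by
  classical
  let P' : Sylow p CC := P.subtype (uc_le h)
  have hP' : Subgroup.normalizer ((P' : Subgroup CC) : Set CC) ≤
      Subgroup.centralizer ((P' : Subgroup CC) : Set CC) := by
    intro c _
    rw [Subgroup.mem_centralizer_iff]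
    intro a ha
    exact (uc_central h (show (a : G) ∈ (P : Subgroup G) from ha) c).symm
  obtain ⟨τ, hτ⟩ := exists_hom_bijOn_sylow P' hP'
  let e : (P' : Subgroup CC) ≃* (P : Subgroup G) := Subgroup.subgroupOfEquivOfLe (uc_le h)
  let π : CC →* (P : Subgroup G) := e.toMonoidHom.comp τ
  refine ⟨π, ?_, ?_⟩
  · have h0 : Function.Bijective (fun y : (P : Subgroup G) => τ ((e.symm y : (P' : Subgroup CC)) : CC)) :=
      hτ.comp e.symm.bijective
    have h1 : ∀ y : (P : Subgroup G), ((e.symm y : (P' : Subgroup CC)) : CC) = ⟨(y : G), uc_le h y.2⟩ :=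
      fun y => rfl
    simp only [h1] at h0
    exact e.bijective.comp h0
  · intro c hc
    have h1 : orderOf (π c) ∣ orderOf (c : G) := by
      rw [Subgroup.orderOf_coe]
      exact orderOf_map_dvd π c
    obtain ⟨i, hi⟩ := IsPGroup.iff_orderOf.mp P.2 (π c)
    rw [hi] at h1
    rcases Nat.eq_zero_or_pos i with h0 | h0
    · rw [h0, pow_zero] at hi
      exact orderOf_eq_one_iff.mp hi
    · exact absurd ((dvd_pow_self p h0.ne').trans h1) hc

/-- many irreducibles nontrivial on `P` agreeing with a given one off the singular set -/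
theorem card_related (h : IsUniformCent p P) (f : IrrCharacter CC) :
    ∃ X : Finset (IrrCharacter CC), Nat.card (P : Subgroup G) ≤ X.card + 1 ∧
      ∀ σ ∈ X, ucNontriv (σ : CC → ℂ) ∧ ucRel (f : CC → ℂ) (σ : CC → ℂ) := by
  classical
  obtain ⟨π, hπ, hπ1⟩ := exists_retraction h
  letI : CommGroup (P : Subgroup G) :=
    { (inferInstance : Group (P : Subgroup G)) with
      mul_comm := fun a b => Subtype.ext (uc_comm h a.2 b.2) }
  haveI : Finite ((P : Subgroup G) →* ℂˣ) := by
    refine Nat.finite_of_card_ne_zero ?_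
    rw [card_monoidHom_units]
    exact Nat.card_pos.ne'
  haveI := Fintype.ofFinite ((P : Subgroup G) →* ℂˣ)
  let g : ((P : Subgroup G) →* ℂˣ) → IrrCharacter CC := fun l =>
    ⟨(f : CC → ℂ) * fun c => (((l.comp π) c : ℂˣ) : ℂ), isIrrCharacter_mul_linear f.2 (l.comp π)⟩
  have hdet : ∀ l l', (∀ y : (P : Subgroup G),
      (g l : CC → ℂ) ⟨y, uc_le h y.2⟩ = (g l' : CC → ℂ) ⟨y, uc_le h y.2⟩) → l = l' := by
    intro l l' he
    ext z
    obtain ⟨y, rfl⟩ := hπ.2 z
    exact mul_left_cancel₀ (uc_apply_ne_zero h f.2 (y := ⟨(y : G), uc_le h y.2⟩) y.2) (he y)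
  set X := (Finset.univ.image g).filter fun σ : IrrCharacter CC => ucNontriv (σ : CC → ℂ)
  refine ⟨X, ?_, ?_⟩
  · have hginj : Function.Injective g := fun l l' e => hdet l l' fun y => by rw [e]
    have h1 : ((Finset.univ.image g).filter fun σ : IrrCharacter CC => ¬ ucNontriv (σ : CC → ℂ)).card ≤ 1 := by
      refine Finset.card_le_one.mpr fun a ha b hb => ?_
      obtain ⟨ha', han⟩ := Finset.mem_filter.mp ha
      obtain ⟨hb', hbn⟩ := Finset.mem_filter.mp hb
      obtain ⟨l, -, rfl⟩ := Finset.mem_image.mp ha'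
      obtain ⟨l', -, rfl⟩ := Finset.mem_image.mp hb'
      refine congrArg g (hdet l l' fun y => ?_)
      unfold ucNontriv at han hbn
      push Not at han hbn
      rw [han _ y.2, hbn _ y.2]
      simp [g]
    have h2 : (Finset.univ.image g).card = Nat.card (P : Subgroup G) := by
      rw [Finset.card_image_of_injective _ hginj, Finset.card_univ, ← Nat.card_eq_fintype_card,
        card_monoidHom_units]
    have h3 := Finset.card_filter_add_card_filter_not (s := Finset.univ.image g)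
      (fun σ : IrrCharacter CC => ucNontriv (σ : CC → ℂ))
    simp only [X]
    omega
  · intro σ hσ
    obtain ⟨hσ', hσn⟩ := Finset.mem_filter.mp hσ
    refine ⟨hσn, fun c hc => ?_⟩
    obtain ⟨l, -, rfl⟩ := Finset.mem_image.mp hσ'
    have h2 : π c = 1 := hπ1 c (uc_not_dvd c.2 hc)
    simp [g, h2]

theorem ucOrb_card_le_filter (h : IsUniformCent p P) (f : IrrCharacter CC)
    (hfn : ucNontriv (f : CC → ℂ)) (s : Finset (IrrCharacter CC))
    (hs : ∀ σ ∈ s, (σ : CC → ℂ) ∈ ucOrb (f : CC → ℂ)) : s.card ≤ ucE p P := by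
  classical
  rw [← (sum_ucTw h f.2 hfn).1]
  exact Finset.card_le_card_of_injOn (fun σ => (σ : CC → ℂ)) (fun σ hσ => hs σ hσ)
    (fun a _ b _ e => Subtype.ext e)

/-- the family of an irreducible character with small nontrivial part -/
theorem exists_family (h : IsUniformCent p P) (η : IrrCharacter G)
    {ρ : IrrCharacter CC} (hρ : ρ ∈ ucSupp (P := P) (η : G → ℂ))
    (hsmall : (ucSupp (P := P) (η : G → ℂ)).card + ucE p P + 1 < Nat.card (P : Subgroup G))
    (σ : IrrCharacter CC) (hσn : ucNontriv (σ : CC → ℂ)) (hσr : ucRel (ρ : CC → ℂ) (σ : CC → ℂ)) :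
    ∃ η' : IrrCharacter G, charDegree (η' : G → ℂ) = charDegree (η : G → ℂ) ∧
      (fun c : CC => (η' : G → ℂ) c) =
        (fun c : CC => (η : G → ℂ) c) - ucSum (ρ : CC → ℂ) + ucSum (σ : CC → ℂ) := by
  classical
  set S := ucSupp (P := P) (η : G → ℂ) with hS
  have hηc := η.2.isCharacter.comp (CC).subtype
  -- the norm two characters
  have key : ∀ a b : IrrCharacter CC, a ∈ S → ucNontriv (b : CC → ℂ) → b ∉ S →
      ucRel (a : CC → ℂ) (b : CC → ℂ) →
      ∃ η' : IrrCharacter G, charDegree (η' : G → ℂ) = charDegree (η : G → ℂ) ∧ η' ≠ η ∧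
        indFun CC ((a : CC → ℂ) - (b : CC → ℂ)) = (η : G → ℂ) - (η' : G → ℂ) := by
    intro a b ha hbn hb hr
    obtain ⟨han, ha0⟩ := mem_ucSupp.mp ha
    have hab : (b : CC → ℂ) ∉ ucOrb (a : CC → ℂ) := fun hmem => hb (mem_ucSupp.mpr
      ⟨hbn, by rwa [classInner_res_tw η.2.isClassFunction hmem]⟩)
    have hgen := isGeneralizedCharacter_indFun CC (a.2.isGeneralized.sub b.2.isGeneralized)
    have hnorm : classInner (indFun CC ((a : CC → ℂ) - (b : CC → ℂ)))
        (indFun CC ((a : CC → ℂ) - (b : CC → ℂ))) = 2 := by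
      rw [classInner_indFun CC _ (isClassFunction_indFun CC _),
        show (fun c : CC => indFun CC ((a : CC → ℂ) - (b : CC → ℂ)) (c : G)) =
          ucSum (a : CC → ℂ) - ucSum (b : CC → ℂ) from
          funext fun c => indFun_res_orb h a.2 han b.2 hbn hr c,
        classInner_sub_left, classInner_sub_right, classInner_sub_right,
        classInner_ucSum a.2 a.2, classInner_ucSum a.2 b.2, classInner_ucSum b.2 a.2,
        classInner_ucSum b.2 b.2, if_pos (self_mem_ucOrb _), if_neg (fun e => hab (ucOrb_symm e)),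
        if_neg hab, if_pos (self_mem_ucOrb _)]
      norm_num
    obtain ⟨m, hm⟩ := hηc.exists_nat_classInner a.2.isCharacter
    simp only [Subgroup.coe_subtype] at hm
    have hb0 : classInner (fun c : CC => (η : G → ℂ) c) (b : CC → ℂ) = 0 := by
      by_contra hne
      exact hb (mem_ucSupp.mpr ⟨hbn, hne⟩)
    obtain ⟨-, η', hne, hdeg, heq⟩ := exists_eq_sub_of_norm_two hgen hnorm
      (by rw [indFun_apply_one, Pi.sub_apply, ucRel_apply_one hr, sub_self, mul_zero]) η m
      (Nat.one_le_iff_ne_zero.mpr fun h0 => ha0 (by rw [hm, h0, Nat.cast_zero]))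
      (by
        rw [classInner_indFun CC _ η.2.isClassFunction, classInner_sub_left,
          classInner_comm_of_isCharacter a.2.isCharacter (by exact hηc),
          classInner_comm_of_isCharacter b.2.isCharacter (by exact hηc), hm, hb0, sub_zero])
    exact ⟨η', hdeg, hne, heq⟩
  by_cases hσρ : (σ : CC → ℂ) ∈ ucOrb (ρ : CC → ℂ)
  · refine ⟨η, rfl, ?_⟩
    have : ucSum (σ : CC → ℂ) = ucSum (ρ : CC → ℂ) := by
      have : ucOrb (σ : CC → ℂ) = ucOrb (ρ : CC → ℂ) := by
        ext φ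
        exact ⟨fun hφ => ucOrb_trans hσρ hφ, fun hφ => ucOrb_trans (ucOrb_symm hσρ) hφ⟩
      simp only [ucSum, this]
    rw [this, sub_add_cancel]
  obtain ⟨hρn, -⟩ := mem_ucSupp.mp hρ
  have hσS : σ ∉ S := by
    intro hσS
    -- two orbits in the support and two outside give a contradiction
    obtain ⟨X, hXc, hX⟩ := card_related h ρ
    obtain ⟨s, hs, hsS⟩ : ∃ s ∈ X, s ∉ S := by
      refine Finset.exists_mem_notMem_of_card_lt_card (s := S) (t := X) ?_
      omega
    set O := Finset.univ.filter fun τ : IrrCharacter CC => (τ : CC → ℂ) ∈ ucOrb (s : CC → ℂ)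
    have hO : O.card ≤ ucE p P :=
      ucOrb_card_le_filter h s (hX s hs).1 O (fun τ hτ => (Finset.mem_filter.mp hτ).2)
    obtain ⟨l, hl, hlS⟩ : ∃ l ∈ X, l ∉ S ∪ O := by
      refine Finset.exists_mem_notMem_of_card_lt_card (s := S ∪ O) (t := X) ?_
      have := Finset.card_union_le S O
      omega
    rw [Finset.mem_union, not_or] at hlS
    have hls : (l : CC → ℂ) ∉ ucOrb (s : CC → ℂ) := fun e =>
      hlS.2 (Finset.mem_filter.mpr ⟨Finset.mem_univ _, e⟩)
    have hr2 : ucRel (σ : CC → ℂ) (l : CC → ℂ) := fun c hc => by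
      rw [(hX l hl).2 c hc, hσr c hc]
    obtain ⟨η1, -, hne1, he1⟩ := key ρ s hρ (hX s hs).1 hsS (hX s hs).2
    obtain ⟨η2, -, hne2, he2⟩ := key σ l hσS (hX l hl).1 hlS.1 hr2
    have h0 : classInner (indFun CC ((ρ : CC → ℂ) - (s : CC → ℂ)))
        (indFun CC ((σ : CC → ℂ) - (l : CC → ℂ))) = 0 := by
      rw [classInner_indFun CC _ (isClassFunction_indFun CC _),
        show (fun c : CC => indFun CC ((σ : CC → ℂ) - (l : CC → ℂ)) (c : G)) =
          ucSum (σ : CC → ℂ) - ucSum (l : CC → ℂ) from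
          funext fun c => indFun_res_orb h σ.2 hσn l.2 (hX l hl).1 hr2 c,
        classInner_sub_left, classInner_sub_right, classInner_sub_right,
        classInner_ucSum ρ.2 σ.2, classInner_ucSum ρ.2 l.2, classInner_ucSum s.2 σ.2,
        classInner_ucSum s.2 l.2, if_neg (fun e => hσρ (ucOrb_symm e)), if_neg ?_, if_neg ?_,
        if_neg (fun e => hls (ucOrb_symm e))]
      · norm_num
      · intro e
        exact hsS (mem_ucSupp.mpr ⟨(hX s hs).1, by
          rw [classInner_res_tw η.2.isClassFunction e]; exact (mem_ucSupp.mp hσS).2⟩)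
      · intro e
        exact hlS.1 (mem_ucSupp.mpr ⟨(hX l hl).1, by
          rw [classInner_res_tw η.2.isClassFunction (ucOrb_symm e)]; exact (mem_ucSupp.mp hρ).2⟩)
    rw [he1, he2, classInner_sub_left, classInner_sub_right, classInner_sub_right,
      classInner_irr_self η.2, classInner_irr_ne η.2 η2.2 (fun e => hne2 (Subtype.ext e).symm),
      classInner_irr_ne η1.2 η.2 (fun e => hne1 (Subtype.ext e)),
      classInner_irr η1.2 η2.2] at h0
    split_ifs at h0 <;> norm_num at h0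
  obtain ⟨η', hdeg, -, heq⟩ := key ρ σ hρ hσn hσS hσr
  refine ⟨η', hdeg, funext fun c => ?_⟩
  have h1 := congrFun heq (c : G)
  rw [indFun_res_orb h ρ.2 hρn σ.2 hσn hσr c, Pi.sub_apply] at h1
  simp only [Pi.sub_apply, Pi.add_apply]
  linear_combination h1

/-- small characters nontrivial on `P` have no fixed points of `C` -/
theorem classInner_res_one_eq_zero (h : IsUniformCent p P) (η : IrrCharacter G)
    {ρ : IrrCharacter CC} (hρ : ρ ∈ ucSupp (P := P) (η : G → ℂ))
    (hsmall : (ucSupp (P := P) (η : G → ℂ)).card + ucE p P + 1 < Nat.card (P : Subgroup G))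
    (hE : ucE p P * ucE p P + 1 < Nat.card (P : Subgroup G)) :
    classInner (fun c : CC => (η : G → ℂ) c) (fun _ => 1) = 0 := by
  classical
  obtain ⟨m0, hm0⟩ := (η.2.isCharacter.comp (CC).subtype).exists_nat_classInner
    (isIrrCharacter_one (G := CC)).isCharacter
  simp only [Subgroup.coe_subtype] at hm0
  by_contra hne
  have hm0' : m0 ≠ 0 := fun e => hne (by rw [hm0, e, Nat.cast_zero])
  set one : IrrCharacter CC := ⟨fun _ => 1, isIrrCharacter_one⟩
  obtain ⟨X1, hX1c, hX1⟩ := card_related h one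
  obtain ⟨ν, hν, hνS⟩ : ∃ ν ∈ X1, ν ∉ ucSupp (P := P) (η : G → ℂ) :=
    Finset.exists_mem_notMem_of_card_lt_card (by omega)
  obtain ⟨hνn, hνr⟩ := hX1 ν hν
  have hν0 : classInner (fun c : CC => (η : G → ℂ) c) (ν : CC → ℂ) = 0 := by
    by_contra e
    exact hνS (mem_ucSupp.mpr ⟨hνn, e⟩)
  obtain ⟨hρn, hρ0⟩ := mem_ucSupp.mp hρ
  obtain ⟨X, hXc, hX⟩ := card_related h ρ
  set X' := X.filter fun σ : IrrCharacter CC => (σ : CC → ℂ) ∉ ucOrb (ν : CC → ℂ) with hX'
  have hX'c : X.card ≤ X'.card + ucE p P := by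
    have h1 := ucOrb_card_le_filter h ν hνn (X.filter fun σ : IrrCharacter CC => (σ : CC → ℂ) ∈ ucOrb (ν : CC → ℂ))
      (fun σ hσ => (Finset.mem_filter.mp hσ).2)
    have h2 := Finset.card_filter_add_card_filter_not (s := X) (fun σ : IrrCharacter CC => (σ : CC → ℂ) ∈ ucOrb (ν : CC → ℂ))
    simp only [hX']
    omega
  have hfam : ∀ σ : {σ // σ ∈ X'}, ∃ η' : IrrCharacter G,
      charDegree (η' : G → ℂ) = charDegree (η : G → ℂ) ∧ (fun c : CC => (η' : G → ℂ) c) =
        (fun c : CC => (η : G → ℂ) c) - ucSum (ρ : CC → ℂ) + ucSum (σ.1 : CC → ℂ) := fun σ =>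
    exists_family h η hρ hsmall σ.1 (hX _ (Finset.mem_filter.mp σ.2).1).1
      (hX _ (Finset.mem_filter.mp σ.2).1).2
  choose F hFdeg hF using hfam
  set Φ := indFun CC ((one : CC → ℂ) - (ν : CC → ℂ)) with hΦ
  have hgen : IsGeneralizedCharacter G Φ :=
    isGeneralizedCharacter_indFun CC (one.2.isGeneralized.sub ν.2.isGeneralized)
  have hinner : ∀ θ : IrrCharacter G, classInner Φ (θ : G → ℂ) =
      classInner (fun c : CC => (θ : G → ℂ) c) (fun _ => 1) -
        classInner (fun c : CC => (θ : G → ℂ) c) (ν : CC → ℂ) := by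
    intro θ
    have hθc := θ.2.isCharacter.comp (CC).subtype
    rw [hΦ, classInner_indFun CC _ θ.2.isClassFunction, classInner_sub_left,
      classInner_comm_of_isCharacter one.2.isCharacter (by exact hθc),
      classInner_comm_of_isCharacter ν.2.isCharacter (by exact hθc)]
  set I := (Finset.univ : Finset {σ // σ ∈ X'}).image F
  have hone0 : ∀ f : IrrCharacter CC, ucNontriv (f : CC → ℂ) →
      classInner (ucSum (f : CC → ℂ)) (fun _ => (1 : ℂ)) = 0 := by
    intro f hfn
    rw [← classInner_conj_symm, classInner_ucSum isIrrCharacter_one f.2, if_neg, map_zero]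
    intro hmem
    obtain ⟨y, -, hy⟩ := nontriv_of_mem_ucOrb hfn hmem
    exact hy rfl
  have hν_sum : ∀ f : IrrCharacter CC, (f : CC → ℂ) ∉ ucOrb (ν : CC → ℂ) →
      classInner (ucSum (f : CC → ℂ)) (ν : CC → ℂ) = 0 := by
    intro f hf
    rw [← classInner_conj_symm, classInner_ucSum ν.2 f.2, if_neg (fun e => hf (ucOrb_symm e)), map_zero]
  have hρν : (ρ : CC → ℂ) ∉ ucOrb (ν : CC → ℂ) := fun e =>
    hρ0 (by rw [classInner_res_tw η.2.isClassFunction e, hν0])
  have hcoef : ∀ θ ∈ I, classInner Φ (θ : G → ℂ) = m0 := by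
    intro θ hθ
    obtain ⟨σ, -, rfl⟩ := Finset.mem_image.mp hθ
    obtain ⟨hσX, hσν⟩ := Finset.mem_filter.mp σ.2
    rw [hinner, hF σ, classInner_add_left, classInner_add_left, classInner_sub_left,
      classInner_sub_left, hm0, hν0, hone0 ρ hρn, hone0 _ (hX _ hσX).1, hν_sum ρ hρν, hν_sum _ hσν]
    ring
  have hone : classInner Φ (fun _ => 1) = 1 := by
    have h1 := hinner ⟨fun _ => 1, isIrrCharacter_one⟩
    rw [h1]
    show classInner (fun _ : CC => (1 : ℂ)) (fun _ => 1) - classInner (fun _ : CC => (1 : ℂ)) (ν : CC → ℂ) = 1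
    rw [classInner_irr_self isIrrCharacter_one, classInner_irr_ne isIrrCharacter_one ν.2, sub_zero]
    intro e
    obtain ⟨y, -, hy⟩ := hνn
    exact hy (by rw [← e])
  have hnorm : classInner Φ Φ = (ucE p P : ℂ) + 1 := by
    rw [hΦ, classInner_indFun CC _ (isClassFunction_indFun CC _)]
    have hres : (fun c : CC => indFun CC ((one : CC → ℂ) - (ν : CC → ℂ)) (c : G)) =
        (ucE p P : ℂ) • (fun _ => (1 : ℂ)) - ucSum (ν : CC → ℂ) := by
      funext c
      rw [indFun_res_sub h hνr c]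
      simp only [Pi.sub_apply, Finset.sum_sub_distrib, Pi.smul_apply, smul_eq_mul, mul_one]
      rw [← Finset.sum_apply (g := fun x : NN => ucTw x (ν : CC → ℂ)), (sum_ucTw h ν.2 hνn).2.2]
      simp only [ucTw, one, Finset.sum_const, Finset.card_univ, nsmul_eq_mul, mul_one,
        Pi.smul_apply, smul_eq_mul]
      rw [← Nat.card_eq_fintype_card, (sum_ucTw h ν.2 hνn).2.1, Nat.cast_mul]
      field_simp [Nat.cast_ne_zero.mpr (Nat.card_pos (α := CC)).ne']
    rw [hres, classInner_sub_right, classInner_smul_right, classInner_sub_left, classInner_sub_left,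
      Complex.conj_natCast]
    have e1 : classInner (one : CC → ℂ) (fun _ => 1) = 1 := classInner_irr_self one.2
    have e2 : classInner (ν : CC → ℂ) (fun _ => 1) = 0 := classInner_irr_ne ν.2 isIrrCharacter_one (by
      intro e
      obtain ⟨y, -, hy⟩ := hνn
      exact hy (by rw [e]))
    have e3 : classInner (one : CC → ℂ) (ucSum (ν : CC → ℂ)) = 0 := by
      rw [classInner_ucSum one.2 ν.2, if_neg]
      intro e
      obtain ⟨y, -, hy⟩ := nontriv_of_mem_ucOrb hνn e
      exact hy rfl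
    rw [e1, e2, e3, classInner_ucSum ν.2 ν.2, if_pos (self_mem_ucOrb _)]
    ring
  have hI1 : (⟨fun _ => 1, isIrrCharacter_one⟩ : IrrCharacter G) ∉ I := by
    intro hmem
    obtain ⟨σ, -, hσe⟩ := Finset.mem_image.mp hmem
    have h1 := congrArg (fun f => classInner f (ρ : CC → ℂ)) (hF σ)
    have hdeg := hFdeg σ
    rw [hσe] at hdeg
    -- then `η` is linear with trivial and nontrivial constituents
    have hd1 : (η : G → ℂ) 1 = 1 := by
      rw [η.2.apply_one_eq_charDegree, ← hdeg]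
      simp [charDegree]
    obtain ⟨φ, hφ⟩ := exists_hom_of_degree_one η.2.isCharacter hd1
    have hl : IsIrrCharacter CC (fun c : CC => (η : G → ℂ) c) :=
      isIrrCharacter_of_degree_one (η.2.isCharacter.comp (CC).subtype) hd1
    have e1 : (fun c : CC => (η : G → ℂ) c) = fun _ => 1 := by
      by_contra e
      exact hne (classInner_irr_ne hl isIrrCharacter_one e)
    rw [e1] at hρ0
    refine hρ0 (classInner_irr_ne isIrrCharacter_one ρ.2 fun e => ?_)
    obtain ⟨y, -, hy⟩ := hρn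
    exact hy (by rw [← e])
  have hIc : ucE p P ≤ I.card := by
    by_contra hlt
    push Not at hlt
    let O := X'.image fun σ : IrrCharacter CC => ucSum (σ : CC → ℂ)
    have h1 : O.card ≤ I.card := by
      have h2 : O ⊆ I.image fun θ : IrrCharacter G =>
          (fun c : CC => (θ : G → ℂ) c) - (fun c : CC => (η : G → ℂ) c) + ucSum (ρ : CC → ℂ) := by
        intro φ hφ
        obtain ⟨σ, hσ, rfl⟩ := Finset.mem_image.mp hφ
        refine Finset.mem_image.mpr ⟨F ⟨σ, hσ⟩, Finset.mem_image_of_mem _ (Finset.mem_univ _), ?_⟩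
        rw [hF]
        abel
      exact (Finset.card_le_card h2).trans Finset.card_image_le
    have h2 : X'.card ≤ ucE p P * O.card := by
      refine Finset.card_le_mul_card_image _ _ fun φ hφ => ?_
      obtain ⟨σ, hσ, rfl⟩ := Finset.mem_image.mp hφ
      refine ucOrb_card_le_filter h σ (hX σ (Finset.mem_filter.mp hσ).1).1 _ fun τ hτ => ?_
      have he := (Finset.mem_filter.mp hτ).2
      by_contra hn
      have h3 := congrArg (classInner (τ : CC → ℂ)) he
      rw [classInner_ucSum τ.2 τ.2, classInner_ucSum τ.2 σ.2, if_pos (self_mem_ucOrb _), if_neg hn] at h3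
      exact one_ne_zero h3
    have h3 : ucE p P * (O.card + 1) ≤ ucE p P * ucE p P := Nat.mul_le_mul_left _ (by omega)
    rw [mul_add, mul_one] at h3
    omega
  -- all the norm is used up, so the degree at one is positive
  have hn : ∀ θ : IrrCharacter G, ∃ n : ℤ, classInner Φ (θ : G → ℂ) = n :=
    fun θ => (isGeneralizedCharacter_iff.mp hgen).2 _ θ.2
  choose n hn using hn
  set t1 : IrrCharacter G := ⟨fun _ => 1, isIrrCharacter_one⟩
  have hsum : ∑ θ : IrrCharacter G, n θ ^ 2 = (ucE p P : ℤ) + 1 := by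
    have h1 := classInner_eq_sum (f' := Φ) hgen.isClassFunction
    simp only [hn, map_intCast, hnorm] at h1
    refine Int.cast_injective (α := ℂ) ?_
    push_cast
    rw [h1]
    exact Finset.sum_congr rfl fun θ _ => by ring
  have hnI : ∀ θ ∈ I, n θ = m0 := fun θ hθ => by
    have := hcoef θ hθ
    rw [hn] at this
    exact_mod_cast this
  have hn1 : n t1 = 1 := by
    have h1 : classInner Φ (t1 : G → ℂ) = 1 := hone
    rw [hn] at h1
    exact_mod_cast h1
  set J := insert t1 I with hJ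
  have hzero : ∀ θ ∉ J, n θ = 0 := by
    intro θ hθ
    have h1 : ∑ φ ∈ J, n φ ^ 2 + n θ ^ 2 ≤ ∑ φ : IrrCharacter G, n φ ^ 2 := by
      rw [add_comm, ← Finset.sum_insert (f := fun φ => n φ ^ 2) hθ]
      exact Finset.sum_le_sum_of_subset_of_nonneg (Finset.subset_univ _) fun _ _ _ => sq_nonneg _
    have h2 : (ucE p P : ℤ) + 1 ≤ ∑ φ ∈ J, n φ ^ 2 := by
      rw [hJ, Finset.sum_insert hI1, hn1, Finset.sum_congr rfl (fun φ hφ => by rw [hnI φ hφ]),
        Finset.sum_const, nsmul_eq_mul]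
      have h3 : (1 : ℤ) ≤ (m0 : ℤ) ^ 2 := one_le_pow₀ (by omega)
      have h4 : (ucE p P : ℤ) ≤ (I.card : ℤ) := by exact_mod_cast hIc
      nlinarith
    nlinarith [sq_nonneg (n θ)]
  have hΦ1 : Φ 1 = 0 := by
    rw [hΦ, indFun_apply_one, Pi.sub_apply, ucRel_apply_one hνr, sub_self, mul_zero]
  rw [eq_sum_classInner hgen.isClassFunction, Finset.sum_apply,
    ← Finset.sum_subset (Finset.subset_univ J) (fun θ _ hθ => by
      rw [Pi.smul_apply, hn, hzero θ hθ, Int.cast_zero, zero_smul]),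
    Finset.sum_congr rfl (g := fun θ : IrrCharacter G =>
      (((if θ = t1 then 1 else m0) * charDegree (θ : G → ℂ) : ℕ) : ℂ))] at hΦ1
  · rw [← Nat.cast_sum, Nat.cast_eq_zero, Finset.sum_eq_zero_iff] at hΦ1
    have h2 := hΦ1 t1 (Finset.mem_insert_self _ _)
    rw [if_pos rfl, one_mul] at h2
    exact t1.2.charDegree_pos.ne' h2
  · intro θ hθ
    rw [Pi.smul_apply, smul_eq_mul, θ.2.apply_one_eq_charDegree, Nat.cast_mul, hn]
    rcases Finset.mem_insert.mp hθ with rfl | hθI
    · rw [if_pos rfl, hn1]; simp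
    · rw [if_neg (fun e : θ = t1 => hI1 (e ▸ hθI)), hnI θ hθI]; simp

/-- the main alternative -/
theorem uc_main (h : IsUniformCent p P) (χ : IrrCharacter G)
    (hdeg : charDegree (χ : G → ℂ) ^ 2 + 1 < Nat.card (P : Subgroup G))
    (hnp : ∀ K : Subgroup G, K.Normal → (P : Subgroup G) ≤ K → K = ⊤)
    (hχ1 : (χ : G → ℂ) ≠ fun _ => 1) :
    charDegree (χ : G → ℂ) = 1 ∧ NN ≤ CC := by
  classical
  set x := charDegree (χ : G → ℂ) with hx
  have hxd : (χ : G → ℂ) 1 = x := χ.2.apply_one_eq_charDegree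
  have hconst : ∀ θ : IrrCharacter G, (∀ y ∈ (P : Subgroup G), (θ : G → ℂ) y = (θ : G → ℂ) 1) →
      (θ : G → ℂ) = fun _ => 1 := by
    intro θ hy
    have hK := hnp (charKer θ.2.isCharacter) (charKer_normal _) fun y hy' =>
      (mem_charKer _).mpr (hy y hy')
    have hall : ∀ g, (θ : G → ℂ) g = (θ : G → ℂ) 1 := fun g =>
      (mem_charKer θ.2.isCharacter).mp (hK ▸ Subgroup.mem_top g)
    by_contra hne
    have h1 := classInner_irr_ne θ.2 isIrrCharacter_one hne
    rw [classInner_one_right, Finset.sum_congr rfl (fun g _ => hall g), Finset.sum_const,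
      Finset.card_univ, nsmul_eq_mul, ← Nat.card_eq_fintype_card, ← mul_assoc,
      inv_mul_cancel₀ card_cast_ne_zero, one_mul] at h1
    exact θ.2.apply_one_ne_zero h1
  have hχc : IsCharacter CC (fun c : CC => (χ : G → ℂ) c) := χ.2.isCharacter.comp (CC).subtype
  have hmult : ∀ σ : IrrCharacter CC, ∃ m : ℕ,
      classInner (fun c : CC => (χ : G → ℂ) c) (σ : CC → ℂ) = m :=
    fun σ => hχc.exists_nat_classInner σ.2.isCharacter
  choose mu hmu using hmult
  have hsupp : ∀ θ : IrrCharacter G, (θ : G → ℂ) ≠ (fun _ => 1) → (ucSupp (P := P) (θ : G → ℂ)).Nonempty := by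
    intro θ hθ
    by_contra hemp
    refine hθ (hconst θ fun y hy => ?_)
    have hθc : IsCharacter CC (fun c : CC => (θ : G → ℂ) c) := θ.2.isCharacter.comp (CC).subtype
    have e : ∀ c : CC, (θ : G → ℂ) c = ∑ σ : IrrCharacter CC,
        classInner (fun c : CC => (θ : G → ℂ) c) (σ : CC → ℂ) * (σ : CC → ℂ) c := by
      intro c
      have := congrFun (eq_sum_classInner hθc.isClassFunction) c
      simpa only [Finset.sum_apply, Pi.smul_apply, smul_eq_mul] using this
    rw [e ⟨y, uc_le h hy⟩, show (θ : G → ℂ) 1 = (θ : G → ℂ) ((1 : CC) : G) from rfl, e 1]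
    refine Finset.sum_congr rfl fun σ _ => ?_
    by_cases h0 : classInner (fun c : CC => (θ : G → ℂ) c) (σ : CC → ℂ) = 0
    · rw [h0, zero_mul, zero_mul]
    · congr 1
      by_contra hne
      exact hemp ⟨σ, mem_ucSupp.mpr ⟨⟨⟨y, uc_le h hy⟩, hy, hne⟩, h0⟩⟩
  obtain ⟨ρ, hρ⟩ := hsupp χ hχ1
  obtain ⟨hρn, hρ0⟩ := mem_ucSupp.mp hρ
  set Oset := Finset.univ.filter fun σ : IrrCharacter CC => (σ : CC → ℂ) ∈ ucOrb (ρ : CC → ℂ) with hOset
  have hOc : Oset.card = ucE p P := by
    rw [← (sum_ucTw h ρ.2 hρn).1]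
    exact Finset.card_bij (fun σ _ => (σ : CC → ℂ)) (fun σ hσ => (Finset.mem_filter.mp hσ).2)
      (fun a _ b _ e => Subtype.ext e) (fun φ hφ => ⟨⟨φ, isIrr_of_mem_ucOrb ρ.2 hφ⟩, by simp [hOset, hφ], rfl⟩)
  have hOpos : ∀ σ ∈ Oset, 1 ≤ mu σ := by
    intro σ hσ
    have h1 := classInner_res_tw χ.2.isClassFunction (Finset.mem_filter.mp hσ).2
    rw [hmu, hmu] at h1
    refine Nat.one_le_iff_ne_zero.mpr fun h0 => hρ0 ?_
    rw [hmu, ← h1, h0, Nat.cast_zero]
  have hEx : ucE p P ≤ x := by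
    have h1 := congrFun (eq_sum_classInner hχc.isClassFunction) 1
    simp only [Finset.sum_apply, Pi.smul_apply, smul_eq_mul, Subgroup.coe_one, hxd, hmu,
      (fun σ : IrrCharacter CC => σ.2.apply_one_eq_charDegree), ← Nat.cast_mul, ← Nat.cast_sum,
      Nat.cast_inj] at h1
    rw [← hOc, h1, Finset.card_eq_sum_ones]
    refine (Finset.sum_le_sum fun σ hσ => Nat.one_le_iff_ne_zero.mpr (Nat.mul_ne_zero
      (Nat.one_le_iff_ne_zero.mp (hOpos σ hσ)) σ.2.charDegree_pos.ne')).trans
      (Finset.sum_le_sum_of_subset (Finset.subset_univ _))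
  -- the product with the conjugate
  set θ : G → ℂ := fun g => (χ : G → ℂ) g * conj ((χ : G → ℂ) g) with hθdef
  have hθ : IsCharacter G θ := χ.2.isCharacter.mul χ.2.isCharacter.conjFn
  have hθc : IsCharacter CC (fun c : CC => θ c) := hθ.comp (CC).subtype
  have hfix : classInner (fun c : CC => θ c) (fun _ => 1) = ((∑ σ, mu σ ^ 2 : ℕ) : ℂ) := by
    have h1 : classInner (fun c : CC => θ c) (fun _ => 1) =
        classInner (fun c : CC => (χ : G → ℂ) c) (fun c : CC => (χ : G → ℂ) c) := by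
      simp [classInner, θ]
    rw [h1, classInner_eq_sum hχc.isClassFunction, Nat.cast_sum]
    exact Finset.sum_congr rfl fun σ _ => by rw [hmu, Complex.conj_natCast, Nat.cast_pow, pow_two]
  have hEfix : ucE p P ≤ ∑ σ, mu σ ^ 2 := by
    rw [← hOc, Finset.card_eq_sum_ones]
    exact (Finset.sum_le_sum fun σ hσ => one_le_pow₀ (hOpos σ hσ)).trans
      (Finset.sum_le_sum_of_subset (Finset.subset_univ _))
  have hθ1 : θ 1 = ((x * x : ℕ) : ℂ) := by
    simp [θ, hxd]
  have hsuppθ : (∑ σ, mu σ ^ 2) + (ucSupp (P := P) θ).card ≤ x * x := by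
    have hnu : ∀ σ : IrrCharacter CC, ∃ m : ℕ, classInner (fun c : CC => θ c) (σ : CC → ℂ) = m :=
      fun σ => hθc.exists_nat_classInner σ.2.isCharacter
    choose nu hnu using hnu
    set one : IrrCharacter CC := ⟨fun _ => 1, isIrrCharacter_one⟩
    have hone : nu one = ∑ σ, mu σ ^ 2 := by
      have h2 := hnu one
      rw [show (one : CC → ℂ) = fun _ => 1 from rfl, hfix] at h2
      exact (Nat.cast_injective h2).symm
    have h1 := congrFun (eq_sum_classInner hθc.isClassFunction) 1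
    simp only [Finset.sum_apply, Pi.smul_apply, smul_eq_mul, Subgroup.coe_one, hθ1, hnu,
      (fun σ : IrrCharacter CC => σ.2.apply_one_eq_charDegree), ← Nat.cast_mul, ← Nat.cast_sum,
      Nat.cast_inj] at h1
    have hnot : one ∉ ucSupp (P := P) θ := fun hm => by
      obtain ⟨⟨y, -, hy⟩, -⟩ := mem_ucSupp.mp hm
      exact hy rfl
    rw [h1, ← hone, Finset.card_eq_sum_ones]
    refine le_trans ?_ (Finset.sum_le_sum_of_subset (Finset.subset_univ (insert one (ucSupp (P := P) θ))))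
    rw [Finset.sum_insert hnot]
    refine add_le_add (Nat.le_mul_of_pos_right _ one.2.charDegree_pos) (Finset.sum_le_sum fun σ hσ => ?_)
    refine Nat.one_le_iff_ne_zero.mpr (Nat.mul_ne_zero (fun h0 => (mem_ucSupp.mp hσ).2 ?_)
      σ.2.charDegree_pos.ne')
    rw [hnu, h0, Nat.cast_zero]
  have hxx : x * x + 1 < Nat.card (P : Subgroup G) := by rw [← pow_two]; exact hdeg
  have hEE : ucE p P * ucE p P + 1 < Nat.card (P : Subgroup G) :=
    lt_of_le_of_lt (Nat.add_le_add_right (Nat.mul_le_mul hEx hEx) 1) hxx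
  have hzero : ∀ η : IrrCharacter G, (η : G → ℂ) ≠ (fun _ => 1) → classInner θ (η : G → ℂ) ≠ 0 →
      classInner (fun c : CC => (η : G → ℂ) c) (fun _ => 1) = 0 := by
    intro η hη hηc
    obtain ⟨ρ', hρ'⟩ := hsupp η hη
    refine classInner_res_one_eq_zero h η hρ' ?_ hEE
    have hle : (ucSupp (P := P) (η : G → ℂ)).card ≤ (ucSupp (P := P) θ).card := by
      refine Finset.card_le_card fun σ hσ => ?_
      obtain ⟨h1, h2⟩ := mem_ucSupp.mp hσ
      refine mem_ucSupp.mpr ⟨h1, fun h0 => h2 ?_⟩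
      have hηC : IsCharacter CC (fun c : CC => (η : G → ℂ) c) := η.2.isCharacter.comp (CC).subtype
      have h3 := classInner_res_le_of_constituent CC hθ η.2 hηc σ.2.isCharacter
      rw [h0, Complex.zero_re] at h3
      exact (eq_zero_iff_re_classInner hηC σ.2.isCharacter).mpr
        (le_antisymm h3 (classInner_re_nonneg hηC σ.2.isCharacter))
    omega
  have hfix1 : classInner (fun c : CC => θ c) (fun _ => 1) = 1 := by
    set t1 : IrrCharacter G := ⟨fun _ => 1, isIrrCharacter_one⟩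
    have e : (fun c : CC => θ c) = ∑ η : IrrCharacter G,
        classInner θ (η : G → ℂ) • fun c : CC => (η : G → ℂ) c := by
      funext c
      have := congrFun (eq_sum_classInner hθ.isClassFunction) (c : G)
      simpa only [Finset.sum_apply, Pi.smul_apply, smul_eq_mul] using this
    rw [e, classInner_sum_left, Finset.sum_eq_single t1]
    · rw [classInner_smul_left, show (fun c : CC => (t1 : G → ℂ) c) = fun _ => 1 from rfl,
        classInner_irr_self isIrrCharacter_one, mul_one, show (t1 : G → ℂ) = fun _ => 1 from rfl]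
      rw [show classInner θ (fun _ => 1) = classInner (χ : G → ℂ) (χ : G → ℂ) by simp [classInner, θ],
        classInner_irr_self χ.2]
    · intro η _ hη
      rw [classInner_smul_left]
      by_cases h0 : classInner θ (η : G → ℂ) = 0
      · rw [h0, zero_mul]
      · rw [hzero η (fun e => hη (Subtype.ext e)) h0, mul_zero]
    · exact fun h' => absurd (Finset.mem_univ _) h'
  have hirr : IsIrrCharacter CC (fun c : CC => (χ : G → ℂ) c) := by
    refine isIrrCharacter_of_norm_one hχc ?_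
    rw [← hfix1]
    simp [classInner, θ]
  have hK := hnp (charKer hθ) (charKer_normal hθ) fun y hy => by
    rw [mem_charKer]
    have h1 := uc_apply_mul h hirr (y := ⟨y, uc_le h hy⟩) hy ⟨y, uc_le h hy⟩⁻¹
    simp only [Subgroup.coe_mul, Subgroup.coe_inv, mul_inv_cancel, Subgroup.coe_one] at h1
    rw [χ.2.isCharacter.apply_inv] at h1
    simp only [θ]
    rw [← h1, hxd, Complex.conj_natCast]
  have hx1 : x = 1 := by
    have hall : ∀ g, θ g = θ 1 := fun g => (mem_charKer hθ).mp (hK ▸ Subgroup.mem_top g)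
    have h1 := classInner_irr_self χ.2
    rw [classInner, Finset.sum_congr rfl (fun g _ => hall g), Finset.sum_const, Finset.card_univ,
      nsmul_eq_mul, ← Nat.card_eq_fintype_card, ← mul_assoc, inv_mul_cancel₀ card_cast_ne_zero,
      one_mul, hθ1, Nat.cast_eq_one] at h1
    exact (mul_eq_one.mp h1).1
  refine ⟨hx1, fun g hg => ?_⟩
  have hE1 : ucE p P ≤ 1 := by
    rw [hfix1] at hfix
    rw [← Nat.cast_one, Nat.cast_inj] at hfix
    omega
  have hN := (sum_ucTw h ρ.2 hρn).2.1
  have heq : CC = NN := Subgroup.eq_of_le_of_card_ge uc_C_le_N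
    (by rw [hN]; exact Nat.mul_le_of_le_div _ _ _ (by rw [Nat.div_self Nat.card_pos]; exact hE1))
  rw [heq]
  exact hg

end UC

end Cfsg.Lib.Char
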