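import Cfsg.Agent.Lib.Char.NilpotentDegree
import Cfsg.Agent.Lib.Char.CoherenceFeit
import Cfsg.Agent.Lib.Char.UniformCent
import Cfsg.Agent.Lib.Char.FixedChar
import Cfsg.Agent.Lib.Char.PermLemma

/-!
# Characters nontrivial on a central subgroup moved fixed point freely

`H` is a normal nilpotent subgroup of `L`, `Z ≤ H` is central in `H`, normal in `L`, and only `H`
centralises a nontrivial element of `Z`.  The irreducible characters of `L` which are nontrivial on `Z`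
are induced from `H` and form a coherent set.
-/

set_option autoImplicit false
set_option linter.unusedSectionVars false
set_option linter.style.haveILetI false

namespace Cfsg.Lib.Char.CentralFpf

open Cfsg Cfsg.Lib.Char Cfsg.Lib.Char.NilDegree
open scoped Classical ComplexConjugate

universe u v

variable {L : Type u} [Group L] [Fintype L] (H Z : Subgroup L) [hHn : H.Normal] [hZn : Z.Normal]

/-- Nontrivial on `Z`. -/
abbrev Nt (θ : H → ℂ) : Prop := ¬ ∀ z ∈ Z.subgroupOf H, θ z = θ 1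

variable {H Z} (hZH : Z ≤ H) (hZc : ∀ z ∈ Z, ∀ h ∈ H, z * h = h * z)
  (hfpf : ∀ x : L, x ∉ H → ∀ z ∈ Z, x * z = z * x → z = 1)

include hZH hZc hfpf in
theorem inertia_eq {θ : H → ℂ} (hθ : IsIrrCharacter H θ) (hnt : Nt H Z θ) : inertia H θ = H := by
  refine le_antisymm (fun x hx => ?_) (le_inertia H hθ.isClassFunction)
  by_contra hxH
  refine hnt fun u hu => ?_
  have hcent : ∀ z ∈ Z.subgroupOf H, ∀ g : H, g * z = z * g := fun z hz g =>
    Subtype.ext (hZc z (Subgroup.mem_subgroupOf.1 hz) g g.2).symm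
  -- `z ↦ x z x⁻¹ z⁻¹` is a bijection of `Z`
  let c : Z → Z := fun z => ⟨x * z * x⁻¹ * (z : L)⁻¹, mul_mem (hZn.conj_mem _ z.2 x) (inv_mem z.2)⟩
  have hci : Function.Injective c := by
    intro a b hab
    have h1 : x * a * x⁻¹ * (a : L)⁻¹ = x * b * x⁻¹ * (b : L)⁻¹ := congrArg Subtype.val hab
    have hcab : Commute ((b : L)⁻¹) (a : L) := (Commute.inv_left (hZc b b.2 a (hZH a.2)) : _)
    have h2 : (b : L)⁻¹ * a = 1 := by
      refine hfpf x hxH _ (mul_mem (inv_mem b.2) a.2) ?_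
      have h3 : x * a * x⁻¹ = x * b * x⁻¹ * ((b : L)⁻¹ * a) := by
        rw [← mul_assoc _ _ (a : L), ← h1, inv_mul_cancel_right]
      have h4 : (x * b * x⁻¹)⁻¹ * (x * a * x⁻¹) = (b : L)⁻¹ * a := by rw [h3]; group
      calc x * ((b : L)⁻¹ * a) = (x * b * x⁻¹)⁻¹ * (x * a * x⁻¹) * x := by group
        _ = (b : L)⁻¹ * a * x := by rw [h4]
    exact Subtype.ext (inv_mul_eq_one.1 h2).symm
  obtain ⟨z, hz⟩ := (Finite.injective_iff_surjective.1 hci) ⟨(u : L), Subgroup.mem_subgroupOf.1 hu⟩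
  have hz' : x * z * x⁻¹ * (z : L)⁻¹ = (u : L) := congrArg Subtype.val hz
  set zH : H := ⟨z, hZH z.2⟩ with hzH
  set wH : H := ⟨x * z * x⁻¹, hHn.conj_mem _ (hZH z.2) x⟩ with hwH
  have hu' : u = wH * zH⁻¹ := Subtype.ext hz'.symm
  have htw : θ wH = θ zH := congrFun ((mem_inertia H).1 hx) zH
  have hwZ : wH ∈ Z.subgroupOf H := Subgroup.mem_subgroupOf.2 (hZn.conj_mem _ z.2 x)
  have hzZ : zH ∈ Z.subgroupOf H := Subgroup.mem_subgroupOf.2 z.2
  have e1 := irr_apply_central_mul hθ (hcent _ hwZ) zH⁻¹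
  have e2 := irr_apply_central_mul hθ (hcent _ hzZ) zH⁻¹
  rw [mul_inv_cancel] at e2
  rw [← hu', htw, ← e2] at e1
  exact mul_right_cancel₀ hθ.apply_one_ne_zero e1

theorem nt_twist {θ φ : H → ℂ} (h : φ ∈ twistOrbit H θ) (hnt : Nt H Z θ) : Nt H Z φ := by
  obtain ⟨g, rfl⟩ := (mem_twistOrbit H).1 h
  intro hall
  refine hnt fun z hz => ?_
  have hz' : (⟨g⁻¹ * z * g⁻¹⁻¹, hHn.conj_mem _ z.2 g⁻¹⟩ : H) ∈ Z.subgroupOf H :=
    Subgroup.mem_subgroupOf.2 (hZn.conj_mem _ (Subgroup.mem_subgroupOf.1 hz) g⁻¹)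
  have := hall _ hz'
  rw [conjTwist_apply, conjTwist_apply_one] at this
  convert this using 2
  exact Subtype.ext (by group)

theorem res_ind_ne [Fintype H] {θ : H → ℂ} (hθ : IsIrrCharacter H θ) :
    classInner (fun x : H => indFun H θ x) θ ≠ 0 := by
  rw [← classInner_conj_symm]
  intro h
  rw [map_eq_zero, ← classInner_indFun H θ (isClassFunction_indFun H θ)] at h
  have h1 := classInner_indFun_self H hθ
  rw [h, mul_zero] at h1
  exact Nat.cast_ne_zero.2 (Nat.card_pos (α := inertia H θ)).ne' h1.symm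

include hZH hZc hfpf in
theorem mem_iff {χ : L → ℂ} :
    χ ∈ irrNontrivialOn Z ↔ ∃ θ : IrrCharacter H, Nt H Z θ ∧ χ = indFun H (θ : H → ℂ) := by
  haveI := Fintype.ofFinite H
  constructor
  · rintro ⟨hχ, z, hz, hne⟩
    obtain ⟨θ, hθc⟩ := exists_irr_constituent_res H hχ
    have hnt : Nt H Z (θ : H → ℂ) := by
      intro hall
      apply hne
      have h := clifford_res H hχ θ.2 hθc
      have e1 := congrFun h ⟨z, hZH hz⟩
      have e2 := congrFun h 1
      simp only [OneMemClass.coe_one] at e2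
      refine e1.trans (Eq.trans ?_ e2.symm)
      simp only [Pi.smul_apply, Finset.sum_apply]
      congr 1
      refine Finset.sum_congr rfl fun φ hφ => ?_
      obtain ⟨g, rfl⟩ := (mem_twistOrbit H).1 hφ
      rw [conjTwist_apply, conjTwist_apply_one]
      exact hall _ (Subgroup.mem_subgroupOf.2 (hZn.conj_mem _ hz g))
    refine ⟨θ, hnt, ?_⟩
    by_contra hne'
    have h0 := classInner_irr_ne (isIrrCharacter_indFun_of_inertia H θ.2 (inertia_eq hZH hZc hfpf θ.2 hnt))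
      hχ (Ne.symm hne')
    rw [classInner_indFun H _ hχ.isClassFunction, ← classInner_conj_symm, map_eq_zero] at h0
    exact hθc h0
  · rintro ⟨θ, hnt, rfl⟩
    refine ⟨isIrrCharacter_indFun_of_inertia H θ.2 (inertia_eq hZH hZc hfpf θ.2 hnt), ?_⟩
    by_contra hno
    push Not at hno
    exact hnt fun a ha => Block.constituent_apply_eq ((isCharacter_indFun H θ.2.isCharacter).comp H.subtype)
      θ.2 (res_ind_ne θ.2) (hno _ (Subgroup.mem_subgroupOf.1 ha))

include hZH hZc hfpf in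
theorem apply_off {χ : L → ℂ} (hχ : χ ∈ irrNontrivialOn Z) {x : L} (hx : x ∉ H) : χ x = 0 := by
  haveI := Fintype.ofFinite H
  obtain ⟨θ, -, rfl⟩ := (mem_iff hZH hZc hfpf).1 hχ
  exact mul_eq_zero_of_right _ (Finset.sum_eq_zero fun y _ => extendByZero_of_notMem _ _ fun hy => hx (by
    simpa [mul_assoc] using hHn.conj_mem _ hy y))

include hZH hZc hfpf in
theorem degree_ind [Fintype H] (θ : IrrCharacter H) (hnt : Nt H Z θ) :
    charDegree (indFun H (θ : H → ℂ)) = H.index * dg θ := by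
  have h := (isIrrCharacter_indFun_of_inertia H θ.2 (inertia_eq hZH hZc hfpf θ.2 hnt)).apply_one_eq_charDegree
  rw [indFun_apply_one, NilDegree.apply_one, ← Nat.cast_mul, Nat.cast_inj] at h
  exact h.symm

include hZH hZc hfpf in
/-- A conjugation invariant family: the fibres of induction have `|L : H|` members. -/
theorem sum_fiber [Fintype H] (S : Finset (IrrCharacter H)) (hS : ∀ θ ∈ S, Nt H Z (θ : H → ℂ))
    (hinv : ∀ θ ∈ S, ∀ φ : IrrCharacter H, (φ : H → ℂ) ∈ twistOrbit H (θ : H → ℂ) → φ ∈ S) :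
    H.index * ∑ θ ∈ S, dg θ ^ 2 =
      ∑ χ ∈ S.image (fun θ : IrrCharacter H => indFun H (θ : H → ℂ)), charDegree χ ^ 2 := by
  rw [← Finset.sum_fiberwise_of_maps_to (t := S.image fun θ : IrrCharacter H => indFun H (θ : H → ℂ))
    (g := fun θ : IrrCharacter H => indFun H (θ : H → ℂ)) (fun θ hθ => Finset.mem_image_of_mem _ hθ), Finset.mul_sum]
  refine Finset.sum_congr rfl fun χ hχ => ?_
  obtain ⟨θ, hθ, rfl⟩ := Finset.mem_image.1 hχ
  have hfib : ∀ φ : IrrCharacter H, φ ∈ S.filter (fun φ : IrrCharacter H => indFun H (φ : H → ℂ) = indFun H (θ : H → ℂ)) ↔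
      (φ : H → ℂ) ∈ twistOrbit H (θ : H → ℂ) := by
    intro φ
    rw [Finset.mem_filter]
    refine ⟨fun h => ?_, fun h => ⟨hinv θ hθ φ h, indFun_eq_of_mem_orbit H h⟩⟩
    by_contra hno
    have h0 := classInner_indFun_of_notMem H θ.2 φ.2 hno
    rw [h.2, classInner_irr_self (isIrrCharacter_indFun_of_inertia H θ.2 (inertia_eq hZH hZc hfpf θ.2 (hS θ hθ)))] at h0
    exact one_ne_zero h0
  have hdg : ∀ φ ∈ S.filter (fun φ : IrrCharacter H => indFun H (φ : H → ℂ) = indFun H (θ : H → ℂ)),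
      dg φ ^ 2 = dg θ ^ 2 := by
    intro φ hφ
    obtain ⟨g, hg⟩ := (mem_twistOrbit H).1 ((hfib φ).1 hφ)
    have := congrFun hg 1
    rw [conjTwist_apply_one, NilDegree.apply_one, NilDegree.apply_one, Nat.cast_inj] at this
    rw [this]
  have hcard : (S.filter (fun φ : IrrCharacter H => indFun H (φ : H → ℂ) = indFun H (θ : H → ℂ))).card = H.index := by
    have h2 : ∀ {K : Subgroup L}, K = H → K.index = H.index := fun h => by rw [h]
    rw [← h2 (inertia_eq hZH hZc hfpf θ.2 (hS θ hθ)), ← card_twistOrbit H (θ : H → ℂ)]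
    refine Finset.card_bij (fun φ _ => (φ : H → ℂ)) (fun φ hφ => (hfib φ).1 hφ)
      (fun a _ b _ h => Subtype.ext h) fun ψ hψ => ?_
    exact ⟨⟨ψ, isIrrCharacter_of_mem_twistOrbit H θ.2 hψ⟩, (hfib _).2 hψ, rfl⟩
  rw [Finset.sum_congr rfl hdg, Finset.sum_const, hcard, smul_eq_mul, degree_ind hZH hZc hfpf θ (hS θ hθ)]
  ring

include hZH hZc hfpf in
/-- The set of characters nontrivial on `Z` is coherent. -/
theorem coherent (hnil : Group.IsNilpotent H) {r : ℕ} [Fact r.Prime] (hr2 : r ≠ 2)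
    (hZA : Z.subgroupOf H ≤ Cfsg.pCore r H) (hqr : H.index.Coprime r) (hZq : 2 * H.index + 1 ≤ Nat.card Z)
    (hodd : Odd (Nat.card L)) {G : Type v} [Group G] [Fintype G] {τ : (L → ℂ) → (G → ℂ)}
    (hτ : IsLinearIsometryOn (zspanOn (irrNontrivialOn Z) {1}ᶜ) τ)
    (hτ1 : ∀ α ∈ zspanOn (irrNontrivialOn Z) {1}ᶜ, τ α 1 = 0) :
    IsCoherent (irrNontrivialOn Z) {1}ᶜ τ := by
  haveI := Fintype.ofFinite H
  have hq0 : 0 < H.index := Nat.pos_of_ne_zero Subgroup.index_ne_zero_of_finite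
  have hcent : ∀ z ∈ Z.subgroupOf H, ∀ g : H, z * g = g * z := fun z hz g =>
    Subtype.ext (hZc z (Subgroup.mem_subgroupOf.1 hz) g g.2)
  have hcardZ : Nat.card (Z.subgroupOf H) = Nat.card Z :=
    Nat.card_congr (Subgroup.subgroupOfEquivOfLe hZH).toEquiv
  have hdegpos : ∀ θ : IrrCharacter H, 0 < dg θ := dg_pos
  obtain ⟨θ₀, hθ₀, hbase⟩ := exists_base hnil hr2 (Z.subgroupOf H) hZA hcent hqr (hcardZ ▸ hZq) (fun n => by
    set S := Finset.univ.filter (fun θ : IrrCharacter H => Nt H Z (θ : H → ℂ) ∧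
      (∀ b ∈ Cfsg.pPrimeCore r H, (θ : H → ℂ) b = (θ : H → ℂ) 1) ∧ dg θ < n) with hSdef
    have hS : ∀ θ ∈ S, Nt H Z (θ : H → ℂ) := fun θ hθ => (Finset.mem_filter.1 hθ).2.1
    have h := sum_fiber hZH hZc hfpf S hS (fun θ hθ φ hφ => by
      obtain ⟨-, h1, h2, h3⟩ := Finset.mem_filter.1 hθ
      obtain ⟨g, hg⟩ := (mem_twistOrbit H).1 hφ
      refine Finset.mem_filter.2 ⟨Finset.mem_univ _, nt_twist hφ h1, fun b hb => ?_, ?_⟩
      · rw [← hg, conjTwist_apply, conjTwist_apply_one]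
        refine h2 _ ?_
        have := (inferInstance : (Cfsg.pPrimeCore r H).Characteristic).fixed (MulAut.conjNormal g)
        rw [← this, Subgroup.mem_comap] at hb
        convert hb using 1
        exact Subtype.ext (MulAut.conjNormal_apply g b).symm
      · have := congrFun hg 1
        rw [conjTwist_apply_one, NilDegree.apply_one, NilDegree.apply_one, Nat.cast_inj] at this
        omega)
    refine (Nat.mul_dvd_mul_iff_left hq0).1 ?_
    rw [h]
    refine Finset.dvd_sum fun χ hχ => ?_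
    obtain ⟨θ, hθ, rfl⟩ := Finset.mem_image.1 hχ
    rw [degree_ind hZH hZc hfpf θ (hS θ hθ), mul_pow, sq H.index]
    exact dvd_mul_right _ _)
  set X := (irrNontrivialOn_finite Z).toFinset with hX
  have hXc : (↑X : Set (L → ℂ)) = irrNontrivialOn Z := (irrNontrivialOn_finite Z).coe_toFinset
  let T : ℕ → Finset (L → ℂ) := fun n => X.filter fun χ => charDegree χ ≤ H.index * n
  have hT : ∀ {n χ}, χ ∈ T n ↔ χ ∈ irrNontrivialOn Z ∧ charDegree χ ≤ H.index * n := fun {n χ} => by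
    simp [T, hX]
  have hTS : ∀ n, (↑(T n) : Set (L → ℂ)) ⊆ irrNontrivialOn Z := fun n χ hχ => (hT.1 hχ).1
  have hd : ∀ χ ∈ irrNontrivialOn Z, χ 1 = (charDegree χ : ℂ) := fun χ hχ => hχ.1.apply_one_eq_charDegree
  have hge : ∀ θ : IrrCharacter H, Nt H Z (θ : H → ℂ) → dg θ₀ ≤ dg θ := fun θ h =>
    Nat.le_of_dvd (hdegpos θ) (hbase θ h).1
  set ψ := indFun H (θ₀ : H → ℂ) with hψdef
  have hψ : ψ ∈ irrNontrivialOn Z := (mem_iff hZH hZc hfpf).2 ⟨θ₀, hθ₀, rfl⟩
  have hψd : charDegree ψ = H.index * dg θ₀ := degree_ind hZH hZc hfpf θ₀ hθ₀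
  suffices key : ∀ n, dg θ₀ ≤ n → IsCoherent (↑(T n) : Set (L → ℂ)) {1}ᶜ τ by
    have h := key (Nat.card L + dg θ₀) (Nat.le_add_left _ _)
    have e : T (Nat.card L + dg θ₀) = X := Finset.filter_true_of_mem fun χ hχ => by
      have h1 : charDegree χ ≤ Nat.card L := Nat.le_of_dvd Nat.card_pos
        (charDegree_dvd_card ((irrNontrivialOn_finite Z).mem_toFinset.1 hχ).1)
      exact h1.trans ((Nat.le_add_right _ _).trans (Nat.le_mul_of_pos_left _ hq0))
    rwa [e, hXc] at h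
  intro n hn
  induction n, hn using Nat.le_induction with
  | base =>
    have hconj : ψ ≠ conjFun ψ ∧ conjFun ψ ∈ T (dg θ₀) := by
      refine ⟨fun e => ?_, hT.2 ⟨?_, ?_⟩⟩
      · have h1 : ψ = fun _ => 1 := real_irr_eq_one hodd ⟨ψ, hψ.1⟩
          (fun x => Complex.conj_eq_iff_im.1 (congrFun e x).symm)
        obtain ⟨-, z, hz, hne⟩ := hψ
        exact hne (by rw [h1])
      · obtain ⟨hi, z, hz, hne⟩ := hψ
        exact ⟨isIrrCharacter_conjFn hi, z, hz, fun e => hne (RingHom.injective (starRingEnd ℂ) e)⟩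
      · refine le_of_eq ?_
        have h1 : conjFun ψ 1 = (charDegree (conjFun ψ) : ℂ) :=
          (isIrrCharacter_conjFn hψ.1).apply_one_eq_charDegree
        rw [show conjFun ψ 1 = conj (ψ 1) from rfl] at h1
        rw [hψ.1.apply_one_eq_charDegree, Complex.conj_natCast, Nat.cast_inj, hψd] at h1
        exact h1.symm
    refine coherent_of_equal_degree (T (dg θ₀)) (fun χ hχ => (hTS _ hχ).1)
      ⟨ψ, hT.2 ⟨hψ, hψd.le⟩, conjFun ψ, hconj.2, hconj.1⟩ ?_ (hτ.mono (zspanOn_mono (hTS _) _))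
      (fun α hα => hτ1 α (zspanOn_mono (hTS _) _ hα))
    have heq : ∀ φ ∈ T (dg θ₀), φ 1 = ((H.index * dg θ₀ : ℕ) : ℂ) := fun φ hφ => by
      obtain ⟨θ, hnt, rfl⟩ := (mem_iff hZH hZc hfpf).1 (hTS _ hφ)
      have h1 := (hT.1 hφ).2
      rw [degree_ind hZH hZc hfpf θ hnt] at h1
      rw [hd _ (hTS _ hφ), degree_ind hZH hZc hfpf θ hnt,
        le_antisymm (Nat.le_of_mul_le_mul_left h1 hq0) (hge θ hnt)]
    exact fun φ hφ φ' hφ' => (heq φ hφ).trans (heq φ' hφ').symm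
  | succ n hn ih =>
    refine coherent_extend_bound (S := irrNontrivialOn Z) (fun ξ hξ => hξ.1) hτ hτ1 charDegree hd (T n) (T (n + 1))
      (fun χ hχ => hT.2 ⟨(hT.1 hχ).1, (hT.1 hχ).2.trans (Nat.mul_le_mul_left _ n.le_succ)⟩) (hTS _) ih
      (ψ := ψ) (hT.2 ⟨hψ, hψd.le.trans (Nat.mul_le_mul_left _ hn)⟩) (fun χ hχ => ?_) (fun χ hχ hχ' => ?_)
    · obtain ⟨θ, hnt, rfl⟩ := (mem_iff hZH hZc hfpf).1 (hTS _ hχ)
      rw [hψd, degree_ind hZH hZc hfpf θ hnt]
      exact Nat.mul_dvd_mul_left _ (hbase θ hnt).1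
    · obtain ⟨θ, hnt, rfl⟩ := (mem_iff hZH hZc hfpf).1 (hTS _ hχ)
      have h1 := (hT.1 hχ).2
      have h2 : ¬ charDegree (indFun H (θ : H → ℂ)) ≤ H.index * n := fun h => hχ' (hT.2 ⟨hTS _ hχ, h⟩)
      rw [degree_ind hZH hZc hfpf θ hnt] at h1 h2 ⊢
      have hθn : dg θ = n + 1 := le_antisymm (Nat.le_of_mul_le_mul_left h1 hq0) (by
        by_contra hlt
        exact h2 (Nat.mul_le_mul_left _ (by omega)))
      have hlt := (hbase θ hnt).2 (by omega)
      set S := Finset.univ.filter (fun φ : IrrCharacter H => Nt H Z (φ : H → ℂ) ∧ dg φ < dg θ) with hSdef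
      have hf := sum_fiber hZH hZc hfpf S (fun φ hφ => (Finset.mem_filter.1 hφ).2.1) (fun φ hφ φ' hφ' => by
        obtain ⟨-, a1, a2⟩ := Finset.mem_filter.1 hφ
        refine Finset.mem_filter.2 ⟨Finset.mem_univ _, nt_twist hφ' a1, ?_⟩
        obtain ⟨g, hg⟩ := (mem_twistOrbit H).1 hφ'
        have := congrFun hg 1
        rw [conjTwist_apply_one, NilDegree.apply_one, NilDegree.apply_one, Nat.cast_inj] at this
        omega)
      have hsub : S.image (fun φ : IrrCharacter H => indFun H (φ : H → ℂ)) ⊆ T n := by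
        intro ξ hξ
        obtain ⟨φ, hφ, rfl⟩ := Finset.mem_image.1 hξ
        obtain ⟨-, a1, a2⟩ := Finset.mem_filter.1 hφ
        exact hT.2 ⟨(mem_iff hZH hZc hfpf).2 ⟨φ, a1, rfl⟩, by
          rw [degree_ind hZH hZc hfpf φ a1]; exact Nat.mul_le_mul_left _ (by omega)⟩
      refine lt_of_lt_of_le ?_ ((le_of_eq hf).trans (Finset.sum_le_sum_of_subset hsub))
      rw [hψd]
      calc 2 * (H.index * dg θ₀) * (H.index * dg θ) = H.index * (2 * H.index * dg θ₀ * dg θ) := by ring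
        _ < H.index * ∑ φ ∈ S, dg φ ^ 2 := Nat.mul_lt_mul_of_pos_left hlt hq0

end Cfsg.Lib.Char.CentralFpf
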