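import Cfsg.Agent.Lib.Char.TI
import Cfsg.Agent.Lib.Char.Formulas
import Mathlib.LinearAlgebra.Matrix.Permutation

/-!
# Sums over products of two involutions against class functions induced from a subgroup
-/

set_option autoImplicit false
set_option linter.unusedSectionVars false
set_option linter.style.haveILetI false

namespace Cfsg.Lib.Char

open Cfsg
open scoped ComplexConjugate

universe u

variable {G : Type u} [Group G]

/-- The number of points fixed under a permutation action is a character. -/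
theorem isCharacter_fixedCount {n : ℕ} (π : G →* Equiv.Perm (Fin n)) :
    IsCharacter G (fun g => ((Finset.univ.filter fun i => π g i = i).card : ℂ)) := by
  classical
  let ρ : Representation ℂ G (Fin n → ℂ) :=
    { toFun := fun g => Matrix.toLin' ((π g⁻¹).permMatrix ℂ)
      map_one' := by simp [Matrix.toLin'_one]; rfl
      map_mul' := fun g h => by
        rw [mul_inv_rev, map_mul, Matrix.permMatrix_mul, Matrix.toLin'_mul]
        rfl }
  refine ⟨n, ρ, ?_⟩
  funext g
  show LinearMap.trace ℂ _ (Matrix.toLin' ((π g⁻¹).permMatrix ℂ)) = _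
  rw [Matrix.trace_toLin'_eq, Matrix.trace_permutation]
  congr 1
  rw [map_inv, ← Set.ncard_coe_finset]
  congr 1
  ext i
  simp [Function.IsFixedPt, Equiv.Perm.inv_def, eq_comm]

variable [Fintype G] [DecidableEq G]

/-- The involutions. -/
def involFinset (G : Type u) [Group G] [Fintype G] [DecidableEq G] : Finset G :=
  Finset.univ.filter fun x => x ≠ 1 ∧ x * x = 1

theorem mem_involFinset {x : G} : x ∈ involFinset G ↔ x ≠ 1 ∧ x * x = 1 := by simp [involFinset]

theorem conj_mem_involFinset {x : G} (k : G) (h : x ∈ involFinset G) :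
    k * x * k⁻¹ ∈ involFinset G := by
  rw [mem_involFinset] at h ⊢
  refine ⟨fun e => h.1 ?_, ?_⟩
  · calc x = k⁻¹ * (k * x * k⁻¹) * k := by group
      _ = 1 := by rw [e]; group
  · calc k * x * k⁻¹ * (k * x * k⁻¹) = k * (x * x) * k⁻¹ := by group
      _ = 1 := by rw [h.2]; group

theorem sum_involFinset_char {χ : G → ℂ} (hχ : IsIrrCharacter G χ) (g : G) :
    ∑ x ∈ involFinset G, χ (g * x) = χ g * (∑ x ∈ involFinset G, χ x) / χ 1 := by
  have h1 : ∀ k : G, ∑ x ∈ involFinset G, χ (g * (k * x * k⁻¹)) = ∑ x ∈ involFinset G, χ (g * x) :=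
    fun k => Finset.sum_nbij' (fun x => k * x * k⁻¹) (fun x => k⁻¹ * x * k)
      (fun x hx => conj_mem_involFinset k hx)
      (fun x hx => by simpa using conj_mem_involFinset k⁻¹ hx)
      (fun x _ => by group) (fun x _ => by group) (fun x _ => rfl)
  have h2 : (Nat.card G : ℂ) * ∑ x ∈ involFinset G, χ (g * x) =
      ∑ x ∈ involFinset G, (Nat.card G : ℂ) * χ g * χ x / χ 1 := by
    simp_rw [← sum_char_mul_conj hχ g]
    rw [Finset.sum_comm, Finset.sum_congr rfl fun k _ => h1 k, Finset.sum_const, Finset.card_univ,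
      nsmul_eq_mul, Nat.card_eq_fintype_card]
  rw [← Finset.sum_div, ← Finset.mul_sum] at h2
  refine mul_left_cancel₀ (card_cast_ne_zero (G := G)) ?_
  rw [h2]
  ring

theorem sum_involFinset_pair {χ : G → ℂ} (hχ : IsIrrCharacter G χ) :
    ∑ x ∈ involFinset G, ∑ y ∈ involFinset G, χ (x * y) =
      (∑ x ∈ involFinset G, χ x) ^ 2 / χ 1 := by
  simp_rw [sum_involFinset_char hχ]
  rw [← Finset.sum_div, ← Finset.sum_mul]
  ring

/-- A class function summed over products of pairs of involutions. -/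
theorem sum_invol_pair_eq {F : G → ℂ} (hF : IsClassFunction G F) :
    ∑ x ∈ involFinset G, ∑ y ∈ involFinset G, F (x * y) =
      ∑ χ : IrrCharacter G, classInner F (χ : G → ℂ) *
        ((∑ x ∈ involFinset G, (χ : G → ℂ) x) ^ 2 / (χ : G → ℂ) 1) := by
  conv_lhs => rw [eq_sum_classInner hF]
  simp only [Finset.sum_apply, Pi.smul_apply, smul_eq_mul]
  rw [Finset.sum_comm_cycle]
  refine Finset.sum_congr rfl fun χ _ => ?_
  simp_rw [← Finset.mul_sum]
  rw [sum_involFinset_pair χ.2]

theorem sum_invol_eq {F : G → ℂ} (hF : IsClassFunction G F) :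
    ∑ x ∈ involFinset G, F x =
      ∑ χ : IrrCharacter G, classInner F (χ : G → ℂ) * ∑ x ∈ involFinset G, (χ : G → ℂ) x := by
  conv_lhs => rw [eq_sum_classInner hF]
  simp only [Finset.sum_apply, Pi.smul_apply, smul_eq_mul]
  rw [Finset.sum_comm]
  simp only [Finset.mul_sum]

theorem indFun_invol_eq_zero (L : Subgroup G) {ψ : L → ℂ}
    (hψ : ∀ h : L, (h : G) * h = 1 → ψ h = 0) {x : G} (hx : x * x = 1) : indFun L ψ x = 0 := by
  simp only [indFun]
  rw [Finset.sum_eq_zero, mul_zero]
  intro k _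
  by_cases hm : k⁻¹ * x * k ∈ L
  · rw [extendByZero_of_mem L ψ hm]
    refine hψ _ ?_
    calc k⁻¹ * x * k * (k⁻¹ * x * k) = k⁻¹ * (x * x) * k := by group
      _ = 1 := by rw [hx]; group
  · rw [extendByZero_of_notMem L ψ hm]

/-- Products of pairs of involutions against a function induced from a trivial-intersection set
are computed inside the subgroup. -/
theorem sum_invol_pair_indFun (L : Subgroup G) [Fintype L] [DecidablePred (· ∈ L)]
    (hTI : ∀ x : G, x ∉ L → ∀ t : L, (t : G) * t ≠ 1 → x * t * x⁻¹ ∈ L →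
      x * t * x⁻¹ * (x * t * x⁻¹) = 1)
    {ψ : L → ℂ} (hψ0 : ∀ h : L, (h : G) * h = 1 → ψ h = 0) :
    ∑ x ∈ involFinset G, ∑ y ∈ involFinset G, indFun L ψ (x * y) =
      (L.index : ℂ) * ∑ x ∈ involFinset L, ∑ y ∈ involFinset L, ψ (x * y) := by
  classical
  haveI : Nonempty L := ⟨1⟩
  set K : G → ℕ := fun g => ((involFinset G ×ˢ involFinset G).filter fun p => p.1 * p.2 = g).card
    with hK
  have hKc : IsClassFunction G (fun g => (K g : ℂ)) := by
    intro g k
    have : K (k * g * k⁻¹) = K g := by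
      refine Finset.card_nbij' (fun p => (k⁻¹ * p.1 * k, k⁻¹ * p.2 * k))
        (fun p => (k * p.1 * k⁻¹, k * p.2 * k⁻¹)) ?_ ?_ ?_ ?_
      · intro p hp
        simp only [Finset.mem_filter, Finset.mem_product, Finset.mem_coe] at hp ⊢
        refine ⟨⟨by simpa using conj_mem_involFinset k⁻¹ hp.1.1,
          by simpa using conj_mem_involFinset k⁻¹ hp.1.2⟩, ?_⟩
        calc k⁻¹ * p.1 * k * (k⁻¹ * p.2 * k) = k⁻¹ * (p.1 * p.2) * k := by group
          _ = g := by rw [hp.2]; group
      · intro p hp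
        simp only [Finset.mem_filter, Finset.mem_product, Finset.mem_coe] at hp ⊢
        refine ⟨⟨conj_mem_involFinset k hp.1.1, conj_mem_involFinset k hp.1.2⟩, ?_⟩
        rw [← hp.2]
        group
      · intro p _; simp [mul_assoc]
      · intro p _; simp [mul_assoc]
    show (K (k * g * k⁻¹) : ℂ) = K g
    rw [this]
  have hsum : ∑ x ∈ involFinset G, ∑ y ∈ involFinset G, indFun L ψ (x * y) =
      ∑ g : G, (K g : ℂ) * indFun L ψ g := by
    rw [← Finset.sum_product', ← Finset.sum_fiberwise (involFinset G ×ˢ involFinset G)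
      (fun p => p.1 * p.2)]
    refine Finset.sum_congr rfl fun g _ => ?_
    rw [Finset.sum_congr rfl fun p hp => by rw [(Finset.mem_filter.mp hp).2], Finset.sum_const,
      nsmul_eq_mul]
  have hFrob : (Nat.card G : ℂ)⁻¹ * ∑ g : G, (K g : ℂ) * indFun L ψ g =
      (Nat.card L : ℂ)⁻¹ * ∑ h : L, (K h : ℂ) * ψ h := by
    have h := classInner_indFun L ψ hKc
    simp only [classInner, Complex.conj_natCast] at h
    simpa only [mul_comm (K _ : ℂ)] using h
  have hloc : ∀ h : L, (h : G) * h ≠ 1 →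
      K h = ((involFinset L ×ˢ involFinset L).filter fun p => p.1 * p.2 = h).card := by
    intro h hh
    symm
    refine Finset.card_nbij (fun p => ((p.1 : G), (p.2 : G))) ?_ ?_ ?_
    · intro p hp
      simp only [Finset.mem_coe, Finset.mem_filter, Finset.mem_product, mem_involFinset] at hp ⊢
      refine ⟨⟨⟨fun e => hp.1.1.1 (Subtype.ext e), congrArg Subtype.val hp.1.1.2⟩,
        ⟨fun e => hp.1.2.1 (Subtype.ext e), congrArg Subtype.val hp.1.2.2⟩⟩,
        congrArg Subtype.val hp.2⟩
    · intro p _ p' _ e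
      simp only [Prod.mk.injEq] at e
      exact Prod.ext (Subtype.ext e.1) (Subtype.ext e.2)
    · rintro ⟨x, y⟩ hp
      simp only [Finset.mem_coe, Finset.mem_filter, Finset.mem_product, mem_involFinset] at hp
      obtain ⟨⟨⟨hx1, hxx⟩, hy1, hyy⟩, hxy⟩ := hp
      have hx : x ∈ L := by
        by_contra hx
        have hinv : x * (h : G) * x⁻¹ = (h : G)⁻¹ := by
          rw [← hxy, mul_inv_rev, inv_eq_of_mul_eq_one_right hxx, inv_eq_of_mul_eq_one_right hyy,
            ← mul_assoc, hxx, one_mul]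
        have h1 := hTI x hx h hh (by rw [hinv]; exact L.inv_mem h.2)
        rw [hinv, ← mul_inv_rev, inv_eq_one] at h1
        exact hh h1
      have hy : y ∈ L := by
        rw [show y = x⁻¹ * (h : G) by rw [← hxy, inv_mul_cancel_left]]
        exact L.mul_mem (L.inv_mem hx) h.2
      refine ⟨(⟨x, hx⟩, ⟨y, hy⟩), ?_, rfl⟩
      simp only [Finset.mem_coe, Finset.mem_filter, Finset.mem_product, mem_involFinset]
      exact ⟨⟨⟨fun e => hx1 (congrArg Subtype.val e), Subtype.ext hxx⟩,
        ⟨fun e => hy1 (congrArg Subtype.val e), Subtype.ext hyy⟩⟩, Subtype.ext hxy⟩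
  have hR : ∑ h : L, (K h : ℂ) * ψ h = ∑ x ∈ involFinset L, ∑ y ∈ involFinset L, ψ (x * y) := by
    rw [← Finset.sum_product', ← Finset.sum_fiberwise (involFinset L ×ˢ involFinset L)
      (fun p => p.1 * p.2)]
    refine Finset.sum_congr rfl fun h _ => ?_
    rw [Finset.sum_congr rfl fun p hp => by rw [(Finset.mem_filter.mp hp).2], Finset.sum_const,
      nsmul_eq_mul]
    by_cases hh : (h : G) * h = 1
    · rw [hψ0 h hh, mul_zero, mul_zero]
    · rw [hloc h hh]
  rw [hsum, ← hR]
  rw [inv_mul_eq_iff_eq_mul₀ card_cast_ne_zero] at hFrob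
  rw [hFrob, ← Subgroup.index_mul_card L, Nat.cast_mul]
  have : (Nat.card L : ℂ) ≠ 0 := Nat.cast_ne_zero.mpr Nat.card_pos.ne'
  field_simp

end Cfsg.Lib.Char
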