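import Cfsg.Agent.Lib.Local.CNNode
import Cfsg.Agent.Lib.Char.SignedIrr
import Cfsg.Agent.Lib.Char.InvolutionSum

/-!
# Suzuki: involution centralisers of groups with abelian centralisers

If the centraliser `A` of an involution `t` is abelian and is the centraliser of each of its
non-identity elements, all involutions are conjugate, `A` has at least two of them and the normaliser
of `A` is proper, then `A` is an elementary abelian 2-group (exceptional characters).
-/

set_option autoImplicit false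
set_option linter.unusedSectionVars false
set_option linter.style.haveILetI false

namespace Cfsg.Lib.Char.CAEven

open Cfsg Cfsg.Lib.Char Subgroup Cfsg.Lib.Local.CNNode
open scoped ComplexConjugate

universe u

variable {G : Type u} [Group G] [Fintype G]

/-- An abelian subgroup which is the centraliser of each of its non-identity elements. -/
structure IsCA (A : Subgroup G) : Prop where
  comm : ∀ a ∈ A, ∀ b ∈ A, a * b = b * a
  cent : ∀ x ∈ A, x ≠ 1 → centralizer ({x} : Set G) = A

variable {A : Subgroup G}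

theorem IsCA.ti (h : IsCA A) {g x : G} (hx : x ∈ A) (hx1 : x ≠ 1) (hg : g * x * g⁻¹ ∈ A) :
    g ∈ normalizer (A : Set G) := by
  have hy1 : g * x * g⁻¹ ≠ 1 := fun e => hx1 (conj_eq_one_iff.mp e)
  rw [mem_normalizer_iff]
  intro z
  conv_lhs => rw [← h.cent x hx hx1]
  rw [← h.cent _ hg hy1, mem_centralizer_singleton_iff, mem_centralizer_singleton_iff]
  constructor <;> intro e
  · calc g * z * g⁻¹ * (g * x * g⁻¹) = g * (z * x) * g⁻¹ := by group
      _ = g * (x * z) * g⁻¹ := by rw [e]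
      _ = _ := by group
  · calc z * x = g⁻¹ * (g * z * g⁻¹ * (g * x * g⁻¹)) * g := by group
      _ = g⁻¹ * (g * x * g⁻¹ * (g * z * g⁻¹)) * g := by rw [e]
      _ = _ := by group

theorem IsCA.fix (h : IsCA A) {n x : G} (hx : x ∈ A) (hx1 : x ≠ 1) (hn : n * x * n⁻¹ = x) :
    n ∈ A := by
  rw [← h.cent x hx hx1, mem_centralizer_singleton_iff]
  exact mul_inv_eq_iff_eq_mul.mp hn

theorem mem_of_cj_eq' (h : IsCA A) {x : normalizer (A : Set G)} {μ : A →* ℂˣ} (hμ : μ ≠ 1)
    (e : cj A x μ = μ) : (x : G) ∈ A := by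
  by_contra hx
  apply hμ
  have hm : ∀ k : A, (x : G) * k * (x : G)⁻¹ * (k : G)⁻¹ ∈ A := fun k =>
    mul_mem ((mem_normalizer_iff.mp x.2 k).mp k.2) (inv_mem k.2)
  let ψ : A → A := fun k => ⟨_, hm k⟩
  have hinj : Function.Injective ψ := by
    intro k l hkl
    have h0 : (x : G) * k * (x : G)⁻¹ * (k : G)⁻¹ = (x : G) * l * (x : G)⁻¹ * (l : G)⁻¹ :=
      congrArg Subtype.val hkl
    by_contra hne
    refine hx (h.fix (mul_mem (inv_mem l.2) k.2) ?_ ?_)
    · intro e1
      exact hne (Subtype.ext (inv_mul_eq_one.mp e1).symm)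
    · have h1 : (x : G) * k * (x : G)⁻¹ = (x : G) * l * (x : G)⁻¹ * (l : G)⁻¹ * k :=
        mul_inv_eq_iff_eq_mul.mp h0
      calc (x : G) * ((l : G)⁻¹ * k) * (x : G)⁻¹
          = ((x : G) * l * (x : G)⁻¹)⁻¹ * ((x : G) * k * (x : G)⁻¹) := by group
        _ = (l : G)⁻¹ * k := by rw [h1]; group
  refine MonoidHom.ext fun k => ?_
  obtain ⟨l, rfl⟩ := Finite.surjective_of_injective hinj k
  have e1 : ψ l = A.normalizerMonoidHom x l * l⁻¹ := Subtype.ext rfl
  rw [e1, map_mul, map_inv, MonoidHom.one_apply, mul_inv_eq_one]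
  exact DFunLike.congr_fun e l

theorem indFun_res (h : IsCA A) [Fintype (normalizer (A : Set G))] (f : A → ℂ) (f1 : f 1 = 0)
    (k : A) : indFun A f (k : G) =
      (Nat.card A : ℂ)⁻¹ * ∑ x : normalizer (A : Set G), f (A.normalizerMonoidHom x k) := by
  rw [indFun]
  congr 1
  have hN : ∀ x : G, extendByZero A f (x⁻¹ * k * x) =
      extendByZero (normalizer (A : Set G)) (fun _ => (1 : ℂ)) x *
        extendByZero A f (x⁻¹ * k * x) := by
    intro x
    by_cases hx : x ∈ normalizer (A : Set G)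
    · rw [extendByZero_of_mem _ _ hx, one_mul]
    · rw [extendByZero_of_notMem _ _ hx, zero_mul]
      by_cases h1 : (k : G) = 1
      · rw [h1, mul_one, inv_mul_cancel, extendByZero_of_mem _ _ (one_mem A)]
        exact f1
      · refine extendByZero_of_notMem _ _ fun hm => hx ?_
        have := inv_mem (h.ti (g := x⁻¹) k.2 h1 (by rwa [inv_inv]))
        rwa [inv_inv] at this
  rw [Finset.sum_congr rfl fun x _ => hN x, sum_extendByZero]
  refine Fintype.sum_equiv (Equiv.inv _) _ _ fun x => ?_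
  have hm : ((x : G))⁻¹ * k * (x : G) ∈ A := by
    have := (mem_normalizer_iff.mp (inv_mem x.2) (k : G)).mp k.2
    rwa [inv_inv] at this
  rw [one_mul, extendByZero_of_mem _ _ hm]
  congr 1
  apply Subtype.ext
  show _ = ((x⁻¹ : normalizer (A : Set G)) : G) * k * ((x⁻¹ : normalizer (A : Set G)) : G)⁻¹
  simp

/-- The sum over an orbit of linear characters. -/
noncomputable def psi (A : Subgroup G) [Fintype (normalizer (A : Set G))] (μ : A →* ℂˣ) (k : A) : ℂ :=
  (Nat.card A : ℂ)⁻¹ * ∑ x : normalizer (A : Set G), (cj A x μ k : ℂ)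

/-- The virtual character induced from the difference of two linear characters. -/
noncomputable def beta (A : Subgroup G) (μ ν : A →* ℂˣ) : G → ℂ :=
  indFun A (fun k => (μ k : ℂ) - (ν k : ℂ))

theorem beta_gen (μ ν : A →* ℂˣ) : IsGeneralizedCharacter G (beta A μ ν) :=
  isGeneralizedCharacter_indFun A
    ((isIrrCharacter_linear μ).isGeneralized.sub (isIrrCharacter_linear ν).isGeneralized)

theorem beta_one (μ ν : A →* ℂˣ) : beta A μ ν 1 = 0 := by
  simp [beta, indFun_apply_one]

theorem beta_add (μ ν ρ : A →* ℂˣ) : beta A μ ν + beta A ν ρ = beta A μ ρ := by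
  rw [beta, beta, beta, ← indFun_add]
  congr 1
  funext k
  simp

theorem psi_one [Fintype (normalizer (A : Set G))] (μ : A →* ℂˣ) :
    psi A μ 1 = (Nat.card A : ℂ)⁻¹ * (Nat.card (normalizer (A : Set G)) : ℂ) := by
  simp [psi, Nat.card_eq_fintype_card]

theorem beta_res (h : IsCA A) [Fintype (normalizer (A : Set G))] (μ ν : A →* ℂˣ) (k : A) :
    beta A μ ν (k : G) = psi A μ k - psi A ν k := by
  rw [beta, indFun_res h _ (by simp), psi, psi, ← mul_sub, ← Finset.sum_sub_distrib]
  rfl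

theorem inner_psi (h : IsCA A) [Fintype A] [Fintype (normalizer (A : Set G))] (μ : A →* ℂˣ)
    (ν : NT A) [Decidable (∃ x, cj A x ν.1 = μ)] :
    classInner (fun k : A => (μ k : ℂ)) (psi A ν.1) =
      if ∃ x, cj A x ν.1 = μ then 1 else 0 := by
  classical
  have e : psi A ν.1 = (Nat.card A : ℂ)⁻¹ •
      ∑ x : normalizer (A : Set G), (fun k : A => (cj A x ν.1 k : ℂ)) := by
    funext k
    simp [psi]
  rw [e, classInner_smul_right, classInner_sum_right]
  simp only [linear_inner, Finset.sum_boole, map_inv₀, map_natCast]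
  split_ifs with hr
  · obtain ⟨x₀, hx₀⟩ := hr
    have hc : (Finset.univ.filter fun x => μ = cj A x ν.1).card = Nat.card A := by
      rw [Nat.card_eq_fintype_card, ← Finset.card_univ (α := A)]
      refine (Finset.card_bij (fun (k : A) _ => (⟨(k : G), le_normalizer k.2⟩ :
          normalizer (A : Set G)) * x₀) ?_ ?_ ?_).symm
      · intro k _
        simp only [Finset.mem_filter, Finset.mem_univ, true_and]
        rw [cj_mul, cj_of_mem A ⟨(k : G), le_normalizer k.2⟩ k.2, hx₀]
      · intro k _ k' _ hk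
        exact Subtype.ext (congrArg Subtype.val (mul_right_cancel hk) :)
      · intro y hy
        simp only [Finset.mem_filter, Finset.mem_univ, true_and] at hy
        have hm : ((y * x₀⁻¹ : normalizer (A : Set G)) : G) ∈ A := by
          refine mem_of_cj_eq' h ν.2 ?_
          rw [cj_mul, ← hy, ← hx₀, ← cj_mul, mul_inv_cancel, cj_one]
        exact ⟨⟨_, hm⟩, Finset.mem_univ _, Subtype.ext (by simp)⟩
    rw [hc]
    exact inv_mul_cancel₀ (Nat.cast_ne_zero.mpr Nat.card_pos.ne')
  · rw [Finset.filter_false_of_mem]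
    · simp
    · intro x _ hx
      exact hr ⟨x, hx.symm⟩

theorem beta_inner (h : IsCA A) (μ ν μ' ν' : NT A)
    [Decidable (μ ≈ μ')] [Decidable (μ ≈ ν')] [Decidable (ν ≈ μ')] [Decidable (ν ≈ ν')] :
    classInner (beta A μ.1 ν.1) (beta A μ'.1 ν'.1) =
      (if μ ≈ μ' then 1 else 0) - (if μ ≈ ν' then 1 else 0) - (if ν ≈ μ' then 1 else 0) +
        (if ν ≈ ν' then 1 else 0) := by
  classical
  haveI := Fintype.ofFinite A
  haveI := Fintype.ofFinite (normalizer (A : Set G))
  have hiff : ∀ a b : NT A, (∃ x, cj A x b.1 = a.1) ↔ a ≈ b := fun a b =>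
    ⟨fun h => Setoid.symm h, fun h => Setoid.symm h⟩
  rw [beta, classInner_indFun A _ (beta_gen μ'.1 ν'.1).isClassFunction]
  have e : (fun k : A => beta A μ'.1 ν'.1 (k : G)) = psi A μ'.1 - psi A ν'.1 := by
    funext k
    exact beta_res h _ _ k
  rw [e, show (fun k : A => (μ.1 k : ℂ) - (ν.1 k : ℂ)) =
    (fun k : A => (μ.1 k : ℂ)) - fun k : A => (ν.1 k : ℂ) from rfl,
    classInner_sub_left, classInner_sub_right, classInner_sub_right]
  simp only [inner_psi h, hiff]
  ring

/-- The exceptional characters. -/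
theorem exists_exceptional (h : IsCA A) [Fintype A] [Fintype (normalizer (A : Set G))] (μ₀ : NT A) :
    ∃ (ε : ℂ) (X : Orb A → G → ℂ) (c : ℤ), (ε = 1 ∨ ε = -1) ∧ (∀ i, IsIrrCharacter G (X i)) ∧
      (∀ μ ν : NT A, beta A μ.1 ν.1 = ε • (X ⟦μ⟧ - X ⟦ν⟧)) ∧
      ∀ (μ : NT A) (k : A), k ≠ 1 → X ⟦μ⟧ (k : G) = ε * psi A μ.1 k + c := by
  classical
  have hrel : ∀ i j : Orb A, i.out ≈ j.out ↔ i = j := fun i j =>
    ⟨fun e => by rw [← Quotient.out_eq i, ← Quotient.out_eq j]; exact Quotient.sound e,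
      fun e => e ▸ Setoid.refl _⟩
  obtain ⟨ε, hε, X, hX, hXi, hXe⟩ := exists_exceptional_irr (⟦μ₀⟧ : Orb A)
    (fun i => beta A i.out.1 (⟦μ₀⟧ : Orb A).out.1) (by simp [beta, ← Pi.zero_def, indFun_zero])
    (fun i => beta_gen _ _) (fun i => beta_one _ _)
    (fun i hi => by
      rw [beta_inner h]
      simp only [hrel, if_true, if_neg hi, if_neg (Ne.symm hi)]
      norm_num)
    (fun i j hi hj hij => by
      rw [beta_inner h]
      simp only [hrel, if_true, if_neg hij, if_neg hi, if_neg (Ne.symm hj)]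
      norm_num)
  have hεε : ε * ε = 1 := by rcases hε with rfl | rfl <;> norm_num
  have hsame : ∀ μ ν : NT A, μ ≈ ν → beta A μ.1 ν.1 = 0 := fun μ ν e =>
    eq_zero_of_classInner_self (by
      rw [beta_inner h, if_pos (Setoid.refl μ), if_pos e, if_pos (Setoid.symm e),
        if_pos (Setoid.refl ν)]
      ring)
  have hbeta : ∀ μ ν : NT A, beta A μ.1 ν.1 = ε • (X ⟦μ⟧ - X ⟦ν⟧) := by
    intro μ ν
    have e1 : beta A μ.1 (⟦μ⟧ : Orb A).out.1 = 0 :=
      hsame _ _ (Setoid.symm (Quotient.exact (Quotient.out_eq (⟦μ⟧ : Orb A))))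
    have e2 : beta A (⟦ν⟧ : Orb A).out.1 ν.1 = 0 :=
      hsame _ _ (Quotient.exact (Quotient.out_eq (⟦ν⟧ : Orb A)))
    have e3 : beta A (⟦μ⟧ : Orb A).out.1 (⟦ν⟧ : Orb A).out.1 = ε • (X ⟦μ⟧ - X ⟦ν⟧) := by
      have a1 := hXe ⟦μ⟧
      have a2 := hXe ⟦ν⟧
      beta_reduce at a1 a2
      rw [← beta_add _ (⟦ν⟧ : Orb A).out.1, a2] at a1
      rw [eq_sub_of_add_eq a1, ← smul_sub]
      abel_nf
    rw [← beta_add μ.1 (⟦μ⟧ : Orb A).out.1, ← beta_add (⟦μ⟧ : Orb A).out.1 (⟦ν⟧ : Orb A).out.1 ν.1,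
      e1, e2, e3, zero_add, add_zero]
  -- one exceptional character on `A`
  set Φ : A → ℂ := fun k => X ⟦μ₀⟧ (k : G) - ε * psi A μ₀.1 k with hΦ
  have hlin : ∀ l : IrrCharacter A, ∃ f : A →* ℂˣ, ∀ k, (l : A → ℂ) k = (f k : ℂ) := by
    intro l
    obtain ⟨f, hf⟩ := exists_hom_of_degree_one l.2.isCharacter
      (degree_eq_one_of_comm (fun a b => Subtype.ext (h.comm a a.2 b b.2)) l.2)
    exact ⟨f, fun k => congrFun hf k⟩
  have hgen : IsGeneralizedCharacter A (fun k : A => X ⟦μ₀⟧ (k : G)) :=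
    (hX ⟦μ₀⟧).isGeneralized.comp A.subtype
  let coef : (A →* ℂˣ) → ℂ := fun f => classInner (fun k : A => (f k : ℂ)) Φ
  have hcoef : ∀ f : A →* ℂˣ, ∃ n : ℤ, coef f = n := by
    intro f
    obtain ⟨n, hn⟩ := (isIrrCharacter_linear f).isGeneralized.exists_int_classInner hgen
    obtain ⟨b, hb⟩ : ∃ b : ℤ, ε * classInner (fun k : A => (f k : ℂ)) (psi A μ₀.1) = b := by
      rw [inner_psi h]
      split_ifs
      · rcases hε with rfl | rfl
        · exact ⟨1, by simp⟩
        · exact ⟨-1, by simp⟩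
      · exact ⟨0, by simp⟩
    refine ⟨n - b, ?_⟩
    show classInner (fun k : A => (f k : ℂ)) ((fun k : A => X ⟦μ₀⟧ (k : G)) - ε • psi A μ₀.1) = _
    rw [classInner_sub_right, classInner_smul_right, hn,
      show conj ε = ε by rcases hε with rfl | rfl <;> simp, hb]
    push_cast
    rfl
  have hconst : ∀ ν : NT A, coef ν.1 = coef μ₀.1 := by
    intro ν
    have h1 := classInner_indFun A (fun k : A => (ν.1 k : ℂ) - (μ₀.1 k : ℂ))
      (hX ⟦μ₀⟧).isClassFunction
    rw [show indFun A (fun k : A => (ν.1 k : ℂ) - (μ₀.1 k : ℂ)) = beta A ν.1 μ₀.1 from rfl,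
      hbeta, classInner_smul_left, classInner_sub_left, classInner_irr_self (hX _),
      show (fun k : A => (ν.1 k : ℂ) - (μ₀.1 k : ℂ)) =
        (fun k : A => (ν.1 k : ℂ)) - fun k : A => (μ₀.1 k : ℂ) from rfl, classInner_sub_left] at h1
    have h2 : classInner (X ⟦ν⟧) (X ⟦μ₀⟧) = if ν ≈ μ₀ then 1 else 0 := by
      split_ifs with e
      · rw [show (⟦ν⟧ : Orb A) = ⟦μ₀⟧ from Quotient.sound e]
        exact classInner_irr_self (hX _)
      · exact classInner_irr_ne (hX _) (hX _) fun he => e (Quotient.exact (hXi he))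
    have hce : conj ε = ε := by rcases hε with rfl | rfl <;> simp
    have hiff : (∃ x, cj A x μ₀.1 = ν.1) ↔ ν ≈ μ₀ := ⟨fun h => Setoid.symm h, fun h => Setoid.symm h⟩
    show classInner (fun k : A => (ν.1 k : ℂ)) ((fun k : A => X ⟦μ₀⟧ (k : G)) - ε • psi A μ₀.1) =
      classInner (fun k : A => (μ₀.1 k : ℂ)) ((fun k : A => X ⟦μ₀⟧ (k : G)) - ε • psi A μ₀.1)
    rw [classInner_sub_right, classInner_sub_right, classInner_smul_right, classInner_smul_right,
      inner_psi h, inner_psi h, hce, if_pos (⟨1, cj_one A _⟩ : ∃ x, cj A x μ₀.1 = μ₀.1)]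
    rw [h2] at h1
    simp only [hiff]
    linear_combination -h1
  obtain ⟨n₀, hn₀⟩ := hcoef 1
  obtain ⟨n₁, hn₁⟩ := hcoef μ₀.1
  have hΦk : ∀ k : A, k ≠ 1 → Φ k = ((n₀ - n₁ : ℤ) : ℂ) := by
    intro k hk
    have hcl : IsClassFunction A Φ := by
      intro a b
      rw [show b * a * b⁻¹ = a by
        rw [show b * a = a * b from Subtype.ext (h.comm b b.2 a a.2), mul_inv_cancel_right]]
    have h1 := congrFun (eq_sum_classInner hcl) k
    let one : IrrCharacter A := ⟨fun _ => 1, isIrrCharacter_one⟩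
    have hl : ∀ l : IrrCharacter A, classInner Φ (l : A → ℂ) =
        (n₁ : ℂ) + if l = one then ((n₀ : ℂ) - n₁) else 0 := by
      intro l
      obtain ⟨f, hf⟩ := hlin l
      rw [show (l : A → ℂ) = fun k => (f k : ℂ) from funext hf, ← classInner_conj_symm]
      change conj (coef f) = _
      by_cases hf1 : f = 1
      · rw [if_pos (Subtype.ext (funext fun k => by rw [hf, hf1]; rfl)), hf1, hn₀, map_intCast]
        ring
      · rw [if_neg, show coef f = coef μ₀.1 from hconst ⟨f, hf1⟩, hn₁, map_intCast, add_zero]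
        intro e
        apply hf1
        refine MonoidHom.ext fun k => Units.ext ?_
        rw [← hf, e]; rfl
    rw [Finset.sum_apply] at h1
    simp only [Pi.smul_apply, smul_eq_mul, hl, add_mul, Finset.sum_add_distrib, ← Finset.mul_sum,
      ite_mul, zero_mul, Finset.sum_ite_eq', Finset.mem_univ, if_true] at h1
    have h3 : ∑ l : IrrCharacter A, (l : A → ℂ) k = 0 := by
      have h4 := column_orthogonality (G := A) k 1
      rw [if_neg (fun e => hk (isConj_one_left.mp e))] at h4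
      refine (Finset.sum_congr rfl fun l _ => ?_).trans h4
      obtain ⟨f, hf⟩ := hlin l
      rw [hf 1, map_one, Units.val_one, map_one, mul_one]
    rw [h1, h3, mul_zero, zero_add]
    push_cast
    show ((n₀ : ℂ) - n₁) * 1 = _
    ring
  refine ⟨ε, X, n₀ - n₁, hε, hX, hbeta, fun μ k hk => ?_⟩
  have h1 := congrFun (hbeta μ μ₀) (k : G)
  rw [beta_res h, Pi.smul_apply, Pi.sub_apply, smul_eq_mul] at h1
  have h2 := hΦk k hk
  simp only [hΦ] at h2
  linear_combination h2 - ε * h1 - (X ⟦μ⟧ (k : G) - X ⟦μ₀⟧ (k : G)) * hεε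

/-- The involutions of `A`. -/
noncomputable def invIn [DecidableEq G] (A : Subgroup G) : Finset G :=
  letI := Classical.decPred (· ∈ A)
  (involFinset G).filter (· ∈ A)

theorem mem_invIn [DecidableEq G] {x : G} : x ∈ invIn A ↔ (x ≠ 1 ∧ x * x = 1) ∧ x ∈ A := by
  simp [invIn, mem_involFinset]

theorem sum_normalizer_conj [DecidableEq G] (h : IsCA A) [Fintype (normalizer (A : Set G))] {t : G}
    (ht : t ∈ invIn A) (hconj : ∀ x y : G, x ≠ 1 → x * x = 1 → y ≠ 1 → y * y = 1 → IsConj x y)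
    (f : G → ℂ) :
    ∑ x : normalizer (A : Set G), f ((x : G) * t * (x : G)⁻¹) =
      (Nat.card A : ℂ) * ∑ s ∈ invIn A, f s := by
  classical
  obtain ⟨⟨ht1, ht2⟩, htA⟩ := mem_invIn.mp ht
  have hmaps : ∀ x ∈ (Finset.univ : Finset (normalizer (A : Set G))),
      (x : G) * t * (x : G)⁻¹ ∈ invIn A := fun x _ =>
    mem_invIn.mpr ⟨mem_involFinset.mp (conj_mem_involFinset (x : G) (mem_involFinset.mpr ⟨ht1, ht2⟩)),
      (mem_normalizer_iff.mp x.2 t).mp htA⟩
  rw [← Finset.sum_fiberwise_of_maps_to hmaps, Finset.mul_sum]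
  refine Finset.sum_congr rfl fun s hs => ?_
  obtain ⟨⟨hs1, hs2⟩, hsA⟩ := mem_invIn.mp hs
  obtain ⟨g, hg⟩ := isConj_iff.mp (hconj t s ht1 ht2 hs1 hs2)
  have hgN : g ∈ normalizer (A : Set G) := h.ti htA ht1 (hg.symm ▸ hsA)
  rw [Finset.sum_congr rfl (g := fun _ => f s) (fun x hx => by
    rw [(Finset.mem_filter.mp hx).2]), Finset.sum_const, nsmul_eq_mul]
  congr 2
  rw [Nat.card_eq_fintype_card, ← Finset.card_univ (α := A)]
  refine (Finset.card_bij (fun (k : A) _ =>
    (⟨g, hgN⟩ : normalizer (A : Set G)) * ⟨(k : G), le_normalizer k.2⟩) ?_ ?_ ?_).symm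
  · intro k _
    refine Finset.mem_filter.mpr ⟨Finset.mem_univ _, ?_⟩
    calc g * k * t * (g * k)⁻¹ = g * (k * t * (k : G)⁻¹) * g⁻¹ := by group
      _ = s := by rw [h.comm k k.2 t htA, mul_inv_cancel_right, hg]
  · intro k _ k' _ hk
    exact Subtype.ext (congrArg Subtype.val (mul_left_cancel hk) :)
  · intro y hy
    have hy' : (y : G) * t * (y : G)⁻¹ = s := (Finset.mem_filter.mp hy).2
    refine ⟨⟨g⁻¹ * y, h.fix htA ht1 ?_⟩, Finset.mem_univ _, Subtype.ext (mul_inv_cancel_left g y)⟩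
    calc g⁻¹ * y * t * (g⁻¹ * (y : G))⁻¹ = g⁻¹ * ((y : G) * t * (y : G)⁻¹) * g := by group
      _ = t := by rw [hy', ← hg]; group

open Classical in
theorem sum_norm_lt (h : IsCA A) [Fintype A] [Fintype (normalizer (A : Set G))] {X : G → ℂ}
    (hX : IsIrrCharacter G X) :
    ∑ k ∈ (Finset.univ : Finset A).erase 1, Complex.normSq (X k) <
      (Nat.card (normalizer (A : Set G)) : ℝ) := by
  classical
  set N := normalizer (A : Set G) with hN
  haveI := Fintype.ofFinite (G ⧸ N)
  have hcast : ∑ g : G, Complex.normSq (X g) = (Nat.card G : ℝ) := by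
    have h1 := classInner_irr_self hX
    rw [classInner, inv_mul_eq_one₀ card_cast_ne_zero] at h1
    have h2 : ((∑ g : G, Complex.normSq (X g) : ℝ) : ℂ) = ((Nat.card G : ℝ) : ℂ) := by
      push_cast
      rw [h1]
      exact Finset.sum_congr rfl fun g _ => (Complex.mul_conj _).symm
    exact_mod_cast h2
  let φ : (G ⧸ N) × {k : A // k ≠ 1} → G := fun p => p.1.out * ((p.2.1 : A) : G) * p.1.out⁻¹
  have hφ : Function.Injective φ := by
    rintro ⟨r, k, hk⟩ ⟨r', k', hk'⟩ e
    have e' : r.out * (k : G) * r.out⁻¹ = r'.out * (k' : G) * r'.out⁻¹ := e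
    have hk1 : (k : G) ≠ 1 := fun e1 => hk (Subtype.ext e1)
    have hm : r'.out⁻¹ * r.out ∈ N := h.ti k.2 hk1 (by
      have : r'.out⁻¹ * r.out * k * (r'.out⁻¹ * r.out)⁻¹ = k' := by
        calc r'.out⁻¹ * r.out * k * (r'.out⁻¹ * r.out)⁻¹
            = r'.out⁻¹ * (r.out * (k : G) * r.out⁻¹) * r'.out := by group
          _ = k' := by rw [e']; group
      rw [this]; exact k'.2)
    have hr : r' = r := by
      rw [← QuotientGroup.out_eq' r', ← QuotientGroup.out_eq' r, QuotientGroup.eq]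
      exact hm
    subst hr
    have : (k : G) = k' := mul_left_cancel (mul_right_cancel e')
    exact Prod.ext rfl (Subtype.ext (Subtype.ext this))
  have hsub : Finset.univ.image φ ⊆ (Finset.univ : Finset G).erase 1 := by
    intro g hg
    obtain ⟨⟨r, k, hk⟩, -, rfl⟩ := Finset.mem_image.mp hg
    refine Finset.mem_erase.mpr ⟨fun e => hk ?_, Finset.mem_univ _⟩
    exact Subtype.ext (conj_eq_one_iff.mp e)
  have h1 := Finset.sum_le_sum_of_subset_of_nonneg hsub
    (f := fun g => Complex.normSq (X g)) fun g _ _ => Complex.normSq_nonneg _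
  rw [Finset.sum_image fun a _ b _ e => hφ e, Fintype.sum_prod_type] at h1
  have h2 : ∀ r : G ⧸ N, ∑ k : {k : A // k ≠ 1}, Complex.normSq (X (φ (r, k))) =
      ∑ k ∈ (Finset.univ : Finset A).erase 1, Complex.normSq (X k) := by
    intro r
    rw [Finset.sum_subtype ((Finset.univ : Finset A).erase 1) (p := fun k => k ≠ 1) (by simp)]
    refine Finset.sum_congr rfl fun k _ => ?_
    rw [show φ (r, k) = r.out * ((k.1 : A) : G) * r.out⁻¹ from rfl, hX.isClassFunction]
  rw [Finset.sum_congr rfl fun r _ => h2 r, Finset.sum_const, Finset.card_univ, nsmul_eq_mul] at h1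
  rw [← Finset.add_sum_erase _ _ (Finset.mem_univ (1 : G))] at hcast
  have hpos : 0 < Complex.normSq (X 1) := by
    obtain ⟨d, hd, hd1⟩ := hX.exists_degree
    rw [hd1, Complex.normSq_natCast]
    positivity
  have hG : (Fintype.card (G ⧸ N) : ℝ) * Nat.card N = Nat.card G := by
    rw [← Nat.card_eq_fintype_card, ← Nat.cast_mul, ← Subgroup.card_eq_card_quotient_mul_card_subgroup]
  refine lt_of_mul_lt_mul_left (a := (Fintype.card (G ⧸ N) : ℝ)) ?_ (by positivity)
  linarith

set_option maxHeartbeats 1000000 in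
/-- The main lemma. -/
theorem sq_eq_one (h : IsCA A) {t : G} (htA : t ∈ A) (ht1 : t ≠ 1) (ht2 : t * t = 1)
    (hconj : ∀ x y : G, x ≠ 1 → x * x = 1 → y ≠ 1 → y * y = 1 → IsConj x y)
    {t' : G} (htA' : t' ∈ A) (ht1' : t' ≠ 1) (ht2' : t' * t' = 1) (htt : t' ≠ t)
    (hproper : normalizer (A : Set G) ≠ ⊤) : ∀ a ∈ A, a * a = 1 := by
  classical
  by_contra hne
  push Not at hne
  obtain ⟨a₀, ha₀A, ha₀⟩ := hne
  haveI := Fintype.ofFinite A
  set N := normalizer (A : Set G) with hN
  haveI := Fintype.ofFinite N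
  have htJ : t ∈ invIn A := mem_invIn.mpr ⟨⟨ht1, ht2⟩, htA⟩
  set e := (invIn A).card with he
  have he2 : 2 ≤ e := Finset.one_lt_card.mpr
    ⟨t', mem_invIn.mpr ⟨⟨ht1', ht2'⟩, htA'⟩, t, htJ, htt⟩
  set a := Nat.card A with ha
  have hapos : 0 < a := Nat.card_pos
  have hNcard : Nat.card N = a * e := by
    have h1 := sum_normalizer_conj h htJ hconj (fun _ => (1 : ℂ))
    simp only [Finset.sum_const, Finset.card_univ, nsmul_one, ← Nat.card_eq_fintype_card] at h1
    exact_mod_cast h1
  -- squaring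
  let sq : A →* A :=
    { toFun := fun k => k * k
      map_one' := one_mul 1
      map_mul' := fun k l => by
        have hc : k * l = l * k := Subtype.ext (h.comm k k.2 l l.2)
        calc k * l * (k * l) = k * (l * k) * l := by group
          _ = k * (k * l) * l := by rw [hc]
          _ = k * k * (l * l) := by group }
  have hsq : ∀ k : A, sq k = k * k := fun _ => rfl
  have hker : Nat.card sq.ker = e + 1 := by
    have e1 : (Finset.univ.filter fun k : A => k * k = 1).map ⟨((↑) : A → G), Subtype.val_injective⟩ =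
        insert 1 (invIn A) := by
      ext x
      simp only [Finset.mem_map, Finset.mem_filter, Finset.mem_univ, true_and, Finset.mem_insert,
        mem_invIn, Function.Embedding.coeFn_mk]
      constructor
      · rintro ⟨k, hk, rfl⟩
        by_cases hk1 : (k : G) = 1
        · exact Or.inl hk1
        · exact Or.inr ⟨⟨hk1, by simpa using congrArg Subtype.val hk⟩, k.2⟩
      · rintro (rfl | ⟨⟨-, hx⟩, hxA⟩)
        · exact ⟨1, one_mul 1, rfl⟩
        · exact ⟨⟨x, hxA⟩, Subtype.ext hx, rfl⟩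
    have h2 : Nat.card sq.ker = (Finset.univ.filter fun k : A => k * k = 1).card := by
      rw [← Fintype.card_subtype, ← Nat.card_eq_fintype_card]
      exact Nat.card_congr (Equiv.subtypeEquivRight fun k => MonoidHom.mem_ker)
    rw [h2, ← Finset.card_map ⟨((↑) : A → G), Subtype.val_injective⟩, e1,
      Finset.card_insert_of_notMem fun h1 => (mem_invIn.mp h1).1.1 rfl]
  have heodd : Odd e := by
    have hp : IsPGroup 2 sq.ker := fun k => ⟨1, Subtype.ext (by
      rw [pow_one, pow_two]; exact k.2)⟩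
    obtain ⟨r, hr⟩ := IsPGroup.iff_card.mp hp
    rw [hker] at hr
    have hr0 : r ≠ 0 := fun h0 => by rw [h0] at hr; omega
    have : Even (e + 1) := by rw [hr]; exact (Nat.even_pow' hr0).mpr even_two
    rwa [Nat.even_add_one, Nat.not_even_iff_odd] at this
  have hcardA : a = (e + 1) * Nat.card sq.range := by
    rw [ha, ← hker, Subgroup.card_eq_card_quotient_mul_card_subgroup sq.ker,
      Nat.card_congr (QuotientGroup.quotientKerEquivRange sq).toEquiv, mul_comm]
  have hrange : e + 1 ≤ Nat.card sq.range := by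
    have hinv : ∀ n ∈ N, ∀ k : A, k ∈ sq.range → ∀ hm : n * k * n⁻¹ ∈ A, (⟨_, hm⟩ : A) ∈ sq.range := by
      rintro n hn _ ⟨l, rfl⟩ hm
      refine ⟨⟨n * l * n⁻¹, (mem_normalizer_iff.mp hn _).mp l.2⟩, Subtype.ext ?_⟩
      show n * l * n⁻¹ * (n * l * n⁻¹) = n * ((l : G) * l) * n⁻¹
      group
    by_cases hi : ∃ k : A, k ∈ sq.range ∧ k ≠ 1 ∧ k * k = 1
    · obtain ⟨k, hk, hk1, hk2⟩ := hi
      have hle : sq.ker ≤ sq.range := by
        intro l hl
        by_cases hl1 : l = 1
        · rw [hl1]; exact one_mem _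
        obtain ⟨g, hg⟩ := isConj_iff.mp (hconj k l (fun e1 => hk1 (Subtype.ext e1))
          (by simpa using congrArg Subtype.val hk2) (fun e1 => hl1 (Subtype.ext e1))
          (by simpa [hsq] using congrArg Subtype.val (MonoidHom.mem_ker.mp hl)))
        have hgN : g ∈ N := h.ti k.2 (fun e1 => hk1 (Subtype.ext e1)) (hg.symm ▸ l.2)
        have := hinv g hgN k hk (hg.symm ▸ l.2)
        simpa only [hg] using this
      rw [← hker]
      exact Subgroup.card_le_of_le hle
    · push Not at hi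
      set k₀ : A := sq ⟨a₀, ha₀A⟩ with hk₀
      have hk₀r : k₀ ∈ sq.range := ⟨_, rfl⟩
      have hk₀1 : (k₀ : G) ≠ 1 := ha₀
      haveI : Fintype (N ⧸ A.subgroupOf N) := Fintype.ofFinite _
      have hcardQ : Fintype.card (N ⧸ A.subgroupOf N) = e := by
        have h1 := Subgroup.card_eq_card_quotient_mul_card_subgroup (A.subgroupOf N)
        rw [Nat.card_congr (Subgroup.subgroupOfEquivOfLe le_normalizer).toEquiv, hNcard,
          ← Nat.card_eq_fintype_card] at *
        exact (Nat.eq_of_mul_eq_mul_right hapos (by rw [← h1, mul_comm])).symm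
      have hidx : (A.subgroupOf N).index = e := by
        rw [Subgroup.index, Nat.card_eq_fintype_card, hcardQ]
      haveI : (A.subgroupOf N).Normal := Subgroup.normal_subgroupOf_iff_le_normalizer le_normalizer |>.mpr le_rfl
      have hmem : ∀ (n : N) (k : A), (n : G) * k * (n : G)⁻¹ ∈ A := fun n k =>
        (mem_normalizer_iff.mp n.2 _).mp k.2
      let φ : (N ⧸ A.subgroupOf N) ⊕ (N ⧸ A.subgroupOf N) → {k : A // k ∈ sq.range ∧ k ≠ 1} :=
        Sum.elim
          (fun q => ⟨⟨_, hmem q.out k₀⟩, hinv _ q.out.2 _ hk₀r _,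
            fun e1 => hk₀1 (conj_eq_one_iff.mp (congrArg Subtype.val e1))⟩)
          (fun q => ⟨⟨_, hmem q.out k₀⁻¹⟩, hinv _ q.out.2 _ (inv_mem hk₀r) _,
            fun e1 => hk₀1 (inv_eq_one.mp (conj_eq_one_iff.mp
              (congrArg Subtype.val e1 : ((q.out : N) : G) * ((k₀⁻¹ : A) : G) * ((q.out : N) : G)⁻¹ = 1)))⟩)
      have key : ∀ (n m : N) (x : G), x ∈ A → x ≠ 1 → (n : G) * x * (n : G)⁻¹ = (m : G) * x * (m : G)⁻¹ →
          (n : N ⧸ A.subgroupOf N) = m := by
        intro n m x hx hx1 e1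
        rw [QuotientGroup.eq, mem_subgroupOf]
        refine h.fix hx hx1 ?_
        calc ((n⁻¹ * m : N) : G) * x * ((n⁻¹ * m : N) : G)⁻¹
            = (n : G)⁻¹ * ((m : G) * x * (m : G)⁻¹) * n := by
              simp only [Subgroup.coe_mul, InvMemClass.coe_inv]; group
          _ = x := by rw [← e1]; group
      have cross : ∀ (n m : N), (n : G) * k₀ * (n : G)⁻¹ ≠ (m : G) * ((k₀⁻¹ : A) : G) * (m : G)⁻¹ := by
        intro n m e1
        set w : N := m⁻¹ * n with hw
        have e2 : (w : G) * k₀ * (w : G)⁻¹ = (k₀ : G)⁻¹ := by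
          calc (w : G) * k₀ * (w : G)⁻¹ = (m : G)⁻¹ * ((n : G) * k₀ * (n : G)⁻¹) * m := by
                simp only [hw, Subgroup.coe_mul, InvMemClass.coe_inv]; group
            _ = _ := by rw [e1, InvMemClass.coe_inv]; group
        have h2 : w ^ 2 ∈ A.subgroupOf N := by
          rw [mem_subgroupOf]
          refine h.fix k₀.2 hk₀1 ?_
          calc ((w ^ 2 : N) : G) * k₀ * ((w ^ 2 : N) : G)⁻¹
              = (w : G) * ((w : G) * k₀ * (w : G)⁻¹) * (w : G)⁻¹ := by
                rw [pow_two, Subgroup.coe_mul]; group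
            _ = (w : G) * (k₀ : G)⁻¹ * (w : G)⁻¹ := by rw [e2]
            _ = ((w : G) * k₀ * (w : G)⁻¹)⁻¹ := by group
            _ = k₀ := by rw [e2, inv_inv]
        have h3 : w ^ e ∈ A.subgroupOf N := hidx ▸ Subgroup.pow_index_mem (A.subgroupOf N) w
        have h4 : w ∈ A.subgroupOf N := by
          obtain ⟨j, hj⟩ := heodd
          have : w = w ^ e * ((w ^ 2) ^ j)⁻¹ := by
            rw [hj, pow_succ', ← pow_mul]; group
          rw [this]
          exact mul_mem h3 (inv_mem (pow_mem h2 j))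
        rw [mem_subgroupOf] at h4
        rw [h.comm _ h4 _ k₀.2, mul_inv_cancel_right] at e2
        refine hi k₀ hk₀r (fun e3 => hk₀1 (congrArg Subtype.val e3)) (Subtype.ext ?_)
        show (k₀ : G) * k₀ = 1
        exact eq_inv_iff_mul_eq_one.mp e2
      have hφ : Function.Injective φ := by
        rintro (q | q) (q' | q') e1 <;> simp only [φ, Sum.elim_inl, Sum.elim_inr, Subtype.mk.injEq] at e1
        · congr 1
          rw [← QuotientGroup.out_eq' q, ← QuotientGroup.out_eq' q']
          exact key _ _ _ k₀.2 hk₀1 e1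
        · exact absurd e1 (cross _ _)
        · exact absurd e1.symm (cross _ _)
        · congr 1
          rw [← QuotientGroup.out_eq' q, ← QuotientGroup.out_eq' q']
          exact key _ _ _ (k₀⁻¹).2 (by simpa using hk₀1) e1
      have h1 := Fintype.card_le_of_injective φ hφ
      rw [Fintype.card_sum, hcardQ] at h1
      have h2 : Fintype.card {k : A // k ∈ sq.range ∧ k ≠ 1} < Nat.card sq.range := by
        rw [Nat.card_eq_fintype_card]
        refine Fintype.card_lt_of_injective_of_notMem (fun k => (⟨k.1, k.2.1⟩ : sq.range))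
          (fun k l e1 => Subtype.ext (congrArg Subtype.val e1 :)) (b := 1) ?_
        rintro ⟨k, hk⟩
        exact k.2.2 (congrArg Subtype.val hk :)
      omega
  have hbig : (e + 1) * (e + 1) ≤ a := hcardA ▸ Nat.mul_le_mul_left _ hrange
  -- linear characters
  haveI : IsMulCommutative A := ⟨⟨fun x y => Subtype.ext (h.comm x x.2 y y.2)⟩⟩
  have sep : ∀ x : A, x ≠ 1 → ∃ f : A →* ℂˣ, f x ≠ 1 := fun x hx => by
    letI : CommGroup A := { (inferInstance : Group A) with mul_comm := fun x y => Subtype.ext (h.comm x x.2 y y.2) }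
    exact CommGroup.exists_apply_ne_one_of_hasEnoughRootsOfUnity A ℂ hx
  obtain ⟨μ, hμ⟩ := sep ⟨t, htA⟩ (fun e1 => ht1 (congrArg Subtype.val e1))
  obtain ⟨ν', hν'⟩ := sep (sq ⟨a₀, ha₀A⟩) (fun e1 => ha₀ (congrArg Subtype.val e1))
  let ν : A →* ℂˣ := ν'.comp sq
  have hν1 : ν ≠ 1 := fun e1 => hν' (DFunLike.congr_fun e1 ⟨a₀, ha₀A⟩)
  have hνJ : ∀ k : A, k * k = 1 → ν k = 1 := fun k hk => by
    show ν' (k * k) = 1
    rw [hk, map_one]
  let M : NT A := ⟨μ, fun e1 => hμ (by rw [e1, MonoidHom.one_apply])⟩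
  let V : NT A := ⟨ν, hν1⟩
  -- values at `t`
  have hval : ∀ f : A →* ℂˣ, psi A f ⟨t, htA⟩ =
      ∑ s ∈ invIn A, extendByZero A (fun k => (f k : ℂ)) s := by
    intro f
    rw [psi, ← mul_right_inj' (Nat.cast_ne_zero.mpr hapos.ne' : (a : ℂ) ≠ 0), ← mul_assoc,
      mul_inv_cancel₀ (Nat.cast_ne_zero.mpr hapos.ne'), one_mul,
      ← sum_normalizer_conj h htJ hconj]
    refine Finset.sum_congr rfl fun x _ => ?_
    rw [extendByZero_of_mem _ _ ((mem_normalizer_iff.mp x.2 t).mp htA)]
    rfl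
  have hvV : psi A V.1 ⟨t, htA⟩ = e := by
    rw [hval, he, Finset.card_eq_sum_ones, Nat.cast_sum]
    refine Finset.sum_congr rfl fun s hs => ?_
    obtain ⟨⟨-, hs2⟩, hsA⟩ := mem_invIn.mp hs
    rw [extendByZero_of_mem _ _ hsA, hνJ ⟨s, hsA⟩ (Subtype.ext hs2), Units.val_one, Nat.cast_one]
  have hvM : psi A M.1 ⟨t, htA⟩ = -1 := by
    rw [hval, ← add_eq_zero_iff_eq_neg]
    let g : G → ℂ := extendByZero A (fun k => (μ k : ℂ))
    have hone : g 1 = 1 := by
      simp only [g, extendByZero_of_mem _ _ (one_mem A)]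
      exact congrArg Units.val (map_one μ)
    show ∑ s ∈ invIn A, g s + 1 = 0
    rw [← hone, add_comm, ← Finset.sum_insert (fun h1 => (mem_invIn.mp h1).1.1 rfl)]
    set S := insert 1 (invIn A) with hS
    have hmem : ∀ s ∈ S, t * s ∈ S ∧ s ∈ A := by
      intro s hs
      have hs' : s ∈ A ∧ s * s = 1 := by
        rcases Finset.mem_insert.mp hs with rfl | hs
        · exact ⟨one_mem A, one_mul 1⟩
        · exact ⟨(mem_invIn.mp hs).2, (mem_invIn.mp hs).1.2⟩
      refine ⟨?_, hs'.1⟩
      by_cases h1 : t * s = 1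
      · rw [h1]; exact Finset.mem_insert_self _ _
      · refine Finset.mem_insert_of_mem (mem_invIn.mpr ⟨⟨h1, ?_⟩, mul_mem htA hs'.1⟩)
        calc t * s * (t * s) = t * (s * t) * s := by group
          _ = t * (t * s) * s := by rw [h.comm s hs'.1 t htA]
          _ = t * t * (s * s) := by group
          _ = 1 := by rw [ht2, hs'.2, one_mul]
    have h5 : ∑ s ∈ S, g s = (μ ⟨t, htA⟩ : ℂ) * ∑ s ∈ S, g s := by
      rw [Finset.mul_sum]
      refine Finset.sum_nbij' (fun s => t * s) (fun s => t * s) (fun s hs => (hmem s hs).1)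
        (fun s hs => (hmem s hs).1) (fun s _ => by simp [← mul_assoc, ht2])
        (fun s _ => by simp [← mul_assoc, ht2]) (fun s hs => ?_)
      show g s = (μ ⟨t, htA⟩ : ℂ) * g (t * s)
      have hsA := (hmem s hs).2
      simp only [g, extendByZero_of_mem _ _ hsA, extendByZero_of_mem _ _ (mul_mem htA hsA)]
      rw [← Units.val_mul, ← map_mul]
      congr 2
      exact Subtype.ext (by simp [← mul_assoc, ht2])
    have h6 : ((μ ⟨t, htA⟩ : ℂˣ) : ℂ) - 1 ≠ 0 := sub_ne_zero.mpr fun e1 => hμ (Units.ext e1)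
    exact (mul_eq_zero.mp (show (((μ ⟨t, htA⟩ : ℂˣ) : ℂ) - 1) * ∑ s ∈ S, g s = 0 by
      linear_combination -h5)).resolve_left h6
  obtain ⟨ε, X, c, hε, hX, hbeta, hXA⟩ := exists_exceptional h M
  have hεε : ε * ε = 1 := by rcases hε with rfl | rfl <;> norm_num
  -- `c = 0`
  have hc : c = 0 := by
    by_contra hc0
    have hlt := sum_norm_lt h (hX ⟦V⟧)
    have htot : ∑ k : A, (ε * psi A V.1 k + c) * conj (ε * psi A V.1 k + c) =
        (a : ℂ) * ((e : ℂ) + (c : ℂ) * c) := by
      have hce : conj ε = ε := by rcases hε with rfl | rfl <;> simp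
      have h0 : classInner (fun k : A => ((1 : A →* ℂˣ) k : ℂ)) (psi A V.1) = 0 := by
        rw [inner_psi h, if_neg]
        rintro ⟨x, hx⟩
        exact cj_ne_one x V.2 hx
      have h1 : classInner (psi A V.1) (psi A V.1) = e := by
        have e1 : psi A V.1 = (a : ℂ)⁻¹ •
            ∑ x : normalizer (A : Set G), (fun k : A => (cj A x V.1 k : ℂ)) := by
          funext k; simp [psi, ha]
        conv_lhs => arg 1; rw [e1]
        rw [classInner_smul_left, classInner_sum_left,
          Finset.sum_congr rfl fun x _ => inner_psi h (cj A x V.1) V]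
        simp only [exists_apply_eq_apply, if_true, Finset.sum_const, Finset.card_univ, nsmul_one,
          ← Nat.card_eq_fintype_card]
        rw [show Nat.card (normalizer (A : Set G)) = a * e from hNcard]
        push_cast
        rw [inv_mul_cancel_left₀ (Nat.cast_ne_zero.mpr hapos.ne')]
      rw [classInner, inv_mul_eq_iff_eq_mul₀ (Nat.cast_ne_zero.mpr hapos.ne')] at h0 h1
      rw [mul_zero] at h0
      have h0' : ∑ k : A, conj (psi A V.1 k) = 0 := by simpa using h0
      have h0'' : ∑ k : A, psi A V.1 k = 0 := by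
        have := congrArg conj h0'
        simpa [map_sum] using this
      calc ∑ k : A, (ε * psi A V.1 k + c) * conj (ε * psi A V.1 k + c)
          = ∑ k : A, (ε * ε * (psi A V.1 k * conj (psi A V.1 k)) + ε * (c : ℂ) * psi A V.1 k +
              ε * (c : ℂ) * conj (psi A V.1 k) + (c : ℂ) * c) := by
            refine Finset.sum_congr rfl fun k _ => ?_
            rw [map_add, map_mul, hce, map_intCast]
            ring
        _ = _ := by
            simp only [Finset.sum_add_distrib, ← Finset.mul_sum, h1, h0', h0'', Finset.sum_const,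
              Finset.card_univ, nsmul_eq_mul, ← Nat.card_eq_fintype_card, hεε, ← ha]
            ring
    rw [← Finset.add_sum_erase _ _ (Finset.mem_univ (1 : A))] at htot
    have hone : psi A V.1 1 = (e : ℂ) := by
      rw [psi_one, show Nat.card (normalizer (A : Set G)) = a * e from hNcard, ← ha]
      push_cast
      rw [inv_mul_cancel_left₀ (Nat.cast_ne_zero.mpr hapos.ne')]
    obtain ⟨s, hs, hsε⟩ : ∃ s : ℤ, (s = 1 ∨ s = -1) ∧ (s : ℂ) = ε := by
      rcases hε with rfl | rfl
      · exact ⟨1, Or.inl rfl, by simp⟩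
      · exact ⟨-1, Or.inr rfl, by simp⟩
    have hS : ((∑ k ∈ (Finset.univ : Finset A).erase 1, Complex.normSq (X ⟦V⟧ k) : ℝ) : ℂ) =
        (((a * (e + c * c) - (s * e + c) * (s * e + c) : ℤ) : ℝ) : ℂ) := by
      push_cast
      rw [hsε, eq_sub_iff_add_eq']
      refine Eq.trans ?_ htot
      congr 1
      · rw [hone, map_add, map_mul, ← hsε, map_intCast, map_intCast, map_natCast]
      · refine Finset.sum_congr rfl fun k hk => ?_
        rw [hXA V k (Finset.mem_erase.mp hk).1, Complex.mul_conj]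
    rw [Complex.ofReal_inj] at hS
    rw [hS, hNcard] at hlt
    have hlt' : (a : ℤ) * (e + c * c) - (s * e + c) * (s * e + c) < a * e := by exact_mod_cast hlt
    have hcc : (1 : ℤ) ≤ c * c := by
      rcases Int.lt_or_gt_of_ne hc0 with h1 | h1 <;> nlinarith
    have hb : ((e : ℤ) + 1) * (e + 1) ≤ a := by exact_mod_cast hbig
    rcases hs with rfl | rfl
    · rcases le_or_gt 0 c with h1 | h1
      · have hc1 : (1 : ℤ) ≤ c := by omega
        nlinarith [mul_le_mul_of_nonneg_right hb (mul_self_nonneg c), mul_nonneg (mul_nonneg (sub_nonneg.mpr hc1) (Nat.cast_nonneg e : (0:ℤ) ≤ e)) (show (0:ℤ) ≤ ((e:ℤ) + 1) * c + (e + c) by positivity)]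
      · nlinarith [mul_le_mul_of_nonneg_right hb (mul_self_nonneg c)]
    · rcases le_or_gt 0 c with h1 | h1
      · nlinarith [mul_le_mul_of_nonneg_right hb (mul_self_nonneg c)]
      · have hc1 : (1 : ℤ) ≤ -c := by omega
        have hp : (0:ℤ) ≤ ((e:ℤ) + 1) * (-c) + (e + -c) := by nlinarith
        nlinarith [mul_le_mul_of_nonneg_right hb (mul_self_nonneg c), mul_nonneg (mul_nonneg (sub_nonneg.mpr hc1) (Nat.cast_nonneg e : (0:ℤ) ≤ e)) hp]
  subst hc
  -- the pair count
  set J := involFinset G with hJ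
  have hJsum : ∀ χ : G → ℂ, IsClassFunction G χ → ∑ x ∈ J, χ x = (J.card : ℂ) * χ t := by
    intro χ hχ
    rw [Finset.sum_congr rfl (g := fun _ => χ t) fun x hx => ?_, Finset.sum_const, nsmul_eq_mul]
    obtain ⟨g, hg⟩ := isConj_iff.mp (hconj t x ht1 ht2 (mem_involFinset.mp hx).1 (mem_involFinset.mp hx).2)
    rw [← hg, hχ]
  set F := beta A V.1 M.1 with hF
  have hFc : IsClassFunction G F := (beta_gen _ _).isClassFunction
  have hFt : F t = (e : ℂ) + 1 := by
    rw [hF, show t = ((⟨t, htA⟩ : A) : G) from rfl, beta_res h, hvV, hvM, sub_neg_eq_add]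
  have hrow : ∑ y ∈ J, F (t * y) = ((e : ℂ) - 1) * F t := by
    have hz : ∀ y ∈ J, y ∉ invIn A → F (t * y) = 0 := by
      intro y hy hyA
      obtain ⟨hy1, hy2⟩ := mem_involFinset.mp hy
      rw [hF, beta, indFun, Finset.sum_eq_zero, mul_zero]
      intro g _
      by_cases hm : g⁻¹ * (t * y) * g ∈ A
      · set x := g⁻¹ * t * g with hx
        set k := g⁻¹ * (t * y) * g with hk
        have hk1 : k ≠ 1 := by
          intro e1
          have h1 : t * y = 1 := by
            calc t * y = g * k * g⁻¹ := by rw [hk]; group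
              _ = 1 := by rw [e1]; group
          exact hyA (mem_invIn.mpr ⟨⟨hy1, hy2⟩, (eq_inv_of_mul_eq_one_right h1) ▸ inv_mem htA⟩)
        have hinv : x * k * x⁻¹ = k⁻¹ := by
          rw [hx, hk]
          have ht' : t⁻¹ = t := inv_eq_of_mul_eq_one_right ht2
          have hy' : y⁻¹ = y := inv_eq_of_mul_eq_one_right hy2
          calc g⁻¹ * t * g * (g⁻¹ * (t * y) * g) * (g⁻¹ * t * g)⁻¹
              = g⁻¹ * (t * t * y * t⁻¹) * g := by group
            _ = g⁻¹ * (y⁻¹ * t⁻¹) * g := by rw [ht2, one_mul, hy']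
            _ = _ := by group
        have hxN : x ∈ normalizer (A : Set G) := h.ti hm hk1 (hinv ▸ inv_mem hm)
        have hxA : x ∈ A := by
          have hidx : (A.subgroupOf N).index = e := by
            have h1 := Subgroup.card_mul_index (A.subgroupOf N)
            rw [Nat.card_congr (Subgroup.subgroupOfEquivOfLe le_normalizer).toEquiv, hNcard] at h1
            exact Nat.eq_of_mul_eq_mul_left hapos h1
          haveI : (A.subgroupOf N).Normal :=
            Subgroup.normal_subgroupOf_iff_le_normalizer le_normalizer |>.mpr le_rfl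
          have h3 : (⟨x, hxN⟩ : N) ^ e ∈ A.subgroupOf N :=
            hidx ▸ Subgroup.pow_index_mem (A.subgroupOf N) _
          have hx2 : (⟨x, hxN⟩ : N) * ⟨x, hxN⟩ = 1 := Subtype.ext (by
            show g⁻¹ * t * g * (g⁻¹ * t * g) = 1
            calc g⁻¹ * t * g * (g⁻¹ * t * g) = g⁻¹ * (t * t) * g := by group
              _ = 1 := by rw [ht2]; group)
          obtain ⟨j, hj⟩ := heodd
          rw [hj, pow_succ, pow_mul, pow_two, hx2, one_pow, one_mul, mem_subgroupOf] at h3
          exact h3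
        exfalso
        have hgN : g⁻¹ ∈ normalizer (A : Set G) := h.ti htA ht1 (by rwa [inv_inv])
        have hty : t * y ∈ A := (mem_normalizer_iff.mp hgN (t * y)).mpr (by rwa [inv_inv])
        refine hyA (mem_invIn.mpr ⟨⟨hy1, hy2⟩, ?_⟩)
        simpa using mul_mem (inv_mem htA) hty
      · exact extendByZero_of_notMem _ _ hm
    rw [← Finset.sum_subset (show invIn A ⊆ J from fun y hy => mem_involFinset.mpr (mem_invIn.mp hy).1) hz,
      ← Finset.add_sum_erase _ _ htJ, ht2, hF, beta_one, zero_add]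
    rw [Finset.sum_congr rfl (g := fun _ => beta A V.1 M.1 t) fun y hy => ?_, Finset.sum_const,
      Finset.card_erase_of_mem htJ, nsmul_eq_mul, ← he, Nat.cast_sub (by omega : 1 ≤ e), Nat.cast_one]
    obtain ⟨hyt, hy⟩ := Finset.mem_erase.mp hy
    obtain ⟨⟨hy1, hy2⟩, hyA⟩ := mem_invIn.mp hy
    have h1 : t * y ≠ 1 := fun e1 => hyt (by
      calc y = t * t * y := by rw [ht2, one_mul]
        _ = t := by rw [mul_assoc, e1, mul_one])
    have h2 : t * y * (t * y) = 1 := by
      calc t * y * (t * y) = t * (y * t) * y := by group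
        _ = t * (t * y) * y := by rw [h.comm y hyA t htA]
        _ = t * t * (y * y) := by group
        _ = 1 := by rw [ht2, hy2, one_mul]
    obtain ⟨g, hg⟩ := isConj_iff.mp (hconj t (t * y) ht1 ht2 h1 h2)
    rw [← hg]
    exact hFc t g
  have hlhs : ∑ x ∈ J, ∑ y ∈ J, F (x * y) = (J.card : ℂ) * (((e : ℂ) - 1) * F t) := by
    have hcf : IsClassFunction G (fun x => ∑ y ∈ J, F (x * y)) := by
      intro x g
      refine Finset.sum_nbij' (fun y => g⁻¹ * y * g) (fun y => g * y * g⁻¹)
        (fun y hy => by simpa using conj_mem_involFinset g⁻¹ hy)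
        (fun y hy => conj_mem_involFinset g hy) (fun y _ => by group) (fun y _ => by group)
        (fun y _ => ?_)
      rw [show g * x * g⁻¹ * y = g * (x * (g⁻¹ * y * g)) * g⁻¹ by group, hFc]
    rw [hJsum _ hcf, hrow]
  obtain ⟨d, hd, hdV⟩ := (hX ⟦V⟧).exists_degree
  have hdM : X ⟦M⟧ 1 = d := by
    have h1 := congrFun (hbeta V M) 1
    rw [beta_one, Pi.smul_apply, Pi.sub_apply, smul_eq_mul] at h1
    rcases mul_eq_zero.mp h1.symm with h2 | h2
    · rcases hε with rfl | rfl <;> norm_num at h2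
    · rw [← hdV]; exact (sub_eq_zero.mp h2).symm
  have hrhs : ∑ x ∈ J, ∑ y ∈ J, F (x * y) =
      ε * ((J.card : ℂ) * X ⟦V⟧ t) ^ 2 / d - ε * ((J.card : ℂ) * X ⟦M⟧ t) ^ 2 / d := by
    simp only [hF, hbeta, Pi.smul_apply, Pi.sub_apply, smul_eq_mul, mul_sub, Finset.sum_sub_distrib,
      ← Finset.mul_sum]
    rw [sum_involFinset_pair (hX _), sum_involFinset_pair (hX _), hJsum _ (hX _).isClassFunction,
      hJsum _ (hX _).isClassFunction, hdV, hdM]
    ring
  have htne : (⟨t, htA⟩ : A) ≠ 1 := fun e1 => ht1 (congrArg Subtype.val e1)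
  have hXV := hXA V ⟨t, htA⟩ htne
  have hXM := hXA M ⟨t, htA⟩ htne
  rw [hvV, Int.cast_zero, add_zero] at hXV
  rw [hvM, Int.cast_zero, add_zero] at hXM
  simp only at hXV hXM
  rw [hlhs, hFt, hXV, hXM] at hrhs
  have hd0 : (d : ℂ) ≠ 0 := Nat.cast_ne_zero.mpr (by omega)
  have hJ0 : (J.card : ℂ) ≠ 0 :=
    Nat.cast_ne_zero.mpr (Finset.card_ne_zero.mpr ⟨t, mem_involFinset.mpr ⟨ht1, ht2⟩⟩)
  have heq : (d : ℂ) = ε * J.card := by
    have h1 : (J.card : ℂ) * ((e : ℂ) + 1) * ((e : ℂ) - 1) * ((d : ℂ) - ε * J.card) = 0 := by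
      rw [← mul_left_inj' hd0] at hrhs
      field_simp at hrhs
      linear_combination (J.card : ℂ) * hrhs + (ε * (J.card : ℂ) ^ 2 * ((e : ℂ) ^ 2 - 1)) * hεε
    have he1 : (e : ℂ) + 1 ≠ 0 := by exact_mod_cast Nat.succ_ne_zero e
    have he2' : (e : ℂ) - 1 ≠ 0 := sub_ne_zero.mpr (by exact_mod_cast (show e ≠ 1 by omega))
    simp only [mul_eq_zero, hJ0, he1, he2', false_or] at h1
    exact sub_eq_zero.mp h1
  have hdJ : d = J.card := by
    rcases hε with rfl | rfl
    · exact_mod_cast (by simpa using heq : (d : ℂ) = J.card)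
    · have h1 : ((d + J.card : ℕ) : ℂ) = 0 := by push_cast; linear_combination heq
      have := Nat.cast_eq_zero.mp h1
      omega
  -- the degree is too large
  have hIa : J.card * a = Nat.card G := by
    have h1 : J.card = (centralizer ({t} : Set G)).index := by
      rw [show J = Finset.univ.filter (fun x => IsConj t x) from ?_]
      · rw [← Fintype.card_subtype, ← Nat.card_eq_fintype_card,
          show {x : G // IsConj t x} = ↥(MulAction.orbit (ConjAct G) t) from ?_,
          Nat.card_coe_set_eq, ← MulAction.index_stabilizer, ConjAct.stabilizer_eq_centralizer]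
        · rfl
        · congr 1
          funext x
          refine propext ?_
          show _ ↔ x ∈ MulAction.orbit (ConjAct G) t
          rw [ConjAct.mem_orbit_conjAct, isConj_comm]
      · ext x
        simp only [hJ, mem_involFinset, Finset.mem_filter, Finset.mem_univ, true_and]
        refine ⟨fun hx => hconj t x ht1 ht2 hx.1 hx.2, fun hx => ?_⟩
        obtain ⟨g, rfl⟩ := isConj_iff.mp hx
        exact mem_involFinset.mp (conj_mem_involFinset g (mem_involFinset.mpr ⟨ht1, ht2⟩))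
    rw [h1, h.cent t htA ht1, ha, Subgroup.index_mul_card]
  obtain ⟨g, hg⟩ : ∃ g, g ∉ N := by
    by_contra hall
    push Not at hall
    exact hproper (eq_top_iff.mpr fun g _ => hall g)
  have hAA : a * a < Nat.card G := by
    rw [ha, ← Nat.card_prod, Nat.card_eq_fintype_card, Nat.card_eq_fintype_card]
    refine Fintype.card_lt_of_injective_of_notMem (fun p : A × A => (p.1 : G) * g * p.2) ?_ (b := 1) ?_
    · rintro ⟨x, n⟩ ⟨y, m⟩ e1
      have e1' : (x : G) * g * n = (y : G) * g * m := e1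
      have e2 : g⁻¹ * ((y : G)⁻¹ * x) * g = (m : G) * (n : G)⁻¹ := by
        calc g⁻¹ * ((y : G)⁻¹ * x) * g = g⁻¹ * (y : G)⁻¹ * ((x : G) * g * n) * (n : G)⁻¹ := by group
          _ = g⁻¹ * (y : G)⁻¹ * ((y : G) * g * m) * (n : G)⁻¹ := by rw [e1']
          _ = _ := by group
      by_cases hxy : (y : G)⁻¹ * x = 1
      · rw [hxy, mul_one, inv_mul_cancel] at e2
        exact Prod.ext (Subtype.ext (inv_mul_eq_one.mp hxy).symm)
          (Subtype.ext (mul_inv_eq_one.mp e2.symm).symm)
      · refine absurd (inv_mem_iff.mp (h.ti (g := g⁻¹) (mul_mem (inv_mem y.2) x.2) hxy ?_)) hg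
        rw [inv_inv, e2]
        exact mul_mem m.2 (inv_mem n.2)
    · rintro ⟨⟨x, y⟩, hxy⟩
      have hxy' : (x : G) * g * y = 1 := hxy
      refine hg (le_normalizer ?_)
      rw [show g = (x : G)⁻¹ * ((x : G) * g * y) * (y : G)⁻¹ by group, hxy', mul_one]
      exact mul_mem (inv_mem x.2) (inv_mem y.2)
  have hd2 : d * d ≤ Nat.card G := by
    have h1 := sum_sq_degree (G := G)
    choose dg hdg hdg1 using fun χ : IrrCharacter G => χ.2.exists_degree
    have h2 : ((∑ χ, dg χ ^ 2 : ℕ) : ℂ) = (Nat.card G : ℂ) := by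
      push_cast
      rw [← h1]
      exact Finset.sum_congr rfl fun χ _ => by rw [hdg1]
    have h3 := Finset.single_le_sum (fun χ _ => Nat.zero_le (dg χ ^ 2))
      (Finset.mem_univ (⟨X ⟦V⟧, hX _⟩ : IrrCharacter G))
    have h4 : dg ⟨X ⟦V⟧, hX _⟩ = d := by exact_mod_cast (hdg1 ⟨X ⟦V⟧, hX _⟩).symm.trans hdV
    rw [h4, Nat.cast_injective h2, pow_two] at h3
    exact h3
  rw [hdJ] at hd2
  have h3 : J.card ≤ a := Nat.le_of_mul_le_mul_left (hd2.trans_eq hIa.symm)
    (Finset.card_pos.mpr ⟨t, mem_involFinset.mpr ⟨ht1, ht2⟩⟩)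
  have h4 : J.card * a ≤ a * a := Nat.mul_le_mul_right a h3
  omega

end Cfsg.Lib.Char.CAEven
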