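import Cfsg.Agent.Lib.Char.Subconstituents
import Cfsg.Agent.Lib.Char.Central

/-!
# The degree divides the index of a normal subgroup acting by scalars
-/

set_option autoImplicit false
set_option linter.unusedSectionVars false
set_option linter.style.haveILetI false

namespace Cfsg.Lib.Char

open Cfsg Module
open scoped ComplexConjugate

universe u v

variable {G : Type u} [Group G] [Fintype G]

/-- A sum of the representing operators that commutes with the representation is an
algebraic-integer multiple of the identity. -/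
theorem isIntegral_of_sum_comm {V : Type v} [AddCommGroup V] [Module ℂ V] [FiniteDimensional ℂ V]
    (ρ : Representation ℂ G V) [ρ.IsIrreducible] (s : Finset G)
    (hs : ∀ h : G, (∑ y ∈ s, ρ y) * ρ h = ρ h * ∑ y ∈ s, ρ y) :
    IsIntegral ℤ ((∑ y ∈ s, ρ.character y) / (finrank ℂ V : ℂ)) := by
  classical
  let T : Representation.IntertwiningMap ρ ρ := ⟨∑ y ∈ s, ρ y, fun g => hs g⟩
  obtain ⟨c, hc⟩ :=
    (Representation.IsIrreducible.algebraMap_intertwiningMap_bijective_of_isAlgClosed
      (ρ := ρ)).2 T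
  have hT : ∑ y ∈ s, ρ y = c • LinearMap.id :=
    (congrArg Representation.IntertwiningMap.toLinearMap hc).symm
  have htr := congrArg (LinearMap.trace ℂ V) hT
  rw [map_smul, LinearMap.trace_id, smul_eq_mul, map_sum] at htr
  change ∑ y ∈ s, ρ.character y = _ at htr
  rw [htr, mul_div_assoc, div_self (Nat.cast_ne_zero.mpr (irreducible_finrank_pos ρ).ne'),
    mul_one]
  let L : MonoidAlgebra ℤ G →ₐ[ℤ] Module.End ℂ V := MonoidAlgebra.lift ℤ (Module.End ℂ V) G ρ
  have hfin : Module.Finite ℤ (MonoidAlgebra ℤ G) :=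
    Module.Finite.of_basis (MonoidAlgebra.basis G ℤ)
  have h1 := (IsIntegral.of_finite ℤ
    (∑ x ∈ s, MonoidAlgebra.of ℤ G x : MonoidAlgebra ℤ G)).map L
  have h2 : L (∑ x ∈ s, MonoidAlgebra.of ℤ G x) = algebraMap ℂ (Module.End ℂ V) c := by
    rw [map_sum]
    simp only [L, MonoidAlgebra.lift_of]
    rw [hT, Algebra.algebraMap_eq_smul_one]
    rfl
  rw [h2] at h1
  have hinj : Function.Injective (algebraMap ℂ (Module.End ℂ V)) := by
    have : Nontrivial V := ((isIrreducible_iff_submodule ρ).mp inferInstance).1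
    exact (algebraMap ℂ (Module.End ℂ V)).injective
  exact (isIntegral_algHom_iff (algebraMap ℂ (Module.End ℂ V)).toIntAlgHom hinj).mp h1

/-- If a normal subgroup acts by scalars in an irreducible representation, the degree divides
its index. -/
theorem degree_dvd_index_of_scalar (N : Subgroup G) [N.Normal] {χ : G → ℂ}
    (hχ : IsIrrCharacter G χ) (hN : ∀ n ∈ N, ‖χ n‖ = (χ 1).re) {d : ℕ} (hd : χ 1 = d) :
    d ∣ N.index := by
  classical
  haveI := Fintype.ofFinite (G ⧸ N)
  haveI : Finite (ConjClasses (G ⧸ N)) := Quotient.finite _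
  haveI := Fintype.ofFinite (ConjClasses (G ⧸ N))
  obtain ⟨m, ρ, hρ, rfl⟩ := hχ
  have hfr : ((finrank ℂ (Fin m → ℂ) : ℕ) : ℂ) = (d : ℂ) := by rw [← hd, Representation.char_one]
  have hd0 : d ≠ 0 := by
    intro h
    rw [h, Nat.cast_zero, Nat.cast_eq_zero] at hfr
    exact (irreducible_finrank_pos ρ).ne' hfr
  have hsc : ∀ n ∈ N, ∃ c : ℂ, ρ n = c • LinearMap.id := fun n hn =>
    (norm_character_eq_iff ρ n).mp ((hN n hn).trans (by rw [Representation.char_one]; simp))
  -- conjugates in one coset act equally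
  have hsame : ∀ g : G, ρ.character g ≠ 0 → ∀ n ∈ N, ρ.character (g * n) = ρ.character g →
      ρ (g * n) = ρ g := by
    intro g hg n hn he
    obtain ⟨c, hc⟩ := hsc n hn
    have h1 : ρ (g * n) = c • ρ g := by
      rw [map_mul, hc]
      ext v
      simp
    have h2 : ρ.character (g * n) = c * ρ.character g := by
      show LinearMap.trace ℂ _ (ρ (g * n)) = _
      rw [h1, map_smul, smul_eq_mul]; rfl
    rw [he] at h2
    rw [h1, ← mul_right_cancel₀ hg ((one_mul _).trans h2), one_smul]
  let χ' : G ⧸ N → ℂ := fun q => ρ.character q.out * conj (ρ.character q.out)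
  have hcoset : ∀ g : G, ∀ n ∈ N,
      ρ.character (g * n) * conj (ρ.character (g * n)) = ρ.character g * conj (ρ.character g) := by
    intro g n hn
    obtain ⟨c, hc⟩ := hsc n hn
    have h2 : ρ.character (g * n) = c * ρ.character g := by
      show LinearMap.trace ℂ _ (ρ (g * n)) = _
      rw [show ρ (g * n) = c • ρ g by rw [map_mul, hc]; ext v; simp, map_smul, smul_eq_mul]; rfl
    have hnorm := hN n hn
    have h3 : ‖c‖ = 1 := by
      have h4 : ρ.character n = c * (d : ℂ) := by
        show LinearMap.trace ℂ _ (ρ n) = _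
        rw [hc, map_smul, LinearMap.trace_id, smul_eq_mul, hfr]
      rw [h4, norm_mul, Complex.norm_natCast, hd, Complex.natCast_re] at hnorm
      exact (mul_eq_right₀ (Nat.cast_ne_zero.mpr hd0)).mp hnorm
    rw [h2, map_mul]
    calc c * ρ.character g * (conj c * conj (ρ.character g))
        = c * conj c * (ρ.character g * conj (ρ.character g)) := by ring
      _ = ρ.character g * conj (ρ.character g) := by
        rw [Complex.mul_conj', h3]; simp
  have hout : ∀ g : G, χ' (g : G ⧸ N) = ρ.character g * conj (ρ.character g) := by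
    intro g
    obtain ⟨n, hn⟩ := QuotientGroup.mk_out_eq_mul N g
    show ρ.character _ * conj (ρ.character _) = _
    rw [hn, hcoset g n n.2]
  refine natCast_dvd_of_isIntegral hd0 ?_
  have hnorm : ∑ g, ρ.character g * conj (ρ.character g) = (Nat.card G : ℂ) := by
    have := classInner_irr_self (isIrrCharacter_character ρ)
    rw [classInner, inv_mul_eq_one₀ card_cast_ne_zero] at this
    exact this.symm
  have hidx : (N.index : ℂ) = ∑ q : G ⧸ N, χ' q := by
    rw [← Finset.sum_fiberwise Finset.univ (fun g : G => (g : G ⧸ N))] at hnorm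
    have hfib : ∀ q : G ⧸ N,
        ∑ g ∈ Finset.univ.filter (fun g : G => (g : G ⧸ N) = q),
          ρ.character g * conj (ρ.character g) = (Nat.card N : ℂ) * χ' q := by
      intro q
      rw [Finset.sum_congr rfl (g := fun _ => χ' q) (fun g hg => by
        rw [← (Finset.mem_filter.mp hg).2, hout]), Finset.sum_const, nsmul_eq_mul]
      congr 2
      rw [← Nat.card_eq_finsetCard]
      obtain ⟨g₀, rfl⟩ := QuotientGroup.mk_surjective q
      refine Nat.card_congr
        { toFun := fun g => ⟨g₀⁻¹ * g.1,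
            QuotientGroup.eq.mp (Finset.mem_filter.mp g.2).2.symm⟩
          invFun := fun n => ⟨g₀ * n, by
            simp [QuotientGroup.mk_mul, (QuotientGroup.eq_one_iff _).mpr n.2]⟩
          left_inv := fun g => Subtype.ext (by simp)
          right_inv := fun n => Subtype.ext (by simp) }
    simp only [hfib, ← Finset.mul_sum] at hnorm
    rw [← N.card_mul_index, Nat.cast_mul] at hnorm
    exact (mul_left_cancel₀ (Nat.cast_ne_zero.mpr Nat.card_pos.ne') hnorm).symm
  rw [hidx, ← Finset.sum_fiberwise Finset.univ ConjClasses.mk χ', Finset.sum_div]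
  refine IsIntegral.sum _ fun C _ => ?_
  obtain ⟨q, rfl⟩ := C.exists_rep
  obtain ⟨g, rfl⟩ := QuotientGroup.mk_surjective q
  have hset : (Finset.univ.filter fun x => ConjClasses.mk x = ConjClasses.mk (g : G ⧸ N)) =
      classFinset (g : G ⧸ N) := by
    ext x
    rw [Finset.mem_filter, mem_classFinset, ConjClasses.mk_eq_mk_iff_isConj]
    exact ⟨fun h => h.2.symm, fun h => ⟨Finset.mem_univ _, h.symm⟩⟩
  have hconst : ∀ q ∈ classFinset (g : G ⧸ N), χ' q = χ' g := by
    intro q hq
    obtain ⟨c, hc⟩ := isConj_iff.mp (mem_classFinset.mp hq)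
    obtain ⟨x, rfl⟩ := QuotientGroup.mk_surjective c
    rw [← hc, ← QuotientGroup.mk_inv, ← QuotientGroup.mk_mul, ← QuotientGroup.mk_mul, hout, hout,
      ρ.char_conj]
  rw [hset, Finset.sum_congr rfl hconst, Finset.sum_const, nsmul_eq_mul, hout]
  by_cases hg : ρ.character g = 0
  · simp [hg, isIntegral_zero]
  -- one conjugate of `g` in each coset of its class
  have hlift : ∀ q ∈ classFinset (g : G ⧸ N), ∃ y : G, IsConj g y ∧ (y : G ⧸ N) = q := by
    intro q hq
    obtain ⟨c, hc⟩ := isConj_iff.mp (mem_classFinset.mp hq)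
    obtain ⟨x, rfl⟩ := QuotientGroup.mk_surjective c
    exact ⟨x * g * x⁻¹, isConj_iff.mpr ⟨x, rfl⟩, by simpa using hc⟩
  choose lift hl1 hl2 using hlift
  let r : G ⧸ N → G := fun q => if h : q ∈ classFinset (g : G ⧸ N) then lift q h else g
  have hr1 : ∀ q ∈ classFinset (g : G ⧸ N), IsConj g (r q) := fun q hq => by
    simp only [r, dif_pos hq]; exact hl1 q hq
  have hr2 : ∀ q ∈ classFinset (g : G ⧸ N), ((r q : G) : G ⧸ N) = q := fun q hq => by
    simp only [r, dif_pos hq]; exact hl2 q hq
  have hchar : ∀ q ∈ classFinset (g : G ⧸ N), ρ.character (r q) = ρ.character g := by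
    intro q hq
    obtain ⟨c, hc⟩ := isConj_iff.mp (hr1 q hq)
    rw [← hc, ρ.char_conj]
  have hinj : Set.InjOn r (classFinset (g : G ⧸ N)) := fun a ha b hb hab => by
    rw [← hr2 a ha, ← hr2 b hb, hab]
  have hsum : ∀ h : G, (∑ y ∈ (classFinset (g : G ⧸ N)).image r, ρ y) * ρ h =
      ρ h * ∑ y ∈ (classFinset (g : G ⧸ N)).image r, ρ y := by
    intro h
    rw [Finset.sum_image hinj, Finset.sum_mul, Finset.mul_sum]
    refine Finset.sum_bij (fun q _ => (h : G ⧸ N)⁻¹ * q * (h : G ⧸ N)) ?_ ?_ ?_ ?_
    · intro q hq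
      rw [mem_classFinset] at hq ⊢
      exact hq.trans (isConj_iff.mpr ⟨(h : G ⧸ N)⁻¹, by simp⟩)
    · intro a _ b _ hab
      simpa using hab
    · intro q hq
      refine ⟨(h : G ⧸ N) * q * (h : G ⧸ N)⁻¹, ?_, by group⟩
      rw [mem_classFinset] at hq ⊢
      exact hq.trans (isConj_iff.mpr ⟨(h : G ⧸ N), rfl⟩)
    · intro q hq
      set q' := (h : G ⧸ N)⁻¹ * q * (h : G ⧸ N) with hq'
      have hq'mem : q' ∈ classFinset (g : G ⧸ N) := by
        rw [mem_classFinset] at hq ⊢
        exact hq.trans (isConj_iff.mpr ⟨(h : G ⧸ N)⁻¹, by simp [hq']⟩)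
      have hn : (r q')⁻¹ * (h⁻¹ * r q * h) ∈ N := by
        rw [← QuotientGroup.eq_one_iff, QuotientGroup.mk_mul, QuotientGroup.mk_inv, hr2 q' hq'mem,
          QuotientGroup.mk_mul, QuotientGroup.mk_mul, QuotientGroup.mk_inv, hr2 q hq, hq',
          inv_mul_cancel]
      have hc2 : ρ.character (h⁻¹ * r q * h) = ρ.character (r q) := by
        have := ρ.char_conj (r q) h⁻¹
        rwa [inv_inv] at this
      have h2 := hsame (r q') (by rw [hchar q' hq'mem]; exact hg) _ hn (by
        rw [mul_inv_cancel_left, hc2, hchar q hq, hchar q' hq'mem])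
      rw [mul_inv_cancel_left] at h2
      rw [← h2, ← map_mul, ← map_mul]
      congr 1
      group
  have h1 := (isIntegral_of_sum_comm ρ _ hsum).mul
    ((isIrrCharacter_character ρ).isCharacter.conjFn.isIntegral g)
  rw [Finset.sum_image hinj, Finset.sum_congr rfl hchar, Finset.sum_const, nsmul_eq_mul, hfr] at h1
  convert h1 using 1
  ring

theorem finrank_dvd_index_of_scalar {V : Type v} [AddCommGroup V] [Module ℂ V]
    [FiniteDimensional ℂ V] (ρ : Representation ℂ G V) [ρ.IsIrreducible] (N : Subgroup G)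
    [N.Normal] (hN : ∀ n ∈ N, ∃ c : ℂ, ρ n = c • LinearMap.id) : finrank ℂ V ∣ N.index :=
  degree_dvd_index_of_scalar N (isIrrCharacter_character ρ)
    (fun n hn => by
      rw [(norm_character_eq_iff ρ n).mpr (hN n hn), Representation.char_one]; simp)
    (Representation.char_one ρ)

end Cfsg.Lib.Char
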