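import Cfsg.Agent.Lib.Char.Clifford2
import Cfsg.Agent.Lib.Char.DegreeDiv
import Cfsg.Agent.Lib.Char.Linear

/-!
# Ito's theorem
-/

set_option autoImplicit false
set_option linter.unusedSectionVars false
set_option linter.style.haveILetI false

namespace Cfsg.Lib.Char

open Cfsg
open scoped ComplexConjugate

universe u

variable {G : Type u} [Group G] [Fintype G]

/-- Ito's theorem. -/
theorem degree_dvd_index_of_comm (H : Subgroup G) [hN : H.Normal]
    (hH : ∀ a ∈ H, ∀ b ∈ H, a * b = b * a) {χ : G → ℂ} (hχ : IsIrrCharacter G χ) {d : ℕ}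
    (hd : χ 1 = d) : d ∣ H.index := by
  classical
  haveI := Fintype.ofFinite H
  obtain ⟨θ, hθ⟩ := exists_irr_constituent_res H hχ
  set T := inertia H (θ : H → ℂ) with hT
  haveI := Fintype.ofFinite T
  have hHT : H ≤ T := le_inertia H θ.2.isClassFunction
  obtain ⟨ψ, hψ, hψθ, heq, -⟩ := clifford_exists H θ.2 hHT hT hχ hθ
  have hθ1 : (θ : H → ℂ) 1 = 1 :=
    degree_eq_one_of_comm (fun a b => Subtype.ext (hH a a.2 b b.2)) θ.2
  have hres := res_eq_smul H θ.2 hHT hT hψ hψθ
  obtain ⟨m, hm⟩ := hψ.isCharacter.exists_degree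
  haveI : (H.subgroupOf T).Normal := hN.subgroupOf T
  have hmd : m ∣ (H.subgroupOf T).index := by
    refine degree_dvd_index_of_scalar (H.subgroupOf T) hψ (fun n hn => ?_) hm
    have hn' : (n : G) ∈ H := Subgroup.mem_subgroupOf.mp hn
    have h1 := congrFun hres ⟨n, hn'⟩
    have h2 := congrFun hres 1
    simp only [Pi.smul_apply, smul_eq_mul] at h1 h2
    rw [hθ1, mul_one] at h2
    have h3 : ψ n = ψ 1 * (θ : H → ℂ) ⟨n, hn'⟩ := h1.trans (by rw [← h2]; rfl)
    obtain ⟨f, hf⟩ := exists_hom_of_degree_one θ.2.isCharacter hθ1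
    have h4 : ‖(θ : H → ℂ) ⟨n, hn'⟩‖ = 1 := by
      rw [hf]
      refine Complex.norm_eq_one_of_pow_eq_one (n := Nat.card H) ?_ Nat.card_pos.ne'
      rw [← Units.val_pow_eq_pow_val, ← map_pow, pow_card_eq_one', map_one, Units.val_one]
    rw [h3, norm_mul, h4, mul_one, hm]
    simp
  have hd' : d = T.index * m := by
    have h1 := indFun_apply_one T ψ
    rw [heq, hd, hm] at h1
    exact_mod_cast h1
  rw [hd', ← Subgroup.relIndex_mul_index hHT, mul_comm]
  exact Nat.mul_dvd_mul_right hmd _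

end Cfsg.Lib.Char
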