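import Cfsg.Prelude.Def_Blocks
import Cfsg.Prelude.Def_Transfer
import Cfsg.Agent.Lib.Char.Central
import Cfsg.Agent.Lib.Char.Formulas
import Mathlib.GroupTheory.PGroup
import Mathlib.GroupTheory.Sylow

/-!
# Irreducible characters nonzero on exactly two conjugacy classes (Gagola)
-/

set_option autoImplicit false
set_option linter.unusedSectionVars false
set_option linter.style.haveILetI false

namespace Cfsg.Lib.Char

open Cfsg
open scoped ComplexConjugate

universe u

variable {G : Type u} [Group G]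

/-- averaging a character over a commuting subgroup gives an algebraic integer -/
theorem isIntegral_avg_of_commute [Finite G] {χ : G → ℂ} (hχ : IsCharacter G χ) {g : G} (R : Subgroup G)
    [Fintype R] (hcomm : ∀ x ∈ R, g * x = x * g) :
    IsIntegral ℤ ((∑ x : R, χ (g * (x : G))) / (Nat.card R : ℂ)) := by
  classical
  set Z := Subgroup.zpowers g with hZ
  haveI : Fintype Z := Fintype.ofFinite Z
  have hc : ∀ (y : Z) (x : R), (y : G) * (x : G) = (x : G) * (y : G) := by
    rintro ⟨y, hy⟩ x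
    obtain ⟨k, rfl⟩ := Subgroup.mem_zpowers_iff.mp hy
    exact Commute.zpow_left (show Commute g (x : G) from hcomm x x.2) k
  let f : Z × R →* G :=
    { toFun := fun a => (a.1 : G) * (a.2 : G)
      map_one' := by simp
      map_mul' := fun a b => by
        simp only [Prod.fst_mul, Prod.snd_mul, Subgroup.coe_mul]
        calc (a.1 : G) * b.1 * (a.2 * b.2) = a.1 * ((b.1 : G) * a.2) * b.2 := by group
          _ = a.1 * ((a.2 : G) * b.1) * b.2 := by rw [hc b.1 a.2]
          _ = _ := by group }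
  have hf : IsCharacter (Z × R) (fun a => χ (f a)) := hχ.comp f
  let h : Z → ℂ := fun y => (∑ x : R, χ ((y : G) * (x : G))) / (Nat.card R : ℂ)
  have habel : ∀ a b : Z, a * b = b * a := fun a b => Subtype.ext (by
    obtain ⟨i, hi⟩ := Subgroup.mem_zpowers_iff.mp a.2
    obtain ⟨j, hj⟩ := Subgroup.mem_zpowers_iff.mp b.2
    rw [Subgroup.coe_mul, Subgroup.coe_mul, ← hi, ← hj, ← zpow_add, ← zpow_add, add_comm])
  have hcl : IsClassFunction Z h := fun a b => by rw [habel b a, mul_inv_cancel_right]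
  have hn : ∀ ν : IrrCharacter Z, ∃ n : ℕ, classInner h (ν : Z → ℂ) = n := by
    intro ν
    obtain ⟨n, hn⟩ := hf.exists_nat_classInner (ν.2.isCharacter.comp (MonoidHom.fst Z R))
    refine ⟨n, ?_⟩
    rw [← hn]
    simp only [classInner, Nat.card_prod, Nat.cast_mul, Fintype.sum_prod_type, h,
      MonoidHom.coe_fst, f, MonoidHom.coe_mk, OneHom.coe_mk]
    rw [mul_inv, mul_assoc, Finset.mul_sum (a := (Nat.card R : ℂ)⁻¹)]
    congr 1
    refine Finset.sum_congr rfl fun y _ => ?_
    rw [← Finset.sum_mul]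
    ring
  have h2 := congrFun (eq_sum_classInner hcl) ⟨g, Subgroup.mem_zpowers g⟩
  rw [show (∑ x : R, χ (g * (x : G))) / (Nat.card R : ℂ) = h ⟨g, Subgroup.mem_zpowers g⟩ from rfl, h2,
    Finset.sum_apply]
  refine IsIntegral.sum _ fun ν _ => ?_
  obtain ⟨n, hn⟩ := hn ν
  rw [Pi.smul_apply, smul_eq_mul, hn]
  exact (isIntegral_algebraMap (R := ℤ) (x := (n : ℤ))).mul (ν.2.isCharacter.isIntegral _)

variable [Finite G] {χ : IrrCharacter G} {N : Subgroup G}

/-- the two class hypothesis: nonidentity elements of `N` are conjugate -/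
theorem twoClass_isConj (hχ : Nat.card {C : ConjClasses G // ∃ g ∈ C.carrier, (χ : G → ℂ) g ≠ 0} = 2)
    (hN : ∀ g : G, g ∈ N ↔ (χ : G → ℂ) g ≠ 0) {x y : G} (hx : x ∈ N) (hy : y ∈ N) (hx1 : x ≠ 1)
    (hy1 : y ≠ 1) : IsConj x y := by
  classical
  by_contra hxy
  set T := {C : ConjClasses G // ∃ g ∈ C.carrier, (χ : G → ℂ) g ≠ 0}
  haveI : Finite (ConjClasses G) := Quotient.finite _
  haveI : Finite T := Subtype.finite
  have mk : ∀ z : G, z ∈ N → ∃ g ∈ (ConjClasses.mk z).carrier, (χ : G → ℂ) g ≠ 0 :=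
    fun z hz => ⟨z, ConjClasses.mem_carrier_mk, (hN z).mp hz⟩
  let f : Fin 3 → T := ![⟨_, mk 1 N.one_mem⟩, ⟨_, mk x hx⟩, ⟨_, mk y hy⟩]
  have e01 : ConjClasses.mk 1 ≠ ConjClasses.mk x := fun h =>
    hx1 (isConj_one_right.mp (ConjClasses.mk_eq_mk_iff_isConj.mp h))
  have e02 : ConjClasses.mk 1 ≠ ConjClasses.mk y := fun h =>
    hy1 (isConj_one_right.mp (ConjClasses.mk_eq_mk_iff_isConj.mp h))
  have e12 : ConjClasses.mk x ≠ ConjClasses.mk y := fun h =>
    hxy (ConjClasses.mk_eq_mk_iff_isConj.mp h)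
  have hf : Function.Injective f := by
    intro i j hij
    have h' := congrArg Subtype.val hij
    fin_cases i <;> fin_cases j <;>
      first
      | rfl
      | exact absurd h' e01 | exact absurd h'.symm e01
      | exact absurd h' e02 | exact absurd h'.symm e02
      | exact absurd h' e12 | exact absurd h'.symm e12
  have h3 := Nat.card_le_card_of_injective f hf
  simp only [Nat.card_eq_fintype_card (α := Fin 3), Fintype.card_fin] at h3
  omega

/-- the support of a two-class character is a normal subgroup -/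
theorem twoClass_exists (hG : 2 < Nat.card G)
    (hχ : Nat.card {C : ConjClasses G // ∃ g ∈ C.carrier, (χ : G → ℂ) g ≠ 0} = 2) :
    ∃ N : Subgroup G, N.Normal ∧ N ≠ ⊥ ∧ ∀ g : G, g ∈ N ↔ (χ : G → ℂ) g ≠ 0 := by
  classical
  haveI := Fintype.ofFinite G
  set T := {C : ConjClasses G // ∃ g ∈ C.carrier, (χ : G → ℂ) g ≠ 0}
  haveI : Finite (ConjClasses G) := Quotient.finite _
  haveI : Finite T := Subtype.finite
  haveI : Nontrivial T := Finite.one_lt_card_iff_nontrivial.mp (by rw [hχ]; norm_num)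
  let T1 : T := ⟨ConjClasses.mk 1, 1, ConjClasses.mem_carrier_mk, χ.2.apply_one_ne_zero⟩
  obtain ⟨⟨C, g, hgC, hg⟩, hne⟩ := exists_ne T1
  rw [ConjClasses.mem_carrier_iff_mk_eq] at hgC
  have hg1 : g ≠ 1 := fun h => hne (Subtype.ext (by subst h; exact hgC.symm))
  have hsupp : ∀ x, (χ : G → ℂ) x ≠ 0 ↔ x = 1 ∨ IsConj g x := by
    intro x
    constructor
    · intro hx
      by_contra hcon
      push Not at hcon
      let f : Fin 3 → T := ![T1, ⟨_, g, ConjClasses.mem_carrier_mk, hg⟩,
        ⟨_, x, ConjClasses.mem_carrier_mk, hx⟩]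
      have e01 : ConjClasses.mk 1 ≠ ConjClasses.mk g := fun h =>
        hg1 (isConj_one_right.mp (ConjClasses.mk_eq_mk_iff_isConj.mp h))
      have e02 : ConjClasses.mk 1 ≠ ConjClasses.mk x := fun h =>
        hcon.1 (isConj_one_right.mp (ConjClasses.mk_eq_mk_iff_isConj.mp h))
      have e12 : ConjClasses.mk g ≠ ConjClasses.mk x := fun h =>
        hcon.2 (ConjClasses.mk_eq_mk_iff_isConj.mp h)
      have hf : Function.Injective f := by
        intro i j hij
        have h' := congrArg Subtype.val hij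
        fin_cases i <;> fin_cases j <;>
          first
          | rfl
          | exact absurd h' e01 | exact absurd h'.symm e01
          | exact absurd h' e02 | exact absurd h'.symm e02
          | exact absurd h' e12 | exact absurd h'.symm e12
      have h3 := Nat.card_le_card_of_injective f hf
      simp only [Nat.card_eq_fintype_card (α := Fin 3), Fintype.card_fin] at h3
      omega
    · rintro (rfl | hc)
      · exact χ.2.apply_one_ne_zero
      · obtain ⟨c, rfl⟩ := isConj_iff.mp hc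
        rwa [χ.2.isClassFunction g c]
  have hzero : ∀ x, x ∉ insert 1 (classFinset g) → (χ : G → ℂ) x = 0 := by
    intro x hx
    by_contra h
    rw [Finset.mem_insert, mem_classFinset] at hx
    exact hx ((hsupp x).mp h)
  have h1notin : (1 : G) ∉ classFinset g := by
    rw [mem_classFinset]
    exact fun h => hg1 (isConj_one_left.mp h)
  have hsum : ∀ f : G → ℂ, IsClassFunction G f → (∀ x, (χ : G → ℂ) x = 0 → f x = 0) →
      ∑ x, f x = f 1 + ((classFinset g).card : ℂ) * f g := by
    intro f hf hf0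
    rw [← Finset.sum_subset (Finset.subset_univ (insert 1 (classFinset g)))
      (fun x _ hx => hf0 x (hzero x hx)), Finset.sum_insert h1notin, sum_classFinset hf]
  have hnontriv : (χ : G → ℂ) ≠ fun _ => 1 := by
    intro h
    have hc2 : Nat.card (ConjClasses G) = 2 := by
      rw [← hχ]
      refine Nat.card_congr (Equiv.subtypeUnivEquiv fun D => ?_).symm
      obtain ⟨d, rfl⟩ := D.exists_rep
      exact ⟨d, ConjClasses.mem_carrier_mk, by rw [h]; exact one_ne_zero⟩
    have hall : ∀ x : G, x ≠ 1 → IsConj g x := fun x hx =>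
      ((hsupp x).mp (by rw [h]; exact one_ne_zero)).resolve_left hx
    -- the class of g has size card G - 1 and divides card G
    have h2 : (classFinset g).card ∣ Nat.card G := by
      rw [card_classFinset]; exact Subgroup.index_dvd_card _
    have h3 : classFinset g = Finset.univ.erase 1 := by
      ext x
      rw [mem_classFinset, Finset.mem_erase]
      exact ⟨fun hc => ⟨fun e => h1notin (mem_classFinset.mpr (e ▸ hc)), Finset.mem_univ _⟩,
        fun hx => hall x hx.1⟩
    rw [h3, Finset.card_erase_of_mem (Finset.mem_univ _), Finset.card_univ,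
      ← Nat.card_eq_fintype_card] at h2
    have h4 := Nat.dvd_sub h2 dvd_rfl
    rw [show Nat.card G - (Nat.card G - 1) = 1 by omega, Nat.dvd_one] at h4
    omega
  have hrow := classInner_irr_ne χ.2 isIrrCharacter_one hnontriv
  rw [classInner_one_right, mul_eq_zero, or_iff_right (inv_ne_zero card_cast_ne_zero),
    hsum _ χ.2.isClassFunction (fun x hx => hx)] at hrow
  have hker : ∀ ψ : IrrCharacter G, ψ ≠ χ → (ψ : G → ℂ) g = (ψ : G → ℂ) 1 := by
    intro ψ hne
    have h1 := classInner_irr_ne ψ.2 χ.2 (fun h => hne (Subtype.ext h))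
    unfold classInner at h1
    rw [mul_eq_zero, or_iff_right (inv_ne_zero card_cast_ne_zero),
      hsum _ (fun a b => by rw [χ.2.isClassFunction a b, ψ.2.isClassFunction a b])
        (fun x hx => by rw [hx, map_zero, mul_zero])] at h1
    obtain ⟨d, hd, hd1⟩ : ∃ d : ℕ, d ≠ 0 ∧ (χ : G → ℂ) 1 = d :=
      ⟨_, χ.2.charDegree_pos.ne', χ.2.apply_one_eq_charDegree⟩
    have hk : (((classFinset g).card : ℕ) : ℂ) ≠ 0 := Nat.cast_ne_zero.mpr
      (Finset.card_pos.mpr ⟨g, mem_classFinset.mpr (IsConj.refl g)⟩).ne'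
    have hgr : (χ : G → ℂ) g = -((d : ℂ) / ((classFinset g).card : ℂ)) := by
      rw [hd1] at hrow
      field_simp
      linear_combination hrow
    rw [hgr, hd1, map_neg, map_div₀, Complex.conj_natCast, Complex.conj_natCast] at h1
    field_simp at h1
    exact (sub_eq_zero.mp (by
      have : ((ψ : G → ℂ) 1 - (ψ : G → ℂ) g) * (d : ℂ) = 0 := by linear_combination h1
      exact (mul_eq_zero.mp this).resolve_right (Nat.cast_ne_zero.mpr hd))).symm
  let N : Subgroup G := ⨅ ψ : {ψ : IrrCharacter G // ψ ≠ χ}, charKer ψ.1.2.isCharacter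
  have hNn : N.Normal := Subgroup.normal_iInf_normal fun ψ => charKer_normal _
  have hmem : ∀ x, x ∈ N ↔ ∀ ψ : IrrCharacter G, ψ ≠ χ → (ψ : G → ℂ) x = (ψ : G → ℂ) 1 := by
    intro x
    simp only [N, Subgroup.mem_iInf, mem_charKer]
    exact ⟨fun h ψ hψ => h ⟨ψ, hψ⟩, fun h ψ => h ψ.1 ψ.2⟩
  refine ⟨N, hNn, fun h => ?_, fun x => ⟨fun hx => ?_, fun hx => ?_⟩⟩
  · have : g ∈ N := (hmem g).mpr hker
    rw [h, Subgroup.mem_bot] at this
    exact hg1 this
  · intro hx0
    have hx1 : x ≠ 1 := fun e => χ.2.apply_one_ne_zero (e ▸ hx0)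
    have h5 := column_orthogonality x 1
    rw [if_neg (fun hc => hx1 (isConj_one_left.mp hc))] at h5
    let one : IrrCharacter G := ⟨fun _ => 1, isIrrCharacter_one⟩
    have hone : one ≠ χ := fun h => hnontriv (congrArg Subtype.val h).symm
    have h6 : ∀ ψ : IrrCharacter G, (ψ : G → ℂ) x * conj ((ψ : G → ℂ) 1) =
        (((if ψ = χ then 0 else charDegree (ψ : G → ℂ) ^ 2 : ℕ)) : ℂ) := by
      intro ψ
      by_cases hψ : ψ = χ
      · subst hψ
        rw [hx0, zero_mul, if_pos rfl, Nat.cast_zero]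
      · rw [(hmem x).mp hx ψ hψ, if_neg hψ, ψ.2.apply_one_eq_charDegree, Complex.conj_natCast,
          Nat.cast_pow, pow_two]
    rw [Finset.sum_congr rfl (fun ψ _ => h6 ψ), ← Nat.cast_sum, Nat.cast_eq_zero,
      Finset.sum_eq_zero_iff] at h5
    have h7 := h5 one (Finset.mem_univ _)
    rw [if_neg hone] at h7
    exact pow_ne_zero 2 one.2.charDegree_pos.ne' h7
  · rcases (hsupp x).mp hx with rfl | hc
    · exact N.one_mem
    · obtain ⟨c, rfl⟩ := isConj_iff.mp hc
      exact hNn.conj_mem g ((hmem g).mpr hker) c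

/-- the numerical data of a two-class character -/
theorem twoClass_data [N.Normal] (hG : 2 < Nat.card G)
    (hχ : Nat.card {C : ConjClasses G // ∃ g ∈ C.carrier, (χ : G → ℂ) g ≠ 0} = 2)
    (hN : ∀ g : G, g ∈ N ↔ (χ : G → ℂ) g ≠ 0) (hN1 : N ≠ ⊥) :
    ∃ m : ℕ, m ≠ 0 ∧ (∀ x ∈ N, x ≠ 1 → (χ : G → ℂ) x = -(m : ℂ)) ∧
      (χ : G → ℂ) 1 = ((Nat.card N : ℂ) - 1) * m ∧
      Nat.card G = m ^ 2 * Nat.card N * (Nat.card N - 1) ∧
      (∀ ψ : IrrCharacter G, ψ ≠ χ → ∀ x ∈ N, (ψ : G → ℂ) x = (ψ : G → ℂ) 1) ∧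
      (∀ y, y ∉ N → ∀ a ∈ N, IsConj y (a * y)) ∧
      (∀ x ∈ N, x ≠ 1 → Nat.card (Subgroup.centralizer ({x} : Set G)) = m ^ 2 * Nat.card N) := by
  classical
  haveI := Fintype.ofFinite G
  obtain ⟨g, hg, hg1⟩ := N.bot_or_exists_ne_one.resolve_left hN1
  set q := Nat.card N with hq
  have hq2 : 2 ≤ q := by
    by_contra h
    have hpos : 0 < q := Nat.card_pos
    exact hN1 (Subgroup.eq_bot_of_card_eq N (by omega))
  have hconst : ∀ {ψ : G → ℂ}, IsClassFunction G ψ → ∀ x ∈ N, x ≠ 1 → ψ x = ψ g := by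
    intro ψ hψ x hx hx1
    obtain ⟨c, rfl⟩ := isConj_iff.mp (twoClass_isConj hχ hN hg hx hg1 hx1)
    exact hψ g c
  have hzero : ∀ x, x ∉ N → (χ : G → ℂ) x = 0 := fun x hx => by
    by_contra h
    exact hx ((hN x).mpr h)
  set NF : Finset G := Finset.univ.filter (fun x => x ∈ N) with hNF
  have hNFcard : NF.card = q := by
    rw [hq, Nat.card_eq_fintype_card, Fintype.card_subtype]
  have hsum : ∀ f : G → ℂ, (∀ x, x ∉ N → f x = 0) → (∀ x ∈ N, x ≠ 1 → f x = f g) →
      ∑ x, f x = f 1 + ((q : ℂ) - 1) * f g := by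
    intro f hf0 hfc
    rw [← Finset.sum_subset (Finset.subset_univ NF) (fun x _ hx => hf0 x (by simpa [hNF] using hx)),
      ← Finset.add_sum_erase NF f (show (1 : G) ∈ NF by simp [hNF]),
      Finset.sum_eq_card_nsmul (b := f g), nsmul_eq_mul, Finset.card_erase_of_mem (by simp [hNF]),
      hNFcard, Nat.cast_sub (by omega), Nat.cast_one]
    intro x hx
    rw [Finset.mem_erase] at hx
    exact hfc x (by simpa [hNF] using hx.2) hx.1
  -- the degree and the value at g
  set d := charDegree (χ : G → ℂ) with hd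
  have hd1 : (χ : G → ℂ) 1 = d := χ.2.apply_one_eq_charDegree
  have hq1 : ((q : ℂ) - 1) ≠ 0 := by
    rw [sub_ne_zero]
    exact_mod_cast (show q ≠ 1 by omega)
  have hnontriv : (χ : G → ℂ) ≠ fun _ => 1 := by
    intro h
    have hall : ∀ x : G, x ≠ 1 → IsConj g x := fun x hx =>
      twoClass_isConj hχ hN hg ((hN x).mpr (by rw [h]; exact one_ne_zero)) hg1 hx
    have h2 : (classFinset g).card ∣ Nat.card G := by
      rw [card_classFinset]; exact Subgroup.index_dvd_card _
    have h3 : classFinset g = Finset.univ.erase 1 := by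
      ext x
      rw [mem_classFinset, Finset.mem_erase]
      refine ⟨fun hc => ⟨fun e => hg1 ?_, Finset.mem_univ _⟩, fun hx => hall x hx.1⟩
      subst e
      exact isConj_one_left.mp hc
    rw [h3, Finset.card_erase_of_mem (Finset.mem_univ _), Finset.card_univ,
      ← Nat.card_eq_fintype_card] at h2
    have h4 := Nat.dvd_sub h2 dvd_rfl
    rw [show Nat.card G - (Nat.card G - 1) = 1 by omega, Nat.dvd_one] at h4
    omega
  have hrow : (d : ℂ) + ((q : ℂ) - 1) * (χ : G → ℂ) g = 0 := by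
    have h1 := classInner_irr_ne χ.2 isIrrCharacter_one hnontriv
    rw [classInner_one_right, mul_eq_zero] at h1
    rw [← hd1, ← hsum _ hzero (hconst χ.2.isClassFunction)]
    exact h1.resolve_left (inv_ne_zero card_cast_ne_zero)
  have hval : (χ : G → ℂ) g = -((d : ℂ) / ((q : ℂ) - 1)) := by
    field_simp
    linear_combination hrow
  have hdvd : (q - 1) ∣ d := by
    refine natCast_dvd_of_isIntegral (by omega) ?_
    have h1 : IsIntegral ℤ (-((χ : G → ℂ) g)) := (χ.2.isCharacter.isIntegral g).neg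
    rw [hval, neg_neg] at h1
    rw [Nat.cast_sub (by omega), Nat.cast_one]
    exact h1
  obtain ⟨m, hm⟩ := hdvd
  have hg' : (χ : G → ℂ) g = -(m : ℂ) := by
    rw [hval, hm, Nat.cast_mul, Nat.cast_sub (by omega), Nat.cast_one]
    field_simp
  have h1' : (χ : G → ℂ) 1 = ((q : ℂ) - 1) * m := by
    rw [hd1, hm, Nat.cast_mul, Nat.cast_sub (by omega), Nat.cast_one]
  have hm0 : m ≠ 0 := fun h => by
    apply (hN g).mp hg
    rw [hg', h, Nat.cast_zero, neg_zero]
  have hcardG : Nat.card G = m ^ 2 * q * (q - 1) := by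
    have h1 := classInner_irr_self χ.2
    have h2 : ∑ x, (χ : G → ℂ) x * conj ((χ : G → ℂ) x) = (Nat.card G : ℂ) := by
      unfold classInner at h1
      exact ((inv_mul_eq_one₀ card_cast_ne_zero).mp h1).symm
    rw [hsum _ (fun x hx => by rw [hzero x hx, zero_mul])
      (fun x hx hx1 => by rw [hconst χ.2.isClassFunction x hx hx1]), hg', h1'] at h2
    simp only [map_mul, map_neg, map_sub, Complex.conj_natCast, map_one] at h2
    refine Nat.cast_injective (R := ℂ) ?_
    rw [← h2]
    push_cast [Nat.cast_sub (show 1 ≤ q by omega)]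
    ring
  -- other characters contain N in their kernels, cosets outside N are in one class
  have hker : ∀ ψ : IrrCharacter G, ψ ≠ χ → ∀ x ∈ N, (ψ : G → ℂ) x = (ψ : G → ℂ) 1 := by
    intro ψ hne x hx
    by_cases hx1 : x = 1
    · rw [hx1]
    have h1 := classInner_irr_ne ψ.2 χ.2 (fun h => hne (Subtype.ext h))
    unfold classInner at h1
    rw [mul_eq_zero, or_iff_right (inv_ne_zero card_cast_ne_zero),
      hsum _ (fun x hx => by rw [hzero x hx, map_zero, mul_zero])
        (fun x hx hx1 => by rw [hconst χ.2.isClassFunction x hx hx1, hconst ψ.2.isClassFunction x hx hx1]),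
      hg', h1'] at h1
    simp only [map_mul, map_neg, map_sub, Complex.conj_natCast, map_one] at h1
    have hmc : (m : ℂ) ≠ 0 := by exact_mod_cast hm0
    have h3 : ((ψ : G → ℂ) 1 - (ψ : G → ℂ) g) * (((q : ℂ) - 1) * m) = 0 := by linear_combination h1
    rw [hconst ψ.2.isClassFunction x hx hx1]
    exact (sub_eq_zero.mp ((mul_eq_zero.mp h3).resolve_right (mul_ne_zero hq1 hmc))).symm
  have hcoset : ∀ y, y ∉ N → ∀ a ∈ N, IsConj y (a * y) := by
    intro y hy a ha
    rw [isConj_iff_forall_irr]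
    intro ψ
    by_cases h : ψ = χ
    · subst h
      rw [hzero y hy, hzero _ (fun h' => hy (by simpa using N.mul_mem (N.inv_mem ha) h'))]
    · exact (ψ.2.isCharacter.apply_mul_of_mem_ker (hker ψ h a ha) y).symm
  have hcent : ∀ x ∈ N, x ≠ 1 → Nat.card (Subgroup.centralizer ({x} : Set G)) = m ^ 2 * q := by
    intro x hx hx1
    have hcl : (classFinset x).card = q - 1 := by
      have hset : classFinset x = NF.erase 1 := by
        ext y
        rw [mem_classFinset, Finset.mem_erase]
        simp only [hNF, Finset.mem_filter, Finset.mem_univ, true_and]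
        constructor
        · intro hc
          obtain ⟨c, rfl⟩ := isConj_iff.mp hc
          exact ⟨fun e => hx1 (by simpa using e), (inferInstance : N.Normal).conj_mem x hx c⟩
        · rintro ⟨hy1, hy⟩
          exact twoClass_isConj hχ hN hx hy hx1 hy1
      rw [hset, Finset.card_erase_of_mem (by simp [hNF]), hNFcard]
    have hC : Nat.card (Subgroup.centralizer ({x} : Set G)) = m ^ 2 * q := by
      have h1 := Subgroup.card_mul_index (Subgroup.centralizer ({x} : Set G))
      rw [← card_classFinset, hcl, hcardG] at h1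
      exact Nat.eq_of_mul_eq_mul_right (by omega) h1
    exact hC
  exact ⟨m, hm0, fun x hx hx1 => by rw [hconst χ.2.isClassFunction x hx hx1, hg'], h1', hcardG, hker, hcoset, hcent⟩

theorem twoClass_centralizer {p : ℕ} [Fact p.Prime] [N.Normal] (hG : 2 < Nat.card G)
    (hχ : Nat.card {C : ConjClasses G // ∃ g ∈ C.carrier, (χ : G → ℂ) g ≠ 0} = 2)
    (hN : ∀ g : G, g ∈ N ↔ (χ : G → ℂ) g ≠ 0) (hNp : IsPGroup p N) {x : G} (hx : x ∈ N)
    (hx1 : x ≠ 1) :
    IsPGroup p (Subgroup.centralizer ({x} : Set G)) ∧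
      ¬ p ∣ (Subgroup.centralizer ({x} : Set G)).index := by
  classical
  haveI := Fintype.ofFinite G
  have hN1 : N ≠ ⊥ := fun h => hx1 (Subgroup.mem_bot.mp (h ▸ hx))
  obtain ⟨m, hm0, hg', -, hcardG, -, -, hcard⟩ := twoClass_data hG hχ hN hN1
  have hzero : ∀ y, y ∉ N → (χ : G → ℂ) y = 0 := fun y hy => by
    by_contra h
    exact hy ((hN y).mpr h)
  have hp : p.Prime := Fact.out
  set q := Nat.card N with hq
  have hC := hcard x hx hx1
  have hidx : (Subgroup.centralizer ({x} : Set G)).index = q - 1 := by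
    have h1 := Subgroup.card_mul_index (Subgroup.centralizer ({x} : Set G))
    rw [hC, hcardG] at h1
    exact Nat.eq_of_mul_eq_mul_left (Nat.mul_pos (by positivity) Nat.card_pos) h1
  refine ⟨?_, fun hdv => ?_⟩
  swap
  · rw [hidx] at hdv
    have hpq : p ∣ q := by
      obtain ⟨k, hk⟩ := IsPGroup.iff_card.mp hNp
      rw [hq, hk]
      refine dvd_pow_self p (fun h => hN1 (Subgroup.eq_bot_of_card_eq N (by rw [hk, h, pow_zero])))
    have := Nat.dvd_sub hpq hdv
    have hq0 : 0 < q := Nat.card_pos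
    rw [show q - (q - 1) = 1 by omega] at this
    exact hp.not_dvd_one this
  obtain ⟨a, ha⟩ := IsPGroup.iff_card.mp hNp
  -- every prime divisor of m is p
  suffices hall : ∀ r : ℕ, r.Prime → r ∣ m → r = p by
    have hmp : m = p ^ m.primeFactorsList.length := Nat.eq_prime_pow_of_unique_prime_dvd hm0 (@fun r hr hrm => hall r hr hrm)
    refine IsPGroup.of_card (n := m.primeFactorsList.length * 2 + a) ?_
    rw [hC, hq, ha, pow_add, pow_mul, ← hmp]
  intro r hr hrm
  by_contra hrp
  haveI : Fact r.Prime := ⟨hr⟩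
  set C := Subgroup.centralizer ({x} : Set G)
  let R0 : Sylow r C := default
  have hRc : Nat.card R0 = r ^ (m ^ 2 * q).factorization r := by rw [R0.card_eq_multiplicity, hC]
  set R : Subgroup G := (R0 : Subgroup C).map C.subtype with hR
  have hRcard : Nat.card R = r ^ (m ^ 2 * q).factorization r := by
    rw [hR, Nat.card_congr ((R0 : Subgroup C).equivMapOfInjective C.subtype C.subtype_injective).symm.toEquiv]
    exact hRc
  haveI : Fintype R := Fintype.ofFinite R
  have hcomm : ∀ y ∈ R, x * y = y * x := by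
    rintro y ⟨z, -, rfl⟩
    exact (Subgroup.mem_centralizer_singleton_iff.mp z.2).symm
  have hout : ∀ y : R, y ≠ 1 → x * (y : G) ∉ N := by
    intro y hy h
    have hyN : (y : G) ∈ N := by simpa using N.mul_mem (N.inv_mem hx) h
    have hdiv : orderOf (y : G) ∣ Nat.gcd (Nat.card R) q := by
      refine Nat.dvd_gcd ?_ ?_
      · rw [Subgroup.orderOf_coe]; exact orderOf_dvd_natCard y
      · rw [← Subgroup.orderOf_mk (y : G) hyN]; exact orderOf_dvd_natCard _
    have hg1' : Nat.gcd (Nat.card R) q = 1 := by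
      rw [hRcard, hq, ha]
      exact Nat.Coprime.pow _ _ ((Nat.coprime_primes hr hp).mpr hrp)
    rw [hg1', Nat.dvd_one, orderOf_eq_one_iff] at hdiv
    exact hy (Subtype.ext hdiv)
  have hint := isIntegral_avg_of_commute χ.2.isCharacter R hcomm
  rw [Finset.sum_eq_single (1 : R) (fun y _ hy => hzero _ (hout y hy)) (by simp),
    Subgroup.coe_one, mul_one, hg' x hx hx1, neg_div] at hint
  have hdv : Nat.card R ∣ m := natCast_dvd_of_isIntegral Nat.card_pos.ne' (by simpa using hint.neg)
  rw [hRcard, hr.pow_dvd_iff_le_factorization hm0] at hdv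
  rw [Nat.factorization_mul (pow_ne_zero _ hm0) (show q ≠ 0 from Nat.card_pos.ne'), Nat.factorization_pow] at hdv
  simp only [Finsupp.coe_add, Finsupp.coe_smul, Pi.add_apply, Pi.smul_apply, smul_eq_mul] at hdv
  have := hr.factorization_pos_of_dvd hm0 hrm
  omega

theorem twoClass_elementaryAbelian {p : ℕ} [Fact p.Prime] [N.Normal]
    (hχ : Nat.card {C : ConjClasses G // ∃ g ∈ C.carrier, (χ : G → ℂ) g ≠ 0} = 2)
    (hN : ∀ g : G, g ∈ N ↔ (χ : G → ℂ) g ≠ 0) (hNp : IsPGroup p N) :
    (∀ a ∈ N, ∀ b ∈ N, a * b = b * a) ∧ ∀ a ∈ N, a ^ p = 1 := by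
  classical
  have hp : p.Prime := Fact.out
  rcases N.bot_or_exists_ne_one with h | ⟨g, hg, hg1⟩
  · subst h
    constructor <;> simp +contextual
  set q := Nat.card N with hq
  have hq2 : 2 ≤ q := by
    haveI : Nontrivial N := ⟨⟨g, hg⟩, 1, fun e => hg1 (congrArg Subtype.val e)⟩
    exact Finite.one_lt_card
  -- N is elementary abelian
  have habel : ∀ a ∈ N, ∀ b ∈ N, a * b = b * a := by
    intro a ha b hb
    by_cases ha1 : a = 1
    · simp [ha1]
    haveI : Nontrivial N := ⟨⟨g, hg⟩, 1, fun e => hg1 (congrArg Subtype.val e)⟩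
    haveI := hNp.center_nontrivial
    obtain ⟨⟨z, hz⟩, hz1⟩ := exists_ne (1 : Subgroup.center N)
    have hz1' : (z : G) ≠ 1 := fun e => hz1 (Subtype.ext (Subtype.ext e))
    obtain ⟨c, rfl⟩ := isConj_iff.mp (twoClass_isConj hχ hN z.2 ha hz1' ha1)
    have h1 := congrArg Subtype.val
      (Subgroup.mem_center_iff.mp hz ⟨c⁻¹ * b * c, by simpa using (inferInstance : N.Normal).conj_mem b hb c⁻¹⟩)
    simp only [Subgroup.coe_mul] at h1
    calc c * z * c⁻¹ * b = c * (z * (c⁻¹ * b * c)) * c⁻¹ := by group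
      _ = c * (c⁻¹ * b * c * z) * c⁻¹ := by rw [h1]
      _ = b * (c * z * c⁻¹) := by group
  have hexp : ∀ a ∈ N, a ^ p = 1 := by
    intro a ha
    by_cases ha1 : a = 1
    · simp [ha1]
    have hdvd : p ∣ Nat.card N := by
      obtain ⟨k, hk⟩ := IsPGroup.iff_card.mp hNp
      rw [hk]
      exact dvd_pow_self p (fun h => by rw [← hq, h, pow_zero] at hk; omega)
    obtain ⟨z, hz⟩ := exists_prime_orderOf_dvd_card' p hdvd
    have hz1 : (z : G) ≠ 1 := fun e => hp.one_lt.ne' (by rw [← hz, ← Subgroup.orderOf_coe, e, orderOf_one])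
    obtain ⟨c, rfl⟩ := isConj_iff.mp (twoClass_isConj hχ hN z.2 ha hz1 ha1)
    rw [conj_pow, ← hz, ← Subgroup.orderOf_coe, pow_orderOf_eq_one, mul_one, mul_inv_cancel]
  exact ⟨habel, hexp⟩

end Cfsg.Lib.Char
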