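import Cfsg.Agent.Lib.Char.PGroupFieldBound

/-!
# Rational characters of p-groups

If a p-group of order `p ^ a` has a faithful rational valued character of degree `n`, then
`a ≤ ∑ i, n / ((p - 1) * p ^ i)`. A `p`-rational character restricts to such a character on a
Sylow p-subgroup.
-/

set_option autoImplicit false
set_option linter.unusedSectionVars false
set_option linter.style.haveILetI false
set_option maxHeartbeats 1000000

namespace Cfsg.Lib.Char

open Cfsg
open scoped ComplexConjugate IntermediateField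

universe u

theorem sum_div_pow_self {p : ℕ} (hp : p.Prime) (u : ℕ) :
    (p - 1) * (∑ i ∈ Finset.range (u + 1), p ^ u / p ^ i) + 1 = p ^ (u + 1) := by
  obtain ⟨q, rfl⟩ : ∃ q, p = q + 1 := ⟨p - 1, by have := hp.pos; omega⟩
  rw [Nat.add_sub_cancel]
  induction u with
  | zero => simp
  | succ u ih =>
    have h1 : ∀ i, (q + 1) ^ (u + 1) / (q + 1) ^ (i + 1) = (q + 1) ^ u / (q + 1) ^ i := fun i => by
      rw [pow_succ, pow_succ, Nat.mul_div_mul_right _ _ (Nat.succ_pos q)]
    rw [Finset.sum_range_succ']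
    simp only [h1, pow_zero, Nat.div_one]
    rw [mul_add, add_right_comm, ih]
    ring

theorem one_add_mul_le_pow {p : ℕ} (hp : p.Prime) (t : ℕ) :
    1 + (p - 1) * (t + 1) ≤ p ^ (t + 1) := by
  rw [add_comm]; exact sub_one_mul_add_one_le_pow hp.pos (t + 1)

/-- The function bounding the exponent. -/
def degBound (p B d : ℕ) : ℕ := ∑ i ∈ Finset.range B, d / ((p - 1) * p ^ i)

theorem degBound_add (p B d e : ℕ) : degBound p B d + degBound p B e ≤ degBound p B (d + e) := by
  rw [degBound, degBound, degBound, ← Finset.sum_add_distrib]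
  exact Finset.sum_le_sum fun i _ => Nat.div_add_div_le_add_div

theorem degBound_mono {p B d e : ℕ} (h : d ≤ e) : degBound p B d ≤ degBound p B e :=
  Finset.sum_le_sum fun _ _ => Nat.div_le_div_right h

theorem le_degBound {p B s t a f d : ℕ} (hp : p.Prime) (hf : f = p ^ s)
    (hab : (p - 1) * a + 1 ≤ f + (p - 1) * (t + 1) * f) (hd : (p - 1) * p ^ t * f ≤ d) (hB : d < B) :
    a ≤ degBound p B d := by
  have hp1 : 0 < p - 1 := Nat.sub_pos_of_lt hp.one_lt
  have h1 : (p - 1) * a + 1 ≤ p ^ (t + s + 1) := by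
    refine hab.trans ?_
    rw [show t + s + 1 = (t + 1) + s by ring, pow_add, hf, ← one_add_mul, ]
    exact Nat.mul_le_mul_right _ (one_add_mul_le_pow hp t)
  rw [← sum_div_pow_self hp (t + s)] at h1
  have h2 : a ≤ ∑ i ∈ Finset.range (t + s + 1), p ^ (t + s) / p ^ i :=
    Nat.le_of_mul_le_mul_left (by omega) hp1
  have hd' : (p - 1) * p ^ (t + s) ≤ d := by
    rwa [pow_add, ← mul_assoc, ← hf]
  have hts : t + s + 1 ≤ B := by
    have h3 : t + s < p ^ (t + s) := Nat.lt_pow_self hp.one_lt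
    have h4 : p ^ (t + s) ≤ (p - 1) * p ^ (t + s) := Nat.le_mul_of_pos_left _ hp1
    omega
  refine h2.trans (le_trans ?_ (Finset.sum_le_sum_of_subset_of_nonneg
    (Finset.range_mono hts) fun _ _ _ => Nat.zero_le _))
  refine Finset.sum_le_sum fun i _ => ?_
  rw [← Nat.mul_div_mul_left (p ^ (t + s)) (p ^ i) hp1]
  exact Nat.div_le_div_right hd'

variable {P : Type u} [Group P] [Fintype P]

theorem pow_pow_totient {k : ℕ} (hk : k.Coprime (Nat.card P)) (g : P) :
    g ^ (k ^ (Nat.card P).totient) = g := by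
  rw [← pow_mod_natCard, show k ^ (Nat.card P).totient % Nat.card P = 1 % Nat.card P from
    Nat.ModEq.pow_totient hk, pow_mod_natCard, pow_one]

/-- The twist of an irreducible character. -/
noncomputable def irrPow {k : ℕ} (hk : k.Coprime (Nat.card P)) (φ : IrrCharacter P) :
    IrrCharacter P :=
  ⟨fun g => (φ : P → ℂ) (g ^ k), isIrrCharacter_comp_pow hk φ.2⟩

theorem irrPow_apply {k : ℕ} (hk : k.Coprime (Nat.card P)) (φ : IrrCharacter P) (g : P) :
    (irrPow hk φ : P → ℂ) g = (φ : P → ℂ) (g ^ k) := rfl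

theorem classInner_comp_pow {k : ℕ} (hk : k.Coprime (Nat.card P)) (a b : P → ℂ) :
    classInner (fun g => a (g ^ k)) (fun g => b (g ^ k)) = classInner a b := by
  simp only [classInner]
  congr 1
  exact (powBij_of_coprime hk).sum_comp fun g => a g * conj (b g)

/-- The twists of an irreducible character. -/
def IsTwist (η φ : IrrCharacter P) : Prop :=
  ∃ (k : ℕ) (hk : k.Coprime (Nat.card P)), φ = irrPow hk η

/-- There are at least as many twists as the degree of the field of values. -/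
theorem finrank_le_card_twist (η : IrrCharacter P) (O : Finset (IrrCharacter P))
    (hO : ∀ φ, IsTwist η φ → φ ∈ O) :
    Module.finrank ℚ (IntermediateField.adjoin ℚ (Set.range (η : P → ℂ))) ≤ O.card := by
  classical
  haveI : NeZero (Nat.card P) := ⟨Nat.card_pos.ne'⟩
  haveI := finiteDimensional_cycField (Nat.card P)
  set K := IntermediateField.adjoin ℚ (Set.range (η : P → ℂ)) with hK
  have hKL : K ≤ cycField (Nat.card P) := IntermediateField.adjoin_le_iff.2 (by
    rintro _ ⟨g, rfl⟩; exact char_mem_cycField dvd_rfl η.2.isCharacter g)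
  haveI : FiniteDimensional ℚ K :=
    FiniteDimensional.of_injective (IntermediateField.inclusion hKL).toLinearMap
      (IntermediateField.inclusion_injective hKL)
  letI : Algebra K (cycField (Nat.card P)) := (IntermediateField.inclusion hKL).toRingHom.toAlgebra
  haveI : IsScalarTower ℚ K (cycField (Nat.card P)) := IsScalarTower.of_algebraMap_eq fun x => rfl
  haveI : Algebra.IsAlgebraic K (cycField (Nat.card P)) := Algebra.IsAlgebraic.tower_top (K := ℚ) K
  have hext : ∀ f : K →ₐ[ℚ] ℂ, ∃ φ ∈ O, ∀ g : P,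
      f ⟨(η : P → ℂ) g, IntermediateField.subset_adjoin _ _ ⟨g, rfl⟩⟩ = (φ : P → ℂ) g := by
    intro f
    obtain ⟨σ, hσ⟩ := IsAlgClosed.surjective_domRestrict_of_isAlgebraic (K := ℚ) (L := K) (M := ℂ)
      (E := cycField (Nat.card P)) f
    obtain ⟨k, hk, hσk⟩ := exists_actsAsPow σ
    refine ⟨irrPow hk η, hO _ ⟨k, hk, rfl⟩, fun g => ?_⟩
    rw [← hσ, irrPow_apply, ← galois_charVal dvd_rfl hσk η.2.isCharacter g]
    rfl
  choose F hFO hF using hext
  have hinj : Function.Injective F := by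
    intro f f' h
    refine AlgHom.ext fun ⟨x, hx⟩ => ?_
    induction hx using IntermediateField.adjoin_induction with
    | mem x hx =>
      obtain ⟨g, rfl⟩ := hx
      rw [hF f g, hF f' g, h]
    | algebraMap q => exact (f.commutes q).trans (f'.commutes q).symm
    | add x y hx hy h1 h2 =>
      show f ((⟨x, hx⟩ : K) + ⟨y, hy⟩) = f' ((⟨x, hx⟩ : K) + ⟨y, hy⟩)
      rw [map_add, map_add, h1, h2]
    | mul x y hx hy h1 h2 =>
      show f ((⟨x, hx⟩ : K) * ⟨y, hy⟩) = f' ((⟨x, hx⟩ : K) * ⟨y, hy⟩)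
      rw [map_mul, map_mul, h1, h2]
    | inv x hx h1 =>
      show f ((⟨x, hx⟩ : K)⁻¹) = f' ((⟨x, hx⟩ : K)⁻¹)
      rw [map_inv₀, map_inv₀, h1]
  calc Module.finrank ℚ K = Fintype.card (K →ₐ[ℚ] ℂ) := (AlgHom.card ℚ K ℂ).symm
    _ = (Finset.univ.image F).card := (Finset.card_image_of_injective _ hinj).symm
    _ ≤ O.card := Finset.card_le_card fun φ hφ => by
        obtain ⟨f, -, rfl⟩ := Finset.mem_image.1 hφ
        exact hFO f

/-- The field of values of a nontrivial character of a p-group has degree `(p - 1) * p ^ t`. -/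
theorem exists_finrank_eq {p n : ℕ} (hp : p.Prime) (hcard : Nat.card P = p ^ n) (η : IrrCharacter P)
    (hne : ∃ g, (η : P → ℂ) g ≠ (η : P → ℂ) 1) :
    ∃ t, Module.finrank ℚ (IntermediateField.adjoin ℚ (Set.range (η : P → ℂ))) =
      (p - 1) * p ^ t := by
  haveI : Fact p.Prime := ⟨hp⟩
  haveI : NeZero (Nat.card P) := ⟨Nat.card_pos.ne'⟩
  set K := IntermediateField.adjoin ℚ (Set.range (η : P → ℂ)) with hK
  have hKv : ∀ g, (η : P → ℂ) g ∈ K := fun g => IntermediateField.subset_adjoin _ _ ⟨g, rfl⟩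
  haveI := charKer_normal η.2.isCharacter
  obtain ⟨ψ, hψ, hψe⟩ := exists_deflate_irr (charKer η.2.isCharacter) η.2 fun x hx => hx
  have hQ : IsPGroup p (P ⧸ charKer η.2.isCharacter) := (IsPGroup.of_card hcard).to_quotient _
  haveI : Nontrivial (P ⧸ charKer η.2.isCharacter) := by
    obtain ⟨g, hg⟩ := hne
    exact ⟨⟨(g : P ⧸ charKer η.2.isCharacter), 1, fun h => hg ((QuotientGroup.eq_one_iff g).1 h)⟩⟩
  haveI := Fintype.ofFinite (P ⧸ charKer η.2.isCharacter)
  obtain ⟨z, -, hz, hzo⟩ := PGroup.exists_mem_center_orderOf_eq hQ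
    (N := (⊤ : Subgroup (P ⧸ charKer η.2.isCharacter))) top_ne_bot
  obtain ⟨ω, hω1, hω⟩ := Block.exists_central_scalar ⟨ψ, hψ⟩ hz
  obtain ⟨g, rfl⟩ := QuotientGroup.mk_surjective z
  have hωv : (η : P → ℂ) g = ω * (η : P → ℂ) 1 := by
    rw [← hψe g, ← hψe 1]
    simpa using hω 1
  have hne1 : ω ≠ 1 := by
    rintro rfl
    rw [one_mul] at hωv
    rw [(QuotientGroup.eq_one_iff g).2 hωv, orderOf_one] at hzo
    exact hp.one_lt.ne hzo
  rw [hzo] at hω1
  have hωp : IsPrimitiveRoot ω p := orderOf_eq_prime hω1 hne1 ▸ IsPrimitiveRoot.orderOf ω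
  have hωK : ω ∈ K := by
    have : ω = (η : P → ℂ) g * ((η : P → ℂ) 1)⁻¹ := by
      rw [hωv, mul_inv_cancel_right₀ η.2.apply_one_ne_zero]
    rw [this]
    exact mul_mem (hKv g) (inv_mem (hKv 1))
  have hn : 0 < n := by
    rcases Nat.eq_zero_or_pos n with rfl | h
    · obtain ⟨x, hx⟩ := hne
      rw [pow_zero] at hcard
      haveI := (Nat.card_eq_one_iff_unique.1 hcard).1
      exact absurd (by rw [Subsingleton.elim x 1]) hx
    · exact h
  have hKL : K ≤ cycField (Nat.card P) := IntermediateField.adjoin_le_iff.2 (by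
    rintro _ ⟨g, rfl⟩; exact char_mem_cycField dvd_rfl η.2.isCharacter g)
  have h1 : Module.finrank ℚ ℚ⟮ω⟯ ∣ Module.finrank ℚ K :=
    IntermediateField.finrank_dvd_of_le_right (IntermediateField.adjoin_simple_le_iff.2 hωK)
  rw [finrank_adjoin_rootOfUnity hp.pos hωp, Nat.totient_prime hp] at h1
  have h2 : Module.finrank ℚ K ∣ Module.finrank ℚ (cycField (Nat.card P)) :=
    IntermediateField.finrank_dvd_of_le_right hKL
  rw [cycField, finrank_adjoin_rootOfUnity Nat.card_pos (Complex.isPrimitiveRoot_exp _ (NeZero.ne _)),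
    hcard, Nat.totient_prime_pow hp hn, mul_comm] at h2
  obtain ⟨c, hc⟩ := h1
  rw [hc] at h2
  obtain ⟨t, -, rfl⟩ := (Nat.dvd_prime_pow hp).1
    (Nat.dvd_of_mul_dvd_mul_left (Nat.sub_pos_of_lt hp.one_lt) h2)
  exact ⟨t, hc⟩

/-- The index of the intersection of the kernels of a twist-closed set of nontrivial characters. -/
theorem index_inf_le_degBound {p n B : ℕ} (hp : p.Prime) (hcard : Nat.card P = p ^ n)
    (d : IrrCharacter P → ℕ) (hd : ∀ φ : IrrCharacter P, (φ : P → ℂ) 1 = (d φ : ℂ)) :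
    ∀ X : Finset (IrrCharacter P), (∀ φ ∈ X, ∃ g, (φ : P → ℂ) g ≠ (φ : P → ℂ) 1) →
      (∀ φ ∈ X, ∀ k : ℕ, ∀ hk : k.Coprime (Nat.card P), irrPow hk φ ∈ X) → ∑ φ ∈ X, d φ < B →
      (X.inf fun φ : IrrCharacter P => charKer φ.2.isCharacter).index ≤
        p ^ degBound p B (∑ φ ∈ X, d φ) := by
  classical
  intro X
  induction X using Finset.strongInductionOn with
  | _ X ih =>
  intro hnt hcl hB
  rcases X.eq_empty_or_nonempty with rfl | ⟨η, hη⟩
  · simp [degBound]
  set O := X.filter fun φ => IsTwist η φ with hO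
  have hηO : η ∈ O := by
    refine Finset.mem_filter.2 ⟨hη, 1, Nat.coprime_one_left _, Subtype.ext (funext fun g => ?_)⟩
    rw [irrPow_apply, pow_one]
  have htw : ∀ φ, IsTwist η φ → φ ∈ O := fun φ h => Finset.mem_filter.2 ⟨by
    obtain ⟨k, hk, rfl⟩ := h; exact hcl η hη k hk, h⟩
  obtain ⟨t, ht⟩ := exists_finrank_eq hp hcard η (hnt η hη)
  have hD : Module.finrank ℚ (IntermediateField.adjoin ℚ (Set.range (η : P → ℂ))) ≤ O.card :=
    finrank_le_card_twist η O htw
  haveI : FiniteDimensional ℚ (IntermediateField.adjoin ℚ (Set.range (η : P → ℂ))) :=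
    Module.finite_of_finrank_pos (ht ▸ Nat.mul_pos (Nat.sub_pos_of_lt hp.one_lt) (pow_pos hp.pos t))
  obtain ⟨a, ha, hab⟩ := PBound.kernel hp (n := n + 1) (fun k _ => pBound_all hp k) (Nat.lt_succ_self n)
    hcard η.2 (IntermediateField.adjoin ℚ (Set.range (η : P → ℂ)))
    (fun g => IntermediateField.subset_adjoin _ _ ⟨g, rfl⟩) ht.le (hd η)
  obtain ⟨s, -, hs⟩ := (Nat.dvd_prime_pow hp).1 (hcard ▸ degree_dvd_card η.2 (hd η))
  -- twists have the same degree and kernel
  have hdeg : ∀ φ ∈ O, d φ = d η := by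
    intro φ hφ
    obtain ⟨k, hk, rfl⟩ := (Finset.mem_filter.1 hφ).2
    have h := hd (irrPow hk η)
    rw [irrPow_apply, one_pow, hd η] at h
    exact_mod_cast h.symm
  have hker : ∀ φ ∈ O, charKer η.2.isCharacter ≤ charKer φ.2.isCharacter := by
    intro φ hφ g hg
    obtain ⟨k, hk, rfl⟩ := (Finset.mem_filter.1 hφ).2
    rw [mem_charKer, irrPow_apply, irrPow_apply, one_pow]
    exact (mem_charKer η.2.isCharacter).1 (pow_mem hg k)
  have hdO : (p - 1) * p ^ t * d η ≤ ∑ φ ∈ O, d φ := by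
    rw [Finset.sum_congr rfl hdeg, Finset.sum_const, smul_eq_mul, ← ht]
    exact Nat.mul_le_mul_right _ hD
  have hsplit : ∑ φ ∈ X, d φ = ∑ φ ∈ O, d φ + ∑ φ ∈ X \ O, d φ := by
    rw [add_comm, Finset.sum_sdiff (Finset.filter_subset _ _)]
  have haO : a ≤ degBound p B (∑ φ ∈ O, d φ) := le_degBound hp hs hab hdO (by omega)
  have hrest := ih (X \ O) (Finset.sdiff_ssubset (Finset.filter_subset _ _) ⟨η, hηO⟩)
    (fun φ hφ => hnt φ (Finset.mem_sdiff.1 hφ).1) (fun φ hφ k hk => by
      refine Finset.mem_sdiff.2 ⟨hcl φ (Finset.mem_sdiff.1 hφ).1 k hk, fun h => ?_⟩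
      obtain ⟨j, hj, hje⟩ := (Finset.mem_filter.1 h).2
      refine (Finset.mem_sdiff.1 hφ).2 (htw φ ⟨k ^ ((Nat.card P).totient - 1) * j,
        Nat.Coprime.mul_left (Nat.Coprime.pow_left _ hk) hj, Subtype.ext (funext fun g => ?_)⟩)
      have h1 := congrFun (congrArg Subtype.val hje) (g ^ (k ^ ((Nat.card P).totient - 1)))
      simp only [irrPow_apply, ← pow_mul] at h1
      rw [irrPow_apply, ← h1, ← pow_succ, Nat.sub_add_cancel (Nat.totient_pos.2 Nat.card_pos),
        pow_pow_totient hk]) (by omega)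
  have hle : (X.inf fun φ : IrrCharacter P => charKer φ.2.isCharacter) ≥
      charKer η.2.isCharacter ⊓ (X \ O).inf fun φ : IrrCharacter P => charKer φ.2.isCharacter := by
    refine Finset.le_inf fun φ hφ => ?_
    by_cases h : φ ∈ O
    · exact inf_le_left.trans (hker φ h)
    · exact inf_le_right.trans (Finset.inf_le (Finset.mem_sdiff.2 ⟨hφ, h⟩))
  calc _ ≤ (charKer η.2.isCharacter ⊓
        (X \ O).inf fun φ : IrrCharacter P => charKer φ.2.isCharacter).index :=
        Subgroup.index_antitone hle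
    _ ≤ p ^ a * p ^ degBound p B (∑ φ ∈ X \ O, d φ) :=
        Subgroup.index_inf_le.trans (Nat.mul_le_mul ha.le hrest)
    _ ≤ _ := by
        rw [← pow_add, hsplit]
        exact Nat.pow_le_pow_right hp.pos
          ((Nat.add_le_add_right haO _).trans (degBound_add p B _ _))

/-- A p-group with a faithful rational valued character of degree `m`. -/
theorem exponent_le_degBound {p n m : ℕ} (hp : p.Prime) (hcard : Nat.card P = p ^ n) {χ : P → ℂ}
    (hχ : IsCharacter P χ) (hfaith : ∀ g, χ g = χ 1 → g = 1) (hm : χ 1 = (m : ℂ))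
    (hrat : ∀ k : ℕ, k.Coprime (Nat.card P) → ∀ g : P, χ (g ^ k) = χ g) :
    n ≤ degBound p (m + 1) m := by
  classical
  choose d hd0 hd using fun φ : IrrCharacter P => φ.2.exists_degree
  set X : Finset (IrrCharacter P) := Finset.univ.filter fun φ =>
    multIn hχ φ ≠ 0 ∧ ∃ g, (φ : P → ℂ) g ≠ (φ : P → ℂ) 1 with hX
  have hmult : ∀ φ, ∀ k : ℕ, ∀ hk : k.Coprime (Nat.card P),
      multIn hχ (irrPow hk φ) = multIn hχ φ := by
    intro φ k hk
    have h := classInner_comp_pow hk χ (φ : P → ℂ)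
    rw [show (fun g => χ (g ^ k)) = χ from funext fun g => hrat k hk g,
      classInner_eq_multIn hχ φ] at h
    exact_mod_cast (classInner_eq_multIn hχ (irrPow hk φ)).symm.trans h
  have hdeg : ∑ φ ∈ X, d φ ≤ m := by
    have h := apply_eq_sum_multIn hχ 1
    simp only [hm, hd] at h
    have h' : m = ∑ φ, multIn hχ φ * d φ := by exact_mod_cast h
    rw [h']
    calc ∑ φ ∈ X, d φ ≤ ∑ φ ∈ X, multIn hχ φ * d φ := Finset.sum_le_sum fun φ hφ =>
          Nat.le_mul_of_pos_left _ (Nat.pos_of_ne_zero (Finset.mem_filter.1 hφ).2.1)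
      _ ≤ _ := Finset.sum_le_univ_sum_of_nonneg fun _ => Nat.zero_le _
  have h := index_inf_le_degBound (B := m + 1) hp hcard d hd X
    (fun φ hφ => (Finset.mem_filter.1 hφ).2.2) (fun φ hφ k hk => by
      obtain ⟨-, h0, g, hg⟩ := Finset.mem_filter.1 hφ
      refine Finset.mem_filter.2 ⟨Finset.mem_univ _, by rw [hmult]; exact h0,
        g ^ (k ^ ((Nat.card P).totient - 1)), ?_⟩
      rw [irrPow_apply, irrPow_apply, one_pow, ← pow_mul, ← pow_succ,
        Nat.sub_add_cancel (Nat.totient_pos.2 Nat.card_pos), pow_pow_totient hk]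
      exact hg) (by omega)
  have hbot : (X.inf fun φ : IrrCharacter P => charKer φ.2.isCharacter) = ⊥ := by
    rw [eq_bot_iff]
    intro g hg
    refine Subgroup.mem_bot.2 (hfaith g ?_)
    rw [apply_eq_sum_multIn hχ g, apply_eq_sum_multIn hχ 1]
    refine Finset.sum_congr rfl fun φ _ => ?_
    by_cases h0 : multIn hχ φ = 0
    · simp [h0]
    by_cases h1 : ∃ x, (φ : P → ℂ) x ≠ (φ : P → ℂ) 1
    · rw [(mem_charKer φ.2.isCharacter).1
        ((Finset.inf_le (Finset.mem_filter.2 ⟨Finset.mem_univ _, h0, h1⟩) :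
          X.inf (fun φ : IrrCharacter P => charKer φ.2.isCharacter) ≤ _) hg)]
    · push Not at h1
      rw [h1 g]
  rw [hbot, Subgroup.index_bot, hcard, Nat.pow_le_pow_iff_right hp.one_lt] at h
  exact h.trans (degBound_mono hdeg)

/-- Restricted to a p-subgroup, a p-rational character is invariant under power maps. -/
theorem pow_invariant_of_pRational {G : Type u} [Group G] [Finite G] {p a r : ℕ} (hp : p.Prime)
    (hr : 0 < r) (hpr : ¬ p ∣ r) (Q : Subgroup G) (hQ : Nat.card Q = p ^ a) {χ : G → ℂ}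
    (hχ : IsCharacter G χ)
    (hrat : ∀ g, χ g ∈ IntermediateField.adjoin ℚ
      ({Complex.exp (2 * Real.pi * Complex.I / r)} : Set ℂ))
    {k : ℕ} (hk : k.Coprime (Nat.card Q)) (g : Q) : χ ((g : G) ^ k) = χ g := by
  have hco : Nat.Coprime (p ^ a) r := Nat.Coprime.pow_left _ (hp.coprime_iff_not_dvd.2 hpr)
  haveI : NeZero r := ⟨hr.ne'⟩
  haveI : NeZero (p ^ a * r) := ⟨Nat.mul_ne_zero (pow_ne_zero _ hp.ne_zero) hr.ne'⟩
  obtain ⟨k', hk'1, hk'2⟩ := Nat.chineseRemainder hco k 1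
  have hk' : k'.Coprime (p ^ a * r) := Nat.Coprime.mul_right
    (by rw [Nat.Coprime, hk'1.gcd_eq, ← hQ]; exact hk)
    (by rw [Nat.Coprime, hk'2.gcd_eq, Nat.gcd_one_left])
  obtain ⟨σ, hσ⟩ := exists_of_coprime hk'
  have hχQ : IsCharacter Q (fun h : Q => χ h) := hχ.comp Q.subtype
  have h1 := galois_charVal (hQ.symm ▸ dvd_mul_right (p ^ a) r) hσ hχQ g
  have hgk : g ^ k' = g ^ k := pow_eq_pow_iff_modEq.2
    (Nat.ModEq.of_dvd (hQ ▸ orderOf_dvd_natCard g) hk'1)
  rw [hgk, SubgroupClass.coe_pow] at h1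
  set ζ := Complex.exp (2 * Real.pi * Complex.I / (r : ℂ)) with hζ
  have hζp : IsPrimitiveRoot ζ r := Complex.isPrimitiveRoot_exp r hr.ne'
  have hζmem : ζ ∈ cycField (p ^ a * r) := mem_cycField (by
    rw [mul_comm, pow_mul, hζp.pow_eq_one, one_pow])
  have hle : ℚ⟮ζ⟯ ≤ cycField (p ^ a * r) := IntermediateField.adjoin_simple_le_iff.2 hζmem
  have heq : σ.comp (IntermediateField.inclusion hle) = ℚ⟮ζ⟯.val := by
    refine (IntermediateField.adjoin.powerBasis (zeta_isIntegral r)).algHom_ext ?_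
    rw [IntermediateField.adjoin.powerBasis_gen]
    show σ ⟨ζ, hζmem⟩ = ζ
    rw [hσ ⟨ζ, hζmem⟩ (by show ζ ^ (p ^ a * r) = 1; rw [mul_comm, pow_mul, hζp.pow_eq_one, one_pow])]
    show ζ ^ k' = ζ
    conv_rhs => rw [← pow_one ζ]
    rw [pow_eq_pow_mod k' hζp.pow_eq_one, show k' % r = 1 % r from hk'2,
      ← pow_eq_pow_mod 1 hζp.pow_eq_one]
  have h2 := DFunLike.congr_fun heq ⟨χ (g : G), hrat g⟩
  exact h1.symm.trans h2

end Cfsg.Lib.Char
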