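import Cfsg.Agent.Lib.Char.Clifford2
import Cfsg.Agent.Lib.Char.Quotient
import Cfsg.Agent.Lib.Char.Linear
import Mathlib.GroupTheory.Nilpotent

/-!
# Monomial groups
-/

set_option autoImplicit false
set_option linter.unusedSectionVars false
set_option linter.style.haveILetI false

namespace Cfsg.Lib.Char

open Cfsg
open scoped ComplexConjugate

open scoped commutatorElement

universe u

section Comap

variable {G : Type u} [Group G] [Fintype G] {Q : Type u} [Group Q] [Fintype Q]

theorem sum_comp_surjective (π : G →* Q) (hπ : Function.Surjective π) (f : Q → ℂ) :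
    ∑ x : G, f (π x) = (Nat.card π.ker : ℂ) * ∑ q : Q, f q := by
  classical
  rw [← Finset.sum_fiberwise Finset.univ π, Finset.mul_sum]
  refine Finset.sum_congr rfl fun q _ => ?_
  rw [Finset.sum_congr rfl (g := fun _ => f q) (fun x hx => by rw [(Finset.mem_filter.mp hx).2]),
    Finset.sum_const, nsmul_eq_mul]
  congr 2
  obtain ⟨x₀, rfl⟩ := hπ q
  rw [← Nat.card_eq_finsetCard]
  exact Nat.card_congr
    { toFun := fun x => ⟨x₀⁻¹ * x.1, by
        rw [MonoidHom.mem_ker, map_mul, map_inv, (Finset.mem_filter.mp x.2).2, inv_mul_cancel]⟩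
      invFun := fun n => ⟨x₀ * n, by simp [MonoidHom.mem_ker.mp n.2]⟩
      left_inv := fun x => Subtype.ext (by simp)
      right_inv := fun n => Subtype.ext (by simp) }

theorem extendByZero_comap (π : G →* Q) (H : Subgroup Q) (f : H → ℂ) (y : G) :
    extendByZero (H.comap π) (fun h => f ⟨π h, Subgroup.mem_comap.mp h.2⟩) y =
      extendByZero H f (π y) := by
  by_cases hy : π y ∈ H
  · rw [extendByZero_of_mem _ _ hy, extendByZero_of_mem _ _ (Subgroup.mem_comap.mpr hy)]
  · rw [extendByZero_of_notMem _ _ hy,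
      extendByZero_of_notMem _ _ fun h => hy (Subgroup.mem_comap.mp h)]

theorem card_comap_surjective (π : G →* Q) (hπ : Function.Surjective π) (H : Subgroup Q) :
    Nat.card (H.comap π) = Nat.card π.ker * Nat.card H := by
  classical
  have h := sum_comp_surjective π hπ (fun q => if q ∈ H then (1 : ℂ) else 0)
  simp only [Finset.sum_boole] at h
  rw [← Fintype.card_subtype, ← Fintype.card_subtype, ← Nat.card_eq_fintype_card,
    ← Nat.card_eq_fintype_card] at h
  exact_mod_cast h

theorem indFun_comap (π : G →* Q) (hπ : Function.Surjective π) (H : Subgroup Q) (f : H → ℂ) :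
    indFun (H.comap π) (fun h => f ⟨π h, Subgroup.mem_comap.mp h.2⟩) =
      fun g => indFun H f (π g) := by
  funext g
  simp only [indFun, extendByZero_comap, map_mul, map_inv]
  rw [sum_comp_surjective π hπ (fun q => extendByZero H f (q⁻¹ * π g * q)),
    card_comap_surjective π hπ H, Nat.cast_mul, mul_inv, mul_assoc]
  have hk : (Nat.card π.ker : ℂ) ≠ 0 := Nat.cast_ne_zero.mpr Nat.card_pos.ne'
  field_simp

end Comap

variable {G : Type u} [Group G]

theorem exists_normal_abelian_not_central [Finite G] [Group.IsNilpotent G]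
    (hG : Subgroup.center G ≠ ⊤) :
    ∃ A : Subgroup G, A.Normal ∧ (∀ a ∈ A, ∀ b ∈ A, a * b = b * a) ∧
      ¬ A ≤ Subgroup.center G := by
  haveI : Nontrivial (G ⧸ Subgroup.center G) := by
    rw [← not_subsingleton_iff_nontrivial]
    intro h
    exact hG (eq_top_iff.mpr fun g _ => (QuotientGroup.eq_one_iff g).mp (Subsingleton.elim _ _))
  obtain ⟨⟨q, hq⟩, hq0⟩ := Subgroup.ne_bot_iff_exists_ne_one.mp
    (Group.IsNilpotent.center_ne_bot (G := G ⧸ Subgroup.center G))
  have hq1 : q ≠ 1 := fun e => hq0 (Subtype.ext e)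
  obtain ⟨x, rfl⟩ := QuotientGroup.mk_surjective q
  refine ⟨Subgroup.center G ⊔ Subgroup.zpowers x, ⟨fun a ha g => ?_⟩, ?_, ?_⟩
  · obtain ⟨z, hz, w, hw, rfl⟩ := Subgroup.mem_sup_of_normal_left.mp ha
    obtain ⟨i, rfl⟩ := Subgroup.mem_zpowers_iff.mp hw
    have hcen : ((x ^ i : G) : G ⧸ Subgroup.center G) ∈ Subgroup.center _ := by
      rw [QuotientGroup.mk_zpow]; exact Subgroup.zpow_mem _ hq i
    have h1 : (x ^ i)⁻¹ * (g * x ^ i * g⁻¹) ∈ Subgroup.center G := by
      rw [← QuotientGroup.eq]
      simp only [QuotientGroup.mk_mul, QuotientGroup.mk_inv]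
      rw [Subgroup.mem_center_iff.mp hcen ((g : G ⧸ Subgroup.center G)), mul_inv_cancel_right]
    have h2 : g * (z * x ^ i) * g⁻¹ = z * ((x ^ i)⁻¹ * (g * x ^ i * g⁻¹)) * 1 * x ^ i := by
      have h3 := Subgroup.mem_center_iff.mp h1 (x ^ i)
      rw [mul_one, mul_assoc z, ← h3, mul_inv_cancel_left, ← mul_assoc g z,
        Subgroup.mem_center_iff.mp hz g]
      group
    rw [h2]
    exact mul_mem (Subgroup.mem_sup_left (by simpa using mul_mem hz h1))
      (Subgroup.mem_sup_right (Subgroup.zpow_mem _ (Subgroup.mem_zpowers x) i))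
  · intro a ha b hb
    obtain ⟨z, hz, w, hw, rfl⟩ := Subgroup.mem_sup_of_normal_left.mp ha
    obtain ⟨z', hz', w', hw', rfl⟩ := Subgroup.mem_sup_of_normal_left.mp hb
    obtain ⟨i, rfl⟩ := Subgroup.mem_zpowers_iff.mp hw
    obtain ⟨j, rfl⟩ := Subgroup.mem_zpowers_iff.mp hw'
    have c1 : ∀ y, Commute z y := fun y => (Subgroup.mem_center_iff.mp hz y).symm
    have c2 : ∀ y, Commute z' y := fun y => (Subgroup.mem_center_iff.mp hz' y).symm
    exact ((c1 _).mul_left ((c2 (x ^ i)).symm.mul_right
      ((Commute.refl x).zpow_zpow i j))).eq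
  · intro h
    exact hq1 ((QuotientGroup.eq_one_iff x).mpr
      (h (Subgroup.mem_sup_right (Subgroup.mem_zpowers x))))

/-- Nilpotent groups are monomial. -/
theorem exists_monomial_of_nilpotent : ∀ (n : ℕ) {G : Type u} [Group G] [Fintype G]
    [Group.IsNilpotent G], Nat.card G = n → ∀ {χ : G → ℂ}, IsIrrCharacter G χ →
      ∃ (H : Subgroup G) (lam : H →* ℂˣ), χ = indFun H (fun h => (lam h : ℂ)) := by
  intro n
  induction n using Nat.strong_induction_on with
  | _ n ih =>
  intro G _ _ _ hn χ hχ
  subst hn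
  classical
  by_cases hab : χ 1 = 1
  · obtain ⟨f, hf⟩ := exists_hom_of_degree_one hχ.isCharacter hab
    refine ⟨⊤, f.comp (⊤ : Subgroup G).subtype, ?_⟩
    funext g
    simp only [indFun]
    rw [Finset.sum_congr rfl (g := fun _ => χ g) fun x _ => ?_, Finset.sum_const, Finset.card_univ,
      nsmul_eq_mul, Subgroup.card_top, ← Nat.card_eq_fintype_card,
      inv_mul_cancel_left₀ card_cast_ne_zero]
    rw [extendByZero_of_mem _ _ (Subgroup.mem_top _)]
    have h2 := hχ.isClassFunction g x⁻¹
    rw [inv_inv] at h2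
    rw [← h2, hf]
    rfl
  let N := charKer hχ.isCharacter
  haveI : N.Normal := charKer_normal hχ.isCharacter
  by_cases hN : N = ⊥
  · -- faithful case
    have hZ : Subgroup.center G ≠ ⊤ := by
      intro h
      apply hab
      exact degree_eq_one_of_comm (fun a b =>
        (Subgroup.mem_center_iff.mp (h ▸ Subgroup.mem_top a) b).symm) hχ
    obtain ⟨A, hA, hAab, hAnc⟩ := exists_normal_abelian_not_central hZ
    haveI := Fintype.ofFinite A
    obtain ⟨θ, hθ⟩ := exists_irr_constituent_res A hχ
    set T := inertia A (θ : A → ℂ) with hT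
    haveI := Fintype.ofFinite T
    have hTne : T ≠ ⊤ := by
      intro h
      apply hAnc
      intro a ha
      rw [Subgroup.mem_center_iff]
      intro g
      have hinv : ∀ g, conjTwist A (θ : A → ℂ) g = θ := fun g => by
        have hg : g ∈ T := by rw [h]; exact Subgroup.mem_top g
        exact hg
      have hres := clifford_invariant A hχ θ.2 hinv hθ
      obtain ⟨f, hf⟩ := exists_hom_of_degree_one θ.2.isCharacter
        (degree_eq_one_of_comm (fun a b => Subtype.ext (hAab a a.2 b b.2)) θ.2)
      have hc : g * a * g⁻¹ * a⁻¹ ∈ A := mul_mem (hA.conj_mem a ha g) (inv_mem ha)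
      have hk : g * a * g⁻¹ * a⁻¹ ∈ N := by
        rw [mem_charKer]
        have h1 := congrFun hres ⟨_, hc⟩
        have h2 := congrFun hres 1
        simp only [Pi.smul_apply, hf] at h1 h2
        rw [h1, show χ 1 = χ ((1 : A) : G) from rfl, h2]
        congr 2
        have h3 := congrFun (hinv g) ⟨a, ha⟩
        simp only [conjTwist_apply, hf, Units.val_inj] at h3
        have h4 : (⟨_, hc⟩ : A) = ⟨g * a * g⁻¹, hA.conj_mem a ha g⟩ * (⟨a, ha⟩ : A)⁻¹ :=
          Subtype.ext rfl
        rw [h4, map_mul, map_inv, h3, mul_inv_cancel, map_one]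
      rw [hN, Subgroup.mem_bot, mul_inv_eq_one, mul_inv_eq_iff_eq_mul] at hk
      exact hk
    obtain ⟨ψ, hψ, -, heq, -⟩ :=
      clifford_exists A θ.2 (le_inertia A θ.2.isClassFunction) hT hχ hθ
    have hlt : Nat.card T < Nat.card G := by
      rw [← T.card_mul_index]
      refine lt_mul_of_one_lt_right Nat.card_pos ?_
      have h0 : T.index ≠ 0 := Subgroup.index_ne_zero_of_finite
      have h1 : T.index ≠ 1 := fun e => hTne (Subgroup.index_eq_one.mp e)
      omega
    obtain ⟨H, lam, hl⟩ := ih _ hlt rfl hψ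
    let H' : Subgroup G := H.map T.subtype
    have hH' : H'.subgroupOf T = H := by
      ext t
      rw [Subgroup.mem_subgroupOf, Subgroup.mem_map]
      exact ⟨fun ⟨s, hs, e⟩ => Subtype.ext e ▸ hs, fun ht => ⟨t, ht, rfl⟩⟩
    have hle : H' ≤ T := Subgroup.map_subtype_le H
    let lam' : H' →* ℂˣ := lam.comp
      { toFun := fun h => ⟨⟨h, hle h.2⟩, hH' ▸ (Subgroup.mem_subgroupOf.mpr h.2 :
          (⟨h, hle h.2⟩ : T) ∈ H'.subgroupOf T)⟩
        map_one' := rfl
        map_mul' := fun _ _ => rfl }
    refine ⟨H', lam', ?_⟩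
    rw [← heq, hl, ← indFun_trans H' T hle (fun h => (lam' h : ℂ)), ← indFun_congr H hH'.symm
      (fun h => (lam h : ℂ))]
    rfl
  · -- pass to the quotient by the kernel
    obtain ⟨ψ, hψ, he⟩ := exists_deflate_irr N hχ fun n hn => hn
    haveI := Fintype.ofFinite (G ⧸ N)
    have hlt : Nat.card (G ⧸ N) < Nat.card G := by
      rw [← N.card_mul_index, Subgroup.index_eq_card]
      refine lt_mul_of_one_lt_left Nat.card_pos ?_
      exact N.one_lt_card_iff_ne_bot.mpr hN
    obtain ⟨H, lam, hl⟩ := ih _ hlt rfl hψ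
    refine ⟨H.comap (QuotientGroup.mk' N),
      lam.comp ((QuotientGroup.mk' N).subgroupComap H), ?_⟩
    funext g
    rw [← he g, hl]
    exact (congrFun (indFun_comap (QuotientGroup.mk' N) (QuotientGroup.mk'_surjective N) H
      (fun h => (lam h : ℂ))) g).symm

/-- Taketa's theorem. -/
theorem isSolvable_of_monomial [Fintype G]
    (hM : ∀ χ : G → ℂ, IsIrrCharacter G χ →
      ∃ (H : Subgroup G) (lam : H →* ℂˣ), χ = indFun H (fun h => (lam h : ℂ))) :
    Group.IsSolvable G := by
  classical
  have key : ∀ (d : ℕ) (χ : G → ℂ), IsIrrCharacter G χ → χ 1 = (d : ℂ) →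
      ∀ g ∈ derivedSeries G d, χ g = χ 1 := by
    intro d
    induction d using Nat.strong_induction_on with
    | _ d ih =>
    intro χ hχ hd g hg
    obtain ⟨H, lam, hl⟩ := hM χ hχ
    haveI := Fintype.ofFinite H
    have hidx : H.index = d := by
      rw [hl, indFun_apply_one] at hd
      simp only [map_one, Units.val_one, mul_one] at hd
      exact_mod_cast hd
    rcases Nat.eq_zero_or_pos d with rfl | hpos
    · exact absurd hidx Subgroup.index_ne_zero_of_finite
    -- the permutation character
    have hperm := isCharacter_indFun H (isCharacter_one : IsCharacter H fun _ => 1)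
    set π := indFun H (fun _ => (1 : ℂ)) with hπ
    have hπ1 : π 1 = (d : ℂ) := by rw [hπ, indFun_apply_one, hidx, mul_one]
    obtain ⟨k, rfl⟩ : ∃ k, d = k + 1 := ⟨d - 1, by omega⟩
    let D : Subgroup G := derivedSeries G k
    have hDH : D ≤ H := by
      intro y hy
      rcases Nat.eq_zero_or_pos k with rfl | hk
      · rw [(Subgroup.index_eq_one (H := H)).mp (by simpa using hidx)]
        exact Subgroup.mem_top y
      have hπone : classInner π (fun _ => (1 : ℂ)) = 1 := by
        rw [hπ, classInner_indFun H _ (isIrrCharacter_one.isClassFunction)]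
        exact classInner_irr_self (isIrrCharacter_one : IsIrrCharacter H fun _ => 1)
      have hker : π y = π 1 := by
        rw [eq_sum_classInner (f := π) hperm.isClassFunction]
        simp only [Finset.sum_apply, Pi.smul_apply]
        refine Finset.sum_congr rfl fun φ _ => ?_
        by_cases h0 : classInner π (φ : G → ℂ) = 0
        · simp [h0]
        congr 1
        by_cases h1 : (φ : G → ℂ) = fun _ => 1
        · rw [h1]
        obtain ⟨m, hm⟩ := φ.2.isCharacter.exists_degree
        have hrest := isCharacter_sub_constituent hperm isIrrCharacter_one (by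
          rw [hπone]; exact one_ne_zero)
        have h2 : classInner (π - fun _ => (1 : ℂ)) (φ : G → ℂ) ≠ 0 := by
          rw [classInner_sub_left, classInner_irr_ne isIrrCharacter_one φ.2 (Ne.symm h1), sub_zero]
          exact h0
        have hle := degree_le_of_constituent φ.2 hrest h2
        simp only [Pi.sub_apply, hπ1, hm, Complex.sub_re, Complex.natCast_re, Complex.one_re,
          Nat.cast_add, Nat.cast_one, add_sub_cancel_right, Nat.cast_le] at hle
        exact ih m (by omega) φ φ.2 hm y
          (derivedSeries_antitone G hle hy)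
      by_contra hyH
      have h3 : π y = 0 + ((Nat.card H : ℂ)⁻¹ *
          ∑ x ∈ Finset.univ.erase (1 : G), extendByZero H (fun _ => (1 : ℂ)) (x⁻¹ * y * x)) := by
        rw [hπ, indFun, ← Finset.add_sum_erase _ _ (Finset.mem_univ (1 : G)), mul_add,
          inv_one, one_mul, mul_one, extendByZero_of_notMem _ _ hyH, mul_zero]
      rw [hker, hπ1, zero_add] at h3
      have h4 := congrArg Complex.re h3
      rw [show ((Nat.card H : ℂ)⁻¹) = (((Nat.card H : ℝ)⁻¹ : ℝ) : ℂ) by simp,
        Complex.re_ofReal_mul, Complex.re_sum] at h4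
      have h5 : ∑ x ∈ Finset.univ.erase (1 : G),
          (extendByZero H (fun _ => (1 : ℂ)) (x⁻¹ * y * x)).re ≤ (Nat.card G : ℝ) - 1 := by
        refine (Finset.sum_le_card_nsmul _ _ 1 fun x _ => ?_).trans ?_
        · by_cases hx : x⁻¹ * y * x ∈ H
          · rw [extendByZero_of_mem _ _ hx]; simp
          · rw [extendByZero_of_notMem _ _ hx]; simp
        · rw [Finset.card_erase_of_mem (Finset.mem_univ _), Finset.card_univ,
            ← Nat.card_eq_fintype_card, nsmul_eq_mul, mul_one, Nat.cast_sub Nat.card_pos,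
            Nat.cast_one]
      have hG := H.card_mul_index
      rw [hidx] at hG
      have hG' : (Nat.card G : ℝ) = Nat.card H * ((k + 1 : ℕ) : ℝ) := by
        rw [← hG, Nat.cast_mul]
      have hH : (0 : ℝ) < Nat.card H := Nat.cast_pos.mpr Nat.card_pos
      simp only [Complex.natCast_re] at h4
      rw [eq_inv_mul_iff_mul_eq₀ hH.ne'] at h4
      linarith
    have hg' : g ∈ ⁅D, D⁆ := hg
    have hval : ∀ x : G, x⁻¹ * g * x ∈ ⁅D, D⁆ := fun x => by
      have h := (inferInstance : (derivedSeries G (k + 1)).Normal).conj_mem g hg x⁻¹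
      rwa [inv_inv] at h
    have hlam : ∀ y (hy : y ∈ ⁅D, D⁆), ∃ hyH : y ∈ H, lam ⟨y, hyH⟩ = 1 := by
      intro y hy
      have hle : ⁅D, D⁆ ≤ lam.ker.map H.subtype := by
        rw [Subgroup.commutator_le]
        intro a ha b hb
        refine ⟨⁅(⟨a, hDH ha⟩ : H), (⟨b, hDH hb⟩ : H)⁆, ?_, rfl⟩
        rw [SetLike.mem_coe, MonoidHom.mem_ker, map_commutatorElement, commutatorElement_eq_one_iff_mul_comm,
          mul_comm]
      obtain ⟨z, hz, rfl⟩ := hle hy
      exact ⟨z.2, hz⟩
    rw [hl]
    simp only [indFun]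
    congr 1
    refine Finset.sum_congr rfl fun x _ => ?_
    obtain ⟨h1, h2⟩ := hlam _ (hval x)
    rw [mul_one, inv_mul_cancel, extendByZero_of_mem _ _ h1, extendByZero_of_mem _ _ H.one_mem, h2]
    exact (congrArg Units.val (map_one lam)).symm
  choose deg hdeg using fun φ : IrrCharacter G => φ.2.isCharacter.exists_degree
  refine ⟨⟨Finset.univ.sup deg, ?_⟩⟩
  rw [eq_bot_iff]
  intro g hg
  rw [Subgroup.mem_bot]
  by_contra hg1
  have h := sum_degree_mul g
  rw [if_neg hg1, Finset.sum_congr rfl fun φ _ => by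
    rw [key (deg φ) φ φ.2 (hdeg φ) g (derivedSeries_antitone G
      (Finset.le_sup (Finset.mem_univ φ)) hg), ← pow_two], sum_sq_degree] at h
  exact card_cast_ne_zero h

end Cfsg.Lib.Char
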