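import Mathlib.GroupTheory.SchurZassenhaus
import Cfsg.Agent.Lib.Char.Monomial

/-!
# Quasi-elementary groups

A finite group is quasi-elementary at `p` if it has a cyclic normal subgroup of order prime to `p`
and of `p`-power index.  Such groups are monomial.
-/

set_option autoImplicit false
set_option linter.unusedSectionVars false
set_option linter.style.haveILetI false

namespace Cfsg.Lib.Char

open Cfsg

universe u v

variable {G : Type u} [Group G]

/-- `G` has a cyclic normal subgroup of order prime to `p` and `p`-power index. -/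
def IsQuasiElem (p : ℕ) (G : Type u) [Group G] : Prop :=
  ∃ C : Subgroup G, C.Normal ∧ IsCyclic C ∧ (Nat.card C).Coprime p ∧ ∃ k : ℕ, C.index = p ^ k

theorem IsQuasiElem.to_subgroup {p : ℕ} (hp : p.Prime) (h : IsQuasiElem p G) (K : Subgroup G) :
    IsQuasiElem p K := by
  obtain ⟨C, hC, hcyc, hcop, k, hk⟩ := h
  let f : C.subgroupOf K →* C :=
    { toFun := fun x => ⟨((x : K) : G), x.2⟩
      map_one' := rfl
      map_mul' := fun _ _ => rfl }
  have hf : Function.Injective f := fun a b e =>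
    Subtype.ext (Subtype.ext (congrArg (fun y : C => (y : G)) e))
  refine ⟨C.subgroupOf K, inferInstance, isCyclic_of_injective f hf,
    hcop.coprime_dvd_left (Subgroup.card_dvd_of_injective f hf), ?_⟩
  have hdvd : (C.subgroupOf K).index ∣ p ^ k :=
    hk ▸ Subgroup.relIndex_dvd_index_of_normal C K
  obtain ⟨j, -, hj⟩ := (Nat.dvd_prime_pow hp).mp hdvd
  exact ⟨j, hj⟩

theorem IsQuasiElem.of_surjective {p : ℕ} (hp : p.Prime) {H : Type v} [Group H]
    (h : IsQuasiElem p G) (f : G →* H) (hf : Function.Surjective f) : IsQuasiElem p H := by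
  obtain ⟨C, hC, hcyc, hcop, k, hk⟩ := h
  haveI := hcyc
  refine ⟨C.map f, hC.map f hf, isCyclic_of_surjective (f.subgroupMap C)
    (f.subgroupMap_surjective C), hcop.coprime_dvd_left (C.card_map_dvd f), ?_⟩
  have hdvd : (C.map f).index ∣ p ^ k := hk ▸ C.index_map_dvd hf
  obtain ⟨j, -, hj⟩ := (Nat.dvd_prime_pow hp).mp hdvd
  exact ⟨j, hj⟩

theorem IsQuasiElem.of_injective {p : ℕ} (hp : p.Prime) {H : Type v} [Group H]
    (h : IsQuasiElem p H) (f : G →* H) (hf : Function.Injective f) : IsQuasiElem p G :=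
  (h.to_subgroup hp f.range).of_surjective hp (MonoidHom.ofInjective hf).symm.toMonoidHom
    (MonoidHom.ofInjective hf).symm.surjective

theorem isElementary_of_mulEquiv {p : ℕ} {H : Type v} [Group H] (e : G ≃* H)
    (h : IsElementary p G) : IsElementary p H := by
  obtain ⟨x, hx, hcop, k, hk⟩ := h
  refine ⟨e x, Subgroup.mem_center_iff.mpr fun y => ?_, by rwa [e.orderOf_eq], k, ?_⟩
  · obtain ⟨g, rfl⟩ := e.surjective y
    rw [← map_mul, ← map_mul, Subgroup.mem_center_iff.mp hx g]
  · rw [show Subgroup.zpowers (e x) = (Subgroup.zpowers x).map e.toMonoidHom from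
      (MonoidHom.map_zpowers e.toMonoidHom x).symm]
    exact ((Subgroup.zpowers x).index_map_equiv e).trans hk

theorem _root_.Cfsg.IsElementary.isQuasiElem [Finite G] {p : ℕ} (h : IsElementary p G) :
    IsQuasiElem p G := by
  obtain ⟨x, hx, hcop, k, hk⟩ := h
  refine ⟨Subgroup.zpowers x, ⟨fun a ha g => ?_⟩, inferInstance, by rwa [Nat.card_zpowers], k, hk⟩
  obtain ⟨n, rfl⟩ := Subgroup.mem_zpowers_iff.mp ha
  rw [Subgroup.mem_center_iff.mp (Subgroup.zpow_mem _ hx n) g, mul_inv_cancel_right]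
  exact Subgroup.zpow_mem _ (Subgroup.mem_zpowers x) n

theorem exists_normal_abelian_of_quasiElem [Finite G] {p : ℕ} (hp : p.Prime)
    (h : IsQuasiElem p G) (hG : Subgroup.center G ≠ ⊤) :
    ∃ A : Subgroup G, A.Normal ∧ (∀ a ∈ A, ∀ b ∈ A, a * b = b * a) ∧
      ¬ A ≤ Subgroup.center G := by
  obtain ⟨C, hC, hcyc, -, k, hk⟩ := h
  haveI := hcyc
  haveI := Fact.mk hp
  by_cases hc : C ≤ Subgroup.center G
  · have hQ : IsPGroup p (G ⧸ C) := IsPGroup.of_card (n := k) (by rw [← hk, Subgroup.index])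
    haveI := hQ.isNilpotent
    haveI : Group.IsNilpotent G :=
      Subgroup.isNilpotent_of_ker_le_center (QuotientGroup.mk' C) (by rwa [QuotientGroup.ker_mk'])
    exact exists_normal_abelian_not_central hG
  · refine ⟨C, hC, fun a ha b hb => ?_, hc⟩
    exact congrArg Subtype.val
      ((inferInstance : IsMulCommutative C).is_comm.comm (⟨a, ha⟩ : C) ⟨b, hb⟩)

/-- Quasi-elementary groups are monomial. -/
theorem exists_monomial_of_quasiElem {p : ℕ} (hp : p.Prime) : ∀ (n : ℕ) {G : Type u} [Group G]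
    [Fintype G], Nat.card G = n → IsQuasiElem p G → ∀ {χ : G → ℂ}, IsIrrCharacter G χ →
      ∃ (H : Subgroup G) (lam : H →* ℂˣ), χ = indFun H (fun h => (lam h : ℂ)) := by
  intro n
  induction n using Nat.strong_induction_on with
  | _ n ih =>
  intro G _ _ hn hqe χ hχ
  subst hn
  classical
  by_cases hab : χ 1 = 1
  · obtain ⟨f, hf⟩ := exists_hom_of_degree_one hχ.isCharacter hab
    refine ⟨⊤, f.comp (⊤ : Subgroup G).subtype, ?_⟩
    funext g
    simp only [indFun]
    rw [Finset.sum_congr rfl (g := fun _ => χ g) fun x _ => ?_, Finset.sum_const, Finset.card_univ,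
      nsmul_eq_mul, Subgroup.card_top, ← Nat.card_eq_fintype_card,
      inv_mul_cancel_left₀ card_cast_ne_zero]
    rw [extendByZero_of_mem _ _ (Subgroup.mem_top _)]
    have h2 := hχ.isClassFunction g x⁻¹
    rw [inv_inv] at h2
    rw [← h2, hf]
    rfl
  let N := charKer hχ.isCharacter
  haveI : N.Normal := charKer_normal hχ.isCharacter
  by_cases hN : N = ⊥
  · have hZ : Subgroup.center G ≠ ⊤ := by
      intro h
      apply hab
      exact degree_eq_one_of_comm (fun a b =>
        (Subgroup.mem_center_iff.mp (h ▸ Subgroup.mem_top a) b).symm) hχ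
    obtain ⟨A, hA, hAab, hAnc⟩ := exists_normal_abelian_of_quasiElem hp hqe hZ
    haveI := Fintype.ofFinite A
    obtain ⟨θ, hθ⟩ := exists_irr_constituent_res A hχ
    set T := inertia A (θ : A → ℂ) with hT
    haveI := Fintype.ofFinite T
    have hTne : T ≠ ⊤ := by
      intro h
      apply hAnc
      intro a ha
      rw [Subgroup.mem_center_iff]
      intro g
      have hinv : ∀ g, conjTwist A (θ : A → ℂ) g = θ := fun g => by
        have hg : g ∈ T := by rw [h]; exact Subgroup.mem_top g
        exact hg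
      have hres := clifford_invariant A hχ θ.2 hinv hθ
      obtain ⟨f, hf⟩ := exists_hom_of_degree_one θ.2.isCharacter
        (degree_eq_one_of_comm (fun a b => Subtype.ext (hAab a a.2 b b.2)) θ.2)
      have hc : g * a * g⁻¹ * a⁻¹ ∈ A := mul_mem (hA.conj_mem a ha g) (inv_mem ha)
      have hk : g * a * g⁻¹ * a⁻¹ ∈ N := by
        rw [mem_charKer]
        have h1 := congrFun hres ⟨_, hc⟩
        have h2 := congrFun hres 1
        simp only [Pi.smul_apply, hf] at h1 h2
        rw [h1, show χ 1 = χ ((1 : A) : G) from rfl, h2]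
        congr 2
        have h3 := congrFun (hinv g) ⟨a, ha⟩
        simp only [conjTwist_apply, hf, Units.val_inj] at h3
        have h4 : (⟨_, hc⟩ : A) = ⟨g * a * g⁻¹, hA.conj_mem a ha g⟩ * (⟨a, ha⟩ : A)⁻¹ :=
          Subtype.ext rfl
        rw [h4, map_mul, map_inv, h3, mul_inv_cancel, map_one]
      rw [hN, Subgroup.mem_bot, mul_inv_eq_one, mul_inv_eq_iff_eq_mul] at hk
      exact hk
    obtain ⟨ψ, hψ, -, heq, -⟩ :=
      clifford_exists A θ.2 (le_inertia A θ.2.isClassFunction) hT hχ hθ
    have hlt : Nat.card T < Nat.card G := by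
      rw [← T.card_mul_index]
      refine lt_mul_of_one_lt_right Nat.card_pos ?_
      have h0 : T.index ≠ 0 := Subgroup.index_ne_zero_of_finite
      have h1 : T.index ≠ 1 := fun e => hTne (Subgroup.index_eq_one.mp e)
      omega
    obtain ⟨H, lam, hl⟩ := ih _ hlt rfl (hqe.to_subgroup hp T) hψ
    let H' : Subgroup G := H.map T.subtype
    have hH' : H'.subgroupOf T = H := by
      ext t
      rw [Subgroup.mem_subgroupOf, Subgroup.mem_map]
      exact ⟨fun ⟨s, hs, e⟩ => Subtype.ext e ▸ hs, fun ht => ⟨t, ht, rfl⟩⟩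
    have hle : H' ≤ T := Subgroup.map_subtype_le H
    let lam' : H' →* ℂˣ := lam.comp
      { toFun := fun h => ⟨⟨h, hle h.2⟩, hH' ▸ (Subgroup.mem_subgroupOf.mpr h.2 :
          (⟨h, hle h.2⟩ : T) ∈ H'.subgroupOf T)⟩
        map_one' := rfl
        map_mul' := fun _ _ => rfl }
    refine ⟨H', lam', ?_⟩
    rw [← heq, hl, ← indFun_trans H' T hle (fun h => (lam' h : ℂ)), ← indFun_congr H hH'.symm
      (fun h => (lam h : ℂ))]
    rfl
  · obtain ⟨ψ, hψ, he⟩ := exists_deflate_irr N hχ fun n hn => hn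
    haveI := Fintype.ofFinite (G ⧸ N)
    have hlt : Nat.card (G ⧸ N) < Nat.card G := by
      rw [← N.card_mul_index, Subgroup.index_eq_card]
      refine lt_mul_of_one_lt_left Nat.card_pos ?_
      exact N.one_lt_card_iff_ne_bot.mpr hN
    obtain ⟨H, lam, hl⟩ := ih _ hlt rfl
      (hqe.of_surjective hp (QuotientGroup.mk' N) (QuotientGroup.mk'_surjective N)) hψ
    refine ⟨H.comap (QuotientGroup.mk' N),
      lam.comp ((QuotientGroup.mk' N).subgroupComap H), ?_⟩
    funext g
    rw [← he g, hl]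
    exact (congrFun (indFun_comap (QuotientGroup.mk' N) (QuotientGroup.mk'_surjective N) H
      (fun h => (lam h : ℂ))) g).symm

/-- An invariant linear character of a normal `p'`-subgroup `C` of `G = C P` which is trivial on
the fixed points of `P` is trivial. -/
theorem invariant_linear_eq_one [Finite G] {p : ℕ} [Fact p.Prime] (C P : Subgroup G)
    [hC : C.Normal] (hP : IsPGroup p P) (hcop : (Nat.card C).Coprime p) (f : C →* ℂˣ)
    (hinv : ∀ (g : G), g ∈ P → ∀ c : C,
      f ⟨g * c * g⁻¹, hC.conj_mem (c : G) c.2 g⟩ = f c)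
    (hker : ∀ c : C, (c : G) ∈ Subgroup.centralizer (P : Set G) → f c = 1) (c : C) : f c = 1 := by
  let X := {y : C // f y = f c}
  letI : MulAction P X :=
    { smul := fun t y =>
        ⟨⟨(t : G) * (y.1 : G) * (t : G)⁻¹, hC.conj_mem _ y.1.2 _⟩, (hinv t t.2 y.1).trans y.2⟩
      one_smul := fun y => Subtype.ext (Subtype.ext (by
        show ((1 : P) : G) * (y.1 : G) * ((1 : P) : G)⁻¹ = y.1
        simp))
      mul_smul := fun s t y => Subtype.ext (Subtype.ext (by
        show ((s * t : P) : G) * (y.1 : G) * ((s * t : P) : G)⁻¹ =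
          (s : G) * ((t : G) * (y.1 : G) * (t : G)⁻¹) * (s : G)⁻¹
        simp [mul_assoc])) }
  have hcard : Nat.card X = Nat.card f.ker :=
    Nat.card_congr
      { toFun := fun y => ⟨c⁻¹ * y.1, by rw [MonoidHom.mem_ker, map_mul, map_inv, y.2, inv_mul_cancel]⟩
        invFun := fun z => ⟨c * z.1, by rw [map_mul, z.2, mul_one]⟩
        left_inv := fun y => Subtype.ext (mul_inv_cancel_left c y.1)
        right_inv := fun z => Subtype.ext (inv_mul_cancel_left c z.1) }
  have hnd : ¬ p ∣ Nat.card X := fun h => by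
    have h2 := Nat.dvd_gcd (h.trans (hcard ▸ f.ker.card_subgroup_dvd_card)) (dvd_refl p)
    rw [hcop] at h2
    exact (Fact.out : p.Prime).not_dvd_one h2
  obtain ⟨y, hy⟩ := hP.nonempty_fixed_point_of_prime_not_dvd_card X hnd
  rw [← y.2]
  refine hker _ fun t ht => ?_
  have h := congrArg (fun z : X => ((z.1 : C) : G)) (hy ⟨t, ht⟩)
  change t * (y.1 : G) * t⁻¹ = (y.1 : G) at h
  exact mul_inv_eq_iff_eq_mul.mp h

/-- A quasi-elementary group has a subgroup which is elementary and such that the only linear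
constituent of the permutation character on its cosets is the trivial one. -/
theorem exists_elementary_core [Finite G] {p : ℕ} [Fact p.Prime] (h : IsQuasiElem p G) :
    ∃ E : Subgroup G, IsElementary p E ∧
      ∀ μ : G →* ℂˣ, (∀ e ∈ E, μ e = 1) → μ = 1 := by
  obtain ⟨C, hC, hcyc, hcop, k, hk⟩ := h
  haveI := hcyc
  have hcop' : (Nat.card C).Coprime C.index := by rw [hk]; exact hcop.pow_right k
  obtain ⟨P, hP⟩ := Subgroup.exists_right_complement'_of_coprime hcop'
  have hPcard : Nat.card P = p ^ k := by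
    have h1 := hP.card_mul_card
    rw [← C.card_mul_index, hk] at h1
    exact Nat.eq_of_mul_eq_mul_left Nat.card_pos h1
  have hPp : IsPGroup p P := IsPGroup.of_card hPcard
  set Z := C ⊓ Subgroup.centralizer (P : Set G) with hZ
  have hZc : Z ≤ Subgroup.center G := by
    rintro z ⟨hzC, hzP⟩
    have hle : C ⊔ P ≤ Subgroup.centralizer ({z} : Set G) := by
      refine sup_le (fun a ha => Subgroup.mem_centralizer_singleton_iff.mpr ?_)
        fun a ha => Subgroup.mem_centralizer_singleton_iff.mpr ?_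
      · exact congrArg Subtype.val
          ((inferInstance : IsMulCommutative C).is_comm.comm (⟨a, ha⟩ : C) ⟨z, hzC⟩)
      · exact hzP a ha
    rw [hP.sup_eq_top] at hle
    exact Subgroup.mem_center_iff.mpr fun g =>
      Subgroup.mem_centralizer_singleton_iff.mp (hle (Subgroup.mem_top g))
  haveI hZn : Z.Normal := ⟨fun a ha g => by
    rw [Subgroup.mem_center_iff.mp (hZc ha) g, mul_inv_cancel_right]; exact ha⟩
  haveI : IsCyclic Z := isCyclic_of_injective (Subgroup.inclusion inf_le_left)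
    (Subgroup.inclusion_injective inf_le_left)
  obtain ⟨z, hz⟩ := IsCyclic.exists_generator (α := Z)
  refine ⟨Z ⊔ P, ⟨⟨z, Subgroup.mem_sup_left z.2⟩, ?_, ?_, ?_⟩, fun μ hμ => ?_⟩
  · exact Subgroup.mem_center_iff.mpr fun y =>
      Subtype.ext (Subgroup.mem_center_iff.mp (hZc z.2) y)
  · rw [Subgroup.orderOf_mk, Subgroup.orderOf_coe]
    exact hcop.coprime_dvd_left ((orderOf_dvd_natCard z).trans
      (Subgroup.card_dvd_of_le inf_le_left))
  · have e : Subgroup.zpowers (⟨z, Subgroup.mem_sup_left z.2⟩ : ↥(Z ⊔ P)) =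
        Z.subgroupOf (Z ⊔ P) := by
      ext ⟨a, ha⟩
      rw [Subgroup.mem_subgroupOf, Subgroup.mem_zpowers_iff]
      constructor
      · rintro ⟨n, hn⟩
        rw [← hn]
        exact Subgroup.zpow_mem _ z.2 n
      · intro haZ
        obtain ⟨n, hn⟩ := Subgroup.mem_zpowers_iff.mp (hz ⟨a, haZ⟩)
        exact ⟨n, Subtype.ext (by simpa using congrArg Subtype.val hn)⟩
    have h2 : (Z.subgroupOf (Z ⊔ P)).index ∣ p ^ k := by
      show Z.relIndex (Z ⊔ P) ∣ p ^ k
      rw [sup_comm, Subgroup.relIndex_sup_right, ← hPcard]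
      exact Subgroup.relIndex_dvd_card Z P
    obtain ⟨j, -, hj⟩ := (Nat.dvd_prime_pow (Fact.out : p.Prime)).mp h2
    exact ⟨j, by rw [e, hj]⟩
  · have hC1 : ∀ c : C, μ c = 1 := by
      refine invariant_linear_eq_one C P hPp hcop (μ.comp C.subtype) (fun g _ c => ?_) fun c hc =>
        hμ c (Subgroup.mem_sup_left ⟨c.2, hc⟩)
      show μ (g * c * g⁻¹) = μ c
      rw [map_mul, map_mul, map_inv, mul_right_comm, mul_inv_cancel, one_mul]
    ext g
    have hg : g ∈ C ⊔ P := hP.sup_eq_top ▸ Subgroup.mem_top g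
    have hle : C ⊔ P ≤ μ.ker :=
      sup_le (fun a ha => hC1 ⟨a, ha⟩) fun a ha => hμ a (Subgroup.mem_sup_right ha)
    rw [show μ g = 1 from hle hg, MonoidHom.one_apply]

end Cfsg.Lib.Char
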