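import Cfsg.Agent.Lib.Char.Banaschewski
import Cfsg.Agent.Lib.Char.QuasiElementary
import Mathlib.GroupTheory.Sylow
import Mathlib.GroupTheory.GroupAction.Quotient

/-!
# Brauer's induction theorem

Permutation characters on quasi-elementary subgroups (Solomon), and Brauer's theorem with its
local version.
-/

set_option autoImplicit false
set_option linter.unusedSectionVars false
set_option linter.style.haveILetI false

namespace Cfsg.Lib.Char

open Cfsg
open scoped ComplexConjugate

universe u v

variable {G : Type u} [Group G]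

/-- The number of fixed points of a group element in a `G`-set. -/
noncomputable def fixCount (X : Type v) [MulAction G X] (g : G) : ℤ :=
  (Nat.card {x : X // g • x = x} : ℤ)

theorem fixCount_eq_sum [Finite G] (X : Type v) [MulAction G X] [Finite X]
    [Fintype (MulAction.orbitRel.Quotient G X)] (g : G) :
    fixCount X g =
      ∑ w : MulAction.orbitRel.Quotient G X, fixCount (G ⧸ MulAction.stabilizer G w.out) g := by
  simp only [fixCount, ← Nat.cast_sum, ← Nat.card_sigma]
  norm_cast
  refine (Nat.card_congr (Equiv.ofBijective (fun a =>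
    (⟨MulAction.ofQuotientStabilizer G a.1.out a.2.1, by
      rw [← MulAction.ofQuotientStabilizer_smul, a.2.2]⟩ : {x : X // g • x = x})) ⟨?_, ?_⟩)).symm
  · rintro ⟨w, c, hc⟩ ⟨w', c', hc'⟩ h
    simp only [Subtype.mk.injEq] at h
    have hw : w = w' := by
      revert h
      induction c using QuotientGroup.induction_on with
      | _ a =>
      induction c' using QuotientGroup.induction_on with
      | _ a' =>
      intro h
      rw [MulAction.ofQuotientStabilizer_mk, MulAction.ofQuotientStabilizer_mk] at h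
      rw [← Quotient.out_eq w, ← Quotient.out_eq w']
      refine Quotient.sound ((MulAction.orbitRel_apply).mpr ⟨a⁻¹ * a', ?_⟩)
      show (a⁻¹ * a') • w'.out = w.out
      rw [mul_smul, ← h, inv_smul_smul]
    subst hw
    obtain rfl := MulAction.injective_ofQuotientStabilizer G w.out h
    rfl
  · rintro ⟨x, hx⟩
    set w : MulAction.orbitRel.Quotient G X := Quotient.mk'' x
    obtain ⟨a, ha⟩ : x ∈ MulAction.orbit G w.out := MulAction.orbitRel_apply.mp
      ((MulAction.orbitRel G X).symm' (Quotient.mk_out (s := MulAction.orbitRel G X) x))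
    have ha' : MulAction.ofQuotientStabilizer G w.out (QuotientGroup.mk a) = x := ha
    refine ⟨⟨w, QuotientGroup.mk a, ?_⟩, Subtype.ext ha'⟩
    apply MulAction.injective_ofQuotientStabilizer G w.out
    rw [MulAction.ofQuotientStabilizer_smul, ha', hx]

theorem smul_mk_eq_iff (H : Subgroup G) (g z : G) :
    g • (QuotientGroup.mk z : G ⧸ H) = QuotientGroup.mk z ↔ z⁻¹ * g * z ∈ H := by
  rw [MulAction.Quotient.smul_mk, QuotientGroup.eq, ← H.inv_mem_iff]
  simp [mul_assoc]

theorem indFun_one_eq_fixCount [Fintype G] (H : Subgroup G) (g : G) :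
    indFun H (fun _ => 1) g = (fixCount (G ⧸ H) g : ℂ) := by
  classical
  have h1 : ∀ x : G, extendByZero H (fun _ => (1 : ℂ)) (x⁻¹ * g * x) =
      if g • (QuotientGroup.mk x : G ⧸ H) = QuotientGroup.mk x then 1 else 0 := by
    intro x
    by_cases hx : x⁻¹ * g * x ∈ H
    · rw [extendByZero_of_mem _ _ hx, if_pos ((smul_mk_eq_iff H g x).mpr hx)]
    · rw [extendByZero_of_notMem _ _ hx, if_neg (mt (smul_mk_eq_iff H g x).mp hx)]
  simp only [indFun, h1, Finset.sum_boole, fixCount, Int.cast_natCast]
  have h2 : (Finset.univ.filter fun x : G =>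
      g • (QuotientGroup.mk x : G ⧸ H) = QuotientGroup.mk x).card =
      Nat.card (QuotientGroup.mk (s := H) ⁻¹' {c : G ⧸ H | g • c = c}) := by
    rw [← Nat.card_eq_finsetCard]
    exact Nat.card_congr (Equiv.subtypeEquivRight fun x => by
      rw [Finset.mem_filter]; exact ⟨fun h => h.2, fun h => ⟨Finset.mem_univ _, h⟩⟩)
  rw [h2, Nat.card_congr (QuotientGroup.preimageMkEquivSubgroupProdSet _ _), Nat.card_prod,
    Nat.cast_mul, inv_mul_cancel_left₀ (Nat.cast_ne_zero.2 Nat.card_pos.ne')]
  rfl

/-- The `ℤ`-span of the permutation characters on cosets of quasi-elementary subgroups. -/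
noncomputable def qePermSpan (p : ℕ) (G : Type u) [Group G] : AddSubgroup (G → ℤ) :=
  AddSubgroup.closure {f | ∃ H : Subgroup G, IsQuasiElem p H ∧ f = fixCount (G ⧸ H)}

theorem fixCount_mem_qePermSpan [Finite G] {p : ℕ} (X : Type v) [MulAction G X] [Finite X]
    (h : ∀ x : X, IsQuasiElem p (MulAction.stabilizer G x)) : fixCount X ∈ qePermSpan p G := by
  classical
  haveI := Fintype.ofFinite (MulAction.orbitRel.Quotient G X)
  have e : fixCount (G := G) X = ∑ w : MulAction.orbitRel.Quotient G X,
      fixCount (G ⧸ MulAction.stabilizer G w.out) := by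
    funext g
    rw [fixCount_eq_sum, Finset.sum_apply]
  rw [e]
  exact AddSubgroup.sum_mem _ fun w _ => AddSubgroup.subset_closure ⟨_, h w.out, rfl⟩

theorem qePermSpan_mul [Finite G] {p : ℕ} (hp : p.Prime) :
    ∀ f ∈ qePermSpan p G, ∀ f' ∈ qePermSpan p G, f * f' ∈ qePermSpan p G := by
  intro f hf f' hf'
  induction hf using AddSubgroup.closure_induction with
  | zero => simp
  | add a b _ _ ha hb => rw [add_mul]; exact AddSubgroup.add_mem _ ha hb
  | neg a _ ha => rw [neg_mul]; exact AddSubgroup.neg_mem _ ha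
  | mem a ha =>
    obtain ⟨H, hH, rfl⟩ := ha
    induction hf' using AddSubgroup.closure_induction with
    | zero => simp
    | add c d _ _ hc hd => rw [mul_add]; exact AddSubgroup.add_mem _ hc hd
    | neg c _ hc => rw [mul_neg]; exact AddSubgroup.neg_mem _ hc
    | mem c hc =>
      obtain ⟨K, -, rfl⟩ := hc
      have e : fixCount (G ⧸ H) * fixCount (G := G) (G ⧸ K) =
          fixCount ((G ⧸ H) × (G ⧸ K)) := by
        funext g
        simp only [Pi.mul_apply, fixCount, ← Nat.cast_mul, ← Nat.card_prod]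
        congr 1
        exact Nat.card_congr (Equiv.trans Equiv.subtypeProdEquivProd.symm
          (Equiv.subtypeEquivRight fun x => by rw [Prod.ext_iff]; rfl))
      rw [e]
      refine fixCount_mem_qePermSpan _ fun x => ?_
      obtain ⟨z, hz⟩ := QuotientGroup.mk_surjective x.1
      have hmem : ∀ y : MulAction.stabilizer G x, z⁻¹ * (y : G) * z ∈ H := fun y => by
        have hy := congrArg Prod.fst (y.2 : (y : G) • x = x)
        rw [Prod.smul_fst, ← hz] at hy
        exact (smul_mk_eq_iff H _ z).mp hy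
      refine hH.of_injective hp
        { toFun := fun y => ⟨z⁻¹ * (y : G) * z, hmem y⟩
          map_one' := Subtype.ext (by simp)
          map_mul' := fun a b => Subtype.ext (by simp [mul_assoc]) } fun a b e => Subtype.ext ?_
      have := congrArg Subtype.val e
      simpa using this

/-- At each element some quasi-elementary permutation character is not divisible by `p`. -/
theorem exists_quasiElem_not_dvd [Finite G] (x : G) {p : ℕ} (hp : p.Prime) :
    ∃ (H C : Subgroup G), C ≤ H ∧ H ≤ Subgroup.normalizer (C : Set G) ∧ IsCyclic C ∧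
      (Nat.card C).Coprime p ∧ (∃ k : ℕ, C.relIndex H = p ^ k) ∧
      ¬ (p : ℤ) ∣ fixCount (G ⧸ H) x := by
  classical
  haveI := Fact.mk hp
  -- split `x` into its `p`-part `u` and its `p'`-part `y`
  obtain ⟨u, y, hux, hcomm, ⟨a, hu⟩, hy⟩ : ∃ u y : G, u * y = x ∧ Commute u y ∧
      (∃ a, orderOf u = p ^ a) ∧ ¬ p ∣ orderOf y := by
    obtain ⟨a, m, hpm, hm⟩ := Nat.exists_eq_pow_mul_and_not_dvd (orderOf_pos x).ne' p hp.ne_one
    have hco : (p ^ a).Coprime m := ((hp.coprime_iff_not_dvd).mpr hpm).pow_left a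
    obtain ⟨b, c, hbc⟩ := Nat.isCoprime_iff_coprime.mpr hco
    refine ⟨x ^ (c * (m : ℤ)), x ^ (b * (p ^ a : ℕ) : ℤ), ?_, (Commute.refl x).zpow_zpow _ _, ?_, ?_⟩
    · rw [← zpow_add, add_comm, hbc, zpow_one]
    · have h1 : (x ^ (c * (m : ℤ))) ^ (p ^ a) = 1 := by
        rw [← zpow_natCast, ← zpow_mul, mul_assoc, show ((m : ℤ) * (p ^ a : ℕ)) = (orderOf x : ℤ) by
          rw [hm]; push_cast; ring, mul_comm, zpow_mul, zpow_natCast, pow_orderOf_eq_one, one_zpow]
      obtain ⟨j, -, hj⟩ := (Nat.dvd_prime_pow hp).mp (orderOf_dvd_of_pow_eq_one h1)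
      exact ⟨j, hj⟩
    · intro hd
      have h1 : (x ^ (b * (p ^ a : ℕ) : ℤ)) ^ m = 1 := by
        rw [← zpow_natCast, ← zpow_mul, mul_assoc, show (((p ^ a : ℕ) : ℤ) * m) = (orderOf x : ℤ) by
          rw [hm]; push_cast; ring, mul_comm, zpow_mul, zpow_natCast, pow_orderOf_eq_one, one_zpow]
      exact hpm (hd.trans (orderOf_dvd_of_pow_eq_one h1))
  set C := Subgroup.zpowers y with hC
  set N := Subgroup.normalizer (C : Set G) with hN
  obtain ⟨S⟩ : Nonempty (Sylow p N) := inferInstance
  set P := (S : Subgroup N).map N.subtype with hP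
  have hPN : P ≤ N := Subgroup.map_subtype_le _
  set H := C ⊔ P with hH
  have hHN : H ≤ N := sup_le Subgroup.le_normalizer hPN
  have hPp : IsPGroup p P := S.isPGroup'.map _
  obtain ⟨k, hk⟩ := IsPGroup.iff_card.mp hPp
  have hCc : (Nat.card C).Coprime p := by
    rw [Nat.card_zpowers, Nat.coprime_comm]
    exact hp.coprime_iff_not_dvd.mpr hy
  have hrel : ∃ j, C.relIndex H = p ^ j := by
    haveI : (C.subgroupOf N).Normal := Subgroup.normal_in_normalizer
    have h1 : C.relIndex H ∣ p ^ k := by
      rw [← hk]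
      have e : C.relIndex H = (C.subgroupOf N).relIndex (H.subgroupOf N) :=
        (Subgroup.relIndex_subgroupOf hHN).symm
      rw [e, hH, Subgroup.subgroupOf_sup Subgroup.le_normalizer hPN, sup_comm,
        Subgroup.relIndex_sup_right, ← Nat.card_congr (Subgroup.subgroupOfEquivOfLe hPN).toEquiv]
      exact Subgroup.relIndex_dvd_card _ _
    obtain ⟨j, -, hj⟩ := (Nat.dvd_prime_pow hp).mp h1
    exact ⟨j, hj⟩
  refine ⟨H, C, le_sup_left, hHN, inferInstance, hCc, hrel, fun hd => ?_⟩
  obtain ⟨j, hj⟩ := hrel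
  -- elements of order prime to `p` in `H` lie in `C`
  have hmemC : ∀ h ∈ H, ¬ p ∣ orderOf h → h ∈ C := by
    intro h hh hord
    haveI : (C.subgroupOf H).Normal := Subgroup.normal_subgroupOf_of_le_normalizer hHN
    have h1 : (⟨h, hh⟩ : H) ^ (p ^ j) ∈ C.subgroupOf H := by
      rw [← hj]; exact Subgroup.pow_index_mem (C.subgroupOf H) _
    rw [Subgroup.mem_subgroupOf] at h1
    simp only [SubmonoidClass.coe_pow] at h1
    obtain ⟨r, hr⟩ := exists_pow_eq_self_of_coprime (x := h) (n := p ^ j)
      (((hp.coprime_iff_not_dvd).mpr hord).pow_left j)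
    rw [← hr]
    exact pow_mem h1 r
  let F := {c : G ⧸ H // y • c = c}
  have hF : ∀ z : G, y • (QuotientGroup.mk z : G ⧸ H) = QuotientGroup.mk z ↔ z ∈ N := by
    intro z
    rw [smul_mk_eq_iff]
    constructor
    · intro hz
      have h1 : z⁻¹ * y * z ∈ C := hmemC _ hz (by
        rw [show z⁻¹ * y * z = z⁻¹ * y * z⁻¹⁻¹ by group]
        rwa [show orderOf (z⁻¹ * y * z⁻¹⁻¹) = orderOf y from (MulAut.conj z⁻¹).orderOf_eq y])
      have e : C.map (MulAut.conj z⁻¹).toMonoidHom = C := by
        refine Subgroup.eq_of_le_of_card_ge ?_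
          (Subgroup.card_map_of_injective (MulAut.conj z⁻¹).injective).ge
        rw [hC, MonoidHom.map_zpowers, Subgroup.zpowers_le]
        simpa using h1
      rw [← inv_mem_iff, hN, Subgroup.mem_normalizer_iff]
      intro h
      constructor
      · intro hh
        rw [← e]
        exact ⟨h, hh, by simp⟩
      · intro hh
        rw [← e] at hh
        obtain ⟨h', hh', he⟩ := hh
        simp at he
        rwa [← he]
    · intro hz
      exact le_sup_left (a := C) (by
        have := (Subgroup.mem_normalizer_iff.mp (inv_mem hz) y).mp (Subgroup.mem_zpowers y)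
        simpa using this)
  have hcardF : Nat.card F = H.relIndex N := by
    have h1 : Nat.card (QuotientGroup.mk (s := H) ⁻¹' {c : G ⧸ H | y • c = c}) = Nat.card N :=
      Nat.card_congr (Equiv.subtypeEquivRight fun z => hF z)
    rw [Nat.card_congr (QuotientGroup.preimageMkEquivSubgroupProdSet _ _), Nat.card_prod,
      ← Subgroup.card_mul_index (H.subgroupOf N),
      Nat.card_congr (Subgroup.subgroupOfEquivOfLe hHN).toEquiv] at h1
    exact Nat.eq_of_mul_eq_mul_left Nat.card_pos h1
  have hnd : ¬ p ∣ Nat.card F := by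
    rw [hcardF]
    intro h
    apply S.not_dvd_index
    refine h.trans ?_
    have h1 : P.relIndex N = (S : Subgroup N).index := by
      rw [hP, Subgroup.relIndex, Subgroup.subgroupOf,
        Subgroup.comap_map_eq_self_of_injective N.subtype_injective]
    rw [← h1]
    exact Subgroup.relIndex_dvd_of_le_left N le_sup_right
  have hcomm' : Commute u y := hcomm
  let U := Subgroup.zpowers u
  letI : MulAction U F :=
    { smul := fun t c => ⟨(t : G) • c.1, by
        have hty : Commute y (t : G) := by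
          obtain ⟨n, hn⟩ := Subgroup.mem_zpowers_iff.mp t.2
          rw [← hn]; exact hcomm'.symm.zpow_right n
        rw [← mul_smul, hty.eq, mul_smul, c.2]⟩
      one_smul := fun c => Subtype.ext (one_smul G c.1)
      mul_smul := fun s t c => Subtype.ext (mul_smul (s : G) t c.1) }
  have hU : IsPGroup p U := IsPGroup.of_card (n := a) (by rw [Nat.card_zpowers, hu])
  have hmod := hU.card_modEq_card_fixedPoints F
  apply hnd
  have hfix : Nat.card (MulAction.fixedPoints U F) = Nat.card {c : G ⧸ H // x • c = c} := by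
    refine Nat.card_congr
      { toFun := fun c => ⟨c.1.1, ?_⟩
        invFun := fun c => ⟨⟨c.1, ?_⟩, ?_⟩
        left_inv := fun c => rfl
        right_inv := fun c => rfl }
    · have h1 := congrArg Subtype.val (c.2 ⟨u, Subgroup.mem_zpowers u⟩)
      change u • c.1.1 = c.1.1 at h1
      rw [← hux, mul_smul, c.1.2, h1]
    · obtain ⟨n, hn⟩ : y ∈ Subgroup.zpowers x := by
        have : Subgroup.zpowers y ≤ Subgroup.zpowers x := by
          rw [Subgroup.zpowers_le]
          have hco : (orderOf u).Coprime (orderOf y) := by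
            rw [hu]; exact ((hp.coprime_iff_not_dvd).mpr hy).pow_left a
          obtain ⟨r, hr⟩ := exists_pow_eq_self_of_coprime (x := y) hco
          refine ⟨((orderOf u * r : ℕ) : ℤ), ?_⟩
          show x ^ ((orderOf u * r : ℕ) : ℤ) = y
          rw [zpow_natCast, ← hux, hcomm.mul_pow, pow_mul, pow_orderOf_eq_one, one_pow, one_mul,
            pow_mul, hr]
        exact this (Subgroup.mem_zpowers y)
      rw [← hn]
      exact MulAction.mem_stabilizer_iff.mp (Subgroup.zpow_mem _
        (MulAction.mem_stabilizer_iff.mpr c.2) n)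
    · rintro ⟨t, ht⟩
      obtain ⟨n, rfl⟩ := Subgroup.mem_zpowers_iff.mp ht
      refine Subtype.ext ?_
      show u ^ n • c.1 = c.1
      have hu' : u ∈ MulAction.stabilizer G c.1 := by
        have hy' : y ∈ MulAction.stabilizer G c.1 := by
          obtain ⟨r, hr⟩ := exists_pow_eq_self_of_coprime (x := y) (n := orderOf u)
            (by rw [hu]; exact ((hp.coprime_iff_not_dvd).mpr hy).pow_left a)
          rw [← hr, ← pow_mul, show y ^ (orderOf u * r) = x ^ (orderOf u * r) by
            rw [← hux, hcomm.mul_pow, pow_mul u, pow_orderOf_eq_one, one_pow, one_mul]]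
          exact Subgroup.pow_mem _ (MulAction.mem_stabilizer_iff.mpr c.2) _
        have h2 := Subgroup.mul_mem _ (MulAction.mem_stabilizer_iff.mpr c.2) (inv_mem hy')
        have e : x * y⁻¹ = u := by rw [← hux, mul_inv_cancel_right]
        exact e ▸ h2
      exact MulAction.mem_stabilizer_iff.mp (Subgroup.zpow_mem _ hu' n)
  have h0 : p ∣ Nat.card (MulAction.fixedPoints U F) := by
    rw [hfix]
    exact Int.natCast_dvd_natCast.mp hd
  exact Nat.modEq_zero_iff_dvd.mp (hmod.trans (Nat.modEq_zero_iff_dvd.mpr h0))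

theorem isQuasiElem_of_subgroup {p : ℕ} (H C : Subgroup G) (hCH : C ≤ H)
    (hn : H ≤ Subgroup.normalizer (C : Set G)) (hcyc : IsCyclic C) (hco : (Nat.card C).Coprime p)
    (hrel : ∃ k : ℕ, C.relIndex H = p ^ k) : IsQuasiElem p H :=
  ⟨C.subgroupOf H, Subgroup.normal_subgroupOf_of_le_normalizer hn,
    haveI := hcyc; isCyclic_of_surjective (Subgroup.subgroupOfEquivOfLe hCH).symm.toMonoidHom
      (Subgroup.subgroupOfEquivOfLe hCH).symm.surjective,
    by rwa [Nat.card_congr (Subgroup.subgroupOfEquivOfLe hCH).toEquiv], hrel⟩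

theorem exists_of_isQuasiElem {p : ℕ} (H : Subgroup G) (h : IsQuasiElem p H) :
    ∃ C : Subgroup G, C ≤ H ∧ H ≤ Subgroup.normalizer (C : Set G) ∧ IsCyclic C ∧
      (Nat.card C).Coprime p ∧ ∃ k : ℕ, C.relIndex H = p ^ k := by
  obtain ⟨C, hC, hcyc, hco, k, hk⟩ := h
  have e : (C.map H.subtype).subgroupOf H = C := by
    rw [Subgroup.subgroupOf, Subgroup.comap_map_eq_self_of_injective H.subtype_injective]
  refine ⟨C.map H.subtype, Subgroup.map_subtype_le C, ?_, ?_, ?_, k, ?_⟩
  · haveI : ((C.map H.subtype).subgroupOf H).Normal := by rw [e]; exact hC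
    exact Subgroup.normal_subgroupOf_iff_le_normalizer (Subgroup.map_subtype_le C) |>.mp inferInstance
  · haveI := hcyc
    exact isCyclic_of_surjective (H.subtype.subgroupMap C) (H.subtype.subgroupMap_surjective C)
  · rwa [Subgroup.card_map_of_injective H.subtype_injective]
  · rw [Subgroup.relIndex, e, hk]

/-- Solomon's local theorem. -/
theorem exists_const_mem_qePermSpan [Finite G] {p : ℕ} (hp : p.Prime) :
    ∃ m : ℤ, ¬ (p : ℤ) ∣ m ∧ (fun _ => m) ∈ qePermSpan p G := by
  refine banaschewski_local _ (qePermSpan_mul hp) hp fun x => ?_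
  obtain ⟨H, C, h1, h2, h3, h4, h5, h6⟩ := exists_quasiElem_not_dvd x hp
  exact ⟨_, AddSubgroup.subset_closure ⟨H, isQuasiElem_of_subgroup H C h1 h2 h3 h4 h5, rfl⟩, h6⟩

/-- The `ℤ`-span of the functions induced from linear characters of subgroups which are elementary
for some prime in `S`. -/
noncomputable def elemLin (S : Set ℕ) (G : Type u) [Group G] [Fintype G] : AddSubgroup (G → ℂ) :=
  AddSubgroup.closure {f | ∃ E : Subgroup G, (∃ p ∈ S, p.Prime ∧ IsElementary p E) ∧
    ∃ lam : E →* ℂˣ, f = indFun E fun e => (lam e : ℂ)}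

variable {S : Set ℕ}

theorem elemLin_mono [Fintype G] {T : Set ℕ} (h : S ⊆ T) : elemLin S G ≤ elemLin T G :=
  AddSubgroup.closure_mono fun _ ⟨E, ⟨p, hpS, hp⟩, hE⟩ => ⟨E, ⟨p, h hpS, hp⟩, hE⟩

theorem indFun_mem_elemLin [Fintype G] (K : Subgroup G) [Fintype K] {θ : K → ℂ}
    (h : θ ∈ elemLin S K) : indFun K θ ∈ elemLin S G := by
  induction h using AddSubgroup.closure_induction with
  | zero => rw [indFun_zero]; exact AddSubgroup.zero_mem _
  | add a b _ _ ha hb => rw [indFun_add]; exact AddSubgroup.add_mem _ ha hb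
  | neg a _ ha => rw [indFun_neg]; exact AddSubgroup.neg_mem _ ha
  | mem a ha =>
    obtain ⟨E, ⟨p, hpS, hp, hE⟩, lam, rfl⟩ := ha
    have hle : E.map K.subtype ≤ K := Subgroup.map_subtype_le E
    have e : (E.map K.subtype).subgroupOf K = E := by
      rw [Subgroup.subgroupOf, Subgroup.comap_map_eq_self_of_injective K.subtype_injective]
    let ι : ↥(E.map K.subtype) ≃* E :=
      (E.equivMapOfInjective K.subtype K.subtype_injective).symm
    refine AddSubgroup.subset_closure ⟨E.map K.subtype,
      ⟨p, hpS, hp, isElementary_of_mulEquiv ι.symm hE⟩, lam.comp ι.toMonoidHom, ?_⟩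
    rw [← indFun_trans (E.map K.subtype) K hle, ← indFun_congr E e.symm]
    congr 2
    funext k
    simp only [MonoidHom.coe_comp, MulEquiv.coe_toMonoidHom, Function.comp_apply]
    congr 2
    apply ι.symm.injective
    rw [MulEquiv.symm_apply_apply]
    exact Subtype.ext rfl

theorem mul_linear_mem_elemLin [Fintype G] {f : G → ℂ} (h : f ∈ elemLin S G) (μ : G →* ℂˣ) :
    (fun g => f g * (μ g : ℂ)) ∈ elemLin S G := by
  induction h using AddSubgroup.closure_induction with
  | zero => simp only [Pi.zero_apply, zero_mul]; exact AddSubgroup.zero_mem _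
  | add a b _ _ ha hb =>
    simp only [Pi.add_apply, add_mul]
    exact AddSubgroup.add_mem _ ha hb
  | neg a _ ha =>
    simp only [Pi.neg_apply, neg_mul]
    exact AddSubgroup.neg_mem _ ha
  | mem a ha =>
    obtain ⟨E, hE, lam, rfl⟩ := ha
    refine AddSubgroup.subset_closure ⟨E, hE, lam * μ.comp E.subtype, ?_⟩
    rw [← indFun_mul E (fun e => (lam e : ℂ)) (isCharacter_linear' μ).isClassFunction]
    simp
where
  isCharacter_linear' (μ : G →* ℂˣ) : IsCharacter G fun g => (μ g : ℂ) :=
    (isIrrCharacter_linear μ).isCharacter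

/-- On a quasi-elementary group the trivial character is in the span. -/
theorem one_mem_elemLin_of_quasiElem {p : ℕ} (hp : p.Prime) (hpS : p ∈ S) :
    ∀ (n : ℕ) {G : Type u} [Group G] [Fintype G], Nat.card G = n → IsQuasiElem p G →
      (fun _ : G => (1 : ℂ)) ∈ elemLin S G := by
  intro n
  induction n using Nat.strong_induction_on with
  | _ n ih =>
  intro G _ _ hn hqe
  subst hn
  classical
  haveI := Fact.mk hp
  obtain ⟨E, hE, hμ⟩ := exists_elementary_core hqe
  haveI := Fintype.ofFinite E
  set Ψ := indFun E fun e => ((1 : E →* ℂˣ) e : ℂ) with hΨ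
  have hΨmem : Ψ ∈ elemLin S G :=
    AddSubgroup.subset_closure ⟨E, ⟨p, hpS, hp, hE⟩, 1, rfl⟩
  have hΨc : IsCharacter G Ψ := isCharacter_indFun E (isIrrCharacter_linear _).isCharacter
  let one : IrrCharacter G := ⟨fun _ => 1, isIrrCharacter_one⟩
  have hcoef : classInner Ψ (one : G → ℂ) = 1 := by
    rw [hΨ, classInner_indFun E _ isIrrCharacter_one.isClassFunction]
    simp [classInner, Nat.card_eq_fintype_card]
  have hexp := eq_sum_classInner hΨc.isClassFunction
  rw [← Finset.add_sum_erase _ _ (Finset.mem_univ one), hcoef, one_smul] at hexp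
  rw [show (fun _ : G => (1 : ℂ)) = (one : G → ℂ) from rfl, eq_sub_of_add_eq hexp.symm]
  refine AddSubgroup.sub_mem _ hΨmem (AddSubgroup.sum_mem _ fun χ hχ => ?_)
  obtain ⟨c, hc⟩ := hΨc.exists_nat_classInner χ.2.isCharacter
  rw [hc, Nat.cast_smul_eq_nsmul ℂ]
  rcases eq_or_ne c 0 with rfl | hc0
  · rw [zero_smul]; exact AddSubgroup.zero_mem _
  refine AddSubgroup.nsmul_mem _ ?_ c
  obtain ⟨H, lam, hl⟩ := exists_monomial_of_quasiElem hp _ rfl hqe χ.2
  haveI := Fintype.ofFinite H
  have hH : H ≠ ⊤ := by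
    intro hH
    apply (Finset.mem_erase.mp hχ).1
    have h1 : (χ : G → ℂ) 1 = 1 := by
      rw [hl, indFun_apply_one, Subgroup.index_eq_one.mpr hH]
      simp
    obtain ⟨μ, hμ'⟩ := exists_hom_of_degree_one χ.2.isCharacter h1
    have htriv : ∀ e ∈ E, μ e = 1 := by
      have h2 : classInner (fun e : E => ((1 : E →* ℂˣ) e : ℂ))
          (fun e : E => (χ : G → ℂ) e) ≠ 0 := by
        rw [← classInner_indFun E _ χ.2.isClassFunction, ← hΨ, hc]
        exact_mod_cast hc0
      intro e he
      by_contra hne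
      apply h2
      refine classInner_irr_ne (isIrrCharacter_linear _) ?_ fun h3 => hne ?_
      · rw [hμ']; exact isIrrCharacter_linear (μ.comp E.subtype)
      · have h4 := congrFun h3 ⟨e, he⟩
        simp [hμ'] at h4
        exact Units.ext h4.symm
    apply Subtype.ext
    rw [hμ', hμ μ htriv]
    simp [one]
  have hlt : Nat.card H < Nat.card G := by
    rw [← H.card_mul_index]
    refine lt_mul_of_one_lt_right Nat.card_pos ?_
    have h0 : H.index ≠ 0 := Subgroup.index_ne_zero_of_finite
    have h1 : H.index ≠ 1 := fun e => hH (Subgroup.index_eq_one.mp e)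
    omega
  rw [hl]
  apply indFun_mem_elemLin
  have := mul_linear_mem_elemLin (ih _ hlt rfl (hqe.to_subgroup hp H)) lam
  simpa using this

/-- Every character of a quasi-elementary group is in the span. -/
theorem char_mem_elemLin_of_quasiElem [Fintype G] {p : ℕ} (hp : p.Prime) (hpS : p ∈ S)
    (hqe : IsQuasiElem p G) {χ : G → ℂ} (hχ : IsCharacter G χ) : χ ∈ elemLin S G := by
  obtain ⟨s, rfl⟩ := hχ.exists_multiset
  refine AddSubgroup.multiset_sum_mem _ _ fun f hf => ?_
  obtain ⟨ψ, -, rfl⟩ := Multiset.mem_map.mp hf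
  obtain ⟨H, lam, hl⟩ := exists_monomial_of_quasiElem hp _ rfl hqe ψ.2
  haveI := Fintype.ofFinite H
  rw [hl]
  apply indFun_mem_elemLin
  have := mul_linear_mem_elemLin
    (one_mem_elemLin_of_quasiElem hp hpS _ rfl (hqe.to_subgroup hp H)) lam
  simpa using this

theorem qePermSpan_mul_char [Fintype G] {p : ℕ} (hp : p.Prime) (hpS : p ∈ S) {f : G → ℤ}
    (hf : f ∈ qePermSpan p G) {χ : G → ℂ} (hχ : IsCharacter G χ) :
    (fun g => (f g : ℂ) * χ g) ∈ elemLin S G := by
  induction hf using AddSubgroup.closure_induction with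
  | zero => simp only [Pi.zero_apply, Int.cast_zero, zero_mul]; exact AddSubgroup.zero_mem _
  | add a b _ _ ha hb =>
    simp only [Pi.add_apply, Int.cast_add, add_mul]
    exact AddSubgroup.add_mem _ ha hb
  | neg a _ ha =>
    simp only [Pi.neg_apply, Int.cast_neg, neg_mul]
    exact AddSubgroup.neg_mem _ ha
  | mem a ha =>
    obtain ⟨H, hH, rfl⟩ := ha
    haveI := Fintype.ofFinite H
    simp only [← indFun_one_eq_fixCount]
    rw [← indFun_mul H (fun _ => (1 : ℂ)) hχ.isClassFunction]
    simp only [one_mul]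
    exact indFun_mem_elemLin H (char_mem_elemLin_of_quasiElem hp hpS hH (hχ.comp H.subtype))

/-- Brauer's local induction theorem. -/
theorem exists_const_mem_elemLin [Fintype G] {p : ℕ} (hp : p.Prime) :
    ∃ m : ℤ, ¬ (p : ℤ) ∣ m ∧ (fun _ : G => (m : ℂ)) ∈ elemLin {p} G := by
  obtain ⟨m, hm, hmem⟩ := exists_const_mem_qePermSpan (G := G) hp
  exact ⟨m, hm, by simpa using
    qePermSpan_mul_char hp (Set.mem_singleton p) hmem (isCharacter_one (G := G))⟩

/-- Brauer's induction theorem. -/
theorem char_mem_elemLin [Fintype G] {χ : G → ℂ} (hχ : IsCharacter G χ) :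
    χ ∈ elemLin {p | p.Prime} G := by
  let I : AddSubgroup ℤ :=
    { carrier := {m | (fun g => (m : ℂ) * χ g) ∈ elemLin {p | p.Prime} G}
      zero_mem' := by
        simp only [Set.mem_ofPred_eq, Int.cast_zero, zero_mul]
        exact AddSubgroup.zero_mem _
      add_mem' := fun {a b} ha hb => by
        simp only [Set.mem_ofPred_eq, Int.cast_add, add_mul] at *
        exact AddSubgroup.add_mem _ ha hb
      neg_mem' := fun {a} ha => by
        simp only [Set.mem_ofPred_eq, Int.cast_neg, neg_mul] at *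
        exact AddSubgroup.neg_mem _ ha }
  have h1 : (1 : ℤ) ∈ I := by
    refine one_mem_of_forall_prime I fun p hp => ?_
    obtain ⟨m, hm, hmem⟩ := exists_const_mem_qePermSpan (G := G) hp
    exact ⟨m, qePermSpan_mul_char (S := {q | q.Prime}) hp hp hmem hχ, hm⟩
  have h2 : (fun g => ((1 : ℤ) : ℂ) * χ g) ∈ elemLin {p | p.Prime} G := h1
  simpa using h2

/-- Elements of the span as explicit lists. -/
theorem exists_list_of_mem_elemLin [Fintype G] {f : G → ℂ} (hf : f ∈ elemLin S G) :
    ∃ l : List ((E : Subgroup G) × ((E →* ℂˣ) × ℤ)),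
      (∀ t ∈ l, ∃ p ∈ S, p.Prime ∧ IsElementary p t.1) ∧
      f = (l.map fun t => (t.2.2 : ℂ) • indFun t.1 (fun e => (t.2.1 e : ℂ))).sum := by
  induction hf using AddSubgroup.closure_induction with
  | zero => exact ⟨[], by simp, by simp⟩
  | mem a ha =>
    obtain ⟨E, hE, lam, rfl⟩ := ha
    exact ⟨[⟨E, lam, 1⟩], by simpa using hE, by simp⟩
  | add a b _ _ ha hb =>
    obtain ⟨l, hl, rfl⟩ := ha
    obtain ⟨l', hl', rfl⟩ := hb
    exact ⟨l ++ l', fun t ht => (List.mem_append.mp ht).elim (hl t) (hl' t), by simp⟩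
  | neg a _ ha =>
    obtain ⟨l, hl, rfl⟩ := ha
    refine ⟨l.map fun t => ⟨t.1, t.2.1, -t.2.2⟩, fun t ht => ?_, ?_⟩
    · obtain ⟨s, hs, rfl⟩ := List.mem_map.mp ht
      exact hl s hs
    · rw [List.map_map, List.sum_neg, List.map_map]
      refine congrArg List.sum (List.map_congr_left fun t _ => ?_)
      simp

/-- Brauer's characterisation of generalized characters. -/
theorem isGeneralizedCharacter_of_elementary [Fintype G] {θ : G → ℂ} (hθ : IsClassFunction G θ)
    (hE : ∀ (E : Subgroup G) (p : ℕ), p.Prime → IsElementary p E →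
      IsGeneralizedCharacter E fun e : E => θ e) : IsGeneralizedCharacter G θ := by
  have key : ∀ f ∈ elemLin {p | p.Prime} G, IsGeneralizedCharacter G fun g => f g * θ g := by
    intro f hf
    induction hf using AddSubgroup.closure_induction with
    | zero => simp only [Pi.zero_apply, zero_mul]; exact isGeneralizedCharacter_zero
    | add a b _ _ ha hb => simp only [Pi.add_apply, add_mul]; exact ha.add hb
    | neg a _ ha => simp only [Pi.neg_apply, neg_mul]; exact ha.neg
    | mem a ha =>
      obtain ⟨E, ⟨p, -, hp, hel⟩, lam, rfl⟩ := ha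
      haveI := Fintype.ofFinite E
      rw [← indFun_mul E (fun e => (lam e : ℂ)) hθ]
      exact isGeneralizedCharacter_indFun E
        ((isIrrCharacter_linear lam).isGeneralized.mul (hE E p hp hel))
  simpa using key _ (char_mem_elemLin (isCharacter_one (G := G)))

end Cfsg.Lib.Char
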