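import Cfsg.Agent.Lib.Char.Clifford
import Cfsg.Agent.Lib.Char.Constituents

/-!
# The Clifford correspondence
-/

set_option autoImplicit false
set_option linter.unusedSectionVars false
set_option linter.style.haveILetI false

namespace Cfsg.Lib.Char

open Cfsg
open scoped ComplexConjugate

universe u

variable {G : Type u} [Group G] [Fintype G] (H : Subgroup G) [hN : H.Normal] [Fintype H]
  {T : Subgroup G} [Fintype T]

/-- A function on `H`, read on `H.subgroupOf T`. -/
def resTo (θ : H → ℂ) (T : Subgroup G) : H.subgroupOf T → ℂ :=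
  fun x => θ ⟨(x : T), Subgroup.mem_subgroupOf.mp x.2⟩

theorem isIrrCharacter_resTo {θ : H → ℂ} (hθ : IsIrrCharacter H θ) (hHT : H ≤ T) :
    IsIrrCharacter (H.subgroupOf T) (resTo H θ T) :=
  isIrrCharacter_comp_equiv (Subgroup.subgroupOfEquivOfLe hHT) hθ

theorem classInner_resTo [Fintype (H.subgroupOf T)] (θ : H → ℂ) (hHT : H ≤ T) (f : T → ℂ) :
    classInner (fun x : H.subgroupOf T => f x) (resTo H θ T) =
      classInner (fun h : H => f ⟨h, hHT h.2⟩) θ :=
  classInner_comp_equiv (Subgroup.subgroupOfEquivOfLe hHT) (fun h : H => f ⟨h, hHT h.2⟩) θ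

theorem res_eq_smul {θ : H → ℂ} (hθ : IsIrrCharacter H θ) (hHT : H ≤ T)
    (hT : T = inertia H θ) {ψ : T → ℂ} (hψ : IsIrrCharacter T ψ)
    (hc : classInner (fun h : H => ψ ⟨h, hHT h.2⟩) θ ≠ 0) :
    (fun h : H => ψ ⟨h, hHT h.2⟩) = classInner (fun h : H => ψ ⟨h, hHT h.2⟩) θ • θ := by
  haveI : (H.subgroupOf T).Normal := hN.subgroupOf T
  haveI := Fintype.ofFinite (H.subgroupOf T)
  have hinv : ∀ t : T, conjTwist (H.subgroupOf T) (resTo H θ T) t = resTo H θ T := by
    intro t
    funext x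
    have ht : (t : G) ∈ inertia H θ := hT ▸ t.2
    exact (mem_inertia_iff H).mp ht ⟨(x : T), Subgroup.mem_subgroupOf.mp x.2⟩
  have h := clifford_invariant (H.subgroupOf T) hψ (isIrrCharacter_resTo H hθ hHT) hinv
    (by rwa [classInner_resTo H θ hHT])
  rw [classInner_resTo H θ hHT] at h
  funext x
  exact congrFun h ⟨⟨x, hHT x.2⟩, x.2⟩

theorem classInner_res_le (hHT : H ≤ T) {ψ χ : T → ℂ} (hψ : IsCharacter T ψ)
    (hχ : IsIrrCharacter T χ) (h : classInner ψ χ ≠ 0) {φ : H → ℂ} (hφ : IsIrrCharacter H φ) :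
    (classInner (fun x : H => χ ⟨x, hHT x.2⟩) φ).re ≤
      (classInner (fun x : H => ψ ⟨x, hHT x.2⟩) φ).re := by
  haveI := Fintype.ofFinite (H.subgroupOf T)
  have h1 := classInner_res_le_of_constituent (H.subgroupOf T) hψ hχ h
    (isIrrCharacter_resTo H hφ hHT).isCharacter
  rwa [classInner_resTo H φ hHT, classInner_resTo H φ hHT] at h1

/-- Induction from the inertia group keeps irreducibility and the multiplicity. -/
theorem clifford_induce {θ : H → ℂ} (hθ : IsIrrCharacter H θ) (hHT : H ≤ T)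
    (hT : T = inertia H θ) {ψ : T → ℂ} (hψ : IsIrrCharacter T ψ)
    (hc : classInner (fun h : H => ψ ⟨h, hHT h.2⟩) θ ≠ 0) :
    IsIrrCharacter G (indFun T ψ) ∧
      classInner (fun h : H => indFun T ψ h) θ = classInner (fun h : H => ψ ⟨h, hHT h.2⟩) θ := by
  have hind := isCharacter_indFun T hψ.isCharacter
  have hres := res_eq_smul H hθ hHT hT hψ hc
  have hψ1 : ψ 1 = classInner (fun h : H => ψ ⟨h, hHT h.2⟩) θ * θ 1 := congrFun hres 1
  obtain ⟨c, hcn⟩ := (hψ.isCharacter.comp (Subgroup.inclusion hHT)).exists_nat_classInner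
    hθ.isCharacter
  have hcn' : classInner (fun h : H => ψ ⟨h, hHT h.2⟩) θ = (c : ℂ) := hcn
  have hidx : T.index ≠ 0 := Subgroup.index_ne_zero_of_finite
  have hind1 : indFun T ψ 1 = (T.index : ℂ) * (c * θ 1) := by rw [indFun_apply_one, hψ1, hcn']
  obtain ⟨χ, hχ⟩ := exists_constituent hind (by
    rw [hind1]
    exact mul_ne_zero (Nat.cast_ne_zero.mpr hidx)
      (mul_ne_zero (hcn' ▸ hc) hθ.apply_one_ne_zero))
  have hχψ : classInner (fun t : T => (χ : G → ℂ) t) ψ ≠ 0 := by
    rw [classInner_indFun T ψ χ.2.isClassFunction, ← classInner_conj_symm] at hχ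
    exact fun e => hχ (by rw [e, map_zero])
  have hle := classInner_res_le H hHT (χ.2.isCharacter.comp T.subtype) hψ hχψ hθ
  obtain ⟨e, he⟩ := (χ.2.isCharacter.comp H.subtype).exists_nat_classInner hθ.isCharacter
  have he' : classInner (fun x : H => (χ : G → ℂ) x) θ = (e : ℂ) := he
  change _ ≤ (classInner (fun x : H => (χ : G → ℂ) x) θ).re at hle
  rw [hcn', he', Complex.natCast_re, Complex.natCast_re] at hle
  have hcpos : 0 < c := Nat.pos_of_ne_zero fun h0 => hc (by rw [hcn', h0, Nat.cast_zero])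
  have hepos : 0 < e := lt_of_lt_of_le hcpos (by exact_mod_cast hle)
  have hχ1 := clifford_degree H χ.2 hθ (by rw [he']; exact Nat.cast_ne_zero.mpr hepos.ne')
  rw [he', ← hT] at hχ1
  have hdeg := degree_le_of_constituent χ.2 hind hχ
  have hec : e = c := by
    refine le_antisymm ?_ (by exact_mod_cast hle)
    rw [hχ1, hind1] at hdeg
    obtain ⟨d, hd⟩ := hθ.isCharacter.exists_degree
    have hd0 : 0 < d := Nat.pos_of_ne_zero fun h0 => hθ.apply_one_ne_zero (by rw [hd, h0]; simp)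
    rw [hd] at hdeg
    simp only [← Nat.cast_mul, Complex.natCast_re, Nat.cast_le] at hdeg
    have h3 : 0 < T.index * d := Nat.mul_pos (Nat.pos_of_ne_zero hidx) hd0
    exact Nat.le_of_mul_le_mul_right (by linarith) h3
  have heq : indFun T ψ = (χ : G → ℂ) := eq_of_constituent_of_degree hind χ.2 hχ (by
    rw [hind1, hχ1, hec]; ring)
  rw [heq]
  exact ⟨χ.2, by rw [he', hcn', hec]⟩

/-- Induction from the inertia group is injective. -/
theorem clifford_injective {θ : H → ℂ} (hθ : IsIrrCharacter H θ) (hHT : H ≤ T)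
    (hT : T = inertia H θ) {ψ ψ' : T → ℂ} (hψ : IsIrrCharacter T ψ) (hψ' : IsIrrCharacter T ψ')
    (hc : classInner (fun h : H => ψ ⟨h, hHT h.2⟩) θ ≠ 0)
    (hc' : classInner (fun h : H => ψ' ⟨h, hHT h.2⟩) θ ≠ 0)
    (heq : indFun T ψ = indFun T ψ') : ψ = ψ' := by
  by_contra hne
  obtain ⟨hirr, hmult⟩ := clifford_induce H hθ hHT hT hψ hc
  obtain ⟨-, hmult'⟩ := clifford_induce H hθ hHT hT hψ' hc'
  have hcon : ∀ φ : T → ℂ, IsIrrCharacter T φ → indFun T φ = indFun T ψ →
      classInner (fun t : T => indFun T ψ t) φ ≠ 0 := by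
    intro φ hφ he h0
    have h := classInner_irr_self hirr
    rw [← he, classInner_indFun T φ (by rw [he]; exact hirr.isClassFunction), he,
      ← classInner_conj_symm, h0, map_zero] at h
    exact zero_ne_one h
  set f : T → ℂ := fun t => indFun T ψ t with hf
  have hd : IsCharacter T (f - ψ) :=
    isCharacter_sub_constituent (hirr.isCharacter.comp T.subtype) hψ (hcon ψ hψ rfl)
  have hne' : classInner (f - ψ) ψ' ≠ 0 := by
    rw [classInner_sub_left, classInner_irr_ne hψ hψ' hne, sub_zero]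
    exact hcon ψ' hψ' heq.symm
  have hle := classInner_res_le H hHT hd hψ' hne' hθ
  rw [show (fun x : H => (f - ψ) ⟨x, hHT x.2⟩) =
      (fun x : H => indFun T ψ x) - (fun x : H => ψ ⟨x, hHT x.2⟩) from rfl,
    classInner_sub_left, hmult, sub_self, Complex.zero_re] at hle
  obtain ⟨c', hcn⟩ := (hψ'.isCharacter.comp (Subgroup.inclusion hHT)).exists_nat_classInner
    hθ.isCharacter
  have hcn' : classInner (fun h : H => ψ' ⟨h, hHT h.2⟩) θ = (c' : ℂ) := hcn
  rw [hcn', Complex.natCast_re] at hle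
  exact hc' (by rw [hcn', show c' = 0 by exact_mod_cast le_antisymm hle (Nat.cast_nonneg _),
    Nat.cast_zero])

/-- Every irreducible character over `θ` is induced from the inertia group. -/
theorem clifford_exists {θ : H → ℂ} (hθ : IsIrrCharacter H θ) (hHT : H ≤ T)
    (hT : T = inertia H θ) {χ : G → ℂ} (hχ : IsIrrCharacter G χ)
    (hc : classInner (fun h : H => χ h) θ ≠ 0) :
    ∃ ψ : T → ℂ, IsIrrCharacter T ψ ∧
      classInner (fun h : H => ψ ⟨h, hHT h.2⟩) θ ≠ 0 ∧ indFun T ψ = χ ∧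
      classInner (fun h : H => ψ ⟨h, hHT h.2⟩) θ = classInner (fun h : H => χ h) θ := by
  haveI := Fintype.ofFinite (H.subgroupOf T)
  have hresc : IsCharacter T (fun t : T => χ t) := hχ.isCharacter.comp T.subtype
  have hc2 : classInner (fun x : H.subgroupOf T => (fun t : T => χ t) x) (resTo H θ T) ≠ 0 := by
    rw [classInner_resTo H θ hHT (fun t : T => χ t)]
    exact hc
  obtain ⟨ψ, hψχ, hψθ⟩ := exists_constituent_of_res (H.subgroupOf T) hresc hc2
  rw [classInner_resTo H θ hHT] at hψθ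
  obtain ⟨hirr, hmult⟩ := clifford_induce H hθ hHT hT ψ.2 hψθ
  have heq : indFun T (ψ : T → ℂ) = χ := by
    by_contra hne
    have h0 := classInner_irr_ne hirr hχ hne
    rw [classInner_indFun T _ hχ.isClassFunction, ← classInner_conj_symm] at h0
    exact hψχ ((map_eq_zero _).mp h0)
  refine ⟨ψ, ψ.2, hψθ, heq, ?_⟩
  rw [← hmult, heq]

theorem classInner_indFun_resTo_ne_zero [Fintype (H.subgroupOf T)] {θ : H → ℂ} (hHT : H ≤ T)
    {ψ : T → ℂ} (hψ : IsClassFunction T ψ) :
    classInner (indFun (H.subgroupOf T) (resTo H θ T)) ψ ≠ 0 ↔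
      classInner (fun h : H => ψ ⟨h, hHT h.2⟩) θ ≠ 0 := by
  rw [classInner_indFun _ _ hψ, ← classInner_conj_symm, classInner_resTo H θ hHT]
  exact not_congr (map_eq_zero _)

end Cfsg.Lib.Char
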