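import Cfsg.Agent.Lib.Char.Ramification
import Cfsg.Agent.Lib.Char.Monomial

/-!
# The multiplicity representation of a homogeneous restriction
-/

set_option autoImplicit false
set_option linter.unusedSectionVars false
set_option linter.style.haveILetI false

namespace Cfsg.Lib.Char

open Cfsg Module
open scoped ComplexConjugate

universe u v

section Surj

variable {G : Type u} [Group G] [Fintype G] {Q : Type u} [Group Q] [Fintype Q]

theorem classInner_comp_surjective (π : G →* Q) (hπ : Function.Surjective π) (f f' : Q → ℂ) :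
    classInner (fun x => f (π x)) (fun x => f' (π x)) = classInner f f' := by
  have hcard : Nat.card G = Nat.card π.ker * Nat.card Q := by
    have h := sum_comp_surjective π hπ (fun _ => (1 : ℂ))
    simp only [Finset.sum_const, Finset.card_univ, nsmul_eq_mul, mul_one,
      ← Nat.card_eq_fintype_card] at h
    exact_mod_cast h
  simp only [classInner]
  rw [sum_comp_surjective π hπ (fun q => f q * conj (f' q)), hcard, Nat.cast_mul, mul_inv,
    mul_mul_mul_comm, inv_mul_cancel₀ (Nat.cast_ne_zero.mpr Nat.card_pos.ne'), one_mul]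

end Surj

section Sums

/-- Schur orthogonality, traced against an intertwiner. -/
theorem sum_trace_mul_trace_inv {N : Type u} [Group N] [Fintype N] {m : ℕ}
    (σ : Representation ℂ N (Fin m → ℂ)) [σ.IsIrreducible] (A B : Module.End ℂ (Fin m → ℂ))
    (hAB : A * B = 1) :
    ∑ n : N, LinearMap.trace ℂ _ (A * σ n) * LinearMap.trace ℂ _ (σ n⁻¹ * B) =
      (Nat.card N : ℂ) := by
  classical
  let φ : Module.End ℂ (Fin m → ℂ) ≃ₐ[ℂ] Matrix (Fin m) (Fin m) ℂ := LinearMap.toMatrixAlgEquiv'
  have htr : ∀ f : Module.End ℂ (Fin m → ℂ), LinearMap.trace ℂ _ f = ∑ i, φ f i i := fun f => by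
    rw [LinearMap.trace_eq_matrix_trace ℂ (Pi.basisFun ℂ (Fin m)), Matrix.trace]
    rfl
  have hm : (m : ℂ) ≠ 0 := by
    have := irreducible_finrank_pos σ
    rw [Module.finrank_fin_fun] at this
    exact Nat.cast_ne_zero.mpr this.ne'
  have hschur : ∀ i j k l, ∑ n : N, φ (σ n) k i * φ (σ n⁻¹) j l =
      if i = j ∧ k = l then (Nat.card N : ℂ) / m else 0 := by
    intro i j k l
    let X : Module.End ℂ (Fin m → ℂ) := φ.symm (Matrix.single i j 1)
    obtain ⟨c, hc⟩ := exists_smul_of_comm σ (∑ n : N, σ n * X * σ n⁻¹) fun g => by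
      rw [Finset.sum_mul, Finset.mul_sum]
      refine Fintype.sum_equiv (Equiv.mulLeft g⁻¹) _ _ fun n => ?_
      simp only [Equiv.coe_mulLeft]
      rw [mul_inv_rev, inv_inv, ← mul_assoc (σ g), ← mul_assoc (σ g), ← map_mul σ g,
        mul_inv_cancel_left, map_mul σ n⁻¹ g, mul_assoc, mul_assoc]
    have hc' := congrArg (fun f => LinearMap.trace ℂ _ f) hc
    simp only [map_sum, map_smul, smul_eq_mul, LinearMap.trace_one, Module.finrank_fin_fun] at hc'
    rw [Finset.sum_congr rfl (g := fun _ => LinearMap.trace ℂ _ X) (fun n _ => by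
      rw [LinearMap.trace_mul_comm ℂ (σ n * X), ← mul_assoc, ← map_mul, inv_mul_cancel, map_one,
        one_mul]), Finset.sum_const, Finset.card_univ, nsmul_eq_mul,
      ← Nat.card_eq_fintype_card, htr] at hc'
    have hX : φ X = Matrix.single i j 1 := φ.apply_symm_apply _
    rw [hX] at hc'
    have h1 := congrArg (fun f => φ f k l) hc
    simp only [map_sum, map_mul, hX, map_smul, map_one, Matrix.sum_apply, Matrix.smul_apply,
      Matrix.one_apply, smul_eq_mul] at h1
    rw [Finset.sum_congr rfl (g := fun n => φ (σ n) k i * φ (σ n⁻¹) j l) (fun n _ => by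
      rw [Matrix.mul_apply, Finset.sum_eq_single j (fun b _ hb => by
        rw [Matrix.mul_apply, Finset.sum_eq_zero fun a _ => ?_, zero_mul]
        rw [Matrix.single_apply, if_neg fun h => hb h.2.symm, mul_zero]) (by simp),
        Matrix.mul_apply, Finset.sum_eq_single i (fun a _ ha => by
          rw [Matrix.single_apply, if_neg fun h => ha h.1.symm, mul_zero]) (by simp),
        Matrix.single_apply, if_pos ⟨rfl, rfl⟩, mul_one])] at h1
    rw [h1]
    by_cases hij : i = j
    · subst hij
      rw [Finset.sum_eq_single i (fun b _ hb => Matrix.single_apply_of_ne _ _ _ _ _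
          (fun h => hb h.1.symm)) (by simp), Matrix.single_apply, if_pos ⟨rfl, rfl⟩, mul_one] at hc'
      by_cases hkl : k = l
      · rw [if_pos hkl, if_pos ⟨rfl, hkl⟩, mul_one, eq_div_iff hm, hc']
      · rw [if_neg hkl, if_neg (fun h => hkl h.2), mul_zero]
    · rw [Finset.sum_eq_zero (fun b _ => by
        rw [Matrix.single_apply, if_neg fun h => hij (h.1.trans h.2.symm)]), mul_zero] at hc'
      have hc0 : c = 0 := (mul_eq_zero.mp hc'.symm).resolve_right hm
      rw [hc0, zero_mul, if_neg (fun h => hij h.1)]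
  simp only [htr, map_mul, Matrix.mul_apply]
  have hexp : ∀ n : N, (∑ i, ∑ k, φ A i k * φ (σ n) k i) * ∑ j, ∑ l, φ (σ n⁻¹) j l * φ B l j =
      ∑ i, ∑ k, ∑ j, ∑ l, φ A i k * φ B l j * (φ (σ n) k i * φ (σ n⁻¹) j l) := by
    intro n
    rw [Finset.sum_mul]
    refine Finset.sum_congr rfl fun i _ => ?_
    rw [Finset.sum_mul]
    refine Finset.sum_congr rfl fun k _ => ?_
    rw [Finset.mul_sum]
    refine Finset.sum_congr rfl fun j _ => ?_
    rw [Finset.mul_sum]
    exact Finset.sum_congr rfl fun l _ => by ring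
  simp only [hexp]
  rw [Finset.sum_comm]
  have hstep : ∀ i, ∑ n : N, ∑ k, ∑ j, ∑ l,
      φ A i k * φ B l j * (φ (σ n) k i * φ (σ n⁻¹) j l) =
      (∑ k, φ A i k * φ B k i) * ((Nat.card N : ℂ) / m) := by
    intro i
    rw [Finset.sum_comm, Finset.sum_mul]
    refine Finset.sum_congr rfl fun k _ => ?_
    rw [Finset.sum_comm, Finset.sum_eq_single i (fun j _ hj => ?_) (by simp)]
    · rw [Finset.sum_comm, Finset.sum_eq_single k (fun l _ hl => ?_) (by simp), ← Finset.mul_sum,
        hschur, if_pos ⟨rfl, rfl⟩]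
      rw [← Finset.mul_sum, hschur, if_neg (fun h => hl h.2.symm), mul_zero]
    · rw [Finset.sum_comm]
      exact Finset.sum_eq_zero fun l _ => by
        rw [← Finset.mul_sum, hschur, if_neg (fun h => hj h.1.symm), mul_zero]
  simp only [hstep, ← Finset.sum_mul]
  have h1 : ∑ i, ∑ k, φ A i k * φ B k i = (m : ℂ) := by
    simp_rw [← Matrix.mul_apply, ← map_mul, hAB, map_one, Matrix.one_apply_eq]
    simp
  rw [h1, mul_div_cancel₀ _ hm]

end Sums

variable {G : Type u} [Group G] [Fintype G] {N : Subgroup G} [hN : N.Normal] {m : ℕ}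
  (σ : Representation ℂ N (Fin m → ℂ))

/-- The lifts of determinant one. -/
noncomputable def detOne : Subgroup (extGroup σ) :=
  (LinearMap.det.comp (extOp σ)).toHomUnits.ker

/-- Their projection. -/
noncomputable def detProj : detOne σ →* G := (extProj σ).comp (detOne σ).subtype

/-- Their operators. -/
noncomputable def detRep : Representation ℂ (detOne σ) (Fin m → ℂ) :=
  (extOp σ).comp (detOne σ).subtype

theorem det_detRep (x : detOne σ) : LinearMap.det (detRep σ x) = 1 :=
  congrArg Units.val (MonoidHom.mem_ker.mp x.2)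

theorem detRep_mul_comm (x : detOne σ) (n : N) :
    detRep σ x * σ n = σ (MulAut.conjNormal (detProj σ x) n) * detRep σ x :=
  (x : extGroup σ).2 n

variable [hirr : σ.IsIrreducible]

include hirr in
theorem finite_detOne : Finite (detOne σ) := by
  classical
  haveI : NeZero (finrank ℂ (Fin m → ℂ)) := ⟨(irreducible_finrank_pos σ).ne'⟩
  let R := (detProj σ).range
  choose s hs using fun g : R => g.2
  have hex : ∀ x : detOne σ, ∃ c : rootsOfUnity (finrank ℂ (Fin m → ℂ)) ℂ,
      (x : extGroup σ) = (s ⟨detProj σ x, ⟨x, rfl⟩⟩ : extGroup σ) * extScalar σ c := by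
    intro x
    obtain ⟨c, hc⟩ := exists_scalar_of_extProj_eq σ
      (hs ⟨detProj σ x, ⟨x, rfl⟩⟩ :
        extProj σ (s ⟨detProj σ x, ⟨x, rfl⟩⟩ : extGroup σ) = extProj σ (x : extGroup σ)).symm
    refine ⟨⟨c, ?_⟩, hc⟩
    have h1 := congrArg (fun y => (LinearMap.det.comp (extOp σ)).toHomUnits y) hc
    simp only [map_mul, Subgroup.coe_subtype, MonoidHom.mem_ker.mp x.2,
      MonoidHom.mem_ker.mp (s _).2, one_mul] at h1
    rw [mem_rootsOfUnity]
    apply Units.ext
    have h2 := congrArg Units.val h1.symm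
    simp only [MonoidHom.coe_toHomUnits, MonoidHom.coe_comp, Function.comp_apply,
      Units.val_one, extOp_extScalar, LinearMap.det_smul, map_one, mul_one] at h2
    rw [Units.val_pow_eq_pow_val, Units.val_one]
    exact h2
  choose c hc using hex
  refine Finite.of_injective
    (fun x => ((⟨detProj σ x, ⟨x, rfl⟩⟩ : R), c x)) fun a b h => ?_
  simp only [Prod.mk.injEq] at h
  exact Subtype.ext (by rw [hc a, hc b, h.1, h.2])

include hirr in
theorem detProj_surjective
    (hinv : ∀ (g : G) (n : N), σ.character (MulAut.conjNormal g n) = σ.character n) :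
    Function.Surjective (detProj σ) := fun g => by
  obtain ⟨x, hx, hxg⟩ := exists_det_one_lift σ hinv g
  exact ⟨⟨x, MonoidHom.mem_ker.mpr (Units.ext hx)⟩, hxg⟩

include hirr in
theorem exists_scalar_detRep {x : detOne σ} (hx : detProj σ x ∈ N) :
    ∃ c : ℂ, c ≠ 0 ∧ detRep σ x = c • σ ⟨detProj σ x, hx⟩ := by
  obtain ⟨c, hc⟩ := exists_scalar_of_extProj_eq σ
    (a := (x : extGroup σ)) (b := extGraph σ ⟨detProj σ x, hx⟩) rfl
  refine ⟨c, c.ne_zero, ?_⟩
  show extOp σ (x : extGroup σ) = _
  rw [hc, map_mul, extOp_extGraph, extOp_extScalar, mul_smul_comm, mul_one]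

include hirr in
/-- The multiplicity representation. -/
theorem exists_mult_rep {e : ℕ} {ρ : Representation ℂ G (Fin e → Fin m → ℂ)}
    (hρ : ∀ n : N, ρ (n : G) = powRep σ e n) :
    ∃ Φ : Representation ℂ (detOne σ) (Fin e → ℂ),
      (∀ x, ρ.character (detProj σ x) = Φ.character x * (detRep σ).character x) ∧
      ∀ x, detProj σ x ∈ N → ∃ c : ℂ, Φ x = c • LinearMap.id := by
  classical
  haveI := extGroup_nontrivial σ
  have hblk : ∀ (x : detOne σ) (i j : Fin e), ∃ a : ℂ,
      ∀ w, ρ (detProj σ x) (Pi.single j w) i = a • detRep σ x w := by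
    intro x i j
    let B : (Module.End ℂ (Fin m → ℂ))ˣ := (x : extGroup σ).1.2
    let M : Module.End ℂ (Fin m → ℂ) :=
      LinearMap.proj i ∘ₗ ρ (detProj σ x) ∘ₗ
        LinearMap.single ℂ (fun _ : Fin e => Fin m → ℂ) j
    obtain ⟨a, ha⟩ := exists_smul_of_comm σ
        (((B⁻¹ : (Module.End ℂ (Fin m → ℂ))ˣ) : Module.End ℂ (Fin m → ℂ)) * M) fun n => by
      have hx : (B : Module.End ℂ _) * σ n =
          σ (MulAut.conjNormal (detProj σ x) n) * (B : Module.End ℂ _) := detRep_mul_comm σ x n
      have hM : M * σ n = σ (MulAut.conjNormal (detProj σ x) n) * M := by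
        refine LinearMap.ext fun w => ?_
        show ρ (detProj σ x) (Pi.single j (σ n w)) i =
          σ (MulAut.conjNormal (detProj σ x) n) (ρ (detProj σ x) (Pi.single j w) i)
        have h1 : Pi.single j (σ n w) = ρ (n : G) (Pi.single j w : Fin e → Fin m → ℂ) := by
          rw [hρ]
          funext k
          rw [powRep_apply]
          by_cases hk : k = j
          · subst hk; rw [Pi.single_eq_same, Pi.single_eq_same]
          · rw [Pi.single_eq_of_ne hk, Pi.single_eq_of_ne hk, map_zero]
        rw [h1, ← powRep_apply σ e, ← hρ, ← Module.End.mul_apply, ← map_mul,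
          ← Module.End.mul_apply, ← map_mul]
        congr 3
        simp [MulAut.conjNormal_apply]
      have hx' : ((B⁻¹ : (Module.End ℂ (Fin m → ℂ))ˣ) : Module.End ℂ (Fin m → ℂ)) *
          σ (MulAut.conjNormal (detProj σ x) n) =
          σ n * ((B⁻¹ : (Module.End ℂ (Fin m → ℂ))ˣ) : Module.End ℂ (Fin m → ℂ)) := by
        rw [Units.inv_mul_eq_iff_eq_mul, ← mul_assoc, hx, mul_assoc, Units.mul_inv, mul_one]
      rw [mul_assoc, hM, ← mul_assoc, hx', mul_assoc]
    refine ⟨a, fun w => ?_⟩
    have h2 : M = a • (B : Module.End ℂ _) := by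
      rw [← B.mul_inv_cancel_left M, ha, mul_smul_comm, mul_one]
    exact LinearMap.congr_fun h2 w
  choose A hA using hblk
  have hApply : ∀ (x : detOne σ) (v : Fin e → Fin m → ℂ) (i : Fin e),
      ρ (detProj σ x) v i = ∑ j, A x i j • detRep σ x (v j) := by
    intro x v i
    conv_lhs => rw [← Finset.univ_sum_single v, map_sum, Finset.sum_apply]
    exact Finset.sum_congr rfl fun j _ => hA x i j (v j)
  obtain ⟨w₀, hw₀⟩ := exists_ne (0 : Fin m → ℂ)
  have hne : ∀ x : detOne σ, detRep σ x w₀ ≠ 0 := fun x h => hw₀ (by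
    have h1 : detRep σ x⁻¹ (detRep σ x w₀) = w₀ := by
      rw [← Module.End.mul_apply, ← map_mul, inv_mul_cancel, map_one, Module.End.one_apply]
    rw [← h1, h, map_zero])
  have huniq : ∀ (x : detOne σ) (i j : Fin e) (a : ℂ),
      ρ (detProj σ x) (Pi.single j w₀) i = a • detRep σ x w₀ → A x i j = a :=
    fun x i j a h => smul_left_injective ℂ (hne x) ((hA x i j w₀).symm.trans h)
  have hone : ∀ i j, A 1 i j = (1 : Matrix (Fin e) (Fin e) ℂ) i j := fun i j => by
    refine huniq _ _ _ _ ?_
    simp only [map_one, Module.End.one_apply, Matrix.one_apply]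
    by_cases h : i = j
    · subst h; simp
    · simp [h]
  have hmul : ∀ x y i j, A (x * y) i j = ∑ k, A x i k * A y k j := fun x y i j => by
    refine huniq _ _ _ _ ?_
    rw [map_mul, map_mul, Module.End.mul_apply, hApply, Finset.sum_smul]
    refine Finset.sum_congr rfl fun k _ => ?_
    rw [hA y k j, map_smul, smul_smul, map_mul, Module.End.mul_apply]
  let Φ : Representation ℂ (detOne σ) (Fin e → ℂ) :=
    { toFun := fun x => Matrix.toLin' (Matrix.of (A x))
      map_one' := by
        rw [show Matrix.of (A 1) = (1 : Matrix (Fin e) (Fin e) ℂ) from Matrix.ext hone,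
          Matrix.toLin'_one]
        rfl
      map_mul' := fun x y => by
        rw [show Matrix.of (A (x * y)) = Matrix.of (A x) * Matrix.of (A y) from
          Matrix.ext fun i j => (hmul x y i j).trans Matrix.mul_apply.symm, Matrix.toLin'_mul]
        rfl }
  refine ⟨Φ, fun x => ?_, fun x hx => ?_⟩
  · have hΦ : Φ.character x = ∑ i, A x i i := by
      show LinearMap.trace ℂ _ (Matrix.toLin' (Matrix.of (A x))) = _
      rw [Matrix.trace_toLin'_eq]
      rfl
    let b := Pi.basisFun ℂ (Fin m)
    show LinearMap.trace ℂ _ (ρ (detProj σ x)) = Φ.character x * LinearMap.trace ℂ _ (detRep σ x)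
    rw [hΦ, LinearMap.trace_eq_matrix_trace ℂ (Pi.basis fun _ : Fin e => b),
      LinearMap.trace_eq_matrix_trace ℂ b, Matrix.trace, Matrix.trace, Fintype.sum_sigma,
      Finset.sum_mul]
    refine Finset.sum_congr rfl fun i _ => ?_
    rw [Finset.mul_sum]
    refine Finset.sum_congr rfl fun j _ => ?_
    simp only [Matrix.diag, LinearMap.toMatrix_apply, Pi.basis_repr, Pi.basis_apply]
    rw [hA x i i, map_smul]
    rfl
  · obtain ⟨c, hc0, hop⟩ := exists_scalar_detRep σ hx
    have hA' : ∀ i j, A x i j = if i = j then c⁻¹ else 0 := by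
      intro i j
      refine huniq _ _ _ _ ?_
      rw [show ρ (detProj σ x) = powRep σ e ⟨detProj σ x, hx⟩ from hρ ⟨detProj σ x, hx⟩,
        powRep_apply, hop, LinearMap.smul_apply, smul_smul]
      by_cases h : i = j
      · subst h
        rw [if_pos rfl, Pi.single_eq_same, inv_mul_cancel₀ hc0, one_smul]
      · rw [if_neg h, Pi.single_eq_of_ne h, zero_mul, zero_smul, map_zero]
    refine ⟨c⁻¹, LinearMap.ext fun u => funext fun i => ?_⟩
    show ∑ j, A x i j * u j = _
    simp [hA']

end Cfsg.Lib.Char
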