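import Mathlib.GroupTheory.Transfer
import Mathlib.GroupTheory.Solvable
import Cfsg.Agent.Lib.Char.Clifford2
import Cfsg.Agent.Lib.Char.Constituents
import Cfsg.Agent.Lib.Char.Triple
import Cfsg.Agent.Lib.Char.Quotient
import Cfsg.Agent.Lib.Char.Linear
import Cfsg.Agent.Lib.Block.Basic

/-!
# Real characters of odd degree of solvable groups

For a homomorphism `ι : S →* G` of a finite 2-group onto a Sylow 2-subgroup, the real irreducible
characters of odd degree of a solvable group `G` correspond to the classes of sign characters of `S`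
under the normaliser, via odd multiplicity in the restriction.
-/

set_option autoImplicit false
set_option linter.unusedSectionVars false
set_option linter.style.haveILetI false

namespace Cfsg.Lib.Char.RealOdd

open Cfsg Cfsg.Lib Subgroup
open scoped ComplexConjugate commutatorElement

universe u v

attribute [local instance 100] Fintype.ofFinite

/-- A real-valued function. -/
def IsReal {G : Type u} (f : G → ℂ) : Prop := ∀ g, conj (f g) = f g

section Basic

variable {G : Type u} [Group G] [Finite G]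

theorem isReal_iff_im {f : G → ℂ} : IsReal f ↔ ∀ g, (f g).im = 0 :=
  forall_congr' fun _ => Complex.conj_eq_iff_im

/-- The conjugate character. -/
noncomputable def bar (φ : IrrCharacter G) : IrrCharacter G :=
  ⟨fun g => conj ((φ : G → ℂ) g), isIrrCharacter_conjFn φ.2⟩

theorem bar_bar (φ : IrrCharacter G) : bar (bar φ) = φ :=
  Subtype.ext (funext fun g => Complex.conj_conj _)

theorem isReal_of_bar {φ : IrrCharacter G} (h : bar φ = φ) : IsReal (φ : G → ℂ) := fun g =>
  congrFun (congrArg Subtype.val h) g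

theorem degree_eq (φ : IrrCharacter G) : (φ : G → ℂ) 1 = (charDegree (φ : G → ℂ) : ℂ) :=
  Block.apply_one_eq_charDegree φ

theorem sum_mult_degree {ψ : G → ℂ} (hψ : IsCharacter G ψ) {d : ℕ} (hd : ψ 1 = d)
    (m : IrrCharacter G → ℕ) (hm : ∀ φ : IrrCharacter G, classInner ψ (φ : G → ℂ) = m φ) :
    ∑ φ : IrrCharacter G, m φ * charDegree (φ : G → ℂ) = d := by
  have h := congrFun (eq_sum_classInner hψ.isClassFunction) 1
  simp only [Finset.sum_apply, Pi.smul_apply, smul_eq_mul, hm, degree_eq, hd] at h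
  exact_mod_cast h.symm

theorem exists_odd_constituent {ψ : G → ℂ} (hψ : IsCharacter G ψ) {d : ℕ} (hd : ψ 1 = d)
    (hodd : Odd d) : ∃ φ : IrrCharacter G, Odd (charDegree (φ : G → ℂ)) ∧
      ∃ m : ℕ, Odd m ∧ classInner ψ (φ : G → ℂ) = m := by
  choose m hm using fun φ : IrrCharacter G => hψ.exists_nat_classInner φ.2.isCharacter
  have hs := sum_mult_degree hψ hd m hm
  by_contra hcon
  refine (Nat.not_even_iff_odd.2 hodd) ?_
  rw [← hs]
  refine Finset.even_sum _ fun φ _ => ?_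
  rw [← Nat.not_odd_iff_even]
  intro h
  obtain ⟨h1, h2⟩ := Nat.odd_mul.1 h
  exact hcon ⟨φ, h2, m φ, h1, hm φ⟩

theorem exists_real_odd_constituent {ψ : G → ℂ} (hψ : IsCharacter G ψ) {d : ℕ} (hd : ψ 1 = d)
    (hodd : Odd d) (hr : IsReal ψ) : ∃ φ : IrrCharacter G, IsReal (φ : G → ℂ) ∧
      Odd (charDegree (φ : G → ℂ)) ∧ ∃ m : ℕ, Odd m ∧ classInner ψ (φ : G → ℂ) = m := by
  classical
  choose m hm using fun φ : IrrCharacter G => hψ.exists_nat_classInner φ.2.isCharacter
  have hs := sum_mult_degree hψ hd m hm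
  by_contra hcon
  set f : IrrCharacter G → ZMod 2 := fun φ => ((m φ * charDegree (φ : G → ℂ) : ℕ) : ZMod 2) with hf
  have hbar : ∀ φ, f (bar φ) = f φ := by
    intro φ
    have h1 : charDegree ((bar φ : IrrCharacter G) : G → ℂ) = charDegree (φ : G → ℂ) := by
      simp [charDegree, bar]
    have h2 : (m (bar φ) : ℂ) = m φ := by
      rw [← hm, ← hm]
      have h3 : (fun g => conj (ψ g)) = ψ := funext hr
      calc classInner ψ ((bar φ : IrrCharacter G) : G → ℂ)
          = classInner (fun g => conj (ψ g)) (fun g => conj ((φ : G → ℂ) g)) := by rw [h3]; rfl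
        _ = conj (classInner ψ (φ : G → ℂ)) := by rw [classInner_conjFn, classInner_conj_symm]
        _ = classInner ψ (φ : G → ℂ) := by rw [hm φ]; simp
    simp only [hf, h1, show m (bar φ) = m φ by exact_mod_cast h2]
  have h0 : ∑ φ : IrrCharacter G, f φ = 0 := by
    refine Finset.sum_involution (fun φ _ => bar φ) (fun φ _ => ?_) (fun φ _ hne he => ?_)
      (fun φ _ => Finset.mem_univ _) (fun φ _ => bar_bar φ)
    · rw [hbar]; exact CharTwo.add_self_eq_zero _
    · refine hne ((ZMod.natCast_eq_zero_iff_even).2 ?_)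
      rw [← Nat.not_odd_iff_even]
      intro h
      obtain ⟨h1, h2⟩ := Nat.odd_mul.1 h
      exact hcon ⟨φ, isReal_of_bar he, h2, m φ, h1, hm φ⟩
  rw [← Nat.cast_sum, hs, ZMod.natCast_eq_zero_iff_even] at h0
  exact (Nat.not_even_iff_odd.2 hodd) h0

theorem exists_hom_of_odd_degree (hG : IsPGroup 2 G) (φ : IrrCharacter G)
    (h : Odd (charDegree (φ : G → ℂ))) : ∃ μ : G →* ℂˣ, (φ : G → ℂ) = fun g => (μ g : ℂ) := by
  obtain ⟨k, hk⟩ := IsPGroup.iff_card.1 hG
  have hdvd := degree_dvd_card φ.2 (degree_eq φ)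
  rw [hk] at hdvd
  obtain ⟨j, -, hj⟩ := (Nat.dvd_prime_pow Nat.prime_two).1 hdvd
  rw [hj] at h
  obtain rfl : j = 0 := by
    by_contra hne
    exact (Nat.not_even_iff_odd.2 h) ((Nat.even_pow' hne).2 even_two)
  exact exists_hom_of_degree_one φ.2.isCharacter (by rw [degree_eq, hj]; simp)

theorem sq_eq_one_of_real {μ : G →* ℂˣ} (h : IsReal fun g => (μ g : ℂ)) (g : G) :
    μ g * μ g = 1 := by
  have h1 := (isIrrCharacter_linear μ).isCharacter.apply_inv g
  rw [show conj ((μ g : ℂ)) = (μ g : ℂ) from h g] at h1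
  have h2 : μ g⁻¹ = μ g := Units.ext h1
  rw [map_inv] at h2
  calc μ g * μ g = (μ g)⁻¹ * μ g := by rw [h2]
    _ = 1 := inv_mul_cancel _

theorem conj_linear (μ : G →* ℂˣ) (g : G) : conj (μ g : ℂ) = ((μ g)⁻¹ : ℂˣ) := by
  rw [← map_inv, (isIrrCharacter_linear μ).isCharacter.apply_inv g]

theorem isReal_of_sq {μ : G →* ℂˣ} (h : ∀ g, μ g * μ g = 1) : IsReal fun g => (μ g : ℂ) := by
  intro g
  show conj (μ g : ℂ) = (μ g : ℂ)
  rw [conj_linear, inv_eq_of_mul_eq_one_right (h g)]

theorem isReal_indFun (H : Subgroup G) {θ : H → ℂ} (hθ : IsReal θ) : IsReal (indFun H θ) := by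
  intro g
  simp only [indFun, map_mul, map_inv₀, map_natCast, map_sum]
  congr 1
  refine Finset.sum_congr rfl fun x _ => ?_
  by_cases hx : x⁻¹ * g * x ∈ H
  · rw [extendByZero_of_mem _ _ hx, hθ]
  · rw [extendByZero_of_notMem _ _ hx, map_zero]

theorem indFun_conjFn (H : Subgroup G) (θ : H → ℂ) :
    indFun H (fun h => conj (θ h)) = fun g => conj (indFun H θ g) := by
  funext g
  simp only [indFun, map_mul, map_inv₀, map_natCast, map_sum]
  congr 1
  refine Finset.sum_congr rfl fun x _ => ?_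
  by_cases hx : x⁻¹ * g * x ∈ H
  · rw [extendByZero_of_mem _ _ hx, extendByZero_of_mem _ _ hx]
  · rw [extendByZero_of_notMem _ _ hx, extendByZero_of_notMem _ _ hx, map_zero]

/-- Twisting by a sign character does not change multiplicities. -/
theorem classInner_mul_sign (f : G → ℂ) (μ ε : G →* ℂˣ) :
    classInner (fun g => f g * (ε g : ℂ)) (fun g => (((μ * ε) g : ℂˣ) : ℂ)) =
      classInner f (fun g => (μ g : ℂ)) := by
  simp only [classInner, MonoidHom.mul_apply, Units.val_mul, map_mul]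
  congr 1
  refine Finset.sum_congr rfl fun g _ => ?_
  rw [conj_linear ε]
  calc f g * (ε g : ℂ) * (conj (μ g : ℂ) * (((ε g)⁻¹ : ℂˣ) : ℂ))
      = f g * conj (μ g : ℂ) * ((ε g : ℂ) * (((ε g)⁻¹ : ℂˣ) : ℂ)) := by ring
    _ = f g * conj (μ g : ℂ) := by rw [Units.mul_inv, mul_one]

/-- The transfer of a homomorphism which is invariant on a normal subgroup. -/
theorem transfer_apply_of_invariant {A : Type v} [CommGroup A] (M H : Subgroup G) [M.Normal]
    (hMH : M ≤ H) (φ : H →* A)
    (hinv : ∀ (g : G) (a b : H), (a : G) ∈ M → (b : G) = g * a * g⁻¹ → φ b = φ a)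
    (m : G) (hm : m ∈ M) : φ.transfer m = φ ⟨m, hMH hm⟩ ^ H.index := by
  classical
  haveI : Fintype (G ⧸ H) := Fintype.ofFinite _
  haveI : Fintype (Quotient (MulAction.orbitRel (zpowers m) (G ⧸ H))) := Fintype.ofFinite _
  rw [MonoidHom.transfer_eq_prod_quotient_orbitRel_zpowers_quot, index_eq_sum_minimalPeriod H m,
    ← Finset.prod_pow_eq_pow_sum]
  refine Finset.prod_congr rfl fun q _ => ?_
  rw [← map_pow]
  refine hinv q.out.out⁻¹ _ _ ?_ ?_
  · simp only [SubmonoidClass.coe_pow]; exact pow_mem hm _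
  · simp only [SubmonoidClass.coe_pow, inv_inv]

/-- A character whose restriction to `M` is trivial at the constituent level has `M` in the kernel. -/
theorem kernel_of_trivial_constituent (M : Subgroup G) [M.Normal] {χ : G → ℂ}
    (hχ : IsIrrCharacter G χ) (h : classInner (fun x : M => χ x) (fun _ => (1 : ℂ)) ≠ 0) :
    ∀ n ∈ M, χ n = χ 1 := by
  intro n hn
  have hc := clifford_invariant M hχ isIrrCharacter_one (fun g => funext fun _ => rfl) h
  have h1 := congrFun hc ⟨n, hn⟩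
  have h2 := congrFun hc 1
  simp only [Pi.smul_apply, smul_eq_mul, OneMemClass.coe_one] at h1 h2
  rw [h1, h2]

theorem exists_linear_constituent (M : Subgroup G) (hM : ∀ a b : M, a * b = b * a) {χ : G → ℂ}
    (hχ : IsIrrCharacter G χ) :
    ∃ θ : M →* ℂˣ, classInner (fun x : M => χ x) (fun x : M => (θ x : ℂ)) ≠ 0 := by
  obtain ⟨θ, hθ⟩ := exists_constituent (hχ.isCharacter.comp M.subtype) hχ.apply_one_ne_zero
  obtain ⟨l, hl⟩ := exists_hom_of_degree_one θ.2.isCharacter (degree_eq_one_of_comm hM θ.2)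
  exact ⟨l, by rw [← hl]; exact hθ⟩

theorem odd_inertia_index (M : Subgroup G) [M.Normal] {χ : IrrCharacter G}
    (hodd : Odd (charDegree (χ : G → ℂ))) (θ : M →* ℂˣ)
    (hc : classInner (fun x : M => (χ : G → ℂ) x) (fun x : M => (θ x : ℂ)) ≠ 0) :
    Odd (inertia M (fun x : M => (θ x : ℂ))).index := by
  have h := clifford_degree M χ.2 (isIrrCharacter_linear θ) hc
  obtain ⟨c, hcn⟩ := (χ.2.isCharacter.comp M.subtype).exists_nat_classInner
    (isIrrCharacter_linear θ).isCharacter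
  rw [degree_eq, show classInner (fun x : M => (χ : G → ℂ) x) (fun x : M => (θ x : ℂ)) = c from hcn,
    map_one, Units.val_one, mul_one] at h
  have h2 : charDegree (χ : G → ℂ) = c * (inertia M (fun x : M => (θ x : ℂ))).index := by
    exact_mod_cast h
  rw [h2] at hodd
  exact (Nat.odd_mul.1 hodd).2

/-- A constituent fixed by a given 2-subgroup. -/
theorem exists_fixed_constituent (M : Subgroup G) [M.Normal] (hM : ∀ a b : M, a * b = b * a)
    {R : Subgroup G} (hR : IsPGroup 2 R) {χ : IrrCharacter G}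
    (hodd : Odd (charDegree (χ : G → ℂ))) :
    ∃ θ : M →* ℂˣ, classInner (fun x : M => (χ : G → ℂ) x) (fun x : M => (θ x : ℂ)) ≠ 0 ∧
      R ≤ inertia M (fun x : M => (θ x : ℂ)) := by
  obtain ⟨θ, hθ⟩ := exists_linear_constituent M hM χ.2
  set T := inertia M (fun x : M => (θ x : ℂ)) with hT
  have hodd' : Odd T.index := odd_inertia_index M hodd θ hθ
  haveI : Fact (Nat.Prime 2) := ⟨Nat.prime_two⟩
  have hne : (MulAction.fixedPoints R (G ⧸ T)).Nonempty :=
    hR.nonempty_fixed_point_of_prime_not_dvd_card _ (by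
      rw [← Subgroup.index_eq_card]
      exact fun h => (Nat.not_even_iff_odd.2 hodd') (even_iff_two_dvd.2 h))
  obtain ⟨q, hq⟩ := hne
  obtain ⟨g, rfl⟩ := QuotientGroup.mk_surjective q
  have hmem : ∀ r : R, g⁻¹ * (r : G) * g ∈ T := fun r => by
    have h : (QuotientGroup.mk ((r⁻¹ : R) * g : G) : G ⧸ T) = QuotientGroup.mk g := hq r⁻¹
    rw [QuotientGroup.eq] at h
    simpa [mul_assoc] using h
  refine ⟨θ.comp (MulAut.conjNormal g⁻¹ : MulAut M).toMonoidHom, ?_, ?_⟩
  · have e : (fun x : M => ((θ.comp (MulAut.conjNormal g⁻¹ : MulAut M).toMonoidHom) x : ℂ)) =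
        conjTwist M (fun x : M => (θ x : ℂ)) g⁻¹ := rfl
    rw [e]
    conv => arg 1; arg 1; rw [← conjTwist_res M χ.2.isClassFunction g⁻¹]
    rw [classInner_conjTwist]
    exact hθ
  · intro r hr
    show conjTwist M (conjTwist M (fun x : M => (θ x : ℂ)) g⁻¹) r =
      conjTwist M (fun x : M => (θ x : ℂ)) g⁻¹
    have h2 : conjTwist M (fun x : M => (θ x : ℂ)) (g⁻¹ * r * g) = fun x : M => (θ x : ℂ) :=
      hmem ⟨r, hr⟩
    rw [conjTwist_conjTwist]
    conv_rhs => rw [← h2, conjTwist_conjTwist]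
    congr 1
    group

/-- For normal abelian subgroups of odd order, real characters of odd degree are trivial. -/
theorem kernel_of_real_odd (M : Subgroup G) [M.Normal] (hM : ∀ a b : M, a * b = b * a)
    (hMo : Odd (Nat.card M)) {χ : IrrCharacter G} (hodd : Odd (charDegree (χ : G → ℂ)))
    (hr : IsReal (χ : G → ℂ)) : ∀ n ∈ M, (χ : G → ℂ) n = (χ : G → ℂ) 1 := by
  classical
  letI : Fintype M := Fintype.ofFinite M
  obtain ⟨θ, hθ⟩ := exists_linear_constituent M hM χ.2
  set θ' : M → ℂ := fun x => (θ x : ℂ) with hθ'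
  set O := twistOrbit M θ'
  have hmult : ∀ φ ∈ O, classInner (fun x : M => (χ : G → ℂ) x) φ ≠ 0 := by
    intro φ hφ
    obtain ⟨g, rfl⟩ := (mem_twistOrbit M).1 hφ
    conv => arg 1; arg 1; rw [← conjTwist_res M χ.2.isClassFunction g]
    rw [classInner_conjTwist]
    exact hθ
  by_contra hker
  have hirr : IsIrrCharacter M θ' := isIrrCharacter_linear θ
  have hmem : ∀ φ ∈ O, (fun x : M => conj (φ x)) ∈ O := by
    intro φ hφ
    have hφi := isIrrCharacter_of_mem_twistOrbit M hirr hφ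
    refine mem_twistOrbit_of_constituent M χ.2 hirr (isIrrCharacter_conjFn hφi) hθ ?_
    rw [show (fun x : M => (χ : G → ℂ) x) = fun x : M => conj ((χ : G → ℂ) x) from
      funext fun x => (hr x).symm, classInner_conjFn]
    rw [← classInner_conj_symm]
    intro h0
    exact hmult φ hφ ((map_eq_zero _).1 h0)
  have hfix : ∀ φ ∈ O, (fun x : M => conj (φ x)) ≠ φ := by
    intro φ hφ he
    obtain ⟨g, hg⟩ := (mem_twistOrbit M).1 hφ
    refine hker (kernel_of_trivial_constituent M χ.2 ?_)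
    have hφi := isIrrCharacter_of_mem_twistOrbit M hirr hφ
    obtain ⟨l, hl⟩ := exists_hom_of_degree_one hφi.isCharacter (degree_eq_one_of_comm hM hφi)
    have h1 : ∀ x : M, l x = 1 := by
      intro x
      have hsq : l x * l x = 1 := by
        refine sq_eq_one_of_real ?_ x
        intro y
        have := congrFun he y
        rw [hl] at this
        exact this
      have ho : Odd (orderOf (l x)) :=
        hMo.of_dvd_nat ((orderOf_map_dvd l x).trans (orderOf_dvd_natCard x))
      have h2 : orderOf (l x) ∣ 2 := orderOf_dvd_of_pow_eq_one (by rw [pow_two]; exact hsq)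
      rcases (Nat.dvd_prime Nat.prime_two).1 h2 with h3 | h3
      · exact orderOf_eq_one_iff.1 h3
      · rw [h3] at ho; exact absurd ho (by decide)
    have h3 := hmult φ hφ
    rw [hl] at h3
    simpa [h1] using h3
  have h0 : ((O.card : ℕ) : ZMod 2) = 0 := by
    rw [Finset.card_eq_sum_ones, Nat.cast_sum]
    refine Finset.sum_involution (fun φ _ => fun x : M => conj (φ x)) (fun φ _ => ?_)
      (fun φ hφ _ => hfix φ hφ) hmem (fun φ _ => funext fun x => Complex.conj_conj _)
    simp only [Nat.cast_one]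
    exact CharTwo.add_self_eq_zero _
  rw [ZMod.natCast_eq_zero_iff_even, card_twistOrbit] at h0
  exact (Nat.not_even_iff_odd.2 (odd_inertia_index M hodd θ hθ)) h0

/-- A normal abelian subgroup of prime exponent in a solvable group. -/
theorem exists_normal_elementary [Group.IsSolvable G] [Nontrivial G] :
    ∃ (r : ℕ) (M : Subgroup G), r.Prime ∧ M.Normal ∧ M ≠ ⊥ ∧ (∀ a b : M, a * b = b * a) ∧
      ∀ m ∈ M, m ^ r = 1 := by
  classical
  have hex : ∃ n, derivedSeries G n = ⊥ := (Group.isSolvable_def G).1 inferInstance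
  set n := Nat.find hex with hn
  have hn0 : n ≠ 0 := fun h => by
    have := Nat.find_spec hex
    rw [← hn, h, derivedSeries_zero] at this
    exact top_ne_bot this
  obtain ⟨k, hk⟩ := Nat.exists_eq_succ_of_ne_zero hn0
  have hA : derivedSeries G k ≠ ⊥ := Nat.find_min hex (by omega)
  have hA2 : derivedSeries G (k + 1) = ⊥ := by
    have := Nat.find_spec hex
    rwa [← hn, hk] at this
  set A := derivedSeries G k with hAdef
  haveI hAn : A.Normal := derivedSeries_normal G k
  have hcomm : ∀ a ∈ A, ∀ b ∈ A, a * b = b * a := by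
    intro a ha b hb
    have : ⁅a, b⁆ ∈ derivedSeries G (k + 1) := by
      rw [derivedSeries_succ]; exact commutator_mem_commutator ha hb
    rw [hA2, mem_bot, commutatorElement_eq_one_iff_mul_comm] at this
    exact this
  obtain ⟨r, hr, hrd⟩ := Nat.exists_prime_and_dvd
    (fun h => hA ((Subgroup.card_eq_one).1 h) : Nat.card A ≠ 1)
  haveI := Fact.mk hr
  obtain ⟨a, ha⟩ := exists_prime_orderOf_dvd_card' r hrd
  let M : Subgroup G :=
    { carrier := {x | x ∈ A ∧ x ^ r = 1}
      one_mem' := ⟨A.one_mem, one_pow _⟩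
      mul_mem' := fun {x y} hx hy => ⟨A.mul_mem hx.1 hy.1, by
        rw [(show Commute x y from hcomm x hx.1 y hy.1).mul_pow, hx.2, hy.2, one_mul]⟩
      inv_mem' := fun {x} hx => ⟨A.inv_mem hx.1, by rw [inv_pow, hx.2, inv_one]⟩ }
  refine ⟨r, M, hr, ⟨fun x hx g => ⟨hAn.conj_mem x hx.1 g, by rw [conj_pow, hx.2]; group⟩⟩,
    fun hM => ?_, fun x y => Subtype.ext (hcomm x x.2.1 y y.2.1), fun m hm => hm.2⟩
  have : (a : G) ∈ M := ⟨a.2, by rw [← ha, ← orderOf_coe, pow_orderOf_eq_one]⟩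
  rw [hM, mem_bot] at this
  rw [← orderOf_coe, this, orderOf_one] at ha
  exact hr.one_lt.ne ha

end Basic

section Pairing

variable {G : Type u} [Group G] [Finite G] {S : Type u} [Group S] [Finite S] (ι : S →* G)

/-- `ι` maps a 2-group onto a Sylow 2-subgroup. -/
structure IsSylowMap : Prop where
  two : IsPGroup 2 S
  index : ¬ 2 ∣ ι.range.index

/-- `μ` factors through the image of `ι`. -/
def Factors (μ : S →* ℂˣ) : Prop := ∀ s, ι s = 1 → μ s = 1

/-- `μ` has odd multiplicity in the restriction of `χ`. -/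
def OddRel (χ : G → ℂ) (μ : S →* ℂˣ) : Prop :=
  ∃ m : ℕ, Odd m ∧ classInner (fun s => χ (ι s)) (fun s => (μ s : ℂ)) = m

/-- Conjugacy under an element of `G`. -/
def NConj (μ ν : S →* ℂˣ) : Prop :=
  ∃ n : G, ∀ s, ∃ t, ι t = n * ι s * n⁻¹ ∧ ν s = μ t

/-- The uniqueness statement. -/
def Uniq : Prop :=
  (∀ (μ : S →* ℂˣ), (∀ s, μ s * μ s = 1) → Factors ι μ → ∀ χ χ' : IrrCharacter G,
    IsReal (χ : G → ℂ) → Odd (charDegree (χ : G → ℂ)) →
    IsReal (χ' : G → ℂ) → Odd (charDegree (χ' : G → ℂ)) →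
    OddRel ι (χ : G → ℂ) μ → OddRel ι (χ' : G → ℂ) μ → χ = χ') ∧
  (∀ (μ ν : S →* ℂˣ), (∀ s, μ s * μ s = 1) → Factors ι μ → (∀ s, ν s * ν s = 1) → Factors ι ν →
    ∀ χ : IrrCharacter G, IsReal (χ : G → ℂ) → Odd (charDegree (χ : G → ℂ)) →
    OddRel ι (χ : G → ℂ) μ → OddRel ι (χ : G → ℂ) ν → NConj ι μ ν)

variable {ι}

theorem Factors.eq {μ : S →* ℂˣ} (h : Factors ι μ) {s t : S} (e : ι s = ι t) : μ s = μ t := by
  have := h (s * t⁻¹) (by rw [map_mul, map_inv, e, mul_inv_cancel])
  rw [map_mul, map_inv, mul_inv_eq_one] at this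
  exact this

theorem NConj.refl (μ : S →* ℂˣ) : NConj ι μ μ := ⟨1, fun s => ⟨s, by simp, rfl⟩⟩

theorem NConj.trans {μ ν ξ : S →* ℂˣ} (h : NConj ι μ ν) (h' : NConj ι ν ξ) : NConj ι μ ξ := by
  obtain ⟨n, hn⟩ := h
  obtain ⟨k, hk⟩ := h'
  refine ⟨n * k, fun s => ?_⟩
  obtain ⟨t, ht, hξ⟩ := hk s
  obtain ⟨r, hr, hν⟩ := hn t
  exact ⟨r, by rw [hr, ht]; group, hξ.trans hν⟩

/-- Conjugation by a normalising element is onto. -/
theorem conj_surj {n : G} (hn : ∀ s, ∃ t, ι t = n * ι s * n⁻¹) (s : S) :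
    ∃ t, ι t = n⁻¹ * ι s * n := by
  let f : ι.range → ι.range := fun x => ⟨n * x * n⁻¹, by
    obtain ⟨a, ha⟩ := x.2
    obtain ⟨t, ht⟩ := hn a
    exact ⟨t, by rw [ht, ha]⟩⟩
  have hf : Function.Injective f := fun x y h => by
    have := congrArg Subtype.val h
    simp only [f, mul_left_inj, mul_right_inj] at this
    exact Subtype.ext this
  obtain ⟨x, hx⟩ := Finite.surjective_of_injective hf ⟨ι s, s, rfl⟩
  obtain ⟨t, ht⟩ := x.2
  have h2 : n * (x : G) * n⁻¹ = ι s := congrArg Subtype.val hx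
  exact ⟨t, by rw [ht, ← h2]; group⟩

theorem NConj.symm {μ ν : S →* ℂˣ} (hμ : Factors ι μ) (h : NConj ι μ ν) : NConj ι ν μ := by
  obtain ⟨n, hn⟩ := h
  refine ⟨n⁻¹, fun s => ?_⟩
  obtain ⟨t, ht⟩ := conj_surj (fun a => (hn a).imp fun _ h => h.1) s
  obtain ⟨t', ht', hν⟩ := hn t
  exact ⟨t, by rw [ht, inv_inv], by rw [hν]; exact hμ.eq (by rw [ht', ht]; group)⟩

/-- The induced homomorphism on the range. -/
noncomputable def Factors.lift {μ : S →* ℂˣ} (h : Factors ι μ) : ι.range →* ℂˣ where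
  toFun x := μ x.2.choose
  map_one' := h _ (1 : ι.range).2.choose_spec
  map_mul' a b := by
    rw [← map_mul]
    exact h.eq (by rw [map_mul, a.2.choose_spec, b.2.choose_spec, (a * b).2.choose_spec]; rfl)

theorem Factors.lift_apply {μ : S →* ℂˣ} (h : Factors ι μ) (s : S) :
    h.lift (ι.rangeRestrict s) = μ s :=
  h.eq (ι.rangeRestrict s).2.choose_spec

/-- Multiplicities pass to the range. -/
theorem classInner_range {μ : S →* ℂˣ} (h : Factors ι μ) (f : G → ℂ) :
    classInner (fun x : ι.range => f x) (fun x : ι.range => (h.lift x : ℂ)) =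
      classInner (fun s => f (ι s)) (fun s => (μ s : ℂ)) := by
  rw [← classInner_comp_surjective ι.rangeRestrict ι.rangeRestrict_surjective]
  simp only [h.lift_apply]
  rfl

theorem range_two (hι : IsSylowMap ι) : IsPGroup 2 ι.range :=
  IsPGroup.of_surjective hι.two ι.rangeRestrict ι.rangeRestrict_surjective

theorem odd_index (hι : IsSylowMap ι) : Odd ι.range.index := by
  rw [← Nat.not_even_iff_odd, even_iff_two_dvd]
  exact hι.index

/-- Every real odd-degree character is related to some sign character. -/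
theorem exists_right (hι : IsSylowMap ι) {χ : IrrCharacter G} (hr : IsReal (χ : G → ℂ))
    (hodd : Odd (charDegree (χ : G → ℂ))) :
    ∃ μ : S →* ℂˣ, (∀ s, μ s * μ s = 1) ∧ Factors ι μ ∧ OddRel ι (χ : G → ℂ) μ := by
  have hc := χ.2.isCharacter.comp ι.range.subtype
  obtain ⟨φ, hφr, hφo, m, hm, hin⟩ := exists_real_odd_constituent hc (d := charDegree (χ : G → ℂ))
    (by rw [map_one, degree_eq]) hodd (fun x => hr x)
  obtain ⟨l, hl⟩ := exists_hom_of_odd_degree (range_two hι) φ hφo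
  have hfac : Factors ι (l.comp ι.rangeRestrict) := fun s hs => by
    show l (ι.rangeRestrict s) = 1
    rw [show ι.rangeRestrict s = 1 from Subtype.ext hs, map_one]
  have hlsq : ∀ x, l x * l x = 1 := sq_eq_one_of_real (by rw [← hl]; exact hφr)
  refine ⟨l.comp ι.rangeRestrict, fun s => hlsq _, hfac, m, hm, ?_⟩
  rw [← classInner_range hfac]
  refine Eq.trans ?_ hin
  rw [hl]
  congr 1
  funext x
  obtain ⟨s, hs⟩ := ι.rangeRestrict_surjective x
  rw [← hs, hfac.lift_apply]
  rfl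

/-- Every sign character is related to some real odd-degree character. -/
theorem exists_left (hι : IsSylowMap ι) {μ : S →* ℂˣ} (hsq : ∀ s, μ s * μ s = 1)
    (hμ : Factors ι μ) :
    ∃ χ : IrrCharacter G, IsReal (χ : G → ℂ) ∧ Odd (charDegree (χ : G → ℂ)) ∧
      OddRel ι (χ : G → ℂ) μ := by
  have hreal : IsReal fun x : ι.range => (hμ.lift x : ℂ) := isReal_of_sq fun x => by
    obtain ⟨s, hs⟩ := ι.rangeRestrict_surjective x
    rw [← hs, hμ.lift_apply]
    exact hsq s
  have hθ := (isIrrCharacter_linear hμ.lift).isCharacter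
  obtain ⟨φ, hφr, hφo, m, hm, hin⟩ := exists_real_odd_constituent (isCharacter_indFun _ hθ)
    (d := ι.range.index) (by rw [indFun_apply_one, map_one, Units.val_one, mul_one])
    (odd_index hι) (isReal_indFun _ hreal)
  refine ⟨φ, hφr, hφo, m, hm, ?_⟩
  rw [classInner_indFun _ _ φ.2.isClassFunction, ← classInner_conj_symm] at hin
  rw [← classInner_range hμ]
  have h2 := congrArg conj hin
  rwa [Complex.conj_conj, Complex.conj_natCast] at h2

theorem OddRel.conj_right {χ : G → ℂ} (hχ : IsClassFunction G χ) {μ ν : S →* ℂˣ}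
    (hμ : Factors ι μ) (hν : Factors ι ν) (h : OddRel ι χ μ) (hc : NConj ι μ ν) :
    OddRel ι χ ν := by
  obtain ⟨m, hm, he⟩ := h
  obtain ⟨n, hn⟩ := hc
  refine ⟨m, hm, ?_⟩
  have hmem : ∀ x : ι.range, n * (x : G) * n⁻¹ ∈ ι.range := by
    rintro ⟨_, s, rfl⟩
    obtain ⟨t, ht, -⟩ := hn s
    exact ⟨t, ht⟩
  let e : ι.range →* ι.range :=
    ((MulAut.conj n).toMonoidHom.comp ι.range.subtype).codRestrict ι.range hmem
  have he' : Function.Surjective e := Finite.surjective_of_injective fun x y h => by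
    have := congrArg Subtype.val h
    simpa [e] using this
  rw [← classInner_range hν]
  rw [← classInner_range hμ, ← classInner_comp_surjective e he'] at he
  refine Eq.trans ?_ he
  congr 1 <;> funext x
  · show χ x = χ (e x)
    exact (hχ (x : G) n).symm
  · obtain ⟨s, rfl⟩ := ι.rangeRestrict_surjective x
    obtain ⟨t, ht, hνs⟩ := hn s
    rw [hν.lift_apply, hνs, ← hμ.lift_apply]
    rw [show ι.rangeRestrict t = e (ι.rangeRestrict s) from Subtype.ext ht]

/-- The image and any conjugate of it inside a common overgroup are conjugate in the overgroup. -/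
theorem exists_normalizing (hι : IsSylowMap ι) (B : Subgroup G) (hRB : ι.range ≤ B) (g : G)
    (hg : ∀ s, g * ι s * g⁻¹ ∈ B) : ∃ b ∈ B, ∀ s, ∃ t, ι t = (b * g) * ι s * (b * g)⁻¹ := by
  haveI : Fact (Nat.Prime 2) := ⟨Nat.prime_two⟩
  set R' := ι.range.map (MulAut.conj g).toMonoidHom with hR'
  have hR'B : R' ≤ B := by
    rintro _ ⟨_, ⟨s, rfl⟩, rfl⟩
    exact hg s
  have hcard : Nat.card R' = Nat.card ι.range :=
    Subgroup.card_map_of_injective (MulAut.conj g).injective
  have h1 : ¬ 2 ∣ ι.range.relIndex B := fun h => hι.index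
    (h.trans ⟨B.index, (Subgroup.relIndex_mul_index hRB).symm⟩)
  have h2 : ¬ 2 ∣ R'.relIndex B := by
    have e1 := Subgroup.relIndex_mul_index hR'B
    have e2 := R'.card_mul_index
    rw [hcard, ← ι.range.card_mul_index] at e2
    have e3 : R'.index = ι.range.index := Nat.eq_of_mul_eq_mul_left Nat.card_pos e2
    exact fun h => hι.index (e3 ▸ h.trans ⟨B.index, e1.symm⟩)
  have hp1 : IsPGroup 2 (ι.range.subgroupOf B) := (range_two hι).comap_subtype
  have hp2 : IsPGroup 2 (R'.subgroupOf B) := ((range_two hι).map _).comap_subtype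
  let P1 : Sylow 2 B := hp1.toSylow h1
  let P2 : Sylow 2 B := hp2.toSylow h2
  obtain ⟨b, hb⟩ := MulAction.exists_smul_eq B P2 P1
  refine ⟨b, b.2, fun s => ?_⟩
  have hmem : (⟨g * ι s * g⁻¹, hg s⟩ : B) ∈ (P2 : Subgroup B) := by
    show g * ι s * g⁻¹ ∈ R'
    exact ⟨ι s, ⟨s, rfl⟩, rfl⟩
  have h3 : MulAut.conj b ⟨g * ι s * g⁻¹, hg s⟩ ∈ ((b • P2 : Sylow 2 B) : Subgroup B) := by
    rw [Sylow.coe_subgroup_smul]
    exact Subgroup.smul_mem_pointwise_smul _ _ _ hmem
  rw [hb] at h3
  obtain ⟨t, ht⟩ := h3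
  exact ⟨t, by rw [ht]; simp [mul_assoc]⟩

/-- Lifting conjugacy from a quotient. -/
theorem NConj.lift_quotient (hι : IsSylowMap ι) (M : Subgroup G) [M.Normal] {μ ν : S →* ℂˣ}
    (hμ : ∀ s, ι s ∈ M → μ s = 1) (h : NConj ((QuotientGroup.mk' M).comp ι) μ ν) :
    NConj ι μ ν := by
  obtain ⟨q, hq⟩ := h
  obtain ⟨g, rfl⟩ := QuotientGroup.mk_surjective q
  have hg : ∀ s, g * ι s * g⁻¹ ∈ ι.range ⊔ M := fun s => by
    obtain ⟨t, ht, -⟩ := hq s
    have h2 : (ι t)⁻¹ * (g * ι s * g⁻¹) ∈ M := QuotientGroup.eq.1 (by simpa using! ht)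
    have h3 := mul_mem (mem_sup_left (T := M) (MonoidHom.mem_range.2 ⟨t, rfl⟩ : ι t ∈ ι.range)) (mem_sup_right h2)
    rwa [mul_inv_cancel_left] at h3
  obtain ⟨b, hb, hn⟩ := exists_normalizing hι _ le_sup_left g hg
  obtain ⟨x, ⟨a, rfl⟩, m, hm, rfl⟩ := Subgroup.mem_sup_of_normal_right.1 hb
  refine ⟨m * g, fun s => ?_⟩
  obtain ⟨t, ht⟩ := hn s
  obtain ⟨t0, ht0, hν⟩ := hq s
  have e : ι (a⁻¹ * t * a) = m * g * ι s * (m * g)⁻¹ := by
    rw [map_mul, map_mul, map_inv, ht]; group
  refine ⟨a⁻¹ * t * a, e, ?_⟩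
  have h2 : ι (t0⁻¹ * (a⁻¹ * t * a)) ∈ M := by
    refine (QuotientGroup.eq_one_iff _).1 ?_
    have hm1 : (QuotientGroup.mk m : G ⧸ M) = 1 := (QuotientGroup.eq_one_iff _).2 hm
    have ht0' : (QuotientGroup.mk (ι t0) : G ⧸ M) = QuotientGroup.mk (g * ι s * g⁻¹) := by
      simpa using! ht0
    rw [map_mul, map_inv, e]
    simp only [QuotientGroup.mk_mul, QuotientGroup.mk_inv, ht0', hm1]
    group
  have h3 := hμ _ h2
  rw [map_mul, map_inv, inv_mul_eq_one] at h3
  rw [hν, h3]

end Pairing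

end Cfsg.Lib.Char.RealOdd
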