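import Cfsg.Agent.Lib.Char.BrauerInduction
import Mathlib.RingTheory.IntegralDomain
import Mathlib.Data.Nat.ChineseRemainder

/-!
# Taking parts for a coprime factorisation inside elementary groups
-/

set_option autoImplicit false
set_option linter.unusedSectionVars false
set_option linter.style.haveILetI false

namespace Cfsg.Lib.Char

open Cfsg
open scoped ComplexConjugate

universe u v

variable {G : Type u} [Group G]

/-- Exponents selecting the two parts for a coprime factorisation. -/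
theorem exists_part_exponents {m n : ℕ} (h : m.Coprime n) :
    ∃ k k' : ℕ, (k ≡ 1 [MOD m] ∧ k ≡ 0 [MOD n]) ∧ (k' ≡ 0 [MOD m] ∧ k' ≡ 1 [MOD n]) ∧
      k + k' ≡ 1 [MOD m * n] := by
  obtain ⟨k, hk⟩ := Nat.chineseRemainder h 1 0
  obtain ⟨k', hk'⟩ := Nat.chineseRemainder h 0 1
  exact ⟨k, k', hk, hk', (Nat.modEq_and_modEq_iff_modEq_mul h).mp
    ⟨by simpa using hk.1.add hk'.1, by simpa using hk.2.add hk'.2⟩⟩

theorem pow_eq_pow_of_card_dvd [Finite G] {N a b : ℕ} (hN : Nat.card G ∣ N) (h : a ≡ b [MOD N])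
    (x : G) : x ^ a = x ^ b :=
  pow_eq_pow_iff_modEq.mpr (h.of_dvd ((orderOf_dvd_natCard x).trans hN))

theorem IsElementary.of_surjective' {p : ℕ} (hp : p.Prime) {H : Type v} [Group H]
    (h : IsElementary p G) (f : G →* H) (hf : Function.Surjective f) : IsElementary p H := by
  obtain ⟨x, hx, hcop, k, hk⟩ := h
  refine ⟨f x, Subgroup.mem_center_iff.mpr fun y => ?_,
    hcop.coprime_dvd_left (orderOf_map_dvd f x), ?_⟩
  · obtain ⟨g, rfl⟩ := hf y
    rw [← map_mul, ← map_mul, Subgroup.mem_center_iff.mp hx g]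
  · have hdvd : (Subgroup.zpowers (f x)).index ∣ p ^ k := by
      rw [← MonoidHom.map_zpowers, ← hk]
      exact Subgroup.index_map_dvd _ hf
    obtain ⟨j, -, hj⟩ := (Nat.dvd_prime_pow hp).mp hdvd
    exact ⟨j, hj⟩

/-- Taking a part is a homomorphism on an elementary group. -/
theorem elementary_mul_pow [Finite G] {p : ℕ} (hp : p.Prime) (hE : IsElementary p G) {m n : ℕ}
    (hmn : m.Coprime n) (hdvd : Nat.card G ∣ m * n) {k : ℕ} (hk : k ≡ 1 [MOD m])
    (hk0 : k ≡ 0 [MOD n]) (a b : G) : (a * b) ^ k = a ^ k * b ^ k := by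
  obtain ⟨x, hx, hcop, j, hj⟩ := hE
  set Z := Subgroup.zpowers x
  have hZc : Z ≤ Subgroup.center G := Subgroup.zpowers_le.mpr hx
  haveI : Z.Normal := ⟨fun z hz g => by
    rw [Subgroup.mem_center_iff.mp (hZc hz) g, mul_inv_cancel_right]; exact hz⟩
  have hco : (Nat.card Z).Coprime Z.index := by
    rw [hj, Nat.card_zpowers]; exact hcop.pow_right j
  obtain ⟨P, hP⟩ := Subgroup.exists_right_complement'_of_coprime hco
  have hPc : Nat.card P = p ^ j := by
    have h1 := hP.card_mul_card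
    rw [← Z.card_mul_index, hj] at h1
    exact Nat.eq_of_mul_eq_mul_left Nat.card_pos h1
  have hsel : (∀ t ∈ P, t ^ k = t) ∨ (∀ t ∈ P, t ^ k = 1) := by
    have h1 : p ^ j ∣ m * n :=
      (hPc ▸ P.card_subgroup_dvd_card).trans hdvd
    by_cases hpn : p ∣ n
    · have hpm : ¬ p ∣ m := fun h => hp.not_dvd_one (hmn ▸ Nat.dvd_gcd h hpn)
      have h2 : p ^ j ∣ n :=
        (((hp.coprime_iff_not_dvd).mpr hpm).pow_left j).dvd_of_dvd_mul_left h1
      refine Or.inr fun t ht => ?_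
      have h3 := pow_eq_pow_of_card_dvd (G := P) (hPc ▸ h2) hk0 ⟨t, ht⟩
      simpa using congrArg Subtype.val h3
    · have h2 : p ^ j ∣ m :=
        (((hp.coprime_iff_not_dvd).mpr hpn).pow_left j).dvd_of_dvd_mul_right h1
      refine Or.inl fun t ht => ?_
      have h3 := pow_eq_pow_of_card_dvd (G := P) (hPc ▸ h2) hk ⟨t, ht⟩
      simpa using congrArg Subtype.val h3
  have hdec : ∀ g : G, ∃ z ∈ Z, ∃ t ∈ P, g = z * t := fun g => by
    obtain ⟨z, hz, t, ht, e⟩ := Subgroup.mem_sup_of_normal_left.mp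
      (hP.sup_eq_top ▸ Subgroup.mem_top g : g ∈ Z ⊔ P)
    exact ⟨z, hz, t, ht, e.symm⟩
  obtain ⟨z, hz, t, ht, rfl⟩ := hdec a
  obtain ⟨z', hz', t', ht', rfl⟩ := hdec b
  have c : ∀ w ∈ Z, ∀ y : G, Commute w y := fun w hw y =>
    (Subgroup.mem_center_iff.mp (hZc hw) y).symm
  rw [show z * t * (z' * t') = z * z' * (t * t') by
    rw [mul_assoc z t, ← mul_assoc t z', ← (c z' hz' t).eq, mul_assoc z' t, ← mul_assoc z z'],
    (c _ (mul_mem hz hz') _).mul_pow, (c z hz z').mul_pow, (c z hz t).mul_pow,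
    (c z' hz' t').mul_pow]
  have e : (t * t') ^ k = t ^ k * t' ^ k := by
    rcases hsel with h | h
    · rw [h _ (mul_mem ht ht'), h _ ht, h _ ht']
    · rw [h _ (mul_mem ht ht'), h _ ht, h _ ht', one_mul]
  rw [e, mul_assoc, ← mul_assoc (z' ^ k), (c _ (pow_mem hz' k) (t ^ k)).eq, mul_assoc, ← mul_assoc]

/-- The homomorphism taking a part inside an elementary group. -/
noncomputable def partHom [Finite G] {p : ℕ} (hp : p.Prime) (hE : IsElementary p G) {m n : ℕ}
    (hmn : m.Coprime n) (hdvd : Nat.card G ∣ m * n) {k : ℕ}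
    (hk : k ≡ 1 [MOD m] ∧ k ≡ 0 [MOD n]) : G →* G where
  toFun e := e ^ k
  map_one' := one_pow k
  map_mul' := elementary_mul_pow hp hE hmn hdvd hk.1 hk.2

theorem card_range_partHom_dvd [Finite G] {p : ℕ} (hp : p.Prime) (hE : IsElementary p G) {m n : ℕ}
    (hmn : m.Coprime n) (hdvd : Nat.card G ∣ m * n) {k : ℕ}
    (hk : k ≡ 1 [MOD m] ∧ k ≡ 0 [MOD n]) : Nat.card (partHom hp hE hmn hdvd hk).range ∣ m := by
  set f := partHom hp hE hmn hdvd hk
  have h1 : Nat.card f.range ∣ m * n := (f.range.card_subgroup_dvd_card).trans hdvd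
  refine Nat.Coprime.dvd_of_dvd_mul_right ?_ h1
  refine Nat.coprime_of_dvd fun r hr hrc hrn => ?_
  haveI := Fact.mk hr
  obtain ⟨⟨u, hu'⟩, hord⟩ := exists_prime_orderOf_dvd_card' r hrc
  rw [Subgroup.orderOf_mk] at hord
  obtain ⟨g, hu⟩ := hu'
  have h2 : u ^ m = 1 := by
    rw [← hu]
    show (g ^ k) ^ m = 1
    rw [← pow_mul, ← pow_zero g]
    refine pow_eq_pow_of_card_dvd hdvd ?_ g
    rw [mul_comm k m]
    simpa using hk.2.mul_left' m
  have h3 : r ∣ m := hord ▸ orderOf_dvd_of_pow_eq_one h2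
  exact hr.not_dvd_one (hmn ▸ Nat.dvd_gcd h3 hrn)

/-- An elementary group is the direct product of its two parts. -/
theorem bijective_parts [Finite G] {p : ℕ} (hp : p.Prime) (hE : IsElementary p G) {m n : ℕ}
    (hmn : m.Coprime n) (hdvd : Nat.card G ∣ m * n) {k k' : ℕ}
    (hk : k ≡ 1 [MOD m] ∧ k ≡ 0 [MOD n]) (hk' : k' ≡ 1 [MOD n] ∧ k' ≡ 0 [MOD m])
    (hkk : k + k' ≡ 1 [MOD m * n]) :
    Function.Bijective (fun e : G =>
      (((partHom hp hE hmn hdvd hk).rangeRestrict e,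
        (partHom hp hE hmn.symm (mul_comm m n ▸ hdvd) hk').rangeRestrict e) :
        (partHom hp hE hmn hdvd hk).range ×
          (partHom hp hE hmn.symm (mul_comm m n ▸ hdvd) hk').range)) := by
  have hrec : ∀ e : G, e = e ^ k * e ^ k' := fun e => by
    rw [← pow_add, pow_eq_pow_of_card_dvd hdvd hkk e, pow_one]
  refine ⟨fun a b h => ?_, ?_⟩
  · have h1 : a ^ k = b ^ k := congrArg Subtype.val (congrArg Prod.fst h)
    have h2 : a ^ k' = b ^ k' := congrArg Subtype.val (congrArg Prod.snd h)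
    rw [hrec a, hrec b, h1, h2]
  · rintro ⟨⟨u, a, ha⟩, ⟨w, b, hb⟩⟩
    change a ^ k = u at ha
    change b ^ k' = w at hb
    refine ⟨u * w, Prod.ext (Subtype.ext ?_) (Subtype.ext ?_)⟩
    · show (u * w) ^ k = u
      rw [elementary_mul_pow hp hE hmn hdvd hk.1 hk.2, ← ha, ← hb]
      simp only [← pow_mul]
      have e1 : k * k ≡ k [MOD m * n] := (Nat.modEq_and_modEq_iff_modEq_mul hmn).mp
        ⟨by simpa using hk.1.mul_right k, (hk.2.mul hk.2).trans hk.2.symm⟩
      have e2 : k' * k ≡ 0 [MOD m * n] := (Nat.modEq_and_modEq_iff_modEq_mul hmn).mp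
        ⟨by simpa using hk'.2.mul_right k, by simpa using hk.2.mul_left k'⟩
      rw [pow_eq_pow_of_card_dvd hdvd e1, pow_eq_pow_of_card_dvd hdvd e2, pow_zero, mul_one]
    · show (u * w) ^ k' = w
      rw [elementary_mul_pow hp hE hmn.symm (mul_comm m n ▸ hdvd) hk'.1 hk'.2, ← ha, ← hb]
      simp only [← pow_mul]
      have e1 : k' * k' ≡ k' [MOD m * n] := (Nat.modEq_and_modEq_iff_modEq_mul hmn).mp
        ⟨(hk'.2.mul hk'.2).trans hk'.2.symm, by simpa using hk'.1.mul_right k'⟩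
      have e2 : k * k' ≡ 0 [MOD m * n] := (Nat.modEq_and_modEq_iff_modEq_mul hmn).mp
        ⟨by simpa using hk'.2.mul_left k, by simpa using hk.2.mul_right k'⟩
      rw [pow_eq_pow_of_card_dvd hdvd e1, pow_eq_pow_of_card_dvd hdvd e2, pow_zero, one_mul]

theorem isIntegral_conj {z : ℂ} (hz : IsIntegral ℤ z) : IsIntegral ℤ (conj z) :=
  map_isIntegral_int (starRingEnd ℂ) hz

/-- The inner product of a weighted section indicator with a linear character is integral. -/
theorem isIntegral_part_sum [Fintype G] {p : ℕ} (hp : p.Prime) (hE : IsElementary p G) {m n : ℕ}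
    (hmn : m.Coprime n) (hdvd : Nat.card G ∣ m * n) {k k' : ℕ}
    (hk : k ≡ 1 [MOD m] ∧ k ≡ 0 [MOD n]) (hk' : k' ≡ 1 [MOD n] ∧ k' ≡ 0 [MOD m])
    (hkk : k + k' ≡ 1 [MOD m * n]) (f : G → ℂ) (hf : ∀ g, IsIntegral ℤ (f g))
    (lam : G →* ℂˣ) :
    IsIntegral ℤ ((n : ℂ) * ((Nat.card G : ℂ)⁻¹ * ∑ e : G, f (e ^ k') * conj (lam e : ℂ))) := by
  classical
  set φ := partHom hp hE hmn hdvd hk
  set ψ := partHom hp hE hmn.symm (mul_comm m n ▸ hdvd) hk'
  haveI := Fintype.ofFinite φ.range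
  haveI := Fintype.ofFinite ψ.range
  set b := Equiv.ofBijective _ (bijective_parts hp hE hmn hdvd hk hk' hkk) with hb
  let Λ : G →* ℂ := (starRingEnd ℂ).toMonoidHom.comp ((Units.coeHom ℂ).comp lam)
  have hΛ : ∀ e, conj (lam e : ℂ) = Λ e := fun _ => rfl
  have hsum : ∑ e : G, f (e ^ k') * conj (lam e : ℂ) =
      (∑ u : φ.range, Λ u) * ∑ w : ψ.range, f w * Λ w := by
    rw [Fintype.sum_mul_sum, ← Fintype.sum_prod_type']
    refine Fintype.sum_equiv b _ _ fun e => ?_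
    show f (e ^ k') * Λ e = Λ (e ^ k) * (f (e ^ k') * Λ (e ^ k'))
    rw [mul_left_comm, ← map_mul, ← pow_add, pow_eq_pow_of_card_dvd hdvd hkk e, pow_one]
  have hW : Nat.card ψ.range ∣ n :=
    card_range_partHom_dvd hp hE hmn.symm (mul_comm m n ▸ hdvd) hk'
  obtain ⟨c, hc⟩ := hW
  have hcard : Nat.card G = Nat.card φ.range * Nat.card ψ.range := by
    rw [← Nat.card_prod]; exact Nat.card_congr b
  have hU0 : (Nat.card φ.range : ℂ) ≠ 0 := Nat.cast_ne_zero.mpr Nat.card_pos.ne'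
  have hW0 : (Nat.card ψ.range : ℂ) ≠ 0 := Nat.cast_ne_zero.mpr Nat.card_pos.ne'
  have hint : IsIntegral ℤ ((c : ℂ) * ∑ w : ψ.range, f w * Λ w) := by
    refine (isIntegral_natCast_complex c).mul (IsIntegral.sum _ fun w _ => (hf _).mul ?_)
    exact isIntegral_conj ((isIrrCharacter_linear lam).isCharacter.isIntegral _)
  rw [hsum, hcard, hc, Nat.cast_mul, Nat.cast_mul, mul_inv]
  rw [show (fun u : φ.range => Λ u) = fun u => (Λ.comp φ.range.subtype) u from rfl,
    sum_hom_units]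
  split_ifs with h
  · rw [Fintype.card_eq_nat_card]
    convert hint using 1
    field_simp
  · simp [isIntegral_zero]
where
  isIntegral_natCast_complex (c : ℕ) : IsIntegral ℤ (c : ℂ) := by
    simpa using isIntegral_algebraMap (R := ℤ) (A := ℂ) (x := (c : ℤ))

end Cfsg.Lib.Char
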