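import Cfsg.Agent.Lib.Char.InvolutionSum

/-!
# Sums over products of two invariant sets of involutions
-/

set_option autoImplicit false
set_option linter.unusedSectionVars false
set_option linter.style.haveILetI false

namespace Cfsg.Lib.Char

open Cfsg
open scoped ComplexConjugate

universe u

variable {G : Type u} [Group G] [Fintype G] [DecidableEq G]

/-- A finite set closed under conjugation. -/
def ConjClosed (I : Finset G) : Prop := ∀ k x, x ∈ I → k * x * k⁻¹ ∈ I

theorem sum_conjClosed_char {I : Finset G} (hI : ConjClosed I) {χ : G → ℂ}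
    (hχ : IsIrrCharacter G χ) (g : G) :
    ∑ x ∈ I, χ (g * x) = χ g * (∑ x ∈ I, χ x) / χ 1 := by
  have h1 : ∀ k : G, ∑ x ∈ I, χ (g * (k * x * k⁻¹)) = ∑ x ∈ I, χ (g * x) :=
    fun k => Finset.sum_nbij' (fun x => k * x * k⁻¹) (fun x => k⁻¹ * x * k)
      (fun x hx => hI k x hx)
      (fun x hx => by simpa using hI k⁻¹ x hx)
      (fun x _ => by group) (fun x _ => by group) (fun x _ => rfl)
  have h2 : (Nat.card G : ℂ) * ∑ x ∈ I, χ (g * x) =
      ∑ x ∈ I, (Nat.card G : ℂ) * χ g * χ x / χ 1 := by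
    simp_rw [← sum_char_mul_conj hχ g]
    rw [Finset.sum_comm, Finset.sum_congr rfl fun k _ => h1 k, Finset.sum_const, Finset.card_univ,
      nsmul_eq_mul, Nat.card_eq_fintype_card]
  rw [← Finset.sum_div, ← Finset.mul_sum] at h2
  refine mul_left_cancel₀ (card_cast_ne_zero (G := G)) ?_
  rw [h2]
  ring

theorem sum_conjClosed_pair {I J : Finset G} (hJ : ConjClosed J) {χ : G → ℂ}
    (hχ : IsIrrCharacter G χ) :
    ∑ x ∈ I, ∑ y ∈ J, χ (x * y) = (∑ x ∈ I, χ x) * (∑ y ∈ J, χ y) / χ 1 := by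
  simp_rw [sum_conjClosed_char hJ hχ]
  rw [← Finset.sum_div, ← Finset.sum_mul]

/-- A class function summed over products from two invariant sets. -/
theorem sum_conjClosed_pair_eq {I J : Finset G} (hJ : ConjClosed J) {F : G → ℂ}
    (hF : IsClassFunction G F) :
    ∑ x ∈ I, ∑ y ∈ J, F (x * y) =
      ∑ χ : IrrCharacter G, classInner F (χ : G → ℂ) *
        ((∑ x ∈ I, (χ : G → ℂ) x) * (∑ y ∈ J, (χ : G → ℂ) y) / (χ : G → ℂ) 1) := by
  conv_lhs => rw [eq_sum_classInner hF]
  simp only [Finset.sum_apply, Pi.smul_apply, smul_eq_mul]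
  rw [Finset.sum_comm_cycle]
  refine Finset.sum_congr rfl fun χ _ => ?_
  simp_rw [← Finset.mul_sum]
  rw [sum_conjClosed_pair hJ χ.2]

theorem sum_finset_classInner_eq (I : Finset G) {F : G → ℂ} (hF : IsClassFunction G F) :
    ∑ x ∈ I, F x =
      ∑ χ : IrrCharacter G, classInner F (χ : G → ℂ) * ∑ x ∈ I, (χ : G → ℂ) x := by
  conv_lhs => rw [eq_sum_classInner hF]
  simp only [Finset.sum_apply, Pi.smul_apply, smul_eq_mul]
  rw [Finset.sum_comm]
  simp only [Finset.mul_sum]

/-- Products from two invariant sets of involutions against a function induced from a subgroup: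
only the pairs inside the subgroup count, as soon as such a pair is inside with its product. -/
theorem sum_pair_indFun_local (L : Subgroup G) [Fintype L] [DecidablePred (· ∈ L)]
    {I J : Finset G} (hI : ConjClosed I) (hJ : ConjClosed J) {ψ : L → ℂ}
    (hloc : ∀ x ∈ I, ∀ y ∈ J, ∀ h : L, x * y = h → ψ h ≠ 0 → x ∈ L) :
    ∑ x ∈ I, ∑ y ∈ J, indFun L ψ (x * y) =
      (L.index : ℂ) * ∑ x ∈ Finset.univ.filter (fun x : L => (x : G) ∈ I),
        ∑ y ∈ Finset.univ.filter (fun y : L => (y : G) ∈ J), ψ (x * y) := by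
  classical
  set K : G → ℕ := fun g => ((I ×ˢ J).filter fun p => p.1 * p.2 = g).card with hK
  have hKc : IsClassFunction G (fun g => (K g : ℂ)) := by
    intro g k
    have : K (k * g * k⁻¹) = K g := by
      refine Finset.card_nbij' (fun p => (k⁻¹ * p.1 * k, k⁻¹ * p.2 * k))
        (fun p => (k * p.1 * k⁻¹, k * p.2 * k⁻¹)) ?_ ?_ ?_ ?_
      · intro p hp
        simp only [Finset.mem_filter, Finset.mem_product, Finset.mem_coe] at hp ⊢
        refine ⟨⟨by simpa using hI k⁻¹ _ hp.1.1, by simpa using hJ k⁻¹ _ hp.1.2⟩, ?_⟩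
        calc k⁻¹ * p.1 * k * (k⁻¹ * p.2 * k) = k⁻¹ * (p.1 * p.2) * k := by group
          _ = g := by rw [hp.2]; group
      · intro p hp
        simp only [Finset.mem_filter, Finset.mem_product, Finset.mem_coe] at hp ⊢
        refine ⟨⟨hI k _ hp.1.1, hJ k _ hp.1.2⟩, ?_⟩
        rw [← hp.2]
        group
      · intro p _; simp [mul_assoc]
      · intro p _; simp [mul_assoc]
    show (K (k * g * k⁻¹) : ℂ) = K g
    rw [this]
  have hsum : ∑ x ∈ I, ∑ y ∈ J, indFun L ψ (x * y) = ∑ g : G, (K g : ℂ) * indFun L ψ g := by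
    rw [← Finset.sum_product', ← Finset.sum_fiberwise (I ×ˢ J) (fun p => p.1 * p.2)]
    refine Finset.sum_congr rfl fun g _ => ?_
    rw [Finset.sum_congr rfl fun p hp => by rw [(Finset.mem_filter.mp hp).2], Finset.sum_const,
      nsmul_eq_mul]
  have hFrob : (Nat.card G : ℂ)⁻¹ * ∑ g : G, (K g : ℂ) * indFun L ψ g =
      (Nat.card L : ℂ)⁻¹ * ∑ h : L, (K h : ℂ) * ψ h := by
    have h := classInner_indFun L ψ hKc
    simp only [classInner, Complex.conj_natCast] at h
    simpa only [mul_comm (K _ : ℂ)] using h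
  set IL : Finset L := Finset.univ.filter (fun x : L => (x : G) ∈ I) with hIL
  set JL : Finset L := Finset.univ.filter (fun y : L => (y : G) ∈ J) with hJL
  have hcount : ∀ h : L, ψ h ≠ 0 → K h = ((IL ×ˢ JL).filter fun p => p.1 * p.2 = h).card := by
    intro h hh
    symm
    refine Finset.card_nbij (fun p => ((p.1 : G), (p.2 : G))) ?_ ?_ ?_
    · intro p hp
      simp only [hIL, hJL, Finset.mem_coe, Finset.mem_filter, Finset.mem_product,
        Finset.mem_univ, true_and] at hp ⊢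
      exact ⟨hp.1, congrArg Subtype.val hp.2⟩
    · intro p _ p' _ e
      simp only [Prod.mk.injEq] at e
      exact Prod.ext (Subtype.ext e.1) (Subtype.ext e.2)
    · rintro ⟨x, y⟩ hp
      simp only [Finset.mem_coe, Finset.mem_filter, Finset.mem_product] at hp
      obtain ⟨⟨hxI, hyJ⟩, hxy⟩ := hp
      have hx : x ∈ L := hloc x hxI y hyJ h hxy hh
      have hy : y ∈ L := by
        rw [show y = x⁻¹ * (h : G) by rw [← hxy, inv_mul_cancel_left]]
        exact L.mul_mem (L.inv_mem hx) h.2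
      refine ⟨(⟨x, hx⟩, ⟨y, hy⟩), ?_, rfl⟩
      simp only [hIL, hJL, Finset.mem_coe, Finset.mem_filter, Finset.mem_product, Finset.mem_univ,
        true_and]
      exact ⟨⟨hxI, hyJ⟩, Subtype.ext hxy⟩
  have hR : ∑ h : L, (K h : ℂ) * ψ h = ∑ x ∈ IL, ∑ y ∈ JL, ψ (x * y) := by
    rw [← Finset.sum_product', ← Finset.sum_fiberwise (IL ×ˢ JL) (fun p => p.1 * p.2)]
    refine Finset.sum_congr rfl fun h _ => ?_
    rw [Finset.sum_congr rfl fun p hp => by rw [(Finset.mem_filter.mp hp).2], Finset.sum_const,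
      nsmul_eq_mul]
    by_cases hh : ψ h = 0
    · rw [hh, mul_zero, mul_zero]
    · rw [hcount h hh]
  rw [hsum, ← hR]
  rw [inv_mul_eq_iff_eq_mul₀ card_cast_ne_zero] at hFrob
  rw [hFrob, ← Subgroup.index_mul_card L, Nat.cast_mul]
  have : (Nat.card L : ℂ) ≠ 0 := Nat.cast_ne_zero.mpr Nat.card_pos.ne'
  field_simp

end Cfsg.Lib.Char
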