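import Mathlib.Data.Matrix.Basis
import Mathlib.LinearAlgebra.Matrix.ToLin
import Mathlib.LinearAlgebra.Matrix.SesquilinearForm
import Mathlib.LinearAlgebra.Matrix.ToLinearEquiv
import Mathlib.LinearAlgebra.Matrix.Determinant.Basic
import Cfsg.Agent.Lib.Char.PermLemma

/-!
# The Frobenius–Schur indicator
-/

set_option autoImplicit false
set_option linter.unusedSectionVars false
set_option linter.style.haveILetI false

namespace Cfsg.Lib.Char

open Cfsg Module Matrix
open scoped ComplexConjugate

universe u

variable {G : Type u} [Group G] [Fintype G]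

/-- The matrix of a representation on a coordinate space. -/
noncomputable def repMat {n : ℕ} (ρ : Representation ℂ G (Fin n → ℂ)) (g : G) :
    Matrix (Fin n) (Fin n) ℂ :=
  LinearMap.toMatrix' (ρ g)

theorem repMat_mul {n : ℕ} (ρ : Representation ℂ G (Fin n → ℂ)) (g h : G) :
    repMat ρ (g * h) = repMat ρ g * repMat ρ h := by
  rw [repMat, map_mul]; exact LinearMap.toMatrix'_mul _ _

theorem repMat_one {n : ℕ} (ρ : Representation ℂ G (Fin n → ℂ)) : repMat ρ 1 = 1 := by
  rw [repMat, map_one]; exact LinearMap.toMatrix'_one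

theorem character_eq_trace {n : ℕ} (ρ : Representation ℂ G (Fin n → ℂ)) (g : G) :
    ρ.character g = (repMat ρ g).trace := by
  rw [Representation.character, LinearMap.trace_eq_matrix_trace ℂ (Pi.basisFun ℂ (Fin n))]
  rfl

/-- Averaging a matrix into an invariant bilinear form. -/
noncomputable def formAvg {n : ℕ} (ρ : Representation ℂ G (Fin n → ℂ))
    (M : Matrix (Fin n) (Fin n) ℂ) : Matrix (Fin n) (Fin n) ℂ :=
  ∑ s, (repMat ρ s)ᵀ * M * repMat ρ s

theorem formAvg_invariant {n : ℕ} (ρ : Representation ℂ G (Fin n → ℂ))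
    (M : Matrix (Fin n) (Fin n) ℂ) (g : G) :
    (repMat ρ g)ᵀ * formAvg ρ M * repMat ρ g = formAvg ρ M := by
  rw [formAvg, Finset.mul_sum, Finset.sum_mul]
  refine Fintype.sum_equiv (Equiv.mulRight g) _ _ fun s => ?_
  simp [repMat_mul, Matrix.transpose_mul, Matrix.mul_assoc]

theorem formAvg_transpose {n : ℕ} (ρ : Representation ℂ G (Fin n → ℂ))
    (M : Matrix (Fin n) (Fin n) ℂ) : (formAvg ρ M)ᵀ = formAvg ρ Mᵀ := by
  simp [formAvg, Matrix.transpose_sum, Matrix.transpose_mul, Matrix.mul_assoc]

theorem formAvg_of_invariant {n : ℕ} (ρ : Representation ℂ G (Fin n → ℂ))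
    {B : Matrix (Fin n) (Fin n) ℂ} (hB : ∀ g, (repMat ρ g)ᵀ * B * repMat ρ g = B) :
    formAvg ρ B = (Nat.card G : ℂ) • B := by
  simp [formAvg, hB, Nat.cast_smul_eq_nsmul]

theorem sum_char_sq_eq {n : ℕ} (ρ : Representation ℂ G (Fin n → ℂ)) :
    ∑ s, ρ.character (s * s) = ∑ i, ∑ j, formAvg ρ (Matrix.single i j (1 : ℂ)) j i := by
  simp only [character_eq_trace, repMat_mul, Matrix.trace, Matrix.diag, Matrix.mul_apply,
    formAvg, Matrix.sum_apply]
  rw [Finset.sum_comm]
  refine Finset.sum_congr rfl fun i _ => ?_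
  rw [Finset.sum_comm]
  refine Finset.sum_congr rfl fun j _ => Finset.sum_congr rfl fun s _ => ?_
  simp [Matrix.single_apply, Matrix.transpose_apply, ite_and]

/-- Invariant forms as intertwining maps into the dual. -/
noncomputable def formMap {n : ℕ} (ρ : Representation ℂ G (Fin n → ℂ))
    {B : Matrix (Fin n) (Fin n) ℂ} (hB : ∀ g, (repMat ρ g)ᵀ * B * repMat ρ g = B) :
    Representation.IntertwiningMap ρ ρ.dual :=
  ⟨Matrix.toLinearMap₂' ℂ B, fun g => LinearMap.ext fun x => LinearMap.ext fun y => by
    show Matrix.toLinearMap₂' ℂ B (ρ g x) y = Matrix.toLinearMap₂' ℂ B x (ρ g⁻¹ y)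
    have hx : ρ g x = repMat ρ g *ᵥ x := (LinearMap.toMatrix'_mulVec (ρ g) x).symm
    have hy : ρ g⁻¹ y = repMat ρ g⁻¹ *ᵥ y := (LinearMap.toMatrix'_mulVec (ρ g⁻¹) y).symm
    have key : (repMat ρ g)ᵀ * B = B * repMat ρ g⁻¹ := by
      calc (repMat ρ g)ᵀ * B = (repMat ρ g)ᵀ * B * (repMat ρ g * repMat ρ g⁻¹) := by
            rw [← repMat_mul, mul_inv_cancel, repMat_one, mul_one]
        _ = B * repMat ρ g⁻¹ := by rw [← mul_assoc, hB]
    rw [Matrix.toLinearMap₂'_apply', Matrix.toLinearMap₂'_apply', hx, hy,
      ← vecMul_transpose (repMat ρ g) x, ← dotProduct_mulVec x (repMat ρ g)ᵀ, mulVec_mulVec,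
      mulVec_mulVec, key]⟩

/-- The Frobenius–Schur indicator is `0`, `1` or `-1`; it vanishes exactly for non-real
characters, and it is `1` for real characters of odd degree. -/
theorem indicator_cases {χ : G → ℂ} (hχ : IsIrrCharacter G χ) :
    ((¬ ∀ s, (χ s).im = 0) ∧ ∑ s, χ (s * s) = 0) ∨
    ((∀ s, (χ s).im = 0) ∧
      (∑ s, χ (s * s) = Nat.card G ∨
        (∑ s, χ (s * s) = -(Nat.card G : ℂ) ∧ ∀ d : ℕ, χ 1 = d → Even d))) := by
  classical
  obtain ⟨n, ρ, hρ, rfl⟩ := hχ
  have hirr := isIrrCharacter_character ρ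
  have hdim : (finrank ℂ (Representation.IntertwiningMap ρ ρ.dual) : ℂ) =
      if (∀ s, (ρ.character s).im = 0) then 1 else 0 := by
    rw [← classInner_character]
    have hd : ρ.dual.character = fun g => conj (ρ.character g) := funext fun g => by
      rw [Representation.char_dual, character_inv]
    rw [hd, classInner_irr (isIrrCharacter_conjFn hirr) hirr]
    refine if_congr ?_ rfl rfl
    rw [funext_iff]
    exact forall_congr' fun g => Complex.conj_eq_iff_im
  by_cases hreal : ∀ s, (ρ.character s).im = 0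
  · right
    refine ⟨hreal, ?_⟩
    rw [if_pos hreal, Nat.cast_eq_one] at hdim
    obtain ⟨f₀, hf₀⟩ : ∃ f : Representation.IntertwiningMap ρ ρ.dual, f ≠ 0 := by
      have : Nontrivial (Representation.IntertwiningMap ρ ρ.dual) :=
        Module.nontrivial_of_finrank_pos (R := ℂ) (by omega)
      exact exists_ne 0
    set B := LinearMap.toMatrix₂' ℂ f₀.toLinearMap with hB
    have hspan : ∀ (M : Matrix (Fin n) (Fin n) ℂ),
        (∀ g, (repMat ρ g)ᵀ * M * repMat ρ g = M) → ∃ c : ℂ, M = c • B := by
      intro M hM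
      obtain ⟨c, hc⟩ := (finrank_eq_one_iff_of_nonzero' f₀ hf₀).mp hdim (formMap ρ hM)
      refine ⟨c, ?_⟩
      have h1 := congrArg (fun f : Representation.IntertwiningMap ρ ρ.dual =>
        LinearMap.toMatrix₂' ℂ f.toLinearMap) hc
      simp only [Representation.IntertwiningMap.toLinearMap_smul, map_smul] at h1
      rw [hB, h1]
      exact (LinearMap.toMatrix'_toLinearMap₂' M).symm
    have hB0 : B ≠ 0 := by
      rw [hB, Ne, LinearEquiv.map_eq_zero_iff]
      exact fun h => hf₀ (Representation.IntertwiningMap.toLinearMap_injective _ _ h)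
    have hBinv : ∀ g, (repMat ρ g)ᵀ * B * repMat ρ g = B := by
      intro g
      rw [hB, repMat, ← LinearMap.toMatrix₂'_compl₁₂]
      refine congrArg _ (LinearMap.ext fun x => LinearMap.ext fun y => ?_)
      show f₀.toLinearMap (ρ g x) (ρ g y) = f₀.toLinearMap x y
      have h := LinearMap.congr_fun (LinearMap.congr_fun (f₀.isIntertwining' g) x) (ρ g y)
      simp only [LinearMap.comp_apply] at h
      rw [h]
      show f₀.toLinearMap x (ρ g⁻¹ (ρ g y)) = _
      rw [Representation.inv_self_apply]
    obtain ⟨ε, hε⟩ := hspan Bᵀ (fun g => by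
      have h := congrArg Matrix.transpose (hBinv g)
      simpa [Matrix.transpose_mul, Matrix.mul_assoc] using h)
    have hε2 : ε * ε = 1 := by
      have h := congrArg Matrix.transpose hε
      rw [Matrix.transpose_transpose, Matrix.transpose_smul, hε, smul_smul] at h
      have h' : (ε * ε - 1) • B = 0 := by rw [sub_smul, one_smul, ← h, sub_self]
      exact sub_eq_zero.mp ((smul_eq_zero.mp h').resolve_right hB0)
    choose c hc using fun i j => hspan (formAvg ρ (Matrix.single i j (1 : ℂ)))
      (formAvg_invariant ρ _)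
    have hcc : ∀ i j, c j i = ε * c i j := by
      intro i j
      have h := congrArg Matrix.transpose (hc i j)
      rw [formAvg_transpose, Matrix.transpose_single, hc j i, Matrix.transpose_smul, hε,
        smul_smul] at h
      have h' : (c j i - c i j * ε) • B = 0 := by rw [sub_smul, h, sub_self]
      rw [sub_eq_zero.mp ((smul_eq_zero.mp h').resolve_right hB0), mul_comm]
    have hsum : ∑ i, ∑ j, B i j * c i j = (Nat.card G : ℂ) := by
      have h1 : formAvg ρ B = ∑ i, ∑ j, B i j • formAvg ρ (Matrix.single i j (1 : ℂ)) := by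
        conv_lhs => rw [Matrix.matrix_eq_sum_single B]
        simp only [formAvg, Finset.mul_sum, Finset.sum_mul, Finset.smul_sum]
        rw [Finset.sum_comm]
        refine Finset.sum_congr rfl fun i _ => ?_
        rw [Finset.sum_comm]
        refine Finset.sum_congr rfl fun j _ => Finset.sum_congr rfl fun s _ => ?_
        rw [← Matrix.smul_mul, ← Matrix.mul_smul, Matrix.smul_single, smul_eq_mul, mul_one]
      rw [formAvg_of_invariant ρ hBinv] at h1
      simp only [hc, smul_smul, ← Finset.sum_smul] at h1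
      have h' : ((Nat.card G : ℂ) - ∑ i, ∑ j, B i j * c i j) • B = 0 := by
        rw [sub_smul, h1, sub_self]
      exact (sub_eq_zero.mp ((smul_eq_zero.mp h').resolve_right hB0)).symm
    have hS : ∑ s, ρ.character (s * s) = ε * (Nat.card G : ℂ) := by
      rw [sum_char_sq_eq, ← hsum, Finset.mul_sum]
      refine Finset.sum_congr rfl fun i _ => ?_
      rw [Finset.mul_sum]
      refine Finset.sum_congr rfl fun j _ => ?_
      rw [hc i j, Matrix.smul_apply, smul_eq_mul,
        show B j i = ε * B i j from by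
          have := congrFun (congrFun hε i) j
          simpa using this]
      ring
    rcases mul_self_eq_one_iff.mp hε2 with h1 | h1
    · left; rw [hS, h1, one_mul]
    · right
      refine ⟨by rw [hS, h1, neg_one_mul], fun d hd => ?_⟩
      rw [Representation.char_one, Module.finrank_fin_fun, Nat.cast_inj] at hd
      subst hd
      by_contra hodd
      have hdet : B.det = 0 := by
        have h2 := congrArg Matrix.det hε
        rw [Matrix.det_transpose, Matrix.det_smul, Fintype.card_fin, h1,
          (Nat.not_even_iff_odd.mp hodd).neg_one_pow, neg_one_mul] at h2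
        exact CharZero.eq_neg_self_iff.mp h2
      obtain ⟨v, hv, hBv⟩ := Matrix.exists_mulVec_eq_zero_iff.mpr hdet
      -- the radical of the form is invariant, hence zero
      let K : Submodule ℂ (Fin n → ℂ) := LinearMap.ker (Matrix.toLin' B)
      rcases ((isIrreducible_iff_submodule ρ).mp hρ).2 K (fun g x hx => by
        simp only [K, LinearMap.mem_ker, Matrix.toLin'_apply] at hx ⊢
        have hx' : ρ g x = repMat ρ g *ᵥ x := (LinearMap.toMatrix'_mulVec (ρ g) x).symm
        have hinv : (repMat ρ g⁻¹)ᵀ * B = B * repMat ρ g := by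
          calc (repMat ρ g⁻¹)ᵀ * B
              = (repMat ρ g⁻¹)ᵀ * ((repMat ρ g)ᵀ * B * repMat ρ g) := by rw [hBinv]
            _ = ((repMat ρ g * repMat ρ g⁻¹)ᵀ * B) * repMat ρ g := by
                rw [Matrix.transpose_mul]; simp [Matrix.mul_assoc]
            _ = B * repMat ρ g := by
                rw [← repMat_mul, mul_inv_cancel, repMat_one, Matrix.transpose_one, one_mul]
        rw [hx', mulVec_mulVec, ← hinv, ← mulVec_mulVec, hx, mulVec_zero]) with hK | hK
      · have : v ∈ K := by simpa [K] using hBv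
        rw [hK, Submodule.mem_bot] at this
        exact hv this
      · apply hB0
        have hlin : Matrix.toLin' B = 0 := LinearMap.ker_eq_top.mp hK
        simpa using hlin
  · left
    refine ⟨hreal, ?_⟩
    rw [if_neg hreal, Nat.cast_eq_zero] at hdim
    have hzero : ∀ M, formAvg ρ M = 0 := fun M => by
      haveI := Module.finrank_zero_iff.mp hdim
      have h := congrArg (fun f : Representation.IntertwiningMap ρ ρ.dual =>
        LinearMap.toMatrix₂' ℂ f.toLinearMap)
        (Subsingleton.elim (formMap ρ (formAvg_invariant ρ M)) 0)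
      exact ((LinearMap.toMatrix'_toLinearMap₂' _).symm.trans h).trans (map_zero _)
    simp [sum_char_sq_eq, hzero]

end Cfsg.Lib.Char
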