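import Mathlib.GroupTheory.Transfer
import Mathlib.GroupTheory.SpecificGroups.Cyclic
import Mathlib.LinearAlgebra.Determinant
import Cfsg.Agent.Lib.Char.Orthogonality

/-!
# Extending invariant irreducible representations of a normal subgroup
-/

set_option autoImplicit false
set_option linter.unusedSectionVars false
set_option linter.style.haveILetI false

namespace Cfsg.Lib.Char

open Cfsg Module
open scoped ComplexConjugate

universe u v

section Schur

variable {G : Type u} [Group G] {W : Type v} [AddCommGroup W] [Module ℂ W] [FiniteDimensional ℂ W]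

/-- An operator commuting with an irreducible representation is scalar. -/
theorem exists_smul_of_comm (σ : Representation ℂ G W) [σ.IsIrreducible] (T : Module.End ℂ W)
    (hT : ∀ g, T * σ g = σ g * T) : ∃ c : ℂ, T = c • 1 := by
  obtain ⟨c, hc⟩ :=
    (Representation.IsIrreducible.algebraMap_intertwiningMap_bijective_of_isAlgClosed
      (ρ := σ)).2 ⟨T, hT⟩
  exact ⟨c, (congrArg Representation.IntertwiningMap.toLinearMap hc).symm⟩

theorem smul_one_injective [Nontrivial W] {a b : ℂ} (h : a • (1 : Module.End ℂ W) = b • 1) :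
    a = b := by
  obtain ⟨v, hv⟩ := exists_ne (0 : W)
  exact smul_left_injective ℂ hv (LinearMap.congr_fun h v)

end Schur

variable {G : Type u} [Group G] {N : Subgroup G} [hN : N.Normal] {W : Type v} [AddCommGroup W]
  [Module ℂ W] [FiniteDimensional ℂ W] (σ : Representation ℂ N W)

/-- Pairs of a group element and an operator intertwining the representation with its conjugate. -/
def extGroup : Subgroup (G × (Module.End ℂ W)ˣ) where
  carrier := {e | ∀ n : N, (e.2 : Module.End ℂ W) * σ n =
    σ (MulAut.conjNormal e.1 n) * (e.2 : Module.End ℂ W)}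
  one_mem' := fun n => by simp
  mul_mem' := fun {a b} ha hb n => by
    simp only [Prod.fst_mul, Prod.snd_mul, Units.val_mul]
    rw [mul_assoc, hb n, ← mul_assoc, ha, mul_assoc, map_mul, MulAut.mul_apply]
  inv_mem' := fun {a} ha n => by
    simp only [Prod.fst_inv, Prod.snd_inv]
    have h := ha (MulAut.conjNormal a.1⁻¹ n)
    rw [← MulAut.mul_apply, ← map_mul, mul_inv_cancel, map_one, MulAut.one_apply] at h
    rw [← Units.mul_right_inj a.2, ← mul_assoc, Units.mul_inv, one_mul, ← mul_assoc, h, mul_assoc,
      Units.mul_inv, mul_one]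

theorem mem_extGroup {e : G × (Module.End ℂ W)ˣ} :
    e ∈ extGroup σ ↔ ∀ n : N, (e.2 : Module.End ℂ W) * σ n =
      σ (MulAut.conjNormal e.1 n) * (e.2 : Module.End ℂ W) := Iff.rfl

/-- The first projection. -/
def extProj : extGroup σ →* G := (MonoidHom.fst _ _).comp (extGroup σ).subtype

theorem extProj_apply (e : extGroup σ) : extProj σ e = e.1.1 := rfl

/-- The operator of an element. -/
def extOp : extGroup σ →* Module.End ℂ W :=
  (Units.coeHom _).comp ((MonoidHom.snd _ _).comp (extGroup σ).subtype)

theorem extOp_apply (e : extGroup σ) : extOp σ e = (e.1.2 : Module.End ℂ W) := rfl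

theorem extGroup_ext {a b : extGroup σ} (h1 : extProj σ a = extProj σ b)
    (h2 : extOp σ a = extOp σ b) : a = b :=
  Subtype.ext (Prod.ext h1 (Units.ext h2))

/-- The graph of the representation. -/
def extGraph : N →* extGroup σ where
  toFun n := ⟨((n : G), σ.toHomUnits n), fun m => by
    simp only [MonoidHom.coe_toHomUnits]
    rw [← map_mul, ← map_mul]
    exact congrArg σ (Subtype.ext (by simp [MulAut.conjNormal_apply]))⟩
  map_one' := Subtype.ext (Prod.ext rfl (map_one σ.toHomUnits))
  map_mul' a b := Subtype.ext (Prod.ext rfl (map_mul σ.toHomUnits a b))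

theorem extProj_extGraph (n : N) : extProj σ (extGraph σ n) = n := rfl

theorem extOp_extGraph (n : N) : extOp σ (extGraph σ n) = σ n := rfl

/-- The scalars. -/
def extScalar : ℂˣ →* extGroup σ where
  toFun c := ⟨(1, Units.map (algebraMap ℂ (Module.End ℂ W)).toMonoidHom c), fun n => by
    show algebraMap ℂ (Module.End ℂ W) (c : ℂ) * σ n = _
    rw [Algebra.commutes, map_one, MulAut.one_apply]
    rfl⟩
  map_one' := Subtype.ext (Prod.ext rfl (map_one _))
  map_mul' a b := Subtype.ext (Prod.ext (one_mul _).symm (map_mul _ a b))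

theorem extProj_extScalar (c : ℂˣ) : extProj σ (extScalar σ c) = 1 := rfl

theorem extOp_extScalar (c : ℂˣ) : extOp σ (extScalar σ c) = (c : ℂ) • 1 := by
  show algebraMap ℂ (Module.End ℂ W) (c : ℂ) = _
  exact Algebra.algebraMap_eq_smul_one _

theorem extScalar_comm (c : ℂˣ) (e : extGroup σ) : extScalar σ c * e = e * extScalar σ c :=
  extGroup_ext σ (by simp [map_mul, extProj_extScalar])
    (by simp [map_mul, extOp_extScalar])

theorem conj_extGraph (e : extGroup σ) (n : N) :
    e * extGraph σ n * e⁻¹ = extGraph σ (MulAut.conjNormal (extProj σ e) n) := by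
  rw [mul_inv_eq_iff_eq_mul]
  exact extGroup_ext σ (by simp [map_mul, extProj_extGraph, MulAut.conjNormal_apply])
    (by simp only [map_mul, extOp_extGraph]; exact e.2 n)

section Irr

variable [hirr : σ.IsIrreducible]

include hirr in
theorem extGroup_nontrivial : Nontrivial W := ((isIrreducible_iff_submodule σ).mp hirr).1

include hirr in
theorem exists_scalar_of_extProj_eq_one {e : extGroup σ} (h : extProj σ e = 1) :
    ∃ c : ℂˣ, e = extScalar σ c := by
  haveI := extGroup_nontrivial σ
  obtain ⟨c, hc⟩ := exists_smul_of_comm σ (extOp σ e) fun n => by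
    have h1 := e.2 n
    rw [show e.1.1 = 1 from h, map_one, MulAut.one_apply] at h1
    exact h1
  have hc0 : c ≠ 0 := by
    intro h0
    rw [h0, zero_smul] at hc
    exact e.1.2.ne_zero hc
  exact ⟨Units.mk0 c hc0, extGroup_ext σ h (by rw [extOp_extScalar, hc]; rfl)⟩

include hirr in
theorem extScalar_injective : Function.Injective (extScalar σ) := fun a b h => by
  haveI := extGroup_nontrivial σ
  have h1 := congrArg (extOp σ) h
  rw [extOp_extScalar, extOp_extScalar] at h1
  exact Units.ext (smul_one_injective h1)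

include hirr in
theorem exists_scalar_of_extProj_eq {a b : extGroup σ} (h : extProj σ a = extProj σ b) :
    ∃ c : ℂˣ, a = b * extScalar σ c := by
  obtain ⟨c, hc⟩ := exists_scalar_of_extProj_eq_one σ (e := b⁻¹ * a)
    (by rw [map_mul, map_inv, h, inv_mul_cancel])
  exact ⟨c, by rw [← hc, mul_inv_cancel_left]⟩

include hirr in
/-- Invariance makes the projection surjective. -/
theorem extProj_surjective [Finite G]
    (hinv : ∀ (g : G) (n : N), σ.character (MulAut.conjNormal g n) = σ.character n) :
    Function.Surjective (extProj σ) := by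
  intro g
  obtain ⟨φ⟩ := nonempty_equiv_of_character_eq σ
    (σ.comp (MulAut.conjNormal g : MulAut N).toMonoidHom) (funext fun n => (hinv g n).symm)
  let B : (Module.End ℂ W)ˣ :=
    { val := φ.toLinearEquiv.toLinearMap
      inv := φ.toLinearEquiv.symm.toLinearMap
      val_inv := LinearMap.ext fun x => φ.toLinearEquiv.apply_symm_apply x
      inv_val := LinearMap.ext fun x => φ.toLinearEquiv.symm_apply_apply x }
  exact ⟨⟨(g, B), fun n => φ.toIntertwiningMap.isIntertwining' n⟩, rfl⟩

include hirr in
/-- A complement to the scalars containing the graph gives an extension. -/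
theorem exists_extension_of_section (L : Subgroup (extGroup σ)) (hgraph : ∀ n, extGraph σ n ∈ L)
    (hsur : ∀ g, ∃ e ∈ L, extProj σ e = g) (htriv : ∀ c, extScalar σ c ∈ L → c = 1) :
    ∃ ρ : Representation ℂ G W, (∀ n : N, ρ (n : G) = σ n) ∧
      ∀ g, ∃ e ∈ L, extProj σ e = g ∧ ρ g = extOp σ e := by
  choose s hsL hs using hsur
  have huniq : ∀ a ∈ L, ∀ b ∈ L, extProj σ a = extProj σ b → a = b := by
    intro a ha b hb h
    obtain ⟨c, hc⟩ := exists_scalar_of_extProj_eq σ h
    have : extScalar σ c ∈ L := by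
      have h1 : b⁻¹ * a ∈ L := mul_mem (inv_mem hb) ha
      rwa [hc, inv_mul_cancel_left] at h1
    rw [hc, htriv c this, map_one, mul_one]
  refine ⟨{ toFun := fun g => extOp σ (s g), map_one' := ?_, map_mul' := fun a b => ?_ },
    fun n => ?_, fun g => ⟨s g, hsL g, hs g, rfl⟩⟩
  · rw [huniq _ (hsL 1) 1 L.one_mem (by rw [hs, map_one]), map_one]
  · rw [huniq _ (hsL (a * b)) (s a * s b) (mul_mem (hsL a) (hsL b))
      (by rw [map_mul, hs, hs, hs]), map_mul]
  · show extOp σ (s (n : G)) = σ n
    rw [huniq _ (hsL _) _ (hgraph n) (by rw [hs, extProj_extGraph]), extOp_extGraph]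

include hirr in
/-- The exponents realized by homomorphisms on the scalars, trivial on the graph. -/
def extExponents : AddSubgroup ℤ where
  carrier := {k | ∃ V : extGroup σ →* ℂˣ, (∀ n, V (extGraph σ n) = 1) ∧
    ∀ c, V (extScalar σ c) = c ^ k}
  zero_mem' := ⟨1, fun _ => rfl, fun c => (zpow_zero c).symm⟩
  add_mem' := fun {a b} ⟨V, hV1, hV2⟩ ⟨V', hV1', hV2'⟩ =>
    ⟨V * V', fun n => by simp [hV1, hV1'], fun c => by
      rw [MonoidHom.mul_apply, hV2, hV2', zpow_add]⟩
  neg_mem' := fun {a} ⟨V, hV1, hV2⟩ =>
    ⟨V⁻¹, fun n => by simp [hV1], fun c => by rw [MonoidHom.inv_apply, hV2, zpow_neg]⟩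

include hirr in
theorem exists_extension_of_hom [Finite G]
    (hinv : ∀ (g : G) (n : N), σ.character (MulAut.conjNormal g n) = σ.character n)
    (h1 : (1 : ℤ) ∈ extExponents σ) :
    ∃ ρ : Representation ℂ G W, ∀ n : N, ρ (n : G) = σ n := by
  obtain ⟨V, hV1, hV2⟩ := h1
  simp only [zpow_one] at hV2
  obtain ⟨ρ, hρ, -⟩ := exists_extension_of_section σ V.ker (fun n => MonoidHom.mem_ker.mpr (hV1 n))
    (fun g => by
      obtain ⟨e, he⟩ := extProj_surjective σ hinv g
      exact ⟨e * extScalar σ (V e)⁻¹, by rw [MonoidHom.mem_ker, map_mul, hV2, mul_inv_cancel],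
        by rw [map_mul, extProj_extScalar, mul_one, he]⟩)
    fun c hc => by rw [← hV2 c]; exact MonoidHom.mem_ker.mp hc
  exact ⟨ρ, hρ⟩

include hirr in
/-- An extension to an overgroup gives its index as an exponent. -/
theorem index_mem_extExponents [Finite G]
    (hinv : ∀ (g : G) (n : N), σ.character (MulAut.conjNormal g n) = σ.character n)
    (P : Subgroup G) (hNP : N ≤ P) (ρP : Representation ℂ P W)
    (hρP : ∀ n : N, ρP ⟨n, hNP n.2⟩ = σ n) : (P.index : ℤ) ∈ extExponents σ := by
  haveI := extGroup_nontrivial σ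
  set EP : Subgroup (extGroup σ) := P.comap (extProj σ) with hEP
  have hidx : EP.index = P.index :=
    Subgroup.index_comap_of_surjective P (extProj_surjective σ hinv)
  haveI : EP.FiniteIndex := ⟨by rw [hidx]; exact Subgroup.index_ne_zero_of_finite⟩
  -- the graph of the extension
  have hmem : ∀ x : P, ((x : G), ρP.toHomUnits x) ∈ extGroup σ := fun x m => by
    simp only [MonoidHom.coe_toHomUnits]
    rw [← hρP, ← hρP, ← map_mul, ← map_mul]
    exact congrArg ρP (Subtype.ext (by simp [MulAut.conjNormal_apply]))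
  let Γ : P →* extGroup σ :=
    { toFun := fun x => ⟨((x : G), ρP.toHomUnits x), hmem x⟩
      map_one' := Subtype.ext (Prod.ext rfl (map_one ρP.toHomUnits))
      map_mul' := fun a b => Subtype.ext (Prod.ext rfl (map_mul ρP.toHomUnits a b)) }
  have hΓN : ∀ n : N, Γ ⟨n, hNP n.2⟩ = extGraph σ n :=
    fun n => extGroup_ext σ rfl (hρP n)
  let π' : EP →* P := (extProj σ).subgroupComap P
  have hex : ∀ e : EP, ∃ c : ℂˣ, (e : extGroup σ) = Γ (π' e) * extScalar σ c :=
    fun e => exists_scalar_of_extProj_eq σ rfl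
  choose r hr using hex
  have hru : ∀ (e : EP) (c : ℂˣ), (e : extGroup σ) = Γ (π' e) * extScalar σ c →
      r e = c := fun e c hc =>
    extScalar_injective σ (mul_left_cancel ((hr e).symm.trans hc))
  have hEmul : ∀ a b : EP, r (a * b) = r a * r b := fun a b => by
    refine hru _ _ ?_
    rw [Subgroup.coe_mul, map_mul π', map_mul Γ, map_mul (extScalar σ)]
    conv_lhs => rw [hr a, hr b]
    rw [mul_assoc, ← mul_assoc (extScalar σ (r a)), extScalar_comm, mul_assoc, ← mul_assoc]
  let R : EP →* ℂˣ := MonoidHom.mk' r hEmul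
  refine ⟨MonoidHom.transfer R, fun n => ?_, fun c => ?_⟩
  · classical
    haveI : Fintype (extGroup σ ⧸ EP) := EP.fintypeQuotientOfFiniteIndex
    haveI : Finite (Quotient (MulAction.orbitRel
      (Subgroup.zpowers (extGraph σ n)) (extGroup σ ⧸ EP))) := Quotient.finite _
    haveI := Fintype.ofFinite (Quotient (MulAction.orbitRel
      (Subgroup.zpowers (extGraph σ n)) (extGroup σ ⧸ EP)))
    rw [MonoidHom.transfer_eq_prod_quotient_orbitRel_zpowers_quot]
    refine Finset.prod_eq_one fun q _ => ?_
    have key : ∀ (e : EP) (m : N), (e : extGroup σ) = extGraph σ m → R e = 1 := by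
      intro e m he
      refine hru e 1 ?_
      rw [map_one, mul_one, show π' e = ⟨m, hNP m.2⟩ from Subtype.ext (by
        show extProj σ (e : extGroup σ) = _
        rw [he]; rfl), hΓN]
      exact he
    refine key _ (MulAut.conjNormal (extProj σ q.out.out⁻¹)
      (n ^ Function.minimalPeriod (extGraph σ n • ·) q.out)) ?_
    rw [← conj_extGraph, inv_inv, map_pow]
  · have hcen : ∀ (k : ℕ) (g₀ : extGroup σ), g₀⁻¹ * extScalar σ c ^ k * g₀ = extScalar σ c ^ k := by
      intro k g₀
      rw [← map_pow, mul_assoc, extScalar_comm, inv_mul_cancel_left]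
    rw [MonoidHom.transfer_eq_pow R _ fun k g₀ _ => hcen k g₀, zpow_natCast]
    refine hru _ _ ?_
    rw [show π' ⟨extScalar σ c ^ EP.index, _⟩ = 1 from Subtype.ext (by
      show extProj σ (extScalar σ c ^ EP.index) = 1
      rw [map_pow, extProj_extScalar, one_pow]), map_one, one_mul, map_pow, ← hidx]

end Irr

end Cfsg.Lib.Char
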