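import Cfsg.Agent.Lib.Char.Triple

/-!
# Restriction along scalars; homogeneity of the multiplicity representation
-/

set_option autoImplicit false
set_option linter.unusedSectionVars false
set_option linter.style.haveILetI false

namespace Cfsg.Lib.Char

open Cfsg Module
open scoped ComplexConjugate

universe u v w

/-- All restrictions to normal subgroups are homogeneous. -/
def IsHomogeneousChar {G : Type u} [Group G] (χ : G → ℂ) : Prop :=
  ∀ N : Subgroup G, N.Normal → ∃ (ϑ : N → ℂ) (e : ℕ), IsIrrCharacter N ϑ ∧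
    (fun n : N => χ n) = (e : ℂ) • ϑ

section Basic

variable {G : Type u} [Group G] [Fintype G]

theorem eq_zero_or_eq_zero_of_irr_add {a b : G → ℂ} (ha : IsCharacter G a) (hb : IsCharacter G b)
    (h : IsIrrCharacter G (a + b)) : a = 0 ∨ b = 0 := by
  by_cases h0 : a 1 = 0
  · exact Or.inl (ha.eq_zero_of_degree h0)
  obtain ⟨φ, hφ⟩ := exists_constituent ha h0
  have hne : classInner (a + b) (φ : G → ℂ) ≠ 0 := by
    intro e
    have h1 := congrArg Complex.re e
    rw [classInner_add_left, Complex.add_re, Complex.zero_re] at h1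
    have h2 := classInner_re_nonneg hb φ.2.isCharacter
    have h3 := classInner_re_nonneg ha φ.2.isCharacter
    exact hφ ((eq_zero_iff_re_classInner ha φ.2.isCharacter).mpr (by linarith))
  have heq : a + b = (φ : G → ℂ) := by
    by_contra h'
    exact hne (classInner_irr_ne h φ.2 h')
  have hle := degree_le_of_constituent φ.2 ha hφ
  rw [← heq, Pi.add_apply, Complex.add_re] at hle
  obtain ⟨n, hn⟩ := hb.exists_degree
  rw [hn, Complex.natCast_re] at hle
  refine Or.inr (hb.eq_zero_of_degree ?_)
  have : n = 0 := Nat.le_zero.mp (by exact_mod_cast (show (n : ℝ) ≤ 0 by linarith))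
  rw [hn, this, Nat.cast_zero]

theorem isIrrCharacter_of_indFun (K : Subgroup G) [Fintype K] {ψ : K → ℂ} (hψ : IsCharacter K ψ)
    (h : IsIrrCharacter G (indFun K ψ)) : IsIrrCharacter K ψ := by
  have hψ1 : ψ 1 ≠ 0 := fun h0 => h.apply_one_ne_zero (by rw [indFun_apply_one, h0, mul_zero])
  obtain ⟨φ, hφ⟩ := exists_constituent hψ hψ1
  have hd := isCharacter_sub_constituent hψ φ.2 hφ
  have hsum : indFun K (φ : K → ℂ) + indFun K (ψ - (φ : K → ℂ)) = indFun K ψ := by
    funext g
    simp only [Pi.add_apply, indFun, ← mul_add, ← Finset.sum_add_distrib]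
    congr 1
    refine Finset.sum_congr rfl fun x _ => ?_
    by_cases hx : x⁻¹ * g * x ∈ K
    · simp [extendByZero_of_mem _ _ hx]
    · simp [extendByZero_of_notMem _ _ hx]
  rcases eq_zero_or_eq_zero_of_irr_add (isCharacter_indFun K φ.2.isCharacter)
    (isCharacter_indFun K hd) (hsum ▸ h) with h0 | h0
  · exfalso
    have h1 := congrFun h0 1
    rw [indFun_apply_one, Pi.zero_apply] at h1
    exact φ.2.apply_one_ne_zero
      ((mul_eq_zero.mp h1).resolve_left (Nat.cast_ne_zero.mpr Subgroup.index_ne_zero_of_finite))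
  · have h1 := congrFun h0 1
    rw [indFun_apply_one, Pi.zero_apply] at h1
    have h2 := hd.eq_zero_of_degree
      ((mul_eq_zero.mp h1).resolve_left (Nat.cast_ne_zero.mpr Subgroup.index_ne_zero_of_finite))
    rw [sub_eq_zero.mp h2]
    exact φ.2

theorem scalar_of_constituent {V : Type v} [AddCommGroup V] [Module ℂ V] [FiniteDimensional ℂ V]
    {W : Type w} [AddCommGroup W] [Module ℂ W] [FiniteDimensional ℂ W]
    (R : Representation ℂ G V) (η : Representation ℂ G W) [η.IsIrreducible]
    (h : classInner R.character η.character ≠ 0) {z : G} {c : ℂ}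
    (hz : R z = c • LinearMap.id) : η z = c • LinearMap.id := by
  rw [classInner_character] at h
  have : Nontrivial (Representation.IntertwiningMap η R) :=
    Module.nontrivial_of_finrank_pos (R := ℂ)
      (Nat.pos_of_ne_zero fun h0 => h (by rw [h0, Nat.cast_zero]))
  obtain ⟨f, hf⟩ := exists_ne (0 : Representation.IntertwiningMap η R)
  have hfi := (Representation.IsIrreducible.injective_or_eq_zero f).resolve_right hf
  refine LinearMap.ext fun x => hfi ?_
  have h1 := LinearMap.congr_fun (f.isIntertwining' z) x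
  show f.toLinearMap (η z x) = f.toLinearMap (c • x)
  rw [map_smul]
  exact h1.trans (LinearMap.congr_fun hz _)

theorem norm_scalar_eq_one {V : Type v} [AddCommGroup V] [Module ℂ V] [FiniteDimensional ℂ V]
    [Nontrivial V]
    (R : Representation ℂ G V) {z : G} {c : ℂ} (hz : R z = c • LinearMap.id) : ‖c‖ = 1 := by
  have h : ∀ k : ℕ, R (z ^ k) = (c ^ k) • LinearMap.id := by
    intro k
    rw [map_pow, hz, show (LinearMap.id : V →ₗ[ℂ] V) = 1 from rfl, smul_pow, one_pow]
  have h1 := h (orderOf z)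
  rw [pow_orderOf_eq_one, map_one] at h1
  refine Complex.norm_eq_one_of_pow_eq_one (n := orderOf z) ?_ (orderOf_pos z).ne'
  refine smul_one_injective (W := V) ?_
  rw [one_smul]
  exact h1.symm

theorem isIrreducible_comp_of_scalar {V : Type v} [AddCommGroup V] [Module ℂ V] {K : Type w}
    [Group K] (Φ : Representation ℂ G V) [hΦ : Φ.IsIrreducible] (f : K →* G) (Z : Subgroup G)
    (hgen : ∀ g, ∃ k, ∃ z ∈ Z, g = f k * z) (hsc : ∀ z ∈ Z, ∃ c : ℂ, Φ z = c • LinearMap.id) :
    Representation.IsIrreducible (Φ.comp f : Representation ℂ K V) := by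
  rw [isIrreducible_iff_submodule] at hΦ ⊢
  refine ⟨hΦ.1, fun p hp => hΦ.2 p fun g x hx => ?_⟩
  obtain ⟨k, z, hz, rfl⟩ := hgen g
  obtain ⟨c, hc⟩ := hsc z hz
  rw [map_mul, Module.End.mul_apply, hc]
  exact hp k _ (p.smul_mem c hx)

theorem degree_one_of_comm_image {V : Type v} [AddCommGroup V] [Module ℂ V] [FiniteDimensional ℂ V]
    (η : Representation ℂ G V) [hη : η.IsIrreducible] (hc : ∀ a b, η a * η b = η b * η a) :
    finrank ℂ V = 1 := by
  haveI : Nontrivial V := ((isIrreducible_iff_submodule η).mp hη).1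
  obtain ⟨v, hv⟩ := exists_ne (0 : V)
  rcases ((isIrreducible_iff_submodule η).mp hη).2 (ℂ ∙ v) (fun g x hx => by
    obtain ⟨c, hc'⟩ := exists_smul_of_comm η (η g) fun b => hc g b
    rw [hc']
    exact Submodule.smul_mem _ c hx) with h | h
  · exact absurd (Submodule.span_singleton_eq_bot.mp h) hv
  · rw [← finrank_top ℂ V, ← h, finrank_span_singleton hv]

end Basic

variable {G : Type u} [Group G] [Fintype G] {N : Subgroup G} [hN : N.Normal] {m : ℕ}
  (σ : Representation ℂ N (Fin m → ℂ)) [hirr : σ.IsIrreducible]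

include hirr in
/-- Multiplying by the character of the lifts is an isometry. -/
theorem classInner_mul_detRep [Fintype N] {K : Type u} [Group K] [Fintype K]
    (f : K →* detOne σ) (hf : ∀ n : N, ∃ k, detProj σ (f k) = n) (α β : K → ℂ)
    (hαβ : ∀ x z, detProj σ (f z) ∈ N → α (x * z) * conj (β (x * z)) = α x * conj (β x)) :
    classInner (fun x => α x * (detRep σ).character (f x))
      (fun x => β x * (detRep σ).character (f x)) = classInner α β := by
  classical
  haveI := finite_detOne σ
  let Z : Subgroup K := N.comap ((detProj σ).comp f)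
  haveI := Fintype.ofFinite Z
  let π : Z →* N :=
    { toFun := fun z => ⟨detProj σ (f (z : K)), z.2⟩
      map_one' := Subtype.ext (by simp)
      map_mul' := fun a b => Subtype.ext (by simp) }
  have hπ : Function.Surjective π := fun n => by
    obtain ⟨k, hk⟩ := hf n
    exact ⟨⟨k, by show detProj σ (f k) ∈ N; rw [hk]; exact n.2⟩, Subtype.ext hk⟩
  set R : K → ℂ := fun x => (detRep σ).character (f x) with hR
  have hinner : ∀ x : K, ∑ z : Z, R (x * z) * conj (R (x * z)) = (Nat.card Z : ℂ) := by
    intro x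
    have hterm : ∀ z : Z, R (x * z) * conj (R (x * z)) =
        LinearMap.trace ℂ _ (detRep σ (f x) * σ (π z)) *
          LinearMap.trace ℂ _ (σ (π z)⁻¹ * detRep σ (f x)⁻¹) := by
      intro z
      obtain ⟨c, hc0, hc⟩ := exists_scalar_detRep σ (x := f z) z.2
      have hc' : detRep σ (f z) = c • σ (π z) := hc
      have hinv : detRep σ (f z)⁻¹ = c⁻¹ • σ (π z)⁻¹ := by
        refine (left_inv_eq_right_inv (a := detRep σ (f z)) ?_ ?_).symm
        · rw [hc', smul_mul_smul_comm, inv_mul_cancel₀ hc0, ← map_mul, inv_mul_cancel, map_one,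
            one_smul]
        · rw [← map_mul, mul_inv_cancel, map_one]
      rw [hR]
      simp only
      rw [← (isCharacter_character (detRep σ)).apply_inv, ← map_inv, mul_inv_rev, map_mul f x,
        map_mul f]
      show LinearMap.trace ℂ _ (detRep σ (f x * f z)) *
        LinearMap.trace ℂ _ (detRep σ (f (z : K)⁻¹ * f x⁻¹)) = _
      rw [map_mul (detRep σ), map_mul (detRep σ), map_inv f (z : K), map_inv f x, hc', hinv,
        mul_smul_comm,
        smul_mul_assoc, map_smul, map_smul, smul_eq_mul, smul_eq_mul, mul_mul_mul_comm,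
        mul_inv_cancel₀ hc0, one_mul]
    simp only [hterm]
    rw [sum_comp_surjective π hπ (fun n => LinearMap.trace ℂ _ (detRep σ (f x) * σ n) *
      LinearMap.trace ℂ _ (σ n⁻¹ * detRep σ (f x)⁻¹)),
      sum_trace_mul_trace_inv σ _ _ (by rw [← map_mul, mul_inv_cancel, map_one])]
    have h1 := sum_comp_surjective π hπ (fun _ => (1 : ℂ))
    simp only [Finset.sum_const, Finset.card_univ, nsmul_eq_mul, mul_one,
      ← Nat.card_eq_fintype_card] at h1
    exact h1.symm
  have hZ : (Nat.card Z : ℂ) ≠ 0 := Nat.cast_ne_zero.mpr Nat.card_pos.ne'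
  simp only [classInner, map_mul]
  congr 1
  have hrw : ∀ x, α x * R x * (conj (β x) * conj (R x)) = α x * conj (β x) * (R x * conj (R x)) :=
    fun x => by ring
  rw [hR] at hrw
  simp only at hrw
  simp only [hrw]
  apply mul_left_cancel₀ hZ
  have hshift : ∀ z : Z, ∑ x, α x * conj (β x) * (R (x * z) * conj (R (x * z))) =
      ∑ x, α x * conj (β x) * (R x * conj (R x)) := fun z => by
    refine Fintype.sum_equiv (Equiv.mulRight (z : K)) _ _ fun x => ?_
    simp only [Equiv.coe_mulRight]
    rw [hαβ x z z.2]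
  calc (Nat.card Z : ℂ) * ∑ x, α x * conj (β x) * (R x * conj (R x))
      = ∑ z : Z, ∑ x, α x * conj (β x) * (R (x * z) * conj (R (x * z))) := by
        simp only [hshift, Finset.sum_const, Finset.card_univ, nsmul_eq_mul,
          ← Nat.card_eq_fintype_card]
    _ = (Nat.card Z : ℂ) * ∑ x, α x * conj (β x) := by
        rw [Finset.sum_comm, Finset.mul_sum]
        exact Finset.sum_congr rfl fun x _ => by rw [← Finset.mul_sum, hinner x, mul_comm]

theorem mul_conj_scalar_eq {K : Type u} [Group K] [Fintype K] {V : Type v} [AddCommGroup V]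
    [Module ℂ V] [FiniteDimensional ℂ V] [Nontrivial V] {W : Type w} [AddCommGroup W] [Module ℂ W]
    [FiniteDimensional ℂ W] (R : Representation ℂ K V) (S : Representation ℂ K W) {z : K} {c : ℂ}
    (hR : R z = c • LinearMap.id) (hS : S z = c • LinearMap.id) (x : K) :
    R.character (x * z) * conj (S.character (x * z)) = R.character x * conj (S.character x) := by
  have h1 : R.character (x * z) = c * R.character x := by
    show LinearMap.trace ℂ _ (R (x * z)) = _
    rw [map_mul, hR, show R x * (c • LinearMap.id) = c • R x by ext v; simp, map_smul, smul_eq_mul]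
    rfl
  have h2 : S.character (x * z) = c * S.character x := by
    show LinearMap.trace ℂ _ (S (x * z)) = _
    rw [map_mul, hS, show S x * (c • LinearMap.id) = c • S x by ext v; simp, map_smul, smul_eq_mul]
    rfl
  rw [h1, h2, map_mul, mul_mul_mul_comm, Complex.mul_conj', norm_scalar_eq_one R hR]
  simp

theorem isHomogeneousChar_comp {D : Type u} [Group D] [Fintype D] {V : Type v} [AddCommGroup V]
    [Module ℂ V] [FiniteDimensional ℂ V] (Φ : Representation ℂ D V) [hΦ : Φ.IsIrreducible]
    (Z : Subgroup D) [Z.Normal] (hsc : ∀ z ∈ Z, ∃ c : ℂ, Φ z = c • LinearMap.id)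
    (hhom : ∀ N' : Subgroup D, N'.Normal → Z ≤ N' → ∃ (ϑ : N' → ℂ) (e : ℕ),
      IsIrrCharacter N' ϑ ∧ (fun n : N' => Φ.character n) = (e : ℂ) • ϑ)
    {K : Type u} [Group K] [Fintype K] (f : K →* D) (hgen : ∀ g, ∃ k, ∃ z ∈ Z, g = f k * z) :
    IsHomogeneousChar (fun x => Φ.character (f x)) := by
  intro N₀ hN₀
  let P : Subgroup D := N₀.map f
  have hnorm : (P ⊔ Z).Normal := by
    refine ⟨fun a ha g => ?_⟩
    obtain ⟨b, hb, w, hw, rfl⟩ := Subgroup.mem_sup_of_normal_right.mp ha
    obtain ⟨n, hn, rfl⟩ := hb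
    obtain ⟨k, z, hz, rfl⟩ := hgen g
    have h1 : f k * z * (f n * w) * (f k * z)⁻¹ =
        f (k * n * k⁻¹) * (f k * ((f n)⁻¹ * z * f n) * (f k)⁻¹) *
          (f k * (w * z⁻¹) * (f k)⁻¹) := by
      rw [map_mul, map_mul, map_inv]; group
    rw [h1]
    refine mul_mem (mul_mem (Subgroup.mem_sup_left ⟨_, hN₀.conj_mem n hn k, rfl⟩)
      (Subgroup.mem_sup_right (Subgroup.Normal.conj_mem inferInstance _ ?_ _)))
      (Subgroup.mem_sup_right (Subgroup.Normal.conj_mem inferInstance _
        (mul_mem hw (inv_mem hz)) _))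
    have h2 := Subgroup.Normal.conj_mem (inferInstance : Z.Normal) z hz (f n)⁻¹
    rwa [inv_inv] at h2
  obtain ⟨ϑ, e, hϑ, hres⟩ := hhom _ hnorm le_sup_right
  haveI := Fintype.ofFinite ↥(P ⊔ Z)
  have hne : classInner (fun x : ↥(P ⊔ Z) => Φ.character x) ϑ ≠ 0 := by
    rw [hres, classInner_smul_left, classInner_irr_self hϑ, mul_one]
    intro h0
    refine (isIrrCharacter_character Φ).apply_one_ne_zero ?_
    have h1 := congrFun hres 1
    simp only [Pi.smul_apply, h0, zero_smul, OneMemClass.coe_one] at h1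
    exact h1
  obtain ⟨k, η, hη, rfl⟩ := hϑ
  haveI := hη
  let g₀ : N₀ →* ↥(P ⊔ Z) :=
    (f.comp N₀.subtype).codRestrict (P ⊔ Z) fun n => Subgroup.mem_sup_left ⟨n, n.2, rfl⟩
  have hsc' : ∀ z ∈ Z.subgroupOf (P ⊔ Z), ∃ c : ℂ, η z = c • LinearMap.id := by
    intro z hz
    obtain ⟨c, hc⟩ := hsc _ (Subgroup.mem_subgroupOf.mp hz)
    exact ⟨c, scalar_of_constituent (Φ.comp (P ⊔ Z).subtype) η hne hc⟩
  haveI hirr' : Representation.IsIrreducible (η.comp g₀ : Representation ℂ N₀ (Fin k → ℂ)) :=
    isIrreducible_comp_of_scalar η g₀ (Z.subgroupOf (P ⊔ Z)) (fun a => by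
      obtain ⟨b, hb, w, hw, hbw⟩ := Subgroup.mem_sup_of_normal_right.mp a.2
      obtain ⟨n, hn, rfl⟩ := hb
      exact ⟨⟨n, hn⟩, ⟨w, Subgroup.mem_sup_right hw⟩, Subgroup.mem_subgroupOf.mpr hw,
        Subtype.ext hbw.symm⟩) hsc'
  exact ⟨Representation.character (η.comp g₀ : Representation ℂ N₀ (Fin k → ℂ)), e,
    isIrrCharacter_character _,
    funext fun n => congrFun hres (g₀ n)⟩

include hirr in
/-- The multiplicity representation of a homogeneous character is irreducible and homogeneous. -/
theorem exists_triple {χ : G → ℂ} (hχ : IsIrrCharacter G χ) (hqp : IsHomogeneousChar χ) {e : ℕ}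
    (hres : (fun n : N => χ n) = (e : ℂ) • σ.character) :
    ∃ Φ : Representation ℂ (detOne σ) (Fin e → ℂ), Φ.IsIrreducible ∧
      (∀ x, χ (detProj σ x) = Φ.character x * (detRep σ).character x) ∧
      (∀ x ∈ N.comap (detProj σ), ∃ c : ℂ, Φ x = c • LinearMap.id) ∧
      (∀ [Fintype (detOne σ)] (N' : Subgroup (detOne σ)), N'.Normal → N.comap (detProj σ) ≤ N' →
        ∃ (ϑ : N' → ℂ) (k : ℕ), IsIrrCharacter N' ϑ ∧
          (fun n : N' => Φ.character n) = (k : ℂ) • ϑ) := by
  classical
  haveI := extGroup_nontrivial σ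
  haveI := finite_detOne σ
  haveI := Fintype.ofFinite (detOne σ)
  haveI := Fintype.ofFinite N
  have he : e ≠ 0 := by
    intro h0
    refine hχ.apply_one_ne_zero ?_
    rw [show χ 1 = χ ((1 : N) : G) from rfl, congrFun hres 1]
    simp [h0]
  haveI : Nonempty (Fin e) := ⟨⟨0, Nat.pos_of_ne_zero he⟩⟩
  obtain ⟨ρ, hρ, rfl⟩ := exists_rep_of_res_eq N.subtype (powRep σ e) hχ.isCharacter fun n => by
    rw [powRep_character]; exact congrFun hres n
  have hinv : ∀ (g : G) (n : N), σ.character (MulAut.conjNormal g n) = σ.character n := by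
    intro g n
    have h1 := congrFun hres (MulAut.conjNormal g n)
    have h2 := congrFun hres n
    simp only [Pi.smul_apply, smul_eq_mul, MulAut.conjNormal_apply] at h1 h2
    rw [hχ.isClassFunction] at h1
    exact mul_left_cancel₀ (Nat.cast_ne_zero.mpr he) (h1.symm.trans h2)
  have hsurj := detProj_surjective σ hinv
  obtain ⟨Φ, hformula, hsc⟩ := exists_mult_rep σ (e := e) (ρ := ρ) hρ
  have hprod : ∀ {K : Type u} [Group K] (f : K →* detOne σ),
      (fun x => ρ.character (detProj σ (f x))) =
        fun x => Φ.character (f x) * (detRep σ).character (f x) := fun f =>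
    funext fun x => hformula (f x)
  have hΦirr : IsIrrCharacter (detOne σ) Φ.character := by
    refine isIrrCharacter_of_norm_one (isCharacter_character Φ) ?_
    rw [← classInner_mul_detRep σ (MonoidHom.id (detOne σ)) (fun n => hsurj n) _ _
      fun x z hz => by
        obtain ⟨c, hc⟩ := hsc z hz
        exact mul_conj_scalar_eq Φ Φ hc hc x]
    refine Eq.trans ?_ (classInner_irr_self hχ)
    rw [← classInner_comp_surjective (detProj σ) hsurj ρ.character ρ.character]
    exact congrArg₂ classInner (hprod (MonoidHom.id (detOne σ))).symm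
      (hprod (MonoidHom.id (detOne σ))).symm
  refine ⟨Φ, (isIrreducible_iff_isIrrCharacter Φ).mpr hΦirr, hformula, fun x hx => hsc x hx, ?_⟩
  intro inst N' hN' hle
  haveI := Fintype.ofFinite N'
  have hM : (N'.map (detProj σ)).Normal := Subgroup.Normal.map hN' _ hsurj
  obtain ⟨η, k, hη, hresM⟩ := hqp _ hM
  let p : N' →* ↥(N'.map (detProj σ)) :=
    ((detProj σ).comp N'.subtype).codRestrict _ fun x => ⟨x, x.2, rfl⟩
  have hp : Function.Surjective p := by
    rintro ⟨_, x, hx, rfl⟩
    exact ⟨⟨x, hx⟩, rfl⟩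
  have hηp := hη.comp_surjective p hp
  have hnf : ∀ n : N, ∃ y : N', detProj σ (N'.subtype y) = n := fun n => by
    obtain ⟨x, hx⟩ := hsurj n
    exact ⟨⟨x, hle (by rw [Subgroup.mem_comap, hx]; exact n.2)⟩, hx⟩
  let Φ' : Representation ℂ N' (Fin e → ℂ) := Φ.comp N'.subtype
  have hΦ'c : IsCharacter N' Φ'.character := isCharacter_character Φ'
  have key : ∀ φ : IrrCharacter N', classInner Φ'.character (φ : N' → ℂ) ≠ 0 →
      ((fun x : N' => (φ : N' → ℂ) x * (detRep σ).character x) = fun x => η (p x)) ∧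
      ∀ φ' : IrrCharacter N', classInner Φ'.character (φ' : N' → ℂ) ≠ 0 →
        (fun x : N' => (φ' : N' → ℂ) x * (detRep σ).character x) = (fun x => η (p x)) →
          φ' = φ := by
    intro φ hφ
    obtain ⟨⟨φc, r, τ, hτ, rfl⟩, rfl⟩ : ∃ φ₀ : IrrCharacter N', φ₀ = φ := ⟨φ, rfl⟩
    haveI := hτ
    haveI := ((isIrreducible_iff_submodule τ).mp hτ).1
    have hsτ : ∀ z : N', detProj σ (N'.subtype z) ∈ N →
        ∃ c : ℂ, Φ' z = c • LinearMap.id ∧ τ z = c • LinearMap.id := fun z hz => by
      obtain ⟨c, hc⟩ := hsc _ hz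
      exact ⟨c, hc, scalar_of_constituent Φ' τ hφ hc⟩
    have hirrP : IsIrrCharacter N' fun x : N' => τ.character x * (detRep σ).character x := by
      refine isIrrCharacter_of_norm_one ((isCharacter_character τ).mul
        ((isCharacter_character (detRep σ)).comp N'.subtype)) ?_
      refine (classInner_mul_detRep σ N'.subtype hnf τ.character τ.character fun x z hz => ?_).trans
        (classInner_irr_self (isIrrCharacter_character τ))
      obtain ⟨c, -, hc⟩ := hsτ z hz
      exact mul_conj_scalar_eq τ τ hc hc x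
    have heq : (fun x : N' => τ.character x * (detRep σ).character x) = fun x => η (p x) := by
      by_contra hne
      have h0 := classInner_irr_ne hηp hirrP (Ne.symm hne)
      apply hφ
      rw [← classInner_mul_detRep σ N'.subtype hnf Φ'.character τ.character fun x z hz => by
        obtain ⟨c, hc, hc'⟩ := hsτ z hz
        exact mul_conj_scalar_eq Φ' τ hc hc' x]
      have h1 : (fun x : N' => Φ'.character x * (detRep σ).character (N'.subtype x)) =
          (k : ℂ) • fun x => η (p x) := by
        funext x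
        exact (hformula (N'.subtype x)).symm.trans (congrFun hresM (p x))
      rw [h1, classInner_smul_left]
      exact mul_eq_zero_of_right _ h0
    refine ⟨heq, fun φ' hφ' heq' => ?_⟩
    by_contra hne
    have h0 : classInner (φ' : N' → ℂ) τ.character = 0 :=
      classInner_irr_ne φ'.2 (isIrrCharacter_character τ) fun e' => hne (Subtype.ext e')
    obtain ⟨⟨φc', r', τ', hτ', rfl⟩, rfl⟩ : ∃ φ₀ : IrrCharacter N', φ₀ = φ' := ⟨φ', rfl⟩
    haveI := hτ'
    haveI := ((isIrreducible_iff_submodule τ').mp hτ').1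
    rw [← classInner_mul_detRep σ N'.subtype hnf τ'.character τ.character fun x z hz => by
      obtain ⟨c, hc, hc'⟩ := hsτ z hz
      exact mul_conj_scalar_eq τ' τ (scalar_of_constituent Φ' τ' hφ' hc) hc' x] at h0
    simp only [Subgroup.coe_subtype] at h0 heq'
    rw [heq, heq', classInner_irr_self hηp] at h0
    exact one_ne_zero h0
  obtain ⟨φ, hφ⟩ := exists_constituent hΦ'c hΦirr.apply_one_ne_zero
  obtain ⟨n₀, hn₀⟩ := hΦ'c.exists_nat_classInner φ.2.isCharacter
  refine ⟨φ, n₀, φ.2, ?_⟩
  show Φ'.character = _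
  conv_lhs => rw [eq_sum_classInner (f := Φ'.character) hΦ'c.isClassFunction]
  rw [Finset.sum_eq_single φ (fun ψ _ hne => ?_) (by simp), hn₀]
  by_cases h0 : classInner Φ'.character (ψ : N' → ℂ) = 0
  · rw [h0, zero_smul]
  · exact absurd ((key φ hφ).2 ψ h0 (key ψ h0).1) hne

end Cfsg.Lib.Char
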