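import Mathlib.Analysis.Complex.Polynomial.Basic
import Cfsg.Prelude.Def_CharExt
import Cfsg.Agent.Lib.Char.ExtGroup

/-!
# Extension criteria for invariant irreducible characters
-/

set_option autoImplicit false
set_option linter.unusedSectionVars false
set_option linter.style.haveILetI false

namespace Cfsg.Lib.Char

open Cfsg Module
open scoped ComplexConjugate

universe u v w

section Det

variable {G : Type u} [Group G] [Finite G]

/-- The determinant homomorphism of a representation. -/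
noncomputable def detHom {V : Type v} [AddCommGroup V] [Module ℂ V] (ρ : Representation ℂ G V) :
    G →* ℂˣ :=
  (LinearMap.det.comp ρ).toHomUnits

theorem detHom_apply {V : Type v} [AddCommGroup V] [Module ℂ V] (ρ : Representation ℂ G V) (g : G) :
    (detHom ρ g : ℂ) = LinearMap.det (ρ g) := rfl

theorem det_eq_of_equiv {V : Type v} [AddCommGroup V] [Module ℂ V] [FiniteDimensional ℂ V]
    {W : Type w} [AddCommGroup W] [Module ℂ W] [FiniteDimensional ℂ W] {ρ : Representation ℂ G V}
    {σ : Representation ℂ G W} (φ : ρ.Equiv σ) (g : G) :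
    LinearMap.det (σ g) = LinearMap.det (ρ g) := by
  rw [← LinearMap.det_conj (ρ g) φ.toLinearEquiv]
  congr 1
  refine LinearMap.ext fun x => ?_
  have h := LinearMap.congr_fun (φ.toIntertwiningMap.isIntertwining' g) (φ.toLinearEquiv.symm x)
  exact (congrArg (σ g) (φ.toLinearEquiv.apply_symm_apply x)).symm.trans h.symm

theorem detChar_character {V : Type v} [AddCommGroup V] [Module ℂ V] [FiniteDimensional ℂ V]
    (ρ : Representation ℂ G V) : detChar ρ.character = fun g => (detHom ρ g : ℂ) := by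
  have h : IsCharacter G ρ.character := isCharacter_character ρ
  funext g
  rw [detChar, dif_pos h, detHom_apply]
  obtain ⟨φ⟩ := nonempty_equiv_of_character_eq ρ (Classical.choose (Classical.choose_spec h))
    (Classical.choose_spec (Classical.choose_spec h)).symm
  exact det_eq_of_equiv φ g

theorem orderOf_coe_hom (μ : G →* ℂˣ) : orderOf (fun g => (μ g : ℂ)) = orderOf μ :=
  orderOf_injective
    ({ toFun := fun (ν : G →* ℂˣ) (g : G) => (ν g : ℂ)
       map_one' := rfl
       map_mul' := fun _ _ => rfl } : (G →* ℂˣ) →* (G → ℂ))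
    (fun _ _ h => MonoidHom.ext fun g => Units.ext (congrFun h g)) μ

theorem detOrder_character {V : Type v} [AddCommGroup V] [Module ℂ V] [FiniteDimensional ℂ V]
    (ρ : Representation ℂ G V) : detOrder ρ.character = orderOf (detHom ρ) := by
  rw [detOrder, detChar_character, orderOf_coe_hom]

theorem pow_index_eq_one_of_trivial {N : Subgroup G} [N.Normal] (q : G →* ℂˣ)
    (h : ∀ n ∈ N, q n = 1) (g : G) : q g ^ N.index = 1 := by
  rw [← map_pow]
  exact h _ (N.pow_index_mem g)

end Det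

variable {G : Type u} [Group G] [Finite G] {N : Subgroup G} [hN : N.Normal] {W : Type v}
  [AddCommGroup W] [Module ℂ W] [FiniteDimensional ℂ W]

theorem isIrreducible_of_extension {σ : Representation ℂ N W} [hσ : σ.IsIrreducible]
    {ρ : Representation ℂ G W} (h : ∀ n : N, ρ (n : G) = σ n) : ρ.IsIrreducible := by
  rw [isIrreducible_iff_submodule] at hσ ⊢
  exact ⟨hσ.1, fun p hp => hσ.2 p fun n x hx => h n ▸ hp (n : G) x hx⟩

theorem exists_rep_of_res_eq {P : Type w} [Group P] [Finite P] (f : N →* P)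
    (σ : Representation ℂ N W) {η : P → ℂ} (hη : IsCharacter P η)
    (h : ∀ n, η (f n) = σ.character n) :
    ∃ ρ : Representation ℂ P W, (∀ n, ρ (f n) = σ n) ∧ ρ.character = η := by
  obtain ⟨m, ρ, rfl⟩ := hη
  obtain ⟨φ⟩ := nonempty_equiv_of_character_eq (ρ.comp f) σ (funext h)
  refine ⟨transportRep φ.toLinearEquiv ρ, fun n => LinearMap.ext fun x => ?_,
    (Representation.char_iso (transportEquiv φ.toLinearEquiv ρ)).symm⟩
  rw [transportRep_apply]
  exact (LinearMap.congr_fun (φ.toIntertwiningMap.isIntertwining' n) _).trans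
    (congrArg (σ n) (φ.toLinearEquiv.apply_symm_apply x))

theorem intMem_of_coprime (S : AddSubgroup ℤ) {a b : ℕ} (ha : (a : ℤ) ∈ S) (hb : (b : ℤ) ∈ S)
    (h : Nat.Coprime a b) : (1 : ℤ) ∈ S := by
  have h1 := Nat.gcd_eq_gcd_ab a b
  rw [h.gcd_eq_one, Nat.cast_one, mul_comm (a : ℤ), mul_comm (b : ℤ)] at h1
  rw [h1]
  exact add_mem (by simpa using S.zsmul_mem ha (Nat.gcdA a b))
    (by simpa using S.zsmul_mem hb (Nat.gcdB a b))

theorem intMem_of_primes (S : AddSubgroup ℤ)
    (h : ∀ p : ℕ, p.Prime → ∃ k : ℕ, Nat.Coprime k p ∧ (k : ℤ) ∈ S) : (1 : ℤ) ∈ S := by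
  obtain ⟨a, rfl⟩ := Int.subgroup_cyclic S
  by_cases ha : a.natAbs = 1
  · rcases Int.natAbs_eq a with h1 | h1 <;> rw [h1, ha]
    · exact AddSubgroup.subset_closure (by simp)
    · simpa using neg_mem (AddSubgroup.subset_closure (Set.mem_singleton (-1 : ℤ)))
  exfalso
  have hp := Nat.minFac_prime ha
  obtain ⟨k, hk, hkS⟩ := h _ hp
  obtain ⟨j, hj⟩ := AddSubgroup.mem_closure_singleton.mp hkS
  have hdvd : a.natAbs.minFac ∣ k := by
    refine (Nat.minFac_dvd _).trans ?_
    rw [← Int.natAbs_natCast k, ← hj, smul_eq_mul, Int.natAbs_mul]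
    exact dvd_mul_left _ _
  exact hp.ne_one (Nat.dvd_one.mp (hk.gcd_eq_one ▸ Nat.dvd_gcd hdvd dvd_rfl))

/-- Extension from local extensions. -/
theorem exists_extension_of_local (σ : Representation ℂ N W) [σ.IsIrreducible]
    (hinv : ∀ (g : G) (n : N), σ.character (MulAut.conjNormal g n) = σ.character n)
    (h : ∀ p : ℕ, p.Prime → ∃ (P : Subgroup G) (hNP : N ≤ P) (η : P → ℂ),
      Nat.Coprime P.index p ∧ IsCharacter P η ∧ ∀ n : N, η ⟨n, hNP n.2⟩ = σ.character n) :
    ∃ ρ : Representation ℂ G W, ∀ n : N, ρ (n : G) = σ n := by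
  refine exists_extension_of_hom σ hinv (intMem_of_primes _ fun p hp => ?_)
  obtain ⟨P, hNP, η, hcop, hη, hres⟩ := h p hp
  obtain ⟨ρP, hρP, -⟩ := exists_rep_of_res_eq (Subgroup.inclusion hNP) σ hη hres
  exact ⟨P.index, hcop, index_mem_extExponents σ hinv P hNP ρP hρP⟩

/-- Extension when the determinant extends and the degree is prime to the index. -/
theorem exists_extension_of_det (σ : Representation ℂ N W) [σ.IsIrreducible]
    (hinv : ∀ (g : G) (n : N), σ.character (MulAut.conjNormal g n) = σ.character n)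
    (hcop : Nat.Coprime N.index (finrank ℂ W)) (μ : G →* ℂˣ)
    (hμ : ∀ n : N, μ n = detHom σ n) :
    ∃ ρ : Representation ℂ G W, ∀ n : N, ρ (n : G) = σ n := by
  refine exists_extension_of_hom σ hinv (intMem_of_coprime _ (b := finrank ℂ W)
    (index_mem_extExponents σ hinv N le_rfl σ fun n => rfl) ?_ hcop)
  refine ⟨((LinearMap.det.comp (extOp σ)).toHomUnits) * (μ.comp (extProj σ))⁻¹, fun n => ?_,
    fun c => Units.ext ?_⟩
  · rw [MonoidHom.mul_apply, MonoidHom.inv_apply, mul_inv_eq_one, MonoidHom.comp_apply,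
      extProj_extGraph, hμ]
    exact Units.ext rfl
  · rw [MonoidHom.mul_apply, MonoidHom.inv_apply, MonoidHom.comp_apply, extProj_extScalar, map_one,
      inv_one, mul_one, zpow_natCast, Units.val_pow_eq_pow_val, MonoidHom.coe_toHomUnits]
    show LinearMap.det (extOp σ (extScalar σ c)) = _
    rw [extOp_extScalar, LinearMap.det_smul, map_one, mul_one]

/-- An extension with prescribed determinant. -/
theorem exists_extension_det_eq {σ : Representation ℂ N W}
    {ρ : Representation ℂ G W} (hρ : ∀ n : N, ρ (n : G) = σ n)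
    (hcop : Nat.Coprime N.index (finrank ℂ W)) (μ : G →* ℂˣ)
    (hμ : ∀ n : N, μ n = detHom σ n) :
    ∃ ρ' : Representation ℂ G W, (∀ n : N, ρ' (n : G) = σ n) ∧ detHom ρ' = μ := by
  set q : G →* ℂˣ := μ * (detHom ρ)⁻¹ with hq
  have hqN : ∀ n ∈ N, q n = 1 := fun n hn => by
    rw [hq, MonoidHom.mul_apply, MonoidHom.inv_apply, mul_inv_eq_one, hμ ⟨n, hn⟩]
    exact Units.ext (congrArg LinearMap.det (hρ ⟨n, hn⟩)).symm
  obtain ⟨a, b, hab⟩ := (Nat.isCoprime_iff_coprime.mpr hcop.symm)
  set lam : G →* ℂˣ := q ^ a with hlam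
  let ρ' : Representation ℂ G W :=
    { toFun := fun g => (lam g : ℂ) • ρ g
      map_one' := by simp
      map_mul' := fun x y => by
        simp only [map_mul, Units.val_mul]
        rw [smul_mul_smul_comm] }
  refine ⟨ρ', fun n => ?_, MonoidHom.ext fun g => ?_⟩
  · show (lam n : ℂ) • ρ (n : G) = σ n
    rw [hlam, MonoidHom.zpow_apply, hqN _ n.2, one_zpow, Units.val_one, one_smul, hρ]
  · have h1 : lam g ^ (finrank ℂ W : ℤ) = q g := by
      conv_rhs => rw [← zpow_one (q g), ← hab, zpow_add, zpow_mul, zpow_mul']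
      rw [zpow_natCast (q g), pow_index_eq_one_of_trivial q hqN, one_zpow, mul_one, hlam,
        MonoidHom.zpow_apply]
    rw [zpow_natCast] at h1
    apply Units.ext
    rw [detHom_apply]
    show LinearMap.det ((lam g : ℂ) • ρ g) = _
    rw [LinearMap.det_smul, ← Units.val_pow_eq_pow_val, h1, hq, MonoidHom.mul_apply,
      MonoidHom.inv_apply, ← detHom_apply, ← Units.val_mul, inv_mul_cancel_right]

/-- Two extensions differ by a linear character of the quotient. -/
theorem exists_hom_of_two_extensions {σ : Representation ℂ N W} [hσ : σ.IsIrreducible]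
    {ρ ρ' : Representation ℂ G W} (hρ : ∀ n : N, ρ (n : G) = σ n)
    (hρ' : ∀ n : N, ρ' (n : G) = σ n) :
    ∃ c : G →* ℂˣ, (∀ n ∈ N, c n = 1) ∧ ∀ g, ρ' g = (c g : ℂ) • ρ g := by
  haveI := extGroup_nontrivial σ
  have hex : ∀ g, ∃ c : ℂ, ρ' g * ρ g⁻¹ = c • 1 := by
    intro g
    refine exists_smul_of_comm σ _ fun n => ?_
    have hm := hN.conj_mem (n : G) n.2 g⁻¹
    rw [inv_inv] at hm
    calc ρ' g * ρ g⁻¹ * σ n = ρ' g * (ρ (g⁻¹ * n * g) * ρ g⁻¹) := by
          rw [← hρ, mul_assoc, ← map_mul, ← map_mul]; group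
      _ = ρ' g * (σ ⟨_, hm⟩ * ρ g⁻¹) := by rw [← hρ ⟨_, hm⟩]
      _ = σ n * (ρ' g * ρ g⁻¹) := by
        rw [← hρ' ⟨_, hm⟩, ← hρ', ← mul_assoc, ← mul_assoc, ← map_mul, ← map_mul]
        congr 2
        show g * (g⁻¹ * n * g) = n * g
        group
  choose c hc using hex
  have hval : ∀ g, ρ' g = c g • ρ g := fun g => by
    calc ρ' g = ρ' g * ρ g⁻¹ * ρ g := by
          rw [mul_assoc, ← map_mul, inv_mul_cancel, map_one, mul_one]
      _ = c g • ρ g := by rw [hc, smul_mul_assoc, one_mul]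
  have hone : c 1 = 1 := smul_one_injective (W := W) (by
    rw [← hc 1, inv_one, map_one, map_one, one_mul, one_smul])
  have hmul : ∀ x y, c (x * y) = c x * c y := fun x y => smul_one_injective (W := W) (by
    rw [← hc]
    calc ρ' (x * y) * ρ (x * y)⁻¹ = ρ' x * (ρ' y * ρ y⁻¹) * ρ x⁻¹ := by
          rw [mul_inv_rev, map_mul, map_mul]; simp only [mul_assoc]
      _ = (c x * c y) • 1 := by
          rw [hc y, mul_smul_comm, mul_one, smul_mul_assoc, hc x, smul_smul, mul_comm])
  let F : G →* ℂ := { toFun := c, map_one' := hone, map_mul' := hmul }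
  refine ⟨F.toHomUnits, fun n hn => Units.ext (smul_one_injective (W := W) ?_), fun g => hval g⟩
  show c n • (1 : Module.End ℂ W) = (1 : ℂ) • 1
  rw [← hc, show ρ' n = ρ n from (hρ' ⟨n, hn⟩).trans (hρ ⟨n, hn⟩).symm, ← map_mul, mul_inv_cancel,
    map_one, one_smul]

/-- Extensions with the same determinant coincide. -/
theorem eq_of_extension_det {σ : Representation ℂ N W} [σ.IsIrreducible]
    {ρ ρ' : Representation ℂ G W} (hρ : ∀ n : N, ρ (n : G) = σ n)
    (hρ' : ∀ n : N, ρ' (n : G) = σ n) (hcop : Nat.Coprime N.index (finrank ℂ W))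
    (hdet : detHom ρ' = detHom ρ) : ρ' = ρ := by
  obtain ⟨c, hcN, hc⟩ := exists_hom_of_two_extensions hρ hρ'
  refine MonoidHom.ext fun g => ?_
  have h1 : c g ^ finrank ℂ W = 1 := by
    apply Units.ext
    have h := congrArg (fun f : G →* ℂˣ => (f g : ℂ)) hdet
    simp only [detHom_apply, hc g, LinearMap.det_smul] at h
    rw [Units.val_pow_eq_pow_val, Units.val_one]
    exact (mul_eq_right₀ (by rw [← detHom_apply]; exact Units.ne_zero _)).mp h
  have h2 : c g = 1 := by
    have := pow_gcd_eq_one.mpr ⟨pow_index_eq_one_of_trivial c hcN g, h1⟩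
    rwa [hcop.gcd_eq_one, pow_one] at this
  rw [hc g, h2, Units.val_one, one_smul]

/-- An invariant irreducible representation extends when the quotient is cyclic. -/
theorem exists_extension_of_cyclic (σ : Representation ℂ N W) [σ.IsIrreducible]
    (hinv : ∀ (g : G) (n : N), σ.character (MulAut.conjNormal g n) = σ.character n)
    (hcyc : IsCyclic (G ⧸ N)) : ∃ ρ : Representation ℂ G W, ∀ n : N, ρ (n : G) = σ n := by
  obtain ⟨q, hq⟩ := hcyc.exists_generator
  obtain ⟨g, rfl⟩ := QuotientGroup.mk_surjective q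
  have hm : orderOf (g : G ⧸ N) = N.index := by
    rw [Subgroup.index_eq_card, orderOf_eq_card_of_forall_mem_zpowers hq]
  obtain ⟨e₀, he₀⟩ := extProj_surjective σ hinv g
  let n₀ : N := ⟨g ^ N.index, N.pow_index_mem g⟩
  obtain ⟨c₀, hc₀⟩ := exists_scalar_of_extProj_eq σ (a := e₀ ^ N.index) (b := extGraph σ n₀)
    (by rw [map_pow, he₀, extProj_extGraph])
  obtain ⟨r, hr⟩ := IsAlgClosed.exists_pow_nat_eq ((c₀⁻¹ : ℂˣ) : ℂ)
    (Nat.pos_of_ne_zero (Subgroup.index_ne_zero_of_finite (H := N)))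
  have hr0 : r ≠ 0 := by
    intro h
    rw [h, zero_pow Subgroup.index_ne_zero_of_finite] at hr
    exact Units.ne_zero _ hr.symm
  set e₁ := e₀ * extScalar σ (Units.mk0 r hr0) with he₁
  have he₁p : extProj σ e₁ = g := by rw [he₁, map_mul, extProj_extScalar, mul_one, he₀]
  have he₁m : e₁ ^ N.index = extGraph σ n₀ := by
    rw [he₁, Commute.mul_pow (extScalar_comm σ _ e₀).symm, hc₀, ← map_pow, mul_assoc,
      ← map_mul, show c₀ * Units.mk0 r hr0 ^ N.index = 1 from Units.ext (by
        rw [Units.val_mul, Units.val_pow_eq_pow_val, Units.val_mk0, hr, ← Units.val_mul,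
          mul_inv_cancel]), map_one, mul_one]
  haveI hnorm : (extGraph σ).range.Normal := ⟨by
    rintro _ ⟨n, rfl⟩ e
    exact ⟨_, (conj_extGraph σ e n).symm⟩⟩
  obtain ⟨ρ, hρ, -⟩ := exists_extension_of_section σ
    ((extGraph σ).range ⊔ Subgroup.zpowers e₁) (fun n => Subgroup.mem_sup_left ⟨n, rfl⟩)
    (fun x => by
      obtain ⟨i, hi⟩ := Subgroup.mem_zpowers_iff.mp (hq (x : G ⧸ N))
      rw [← QuotientGroup.mk_zpow, QuotientGroup.eq] at hi
      refine ⟨extGraph σ ⟨g ^ i * ((g ^ i)⁻¹ * x) * (g ^ i)⁻¹, hN.conj_mem _ hi _⟩ * e₁ ^ i,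
        mul_mem (Subgroup.mem_sup_left ⟨_, rfl⟩)
          (Subgroup.mem_sup_right (Subgroup.zpow_mem _ (Subgroup.mem_zpowers _) i)), ?_⟩
      rw [map_mul, map_zpow, he₁p, extProj_extGraph]
      simp)
    (fun c hc => by
      obtain ⟨_, ⟨n, rfl⟩, w, hw, hwe⟩ := Subgroup.mem_sup_of_normal_left.mp hc
      obtain ⟨i, rfl⟩ := Subgroup.mem_zpowers_iff.mp hw
      have h1 := congrArg (extProj σ) hwe
      rw [map_mul, map_zpow, he₁p, extProj_extGraph, extProj_extScalar] at h1
      have h2 : ((g ^ i : G) : G ⧸ N) = 1 := by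
        rw [QuotientGroup.eq_one_iff, eq_inv_of_mul_eq_one_right h1]
        exact N.inv_mem n.2
      rw [QuotientGroup.mk_zpow, ← orderOf_dvd_iff_zpow_eq_one, hm] at h2
      obtain ⟨j, rfl⟩ := h2
      rw [zpow_mul, zpow_natCast, he₁m, ← map_zpow, ← map_mul] at hwe
      have h3 : n * n₀ ^ j = 1 := by
        apply Subtype.ext
        rw [Subgroup.coe_mul, SubgroupClass.coe_zpow]
        rw [zpow_mul, zpow_natCast] at h1
        exact h1
      rw [h3, map_one] at hwe
      exact extScalar_injective σ (hwe.symm.trans (map_one _).symm))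
  exact ⟨ρ, hρ⟩

end Cfsg.Lib.Char
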