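import Mathlib.RingTheory.Trace.Basic
import Mathlib.FieldTheory.IsAlgClosed.Basic
import Cfsg.Agent.Lib.Char.Galois
import Cfsg.Agent.Lib.Char.Orthogonality

/-!
# The field generated by one column of the character table
-/

set_option autoImplicit false
set_option linter.unusedSectionVars false
set_option linter.style.haveILetI false

namespace Cfsg.Lib.Char

open Cfsg Module IntermediateField

universe u

/-- An element fixed by every embedding fixing a subfield lies in that subfield. -/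
theorem mem_of_fixed {N : ℕ} [NeZero N] {F : IntermediateField ℚ ℂ} (hF : F ≤ cycField N)
    (z : cycField N)
    (h : ∀ σ : cycField N →ₐ[ℚ] ℂ, (∀ w : cycField N, (w : ℂ) ∈ F → σ w = w) → σ z = z) :
    (z : ℂ) ∈ F := by
  haveI := finiteDimensional_cycField N
  let E : IntermediateField ℚ (cycField N) := IntermediateField.restrict hF
  have hE : ∀ x : cycField N, x ∈ E ↔ (x : ℂ) ∈ F := fun x => IntermediateField.mem_restrict hF x
  have ht := trace_eq_sum_embeddings ℂ (K := E) (x := z)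
  have hall : ∀ τ : cycField N →ₐ[E] ℂ, τ z = (z : ℂ) := fun τ => h (τ.restrictScalars ℚ) fun w hw => by
    exact τ.commutes ⟨w, (hE w).2 hw⟩
  simp only [hall, Finset.sum_const, Finset.card_univ, nsmul_eq_mul] at ht
  haveI : Nonempty (cycField N →ₐ[E] ℂ) :=
    ⟨{ (cycField N).val.toRingHom with commutes' := fun r => rfl }⟩
  have hne : (Fintype.card (cycField N →ₐ[E] ℂ) : ℂ) ≠ 0 :=
    Nat.cast_ne_zero.mpr (Fintype.card_ne_zero (α := cycField N →ₐ[E] ℂ))
  have htr : algebraMap E ℂ (Algebra.trace E (cycField N) z) ∈ F :=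
    (hE _).1 (Algebra.trace E (cycField N) z).2
  rw [ht] at htr
  have h2 : ((Fintype.card (cycField N →ₐ[E] ℂ) : ℂ))⁻¹ ∈ F := F.inv_mem (_root_.natCast_mem F _)
  have h3 := F.mul_mem h2 htr
  rwa [← mul_assoc, inv_mul_cancel₀ hne, one_mul] at h3

/-- The embeddings fixing a set fix the field it generates. -/
theorem fixed_adjoin {N : ℕ} [NeZero N] {T : Set ℂ} (hT : T ⊆ (cycField N : Set ℂ))
    (σ : cycField N →ₐ[ℚ] ℂ) (h : ∀ w : cycField N, (w : ℂ) ∈ T → σ w = w) :
    ∀ w : cycField N, (w : ℂ) ∈ adjoin ℚ T → σ w = w := by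
  have hle : adjoin ℚ T ≤ cycField N := adjoin_le_iff.2 hT
  suffices key : ∀ (z : ℂ) (hz : z ∈ adjoin ℚ T), σ ⟨z, hle hz⟩ = z from fun w hw => key w hw
  intro z hz
  induction hz using adjoin_induction with
  | mem x hx => exact h ⟨x, hT hx⟩ hx
  | algebraMap x => exact σ.commutes x
  | add x y hx hy ihx ihy =>
    exact (map_add σ ⟨x, hle hx⟩ ⟨y, hle hy⟩).trans (by rw [ihx, ihy])
  | inv x hx ih => exact (map_inv₀ σ ⟨x, hle hx⟩).trans (by rw [ih])
  | mul x y hx hy ihx ihy =>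
    exact (map_mul σ ⟨x, hle hx⟩ ⟨y, hle hy⟩).trans (by rw [ihx, ihy])

variable {G : Type u} [Group G] [Finite G]

theorem value_mem_cycField {N : ℕ} [NeZero N] {g : G} (hg : orderOf g ∣ N) {χ : G → ℂ}
    (hχ : IsCharacter G χ) : χ g ∈ cycField N :=
  char_mem_cycField (G := Subgroup.zpowers g) (by rw [Nat.card_zpowers]; exact hg)
    (hχ.comp (Subgroup.zpowers g).subtype) ⟨g, Subgroup.mem_zpowers g⟩

theorem galois_value {N : ℕ} [NeZero N] {g : G} (hg : orderOf g ∣ N) {χ : G → ℂ}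
    (hχ : IsCharacter G χ) {σ : cycField N →ₐ[ℚ] ℂ} {k : ℕ} (hσ : ActsAsPow σ k) :
    σ ⟨χ g, value_mem_cycField hg hχ⟩ = χ (g ^ k) :=
  galois_charVal (G := Subgroup.zpowers g) (by rw [Nat.card_zpowers]; exact hg) hσ
    (hχ.comp (Subgroup.zpowers g).subtype) ⟨g, Subgroup.mem_zpowers g⟩

/-- The field of a column is generated by `w` iff the power maps preserving the class are those
fixing `w`. -/
theorem adjoin_column_eq_iff {N : ℕ} [NeZero N] {g : G} (hg : orderOf g ∣ N) (w : cycField N) :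
    adjoin ℚ {z : ℂ | ∃ χ : IrrCharacter G, (χ : G → ℂ) g = z} = adjoin ℚ ({(w : ℂ)} : Set ℂ) ↔
      ∀ (σ : cycField N →ₐ[ℚ] ℂ) (k : ℕ), ActsAsPow σ k → (IsConj g (g ^ k) ↔ σ w = w) := by
  set S := {z : ℂ | ∃ χ : IrrCharacter G, (χ : G → ℂ) g = z} with hS
  have hSK : S ⊆ (cycField N : Set ℂ) := by
    rintro z ⟨χ, rfl⟩
    exact value_mem_cycField hg χ.2.isCharacter
  have hwK : ({(w : ℂ)} : Set ℂ) ⊆ (cycField N : Set ℂ) := Set.singleton_subset_iff.2 w.2
  have hconj : ∀ (σ : cycField N →ₐ[ℚ] ℂ) (k : ℕ), ActsAsPow σ k →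
      (IsConj g (g ^ k) ↔ ∀ x : cycField N, (x : ℂ) ∈ S → σ x = x) := by
    intro σ k hσ
    rw [isConj_iff_forall_irr]
    constructor
    · rintro h x ⟨χ, hχ⟩
      have hx : x = ⟨(χ : G → ℂ) g, value_mem_cycField hg χ.2.isCharacter⟩ := Subtype.ext hχ.symm
      rw [hx, galois_value hg χ.2.isCharacter hσ, ← h χ]
    · intro h χ
      rw [← galois_value hg χ.2.isCharacter hσ, h _ ⟨χ, rfl⟩]
  constructor
  · intro heq σ k hσ
    rw [hconj σ k hσ]
    constructor
    · intro h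
      exact fixed_adjoin hSK σ h w (heq ▸ mem_adjoin_simple_self ℚ (w : ℂ))
    · intro h x hx
      refine fixed_adjoin hwK σ (fun y hy => ?_) x (heq ▸ subset_adjoin ℚ S hx)
      rw [show y = w from Subtype.ext hy]; exact h
  · intro hiff
    refine le_antisymm (adjoin_le_iff.2 fun z hz => ?_)
      (adjoin_le_iff.2 (Set.singleton_subset_iff.2 ?_))
    · refine mem_of_fixed (adjoin_le_iff.2 hwK) ⟨z, hSK hz⟩ fun σ hσ => ?_
      obtain ⟨k, -, hk⟩ := exists_actsAsPow σ
      exact (hconj σ k hk).1 ((hiff σ k hk).2 (hσ w (mem_adjoin_simple_self ℚ (w : ℂ)))) _ hz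
    · refine mem_of_fixed (adjoin_le_iff.2 hSK) w fun σ hσ => ?_
      obtain ⟨k, -, hk⟩ := exists_actsAsPow σ
      exact (hiff σ k hk).1 ((hconj σ k hk).2 fun x hx => hσ x (subset_adjoin ℚ S hx))

end Cfsg.Lib.Char
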