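import Cfsg.Agent.Lib.Char.Extension

/-!
# Extending invariant linear characters
-/

set_option autoImplicit false
set_option linter.unusedSectionVars false
set_option linter.style.haveILetI false

namespace Cfsg.Lib.Char

open Cfsg Module
open scoped ComplexConjugate

universe u

variable {G : Type u} [Group G] [Finite G] {N : Subgroup G} [hN : N.Normal]

theorem linearRep_detHom (f : N →* ℂˣ) : detHom (linearRep f) = f := by
  refine MonoidHom.ext fun n => Units.ext ?_
  rw [detHom_apply]
  show LinearMap.det ((f n : ℂ) • (LinearMap.id : ℂ →ₗ[ℂ] ℂ)) = _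
  rw [LinearMap.det_smul, LinearMap.det_id, Module.finrank_self, pow_one, mul_one]

theorem linearRep_inv (f : N →* ℂˣ)
    (hinv : ∀ (g : G) (n : N), f (MulAut.conjNormal g n) = f n) (g : G) (n : N) :
    (linearRep f).character (MulAut.conjNormal g n) = (linearRep f).character n := by
  simp only [linearRep_character, hinv]

theorem orderOf_mem_extExponents (f : N →* ℂˣ) :
    haveI := linearRep_isIrreducible f
    (orderOf f : ℤ) ∈ extExponents (linearRep f) := by
  haveI := linearRep_isIrreducible f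
  refine ⟨(LinearMap.det.comp (extOp (linearRep f))).toHomUnits ^ orderOf f,
    fun n => Units.ext ?_, fun c => Units.ext ?_⟩
  · rw [MonoidHom.pow_apply, Units.val_pow_eq_pow_val, MonoidHom.coe_toHomUnits]
    show LinearMap.det (extOp _ (extGraph _ n)) ^ _ = _
    rw [extOp_extGraph, ← detHom_apply, linearRep_detHom, ← Units.val_pow_eq_pow_val,
      ← MonoidHom.pow_apply, pow_orderOf_eq_one]
    rfl
  · rw [MonoidHom.pow_apply, Units.val_pow_eq_pow_val, MonoidHom.coe_toHomUnits, zpow_natCast,
      Units.val_pow_eq_pow_val]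
    show LinearMap.det (extOp _ (extScalar _ c)) ^ _ = _
    rw [extOp_extScalar, LinearMap.det_smul, map_one, Module.finrank_self, pow_one, mul_one]

theorem exists_linear_extension_of_rep {f : N →* ℂˣ} {ρ : Representation ℂ G ℂ}
    (hρ : ∀ n : N, ρ (n : G) = linearRep f n) : ∃ μ : G →* ℂˣ, ∀ n : N, μ n = f n := by
  refine ⟨detHom ρ, fun n => ?_⟩
  conv_rhs => rw [← linearRep_detHom f]
  exact Units.ext (congrArg LinearMap.det (hρ n))

/-- An invariant linear character of coprime order extends with the same order. -/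
theorem exists_linear_extension_coprime (f : N →* ℂˣ)
    (hinv : ∀ (g : G) (n : N), f (MulAut.conjNormal g n) = f n)
    (hcop : Nat.Coprime N.index (orderOf f)) :
    ∃ μ : G →* ℂˣ, (∀ n : N, μ n = f n) ∧ orderOf μ = orderOf f := by
  haveI := linearRep_isIrreducible f
  obtain ⟨ρ, hρ⟩ := exists_extension_of_hom (linearRep f) (linearRep_inv f hinv)
    (intMem_of_coprime _ (index_mem_extExponents (linearRep f) (linearRep_inv f hinv) N le_rfl
      (linearRep f) fun n => rfl) (orderOf_mem_extExponents f) hcop)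
  obtain ⟨μ₀, hμ₀⟩ := exists_linear_extension_of_rep hρ
  obtain ⟨a, b, hab⟩ := Nat.isCoprime_iff_coprime.mpr hcop
  set μ : G →* ℂˣ := μ₀ ^ (a * N.index : ℤ) with hμ
  have hres : ∀ n : N, μ n = f n := fun n => by
    have h1 : f n ^ (orderOf f : ℤ) = 1 := by
      rw [zpow_natCast, ← MonoidHom.pow_apply, pow_orderOf_eq_one]; rfl
    rw [hμ, MonoidHom.zpow_apply, hμ₀]
    conv_rhs => rw [← zpow_one (f n), ← hab, zpow_add, zpow_mul' (f n) b, h1, one_zpow, mul_one]
  refine ⟨μ, hres, Nat.dvd_antisymm (orderOf_dvd_of_pow_eq_one (MonoidHom.ext fun g => ?_)) ?_⟩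
  · have htriv : ∀ n ∈ N, (μ₀ ^ orderOf f) n = 1 := fun n hn => by
      rw [MonoidHom.pow_apply, hμ₀ ⟨n, hn⟩, ← MonoidHom.pow_apply, pow_orderOf_eq_one]; rfl
    have h2 := pow_index_eq_one_of_trivial (μ₀ ^ orderOf f) htriv g
    rw [MonoidHom.pow_apply, ← pow_mul] at h2
    rw [hμ, MonoidHom.pow_apply, MonoidHom.zpow_apply, ← zpow_natCast, ← zpow_mul, mul_comm a,
      mul_assoc, mul_comm a, ← mul_assoc, zpow_mul, ← Nat.cast_mul, zpow_natCast, mul_comm N.index,
      h2, one_zpow]
    rfl
  · refine orderOf_dvd_of_pow_eq_one (MonoidHom.ext fun n => ?_)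
    rw [MonoidHom.pow_apply, ← hres, ← MonoidHom.pow_apply, pow_orderOf_eq_one]
    rfl

end Cfsg.Lib.Char
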