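import Mathlib.RingTheory.RootsOfUnity.Complex
import Mathlib.LinearAlgebra.Matrix.ToLin
import Cfsg.Agent.Lib.Char.Extension
import Cfsg.Agent.Lib.Char.DegreeDiv
import Cfsg.Agent.Lib.Char.Clifford2

/-!
# The multiplicity over an invariant character divides the index
-/

set_option autoImplicit false
set_option linter.unusedSectionVars false
set_option linter.style.haveILetI false

namespace Cfsg.Lib.Char

open Cfsg Module
open scoped ComplexConjugate

universe u v

/-- A direct power of a representation. -/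
noncomputable def powRep {N : Type u} [Group N] {W : Type v} [AddCommGroup W] [Module ℂ W]
    (σ : Representation ℂ N W) (e : ℕ) : Representation ℂ N (Fin e → W) where
  toFun n := LinearMap.pi fun i => σ n ∘ₗ LinearMap.proj i
  map_one' := by ext v i; simp
  map_mul' a b := by ext v i; simp [map_mul]

theorem powRep_apply {N : Type u} [Group N] {W : Type v} [AddCommGroup W] [Module ℂ W]
    (σ : Representation ℂ N W) (e : ℕ) (n : N) (v : Fin e → W) (i : Fin e) :
    powRep σ e n v i = σ n (v i) := rfl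

theorem powRep_character {N : Type u} [Group N] {W : Type v} [AddCommGroup W] [Module ℂ W]
    [FiniteDimensional ℂ W] (σ : Representation ℂ N W) (e : ℕ) (n : N) :
    (powRep σ e).character n = (e : ℂ) * σ.character n := by
  classical
  let b := Module.finBasis ℂ W
  show LinearMap.trace ℂ _ (powRep σ e n) = (e : ℂ) * LinearMap.trace ℂ _ (σ n)
  rw [LinearMap.trace_eq_matrix_trace ℂ (Pi.basis fun _ : Fin e => b),
    LinearMap.trace_eq_matrix_trace ℂ b, Matrix.trace, Matrix.trace, Fintype.sum_sigma]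
  have h : ∀ i : Fin e, ∀ j,
      Matrix.diag (LinearMap.toMatrix (Pi.basis fun _ : Fin e => b) (Pi.basis fun _ : Fin e => b)
        (powRep σ e n)) ⟨i, j⟩ = Matrix.diag (LinearMap.toMatrix b b (σ n)) j := by
    intro i j
    simp [Matrix.diag, LinearMap.toMatrix_apply, powRep_apply]
  rw [Finset.sum_congr rfl fun i _ => Finset.sum_congr rfl fun j _ => h i j]
  rw [Finset.sum_const, Finset.card_univ, Fintype.card_fin, nsmul_eq_mul]

variable {G : Type u} [Group G] [Fintype G] {N : Subgroup G} [hN : N.Normal]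

theorem exists_det_one_lift {W : Type v} [AddCommGroup W] [Module ℂ W] [FiniteDimensional ℂ W]
    (σ : Representation ℂ N W) [σ.IsIrreducible]
    (hinv : ∀ (g : G) (n : N), σ.character (MulAut.conjNormal g n) = σ.character n) (g : G) :
    ∃ x : extGroup σ, LinearMap.det (extOp σ x) = 1 ∧ extProj σ x = g := by
  obtain ⟨x, hx⟩ := extProj_surjective σ hinv g
  set δ : ℂˣ := (LinearMap.det.comp (extOp σ)).toHomUnits x
  obtain ⟨r, hr⟩ := IsAlgClosed.exists_pow_nat_eq ((δ⁻¹ : ℂˣ) : ℂ) (irreducible_finrank_pos σ)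
  have hr0 : r ≠ 0 := by
    intro h
    rw [h, zero_pow (irreducible_finrank_pos σ).ne'] at hr
    exact Units.ne_zero _ hr.symm
  refine ⟨x * extScalar σ (Units.mk0 r hr0), ?_, by rw [map_mul, hx, extProj_extScalar, mul_one]⟩
  rw [map_mul, map_mul, extOp_extScalar, LinearMap.det_smul, map_one, mul_one, Units.val_mk0, hr]
  show (δ : ℂ) * ((δ⁻¹ : ℂˣ) : ℂ) = 1
  exact Units.mul_inv δ

/-- The multiplicity of an invariant character in an irreducible character divides the index. -/
theorem multiplicity_dvd_index {θ : N → ℂ} (hθ : IsIrrCharacter N θ)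
    (hinv : ∀ g, conjTwist N θ g = θ) {ψ : G → ℂ} (hψ : IsIrrCharacter G ψ) {e : ℕ}
    (hres : (fun n : N => ψ n) = (e : ℂ) • θ) : e ∣ N.index := by
  classical
  obtain ⟨m, σ, hσ, rfl⟩ := hθ
  haveI := hσ
  haveI := extGroup_nontrivial σ
  have hinv' : ∀ (g : G) (n : N), σ.character (MulAut.conjNormal g n) = σ.character n :=
    fun g n => congrFun (hinv g) n
  obtain ⟨ρ, hρ, hρψ⟩ := exists_rep_of_res_eq N.subtype (powRep σ e) hψ.isCharacter fun n => by
    rw [powRep_character]; exact congrFun hres n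
  have hρ' : ∀ n : N, ρ (n : G) = powRep σ e n := hρ
  haveI hρirr : ρ.IsIrreducible := (isIrreducible_iff_isIrrCharacter ρ).mpr (hρψ ▸ hψ)
  let D : Subgroup (extGroup σ) := (LinearMap.det.comp (extOp σ)).toHomUnits.ker
  have hlift : ∀ g : G, ∃ x : D, extProj σ (x : extGroup σ) = g := fun g => by
    obtain ⟨x, hx, hxg⟩ := exists_det_one_lift σ hinv' g
    exact ⟨⟨x, MonoidHom.mem_ker.mpr (Units.ext hx)⟩, hxg⟩
  choose s hs using hlift
  haveI : NeZero (finrank ℂ (Fin m → ℂ)) := ⟨(irreducible_finrank_pos σ).ne'⟩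
  haveI : Finite D := by
    have hex : ∀ x : D, ∃ c : rootsOfUnity (finrank ℂ (Fin m → ℂ)) ℂ,
        (x : extGroup σ) = (s (extProj σ (x : extGroup σ)) : extGroup σ) * extScalar σ c := by
      intro x
      obtain ⟨c, hc⟩ := exists_scalar_of_extProj_eq σ
        (hs (extProj σ (x : extGroup σ))).symm
      refine ⟨⟨c, ?_⟩, hc⟩
      have h1 := congrArg (fun y => (LinearMap.det.comp (extOp σ)).toHomUnits y) hc
      simp only [map_mul, MonoidHom.mem_ker.mp x.2, MonoidHom.mem_ker.mp (s _).2, one_mul] at h1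
      rw [mem_rootsOfUnity]
      apply Units.ext
      have h2 := congrArg Units.val h1.symm
      simp only [MonoidHom.coe_toHomUnits, MonoidHom.coe_comp, Function.comp_apply,
        Units.val_one, extOp_extScalar, LinearMap.det_smul, map_one, mul_one] at h2
      rw [Units.val_pow_eq_pow_val, Units.val_one]
      exact h2
    choose c hc using hex
    refine Finite.of_injective (fun x => (extProj σ (x : extGroup σ), c x)) fun a b h => ?_
    simp only [Prod.mk.injEq] at h
    exact Subtype.ext (by rw [hc a, hc b, h.1, h.2])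
  haveI := Fintype.ofFinite D
  let pr : D →* G := (extProj σ).comp D.subtype
  have hpr : Function.Surjective pr := fun g => ⟨s g, hs g⟩
  -- blocks
  have hblk : ∀ (x : D) (i j : Fin e), ∃ a : ℂ,
      ∀ w, ρ (pr x) (Pi.single j w) i = a • extOp σ (x : extGroup σ) w := by
    intro x i j
    let B : (Module.End ℂ (Fin m → ℂ))ˣ := (x : extGroup σ).1.2
    let M : Module.End ℂ (Fin m → ℂ) :=
      LinearMap.proj i ∘ₗ ρ (pr x) ∘ₗ LinearMap.single ℂ (fun _ : Fin e => Fin m → ℂ) j
    obtain ⟨a, ha⟩ := exists_smul_of_comm σ (((B⁻¹ : (Module.End ℂ (Fin m → ℂ))ˣ) : Module.End ℂ (Fin m → ℂ)) * M) fun n => by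
      have hx : (B : Module.End ℂ _) * σ n =
          σ (MulAut.conjNormal (pr x) n) * (B : Module.End ℂ _) := (x : extGroup σ).2 n
      have hM : M * σ n = σ (MulAut.conjNormal (pr x) n) * M := by
        refine LinearMap.ext fun w => ?_
        show ρ (pr x) (Pi.single j (σ n w)) i =
          σ (MulAut.conjNormal (pr x) n) (ρ (pr x) (Pi.single j w) i)
        have h1 : Pi.single j (σ n w) = ρ (n : G) (Pi.single j w : Fin e → Fin m → ℂ) := by
          rw [hρ']
          funext k
          rw [powRep_apply]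
          by_cases hk : k = j
          · subst hk; rw [Pi.single_eq_same, Pi.single_eq_same]
          · rw [Pi.single_eq_of_ne hk, Pi.single_eq_of_ne hk, map_zero]
        rw [h1, ← powRep_apply σ e, ← hρ', ← Module.End.mul_apply, ← map_mul, ← Module.End.mul_apply,
          ← map_mul]
        congr 3
        simp [MulAut.conjNormal_apply]
      have hx' : ((B⁻¹ : (Module.End ℂ (Fin m → ℂ))ˣ) : Module.End ℂ (Fin m → ℂ)) *
          σ (MulAut.conjNormal (pr x) n) =
          σ n * ((B⁻¹ : (Module.End ℂ (Fin m → ℂ))ˣ) : Module.End ℂ (Fin m → ℂ)) := by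
        rw [Units.inv_mul_eq_iff_eq_mul, ← mul_assoc, hx, mul_assoc, Units.mul_inv, mul_one]
      rw [mul_assoc, hM, ← mul_assoc, hx', mul_assoc]
    refine ⟨a, fun w => ?_⟩
    have h2 : M = a • (B : Module.End ℂ _) := by
      rw [← B.mul_inv_cancel_left M, ha, mul_smul_comm, mul_one]
    exact LinearMap.congr_fun h2 w
  choose A hA using hblk
  have hApply : ∀ (x : D) (v : Fin e → Fin m → ℂ) (i : Fin e),
      ρ (pr x) v i = ∑ j, A x i j • extOp σ (x : extGroup σ) (v j) := by
    intro x v i
    conv_lhs => rw [← Finset.univ_sum_single v, map_sum, Finset.sum_apply]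
    exact Finset.sum_congr rfl fun j _ => hA x i j (v j)
  obtain ⟨w₀, hw₀⟩ := exists_ne (0 : Fin m → ℂ)
  have hne : ∀ x : D, extOp σ (x : extGroup σ) w₀ ≠ 0 := fun x h => hw₀ (by
    have h1 : ((((x : extGroup σ).1.2⁻¹ : (Module.End ℂ (Fin m → ℂ))ˣ) :
        Module.End ℂ (Fin m → ℂ)) * extOp σ (x : extGroup σ)) w₀ = w₀ := by
      rw [extOp_apply, Units.inv_mul]; rfl
    rw [← h1, Module.End.mul_apply]
    exact (congrArg _ h).trans (map_zero _))
  have huniq : ∀ (x : D) (i j : Fin e) (a : ℂ),
      ρ (pr x) (Pi.single j w₀) i = a • extOp σ (x : extGroup σ) w₀ → A x i j = a :=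
    fun x i j a h => smul_left_injective ℂ (hne x) ((hA x i j w₀).symm.trans h)
  have hone : ∀ i j, A 1 i j = (1 : Matrix (Fin e) (Fin e) ℂ) i j := fun i j => by
    refine huniq _ _ _ _ ?_
    simp only [map_one, OneMemClass.coe_one, Module.End.one_apply, Matrix.one_apply]
    by_cases h : i = j
    · subst h; simp
    · simp [h]
  have hmul : ∀ x y i j, A (x * y) i j = ∑ k, A x i k * A y k j := fun x y i j => by
    refine huniq _ _ _ _ ?_
    rw [map_mul, map_mul, Module.End.mul_apply, hApply, Finset.sum_smul]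
    refine Finset.sum_congr rfl fun k _ => ?_
    rw [hA y k j, map_smul, smul_smul, Subgroup.coe_mul, map_mul, Module.End.mul_apply]
  let Φ : Representation ℂ D (Fin e → ℂ) :=
    { toFun := fun x => Matrix.toLin' (Matrix.of (A x))
      map_one' := by
        rw [show Matrix.of (A 1) = (1 : Matrix (Fin e) (Fin e) ℂ) from Matrix.ext hone,
          Matrix.toLin'_one]
        rfl
      map_mul' := fun x y => by
        rw [show Matrix.of (A (x * y)) = Matrix.of (A x) * Matrix.of (A y) from
          Matrix.ext fun i j => (hmul x y i j).trans Matrix.mul_apply.symm, Matrix.toLin'_mul]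
        rfl }
  have hΦ : ∀ (x : D) (u : Fin e → ℂ) (i : Fin e), Φ x u i = ∑ j, A x i j * u j :=
    fun x u i => rfl
  have he : e ≠ 0 := by
    intro h0
    refine hψ.apply_one_ne_zero ?_
    rw [show ψ 1 = ψ ((1 : N) : G) from rfl, congrFun hres 1]
    simp [h0]
  haveI : Nonempty (Fin e) := ⟨⟨0, Nat.pos_of_ne_zero he⟩⟩
  haveI : Φ.IsIrreducible := by
    rw [isIrreducible_iff_submodule]
    refine ⟨inferInstance, fun p hp => ?_⟩
    let S : Submodule ℂ (Fin e → Fin m → ℂ) :=
      { carrier := {v | ∀ f : (Fin m → ℂ) →ₗ[ℂ] ℂ, (fun i => f (v i)) ∈ p}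
        add_mem' := fun {a b} ha hb f => by
          have := p.add_mem (ha f) (hb f)
          convert this using 1
          funext i
          exact map_add f _ _
        zero_mem' := fun f => by
          simp only [Pi.zero_apply, map_zero]
          exact p.zero_mem
        smul_mem' := fun c a ha f => by
          have := p.smul_mem c (ha f)
          convert this using 1
          funext i
          exact map_smul f _ _ }
    have hS : ∀ (g : G), ∀ v ∈ S, ρ g v ∈ S := by
      intro g v hv f
      obtain ⟨x, rfl⟩ := hpr g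
      have h1 := hp x _ (hv (f.comp (extOp σ (x : extGroup σ))))
      convert h1 using 1
      funext i
      rw [hΦ, hApply, map_sum]
      simp
    obtain ⟨k₀, hk₀⟩ := Function.ne_iff.mp hw₀
    obtain ⟨f₀, hf₀⟩ : ∃ f₀ : (Fin m → ℂ) →ₗ[ℂ] ℂ, f₀ w₀ ≠ 0 := ⟨LinearMap.proj k₀, hk₀⟩
    rcases ((isIrreducible_iff_submodule ρ).mp hρirr).2 S hS with h | h
    · left
      rw [Submodule.eq_bot_iff]
      intro u hu
      have hmem : (fun i => u i • w₀) ∈ S := fun f => by
        have := p.smul_mem (f w₀) hu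
        convert this using 1
        funext i
        simp [mul_comm]
      rw [h, Submodule.mem_bot] at hmem
      funext i
      exact (smul_eq_zero.mp (congrFun hmem i)).resolve_right hw₀
    · right
      rw [Submodule.eq_top_iff']
      intro u
      have hmem : (fun i => u i • w₀) ∈ S := h ▸ Submodule.mem_top
      have h2 := p.smul_mem (f₀ w₀)⁻¹ (hmem f₀)
      convert h2 using 1
      funext i
      simp [hf₀, mul_comm]
  have hsc : ∀ x ∈ N.comap pr, ∃ c : ℂ, Φ x = c • LinearMap.id := by
    intro x hx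
    obtain ⟨c, hc⟩ := exists_scalar_of_extProj_eq σ
      (a := (x : extGroup σ)) (b := extGraph σ ⟨pr x, hx⟩) rfl
    have hop : extOp σ (x : extGroup σ) = (c : ℂ) • σ ⟨pr x, hx⟩ := by
      rw [hc, map_mul, extOp_extGraph, extOp_extScalar, mul_smul_comm, mul_one]
    have hA' : ∀ i j, A x i j = if i = j then (c : ℂ)⁻¹ else 0 := by
      intro i j
      refine huniq _ _ _ _ ?_
      rw [show ρ (pr x) = powRep σ e ⟨pr x, hx⟩ from hρ ⟨pr x, hx⟩, powRep_apply, hop,
        LinearMap.smul_apply, smul_smul]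
      by_cases h : i = j
      · subst h
        rw [if_pos rfl, Pi.single_eq_same, inv_mul_cancel₀ c.ne_zero, one_smul]
      · rw [if_neg h, Pi.single_eq_of_ne h, zero_mul, zero_smul, map_zero]
    refine ⟨(c : ℂ)⁻¹, LinearMap.ext fun u => funext fun i => ?_⟩
    rw [hΦ]
    simp [hA']
  have hd := finrank_dvd_index_of_scalar Φ (N.comap pr) hsc
  rwa [Module.finrank_fin_fun, Subgroup.index_comap_of_surjective N hpr] at hd

/-- The ratio of degrees divides the index. -/
theorem degree_ratio_dvd_index (N : Subgroup G) [N.Normal] [Fintype N] {χ : G → ℂ}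
    (hχ : IsIrrCharacter G χ) {θ : N → ℂ} (hθ : IsIrrCharacter N θ)
    (hc : classInner (fun n : N => χ n) θ ≠ 0) {c d : ℕ} (hc1 : χ 1 = c) (hd1 : θ 1 = d) :
    d ∣ c ∧ c / d ∣ N.index := by
  classical
  set T := inertia N θ with hT
  haveI := Fintype.ofFinite T
  have hNT : N ≤ T := le_inertia N hθ.isClassFunction
  obtain ⟨ψ, hψ, hψθ, heq, -⟩ := clifford_exists N hθ hNT hT hχ hc
  have hres := res_eq_smul N hθ hNT hT hψ hψθ
  obtain ⟨e, he⟩ := (hψ.isCharacter.comp (Subgroup.inclusion hNT)).exists_nat_classInner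
    hθ.isCharacter
  rw [show classInner (fun h : N => ψ ⟨h, hNT h.2⟩) θ = (e : ℂ) from he] at hres
  haveI : (N.subgroupOf T).Normal := Subgroup.Normal.subgroupOf inferInstance T
  have hinv : ∀ t : T, conjTwist (N.subgroupOf T) (resTo N θ T) t = resTo N θ T := fun t =>
    funext fun x => (mem_inertia_iff N).mp t.2 ⟨(x : T), Subgroup.mem_subgroupOf.mp x.2⟩
  have hedvd := multiplicity_dvd_index (isIrrCharacter_resTo N hθ hNT) hinv hψ (e := e)
    (funext fun x => congrFun hres ⟨(x : T), Subgroup.mem_subgroupOf.mp x.2⟩)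
  have h1 : c = T.index * e * d := by
    have h := indFun_apply_one T ψ
    rw [heq, hc1, show ψ 1 = (e : ℂ) * θ 1 from congrFun hres 1, hd1] at h
    rw [mul_assoc]
    exact_mod_cast h
  have hd0 : 0 < d := Nat.pos_of_ne_zero fun h => hθ.apply_one_ne_zero (by rw [hd1, h]; simp)
  refine ⟨h1 ▸ dvd_mul_left d _, ?_⟩
  rw [h1, Nat.mul_div_cancel _ hd0, ← Subgroup.relIndex_mul_index hNT, mul_comm T.index]
  exact Nat.mul_dvd_mul_right hedvd _

end Cfsg.Lib.Char
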