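import Mathlib.GroupTheory.SpecificGroups.Cyclic
import Cfsg.Agent.Lib.Char.Triple
import Cfsg.Agent.Lib.Char.LinearExt
import Cfsg.Agent.Lib.Char.Galois
import Cfsg.Agent.Lib.Char.Quotient

/-!
# The canonical extension along a coprime cyclic quotient

`P = N ⟨s⟩` with `N` normal and `|N|` prime to the order of `s`.
-/

set_option autoImplicit false
set_option linter.unusedSectionVars false
set_option linter.style.haveILetI false

namespace Cfsg.Lib.Char

open Cfsg Module
open scoped ComplexConjugate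

universe u v

variable {P : Type u} [Group P] [Finite P] {N : Subgroup P} [hN : N.Normal] {s : P}
  (htop : N ⊔ Subgroup.zpowers s = ⊤) (hcop : (Nat.card N).Coprime (orderOf s))

include htop hcop in
theorem index_eq_orderOf : N.index = orderOf s := by
  have h0 : N ⊓ Subgroup.zpowers s = ⊥ :=
    Subgroup.inf_eq_bot_of_coprime (by rwa [Nat.card_zpowers])
  have h1 := Subgroup.relIndex_sup_right (H := Subgroup.zpowers s) (K := N)
  rw [sup_comm, htop, Subgroup.relIndex_top_right, ← Subgroup.inf_relIndex_right, h0,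
    Subgroup.relIndex_bot_left, Nat.card_zpowers] at h1
  exact h1

include htop hcop in
theorem coprime_card_index : (Nat.card N).Coprime N.index := by
  rw [index_eq_orderOf htop hcop]; exact hcop

include htop in
theorem isCyclic_quotient : IsCyclic (P ⧸ N) := by
  refine ⟨⟨(s : P ⧸ N), fun q => ?_⟩⟩
  obtain ⟨x, rfl⟩ := QuotientGroup.mk_surjective q
  have hx : x ∈ N ⊔ Subgroup.zpowers s := htop ▸ Subgroup.mem_top x
  obtain ⟨n, hn, y, ⟨i, rfl⟩, rfl⟩ := Subgroup.mem_sup_of_normal_left.mp hx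
  refine ⟨i, ?_⟩
  simp [(QuotientGroup.eq_one_iff n).mpr hn]

include htop in
theorem invariant_of_gen {χ : N → ℂ} (hχ : IsIrrCharacter N χ)
    (hinv : ∀ n : N, χ (MulAut.conjNormal s n) = χ n) (g : P) (n : N) :
    χ (MulAut.conjNormal g n) = χ n := by
  haveI := Fintype.ofFinite P
  have h1 : N ⊔ Subgroup.zpowers s ≤ inertia N χ :=
    sup_le (le_inertia N hχ.isClassFunction) (Subgroup.zpowers_le.mpr (funext hinv))
  exact congrFun (h1 (htop ▸ Subgroup.mem_top g)) n

/-- `χh` is the canonical extension of `χ`. -/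
def IsCanonExt (N : Subgroup P) (χ : N → ℂ) (χh : P → ℂ) : Prop :=
  IsIrrCharacter P χh ∧ (∀ n : N, χh (n : P) = χ n) ∧ (detOrder χh).Coprime N.index

include htop hcop in
theorem exists_canonExt_rep {m : ℕ} (σ : Representation ℂ N (Fin m → ℂ)) [σ.IsIrreducible]
    (hinv : ∀ (g : P) (n : N), σ.character (MulAut.conjNormal g n) = σ.character n) :
    ∃ ρ : Representation ℂ P (Fin m → ℂ), (∀ n : N, ρ (n : P) = σ n) ∧
      ∀ x, detHom ρ x ^ Nat.card N = 1 := by
  have hfo : orderOf (detHom σ) ∣ Nat.card N := orderOf_dvd_of_pow_eq_one (MonoidHom.ext fun n => by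
    rw [MonoidHom.pow_apply, ← map_pow, pow_card_eq_one', map_one]; rfl)
  have hd : Nat.Coprime N.index (finrank ℂ (Fin m → ℂ)) := by
    haveI := Fintype.ofFinite N
    have h := charDegree_dvd_card (isIrrCharacter_character σ)
    have h1 := (isIrrCharacter_character σ).apply_one_eq_charDegree
    rw [Representation.char_one] at h1
    have h2 : finrank ℂ (Fin m → ℂ) = charDegree σ.character := by exact_mod_cast h1
    rw [h2]
    exact Nat.Coprime.coprime_dvd_right h (coprime_card_index htop hcop).symm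
  obtain ⟨μ, hμ, hμo⟩ := exists_linear_extension_coprime (detHom σ) (fun g n => Units.ext (by
    haveI : Representation.IsIrreducible
        (σ.comp (MulAut.conjNormal g).toMonoidHom : Representation ℂ N (Fin m → ℂ)) := by
      rw [isIrreducible_iff_isIrrCharacter]
      exact isIrrCharacter_comp_equiv (MulAut.conjNormal g) (isIrrCharacter_character σ)
    obtain ⟨φ⟩ := nonempty_equiv_of_character_eq
      (σ.comp (MulAut.conjNormal g).toMonoidHom : Representation ℂ N (Fin m → ℂ)) σ
      (funext fun k => hinv g k)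
    simp only [detHom_apply]
    exact (det_eq_of_equiv φ n).symm)) (Nat.Coprime.coprime_dvd_right hfo
      (coprime_card_index htop hcop).symm)
  obtain ⟨ρ₀, hρ₀⟩ := exists_extension_of_cyclic σ hinv (isCyclic_quotient htop)
  obtain ⟨ρ, hρ, hdet⟩ := exists_extension_det_eq hρ₀ hd μ hμ
  refine ⟨ρ, hρ, fun x => ?_⟩
  rw [hdet, ← MonoidHom.pow_apply,
    orderOf_dvd_iff_pow_eq_one.mp (hμo ▸ hfo), MonoidHom.one_apply]

include htop hcop in
theorem canonExt_eq_character {m : ℕ} (σ : Representation ℂ N (Fin m → ℂ)) [σ.IsIrreducible]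
    {ρ : Representation ℂ P (Fin m → ℂ)} (hρ : ∀ n : N, ρ (n : P) = σ n)
    (hρd : ∀ x, detHom ρ x ^ Nat.card N = 1) {χh : P → ℂ}
    (h : IsCanonExt N σ.character χh) : χh = ρ.character := by
  obtain ⟨ρ', hρ', hc⟩ := exists_rep_of_res_eq N.subtype σ h.1.isCharacter h.2.1
  have ho := h.2.2
  rw [← hc, detOrder_character] at ho
  have hd : Nat.Coprime N.index (finrank ℂ (Fin m → ℂ)) := by
    haveI := Fintype.ofFinite N
    have h2 := charDegree_dvd_card (isIrrCharacter_character σ)
    have h1 := (isIrrCharacter_character σ).apply_one_eq_charDegree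
    rw [Representation.char_one] at h1
    have h3 : finrank ℂ (Fin m → ℂ) = charDegree σ.character := by exact_mod_cast h1
    rw [h3]
    exact Nat.Coprime.coprime_dvd_right h2 (coprime_card_index htop hcop).symm
  rw [← hc, eq_of_extension_det hρ hρ' hd (MonoidHom.ext fun x => ?_)]
  set q : P →* ℂˣ := detHom ρ' * (detHom ρ)⁻¹ with hq
  have hqN : ∀ n ∈ N, q n = 1 := fun n hn => by
    have e : detHom ρ' n = detHom ρ n :=
      Units.ext ((congrArg LinearMap.det (hρ' ⟨n, hn⟩)).trans
        (congrArg LinearMap.det (hρ ⟨n, hn⟩)).symm)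
    rw [hq, MonoidHom.mul_apply, MonoidHom.inv_apply, e, mul_inv_cancel]
  have h1 := pow_index_eq_one_of_trivial q hqN x
  have h2 : q x ^ (orderOf (detHom ρ') * Nat.card N) = 1 := by
    rw [hq, MonoidHom.mul_apply, mul_pow, MonoidHom.inv_apply, inv_pow,
      mul_comm _ (Nat.card N), pow_mul (detHom ρ x), hρd, one_pow, inv_one, mul_one, pow_mul',
      ← MonoidHom.pow_apply, pow_orderOf_eq_one, MonoidHom.one_apply, one_pow]
  have h3 := pow_gcd_eq_one.mpr ⟨h1, h2⟩
  rw [Nat.Coprime.gcd_eq_one (Nat.Coprime.mul_right ho.symm (coprime_card_index htop hcop).symm),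
    pow_one, hq, MonoidHom.mul_apply, MonoidHom.inv_apply, mul_inv_eq_one] at h3
  exact h3

include htop hcop in
theorem canonExt_pow_rep {m : ℕ} (σ : Representation ℂ N (Fin m → ℂ)) [σ.IsIrreducible]
    {ρ : Representation ℂ P (Fin m → ℂ)} (hρ : ∀ n : N, ρ (n : P) = σ n)
    (hρd : ∀ x, detHom ρ x ^ Nat.card N = 1) {k : ℕ} (hk : k.Coprime (Nat.card P))
    (hk1 : k ≡ 1 [MOD Nat.card N]) (x : P) : ρ.character (x ^ k) = ρ.character x := by
  haveI hirr : ρ.IsIrreducible := isIrreducible_of_extension hρ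
  have hpowN : ∀ n : N, n ^ k = n := fun n => by
    conv_rhs => rw [← pow_one n]
    exact pow_eq_pow_iff_modEq.mpr (hk1.of_dvd (orderOf_dvd_natCard n))
  have hψ := isIrrCharacter_comp_pow hk (isIrrCharacter_character ρ)
  obtain ⟨ρ', hρ', hc⟩ := exists_rep_of_res_eq N.subtype σ hψ.isCharacter (fun n => by
    show ρ.character ((n : P) ^ k) = _
    rw [← Subgroup.coe_pow, hpowN]
    exact congrArg (fun f => LinearMap.trace ℂ _ f) (hρ n))
  have hdet : ∀ y, detHom ρ' y = detHom ρ y := fun y => Units.ext (by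
    let j : Subgroup.zpowers y →* P :=
      { toFun := fun z => (z : P) ^ k
        map_one' := by simp
        map_mul' := fun a b => by
          rw [Subgroup.coe_mul]
          exact (show Commute (a : P) b by
            obtain ⟨i, hi⟩ := a.2
            obtain ⟨l, hl⟩ := b.2
            simp only [← hi, ← hl]
            exact (Commute.refl y).zpow_zpow i l).mul_pow k }
    obtain ⟨φ⟩ := nonempty_equiv_of_character_eq
      (ρ'.comp (Subgroup.zpowers y).subtype : Representation ℂ _ (Fin m → ℂ))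
      (ρ.comp j : Representation ℂ _ (Fin m → ℂ)) (funext fun z => congrFun hc (z : P))
    have h2 : LinearMap.det (ρ (y ^ k)) = LinearMap.det (ρ' y) :=
      det_eq_of_equiv φ ⟨y, Subgroup.mem_zpowers y⟩
    rw [detHom_apply, ← h2, ← detHom_apply, map_pow]
    congr 1
    conv_rhs => rw [← pow_one (detHom ρ y)]
    exact pow_eq_pow_iff_modEq.mpr (hk1.of_dvd (orderOf_dvd_of_pow_eq_one (hρd y))))
  have hd : Nat.Coprime N.index (finrank ℂ (Fin m → ℂ)) := by
    haveI := Fintype.ofFinite N
    have h := charDegree_dvd_card (isIrrCharacter_character σ)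
    have h1 := (isIrrCharacter_character σ).apply_one_eq_charDegree
    rw [Representation.char_one] at h1
    have h2 : finrank ℂ (Fin m → ℂ) = charDegree σ.character := by exact_mod_cast h1
    rw [h2]
    exact Nat.Coprime.coprime_dvd_right h (coprime_card_index htop hcop).symm
  rw [eq_of_extension_det hρ hρ' hd (MonoidHom.ext hdet)] at hc
  exact (congrFun hc x).symm

include htop hcop in
theorem exists_canonExt {χ : N → ℂ} (hχ : IsIrrCharacter N χ)
    (hinv : ∀ n : N, χ (MulAut.conjNormal s n) = χ n) : ∃ χh, IsCanonExt N χ χh := by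
  have h := invariant_of_gen htop hχ hinv
  obtain ⟨m, σ, hσ, rfl⟩ := hχ
  haveI := hσ
  obtain ⟨ρ, hρ, hρd⟩ := exists_canonExt_rep htop hcop σ h
  haveI : ρ.IsIrreducible := isIrreducible_of_extension hρ
  refine ⟨ρ.character, isIrrCharacter_character ρ,
    fun n => congrArg (fun f => LinearMap.trace ℂ _ f) (hρ n), ?_⟩
  rw [detOrder_character]
  exact Nat.Coprime.coprime_dvd_left (orderOf_dvd_of_pow_eq_one (MonoidHom.ext fun x => by
    rw [MonoidHom.pow_apply, hρd]; rfl)) (coprime_card_index htop hcop)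

include htop hcop in
theorem canonExt_unique {χ : N → ℂ} (hχ : IsIrrCharacter N χ)
    (hinv : ∀ n : N, χ (MulAut.conjNormal s n) = χ n) {χh χh' : P → ℂ}
    (h : IsCanonExt N χ χh) (h' : IsCanonExt N χ χh') : χh = χh' := by
  have hi := invariant_of_gen htop hχ hinv
  obtain ⟨m, σ, hσ, rfl⟩ := hχ
  haveI := hσ
  obtain ⟨ρ, hρ, hρd⟩ := exists_canonExt_rep htop hcop σ hi
  rw [canonExt_eq_character htop hcop σ hρ hρd h, canonExt_eq_character htop hcop σ hρ hρd h']

include htop hcop in
theorem canonExt_pow {χ : N → ℂ} (hχ : IsIrrCharacter N χ)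
    (hinv : ∀ n : N, χ (MulAut.conjNormal s n) = χ n) {χh : P → ℂ} (h : IsCanonExt N χ χh)
    {k : ℕ} (hk : k.Coprime (Nat.card P)) (hk1 : k ≡ 1 [MOD Nat.card N]) (x : P) :
    χh (x ^ k) = χh x := by
  have hi := invariant_of_gen htop hχ hinv
  obtain ⟨m, σ, hσ, rfl⟩ := hχ
  haveI := hσ
  obtain ⟨ρ, hρ, hρd⟩ := exists_canonExt_rep htop hcop σ hi
  rw [canonExt_eq_character htop hcop σ hρ hρd h]
  exact canonExt_pow_rep htop hcop σ hρ hρd hk hk1 x

/-- An extension has norm `|N|` on every coset of `N`. -/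
theorem sum_coset_self [Fintype N] {χ : N → ℂ} (hχ : IsIrrCharacter N χ) {χh : P → ℂ}
    (hh : IsCharacter P χh) (hres : ∀ n : N, χh (n : P) = χ n) (g : P) :
    ∑ n : N, χh ((n : P) * g) * conj (χh ((n : P) * g)) = (Nat.card N : ℂ) := by
  obtain ⟨m, σ, hσ, rfl⟩ := hχ
  haveI := hσ
  obtain ⟨ρ, hρ, hc⟩ := exists_rep_of_res_eq N.subtype σ hh hres
  have h1 := sum_trace_mul_trace_inv σ (ρ g) (ρ g⁻¹)
    (by rw [← map_mul, mul_inv_cancel, map_one])
  rw [← h1]
  refine Finset.sum_congr rfl fun n _ => ?_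
  rw [← hh.apply_inv, ← hc, ← hρ n, ← hρ n⁻¹]
  show LinearMap.trace ℂ _ (ρ ((n : P) * g)) * LinearMap.trace ℂ _ (ρ ((n : P) * g)⁻¹) = _
  rw [map_mul ρ, mul_inv_rev, map_mul ρ, LinearMap.trace_mul_comm ℂ (ρ (n : P)),
    LinearMap.trace_mul_comm ℂ (ρ g⁻¹)]
  rfl

include htop in
/-- Extensions of different characters are orthogonal on every coset of `N`. -/
theorem sum_coset_ne [Fintype N] {χ χ' : N → ℂ} (hχ : IsIrrCharacter N χ)
    (hne : χ ≠ χ') {χh χh' : P → ℂ} (hh : IsIrrCharacter P χh)
    (hh' : IsIrrCharacter P χh') (hres : ∀ n : N, χh (n : P) = χ n)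
    (hres' : ∀ n : N, χh' (n : P) = χ' n) (g : P) :
    ∑ n : N, χh ((n : P) * g) * conj (χh' ((n : P) * g)) = 0 := by
  classical
  haveI := Fintype.ofFinite P
  haveI := Fintype.ofFinite (P ⧸ N)
  haveI hcyc := isCyclic_quotient htop
  letI : CommGroup (P ⧸ N) := IsCyclic.commGroup
  set F : P → ℂ := fun x => χh x * conj (χh' x) with hF
  set D : P ⧸ N → ℂ := fun q => ∑ x ∈ Finset.univ.filter (fun x : P => (x : P ⧸ N) = q), F x
    with hD
  have hDcl : IsClassFunction (P ⧸ N) D := fun a b => by rw [mul_comm b, mul_inv_cancel_right]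
  have hzero : D = 0 := by
    refine eq_zero_of_orthogonal hDcl fun ν hν => ?_
    have hν1 : (fun q => conj (ν q)) 1 = 1 := by
      show conj (ν 1) = 1
      rw [degree_eq_one_of_comm mul_comm hν, map_one]
    obtain ⟨f, hf⟩ := exists_hom_of_degree_one (isIrrCharacter_conjFn hν).isCharacter hν1
    have hmul := isIrrCharacter_mul_linear hh (f.comp (QuotientGroup.mk' N))
    have hne' : (fun x : P => χh x * ((f.comp (QuotientGroup.mk' N)) x : ℂ)) ≠ χh' := by
      intro e
      apply hne
      funext n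
      have := congrFun e (n : P)
      simp only [MonoidHom.comp_apply, QuotientGroup.mk'_apply,
        (QuotientGroup.eq_one_iff (n : P)).mpr n.2, map_one, Units.val_one, mul_one] at this
      rw [← hres, ← hres', this]
    have h0 := classInner_irr_ne hmul hh' hne'
    rw [classInner, mul_eq_zero, inv_eq_zero] at h0
    replace h0 := h0.resolve_left card_cast_ne_zero
    have h3 : ∑ q, D q * conj (ν q) = 0 := by
      rw [← h0, ← Finset.sum_fiberwise Finset.univ (fun x : P => (x : P ⧸ N))]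
      refine Finset.sum_congr rfl fun q _ => ?_
      rw [hD, Finset.sum_mul]
      refine Finset.sum_congr rfl fun x hx => ?_
      rw [← (Finset.mem_filter.mp hx).2, hF]
      have h4 : conj (ν (x : P ⧸ N)) = (f (x : P ⧸ N) : ℂ) := congrFun hf.symm _ |>.symm
      simp only [MonoidHom.comp_apply, QuotientGroup.mk'_apply, Pi.mul_apply]
      rw [h4]; ring
    simp [classInner, h3]
  have h5 := congrFun hzero (g : P ⧸ N)
  rw [Pi.zero_apply, hD] at h5
  rw [← h5]
  refine Finset.sum_bij (fun n _ => (n : P) * g) (fun n _ => ?_) (fun a _ b _ h => ?_)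
    (fun x hx => ?_) (fun n _ => rfl)
  · simp [(QuotientGroup.eq_one_iff (n : P)).mpr n.2]
  · exact Subtype.ext (mul_right_cancel h)
  · refine ⟨⟨x * g⁻¹, ?_⟩, Finset.mem_univ _, inv_mul_cancel_right x g⟩
    rw [← QuotientGroup.eq_one_iff, QuotientGroup.mk_mul, QuotientGroup.mk_inv,
      (Finset.mem_filter.mp hx).2, mul_inv_cancel]

end Cfsg.Lib.Char
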