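import Mathlib.GroupTheory.OrderOfElement
import Mathlib.GroupTheory.Index
import Mathlib.Algebra.BigOperators.Fin
import Mathlib.Algebra.BigOperators.Group.Finset.Basic
import Mathlib.Data.Nat.ModEq
import Mathlib.Algebra.Group.Subgroup.Ker
import Mathlib.GroupTheory.Subgroup.Centralizer
import Mathlib.Tactic.Group
import Mathlib.Algebra.BigOperators.GroupWithZero.Action

/-!
# A coprime element acting on a subgroup: the coset `H * s`

If `s` normalizes `H` and `|H|` is prime to the order of `s`, then every element of `H * s` is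
conjugate under `H` to some `c * s` with `c` fixed by `s`, in exactly `|C_H(s)|` ways.
-/

set_option autoImplicit false
set_option linter.unusedSectionVars false
set_option linter.style.haveILetI false

namespace Cfsg.Lib.Char

universe u

variable {P : Type u} [Group P] [Finite P] {H : Subgroup P} {s : P}

/-- An exponent projecting `c * s` to `s`. -/
theorem exists_proj_exponent (hcop : (Nat.card H).Coprime (orderOf s)) :
    ∃ e : ℕ, (∀ c ∈ H, Commute c s → (c * s) ^ e = s) ∧ ∀ x : P, (x * s * x⁻¹) ^ e = x * s * x⁻¹ := by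
  obtain ⟨e, he1, he2⟩ := Nat.chineseRemainder hcop 0 1
  have hs : s ^ e = s := by
    conv_rhs => rw [← pow_one s]
    exact pow_eq_pow_iff_modEq.mpr he2
  refine ⟨e, fun c hc hcs => ?_, fun x => by rw [conj_pow, hs]⟩
  rw [hcs.mul_pow, hs]
  have : c ^ e = 1 := orderOf_dvd_iff_pow_eq_one.mp
    ((Subgroup.orderOf_dvd_natCard H hc).trans (Nat.modEq_zero_iff_dvd.mp he1))
  rw [this, one_mul]

/-- Two conjugates `x (c s) x⁻¹ = y (d s) y⁻¹` differ by an element commuting with `s`. -/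
theorem commute_of_conj_eq (hcop : (Nat.card H).Coprime (orderOf s)) {c d x y : P} (hc : c ∈ H)
    (hcs : Commute c s) (hd : d ∈ H) (hds : Commute d s)
    (h : x * (c * s) * x⁻¹ = y * (d * s) * y⁻¹) : Commute (y⁻¹ * x) s := by
  obtain ⟨e, he, -⟩ := exists_proj_exponent hcop
  have h2 := congrArg (fun g => g ^ e) h
  simp only [conj_pow, he c hc hcs, he d hd hds] at h2
  show y⁻¹ * x * s = s * (y⁻¹ * x)
  calc y⁻¹ * x * s = y⁻¹ * (x * s * x⁻¹) * x := by group
    _ = y⁻¹ * (y * s * y⁻¹) * x := by rw [h2]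
    _ = s * (y⁻¹ * x) := by group

variable (hnorm : s ∈ Subgroup.normalizer (H : Set P))
  (hcop : (Nat.card H).Coprime (orderOf s))

include hnorm in
theorem conj_mul_inv_mem {x c : P} (hx : x ∈ H) (hc : c ∈ H) :
    x * (c * s) * x⁻¹ * s⁻¹ ∈ H := by
  have h1 : s * x⁻¹ * s⁻¹ ∈ H := (Subgroup.mem_normalizer_iff.mp hnorm _).mp (inv_mem hx)
  have h2 : x * (c * s) * x⁻¹ * s⁻¹ = x * c * (s * x⁻¹ * s⁻¹) := by group
  rw [h2]
  exact mul_mem (mul_mem hx hc) h1

include hnorm hcop in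
/-- The map `(x, c) ↦ x (c s) x⁻¹` onto `H * s`: fibres, surjectivity and averaging. -/
theorem conj_coset_fibre (C : Subgroup P) (hC : ∀ x, x ∈ C ↔ x ∈ H ∧ Commute x s)
    [Fintype H] [Fintype C] :
    (∀ h ∈ H, ∃ x ∈ H, ∃ c ∈ C, x * (c * s) * x⁻¹ = h * s) ∧
      ∀ {α : Type} [AddCommMonoid α] (F : P → α), (∀ g, ∀ x ∈ H, F (x * g * x⁻¹) = F g) →
        Nat.card H • ∑ c : C, F ((c : P) * s) = Nat.card C • ∑ h : H, F ((h : P) * s) := by
  classical
  let Φ : H × C → H := fun q =>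
    ⟨(q.1 : P) * ((q.2 : P) * s) * (q.1 : P)⁻¹ * s⁻¹,
      conj_mul_inv_mem hnorm q.1.2 ((hC _).mp q.2.2).1⟩
  have hΦ : ∀ q, ((Φ q : H) : P) * s = (q.1 : P) * ((q.2 : P) * s) * (q.1 : P)⁻¹ := fun q => by
    show (q.1 : P) * ((q.2 : P) * s) * (q.1 : P)⁻¹ * s⁻¹ * s = _
    rw [inv_mul_cancel_right]
  have hfib : ∀ q₀ : H × C,
      (Finset.univ.filter fun q => Φ q = Φ q₀).card = Fintype.card C := by
    intro q₀
    refine (Finset.card_bij (fun (z : C) _ => ((q₀.1 * ⟨(z : P), ((hC _).mp z.2).1⟩⁻¹ : H),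
      (z * q₀.2 * z⁻¹ : C))) (fun z _ => ?_) (fun z _ w _ h => ?_) (fun q hq => ?_)).symm
    · rw [Finset.mem_filter]
      refine ⟨Finset.mem_univ _, Subtype.ext (mul_right_cancel (b := s) ?_)⟩
      rw [hΦ, hΦ]
      have hzs : (z : P) * s = s * (z : P) := ((hC _).mp z.2).2.eq
      simp only [Subgroup.coe_mul, Subgroup.coe_inv]
      calc (q₀.1 : P) * (z : P)⁻¹ * ((z : P) * (q₀.2 : P) * (z : P)⁻¹ * s) *
            ((q₀.1 : P) * (z : P)⁻¹)⁻¹
          = (q₀.1 : P) * (q₀.2 : P) * ((z : P)⁻¹ * (s * (z : P))) * (q₀.1 : P)⁻¹ := by group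
        _ = (q₀.1 : P) * ((q₀.2 : P) * s) * (q₀.1 : P)⁻¹ := by rw [← hzs]; group
    · have h1 := (Prod.mk.injEq _ _ _ _).mp h
      have h2 := mul_left_cancel h1.1
      rw [inv_inj] at h2
      exact Subtype.ext (congrArg (fun y : H => (y : P)) h2)
    · rw [Finset.mem_filter] at hq
      have h1 : (q.1 : P) * ((q.2 : P) * s) * (q.1 : P)⁻¹ =
          (q₀.1 : P) * ((q₀.2 : P) * s) * (q₀.1 : P)⁻¹ := by rw [← hΦ, ← hΦ, hq.2]
      have hcomm := commute_of_conj_eq hcop ((hC _).mp q₀.2.2).1 ((hC _).mp q₀.2.2).2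
        ((hC _).mp q.2.2).1 ((hC _).mp q.2.2).2 h1.symm
      have hzH : (q.1 : P)⁻¹ * (q₀.1 : P) ∈ H := mul_mem (inv_mem q.1.2) q₀.1.2
      refine ⟨⟨(q.1 : P)⁻¹ * (q₀.1 : P), (hC _).mpr ⟨hzH, hcomm⟩⟩, Finset.mem_univ _, ?_⟩
      refine Prod.ext (Subtype.ext ?_) (Subtype.ext (mul_right_cancel (b := s) ?_))
      · simp
      · simp only [Subgroup.coe_mul, Subgroup.coe_inv]
        have hcinv : ((q.1 : P)⁻¹ * (q₀.1 : P))⁻¹ * s = s * ((q.1 : P)⁻¹ * (q₀.1 : P))⁻¹ :=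
          hcomm.inv_left.eq
        calc (q.1 : P)⁻¹ * (q₀.1 : P) * (q₀.2 : P) * ((q.1 : P)⁻¹ * (q₀.1 : P))⁻¹ * s
            = (q.1 : P)⁻¹ * ((q₀.1 : P) * ((q₀.2 : P) * s) * (q₀.1 : P)⁻¹) * (q.1 : P) := by
              rw [mul_assoc _ _ s, hcinv]; group
          _ = (q.2 : P) * s := by rw [← h1]; group
  have hsurj : Function.Surjective Φ := by
    have h1 := Finset.card_eq_sum_card_image Φ (Finset.univ : Finset (H × C))
    rw [Finset.sum_congr rfl (g := fun _ => Fintype.card C) (fun b hb => by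
      obtain ⟨q₀, -, rfl⟩ := Finset.mem_image.mp hb
      exact hfib q₀), Finset.sum_const, smul_eq_mul, Finset.card_univ, Fintype.card_prod] at h1
    have h2 := Nat.eq_of_mul_eq_mul_right Fintype.card_pos h1
    intro h
    have h3 : (Finset.univ : Finset (H × C)).image Φ = Finset.univ :=
      Finset.eq_univ_of_card _ h2.symm
    obtain ⟨q, -, hq⟩ := Finset.mem_image.mp (h3.symm ▸ Finset.mem_univ h)
    exact ⟨q, hq⟩
  refine ⟨fun h hh => ?_, fun {α} _ F hF => ?_⟩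
  · obtain ⟨q, hq⟩ := hsurj ⟨h, hh⟩
    refine ⟨q.1, q.1.2, q.2, q.2.2, ?_⟩
    rw [← hΦ, hq]
  · have h1 : ∑ q : H × C, F ((Φ q : P) * s) = Nat.card H • ∑ c : C, F ((c : P) * s) := by
      rw [Fintype.sum_prod_type]
      rw [Finset.sum_congr rfl (g := fun _ => ∑ c : C, F ((c : P) * s)) fun x _ =>
        Finset.sum_congr rfl fun c _ => by rw [hΦ, hF _ _ x.2]]
      rw [Finset.sum_const, Finset.card_univ, Nat.card_eq_fintype_card]
    rw [← h1, ← Finset.sum_fiberwise Finset.univ Φ, Finset.smul_sum]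
    refine Finset.sum_congr rfl fun h _ => ?_
    obtain ⟨q₀, rfl⟩ := hsurj h
    rw [Finset.sum_congr rfl (g := fun _ => F ((Φ q₀ : P) * s)) fun q hq => by
      rw [(Finset.mem_filter.mp hq).2], Finset.sum_const, hfib, Nat.card_eq_fintype_card]

include hnorm hcop in
theorem exists_conj_eq_mul {h : P} (hh : h ∈ H) :
    ∃ x ∈ H, ∃ c ∈ H, Commute c s ∧ x * (c * s) * x⁻¹ = h * s := by
  let C : Subgroup P := H ⊓ Subgroup.centralizer ({s} : Set P)
  have hC : ∀ x, x ∈ C ↔ x ∈ H ∧ Commute x s := fun x =>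
    and_congr Iff.rfl Subgroup.mem_centralizer_singleton_iff
  haveI := Fintype.ofFinite H
  haveI := Fintype.ofFinite C
  obtain ⟨x, hx, c, hc, he⟩ := (conj_coset_fibre hnorm hcop C hC).1 h hh
  exact ⟨x, hx, c, ((hC c).mp hc).1, ((hC c).mp hc).2, he⟩

include hnorm hcop in
/-- Elements fixed by `s` and conjugate under `H` are conjugate by an element fixed by `s`. -/
theorem exists_commute_conj {c d g : P} (hcs : Commute c s) (hds : Commute d s) (hg : g ∈ H)
    (hgc : g * c * g⁻¹ = d) : ∃ w ∈ H, Commute w s ∧ w * c * w⁻¹ = d := by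
  let K : Subgroup P := H ⊓ Subgroup.centralizer ({c} : Set P)
  have hsc : s ∈ Subgroup.centralizer ({c} : Set P) :=
    Subgroup.mem_centralizer_singleton_iff.mpr hcs.eq.symm
  have hKn : s ∈ Subgroup.normalizer (K : Set P) := by
    rw [Subgroup.mem_normalizer_iff]
    intro y
    show y ∈ H ∧ y ∈ Subgroup.centralizer {c} ↔ s * y * s⁻¹ ∈ H ∧ s * y * s⁻¹ ∈ Subgroup.centralizer {c}
    rw [Subgroup.mem_normalizer_iff.mp hnorm y]
    refine and_congr Iff.rfl ⟨fun h => mul_mem (mul_mem hsc h) (Subgroup.inv_mem _ hsc), fun h => ?_⟩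
    have := mul_mem (mul_mem (Subgroup.inv_mem _ hsc) h) hsc
    have e : s⁻¹ * (s * y * s⁻¹) * s = y := by group
    rwa [e] at this
  have hKcop : (Nat.card K).Coprime (orderOf s) :=
    Nat.Coprime.coprime_dvd_left (Subgroup.card_dvd_of_le inf_le_left) hcop
  set z : P := g⁻¹ * (s * g * s⁻¹) with hz
  have hzK : z ∈ K := by
    refine ⟨Subgroup.mul_mem _ (Subgroup.inv_mem _ hg) ((Subgroup.mem_normalizer_iff.mp hnorm g).mp hg),
      Subgroup.mem_centralizer_singleton_iff.mpr ?_⟩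
    calc z * c = g⁻¹ * s * g * (s⁻¹ * (c * s)) * s⁻¹ := by rw [hz]; group
      _ = g⁻¹ * s * (g * c * g⁻¹) * g * s⁻¹ := by rw [hcs.eq]; group
      _ = g⁻¹ * (s * d) * g * s⁻¹ := by rw [hgc]; group
      _ = g⁻¹ * d * s * g * s⁻¹ := by rw [← hds.eq]; group
      _ = c * z := by rw [hz, ← hgc]; group
  obtain ⟨x, hx, c', hc', hc's, he⟩ := exists_conj_eq_mul hKn hKcop hzK
  obtain ⟨e, he1, he2⟩ := exists_proj_exponent hKcop
  have hu : g⁻¹ * s * (g⁻¹)⁻¹ = z * s := by rw [hz]; group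
  have h1 := he2 g⁻¹
  rw [hu, ← he, conj_pow, he1 c' hc' hc's, he, ← hu] at h1
  refine ⟨g * x, mul_mem hg hx.1, ?_, ?_⟩
  · show g * x * s = s * (g * x)
    calc g * x * s = g * (x * s * x⁻¹) * x := by group
      _ = g * (g⁻¹ * s * (g⁻¹)⁻¹) * x := by rw [h1]
      _ = s * (g * x) := by group
  · have hxc : x * c = c * x := Subgroup.mem_centralizer_singleton_iff.mp hx.2
    calc g * x * c * (g * x)⁻¹ = g * (x * c) * x⁻¹ * g⁻¹ := by group
      _ = g * c * g⁻¹ := by rw [hxc]; group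
      _ = d := hgc

include hnorm hcop in
/-- An element whose class is fixed by `s` has a conjugate fixed by `s`. -/
theorem exists_conj_commute {k y : P} (hy : y ∈ H) (hk : s * k * s⁻¹ = y * k * y⁻¹) :
    ∃ x ∈ H, Commute (x⁻¹ * k * x) s := by
  obtain ⟨x, hx, c, hc, hcs, he⟩ := exists_conj_eq_mul hnorm hcop (inv_mem hy)
  obtain ⟨e, he1, -⟩ := exists_proj_exponent hcop
  have hcomm : Commute k (y⁻¹ * s) := by
    show k * (y⁻¹ * s) = y⁻¹ * s * k
    calc k * (y⁻¹ * s) = y⁻¹ * (y * k * y⁻¹) * s := by group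
      _ = y⁻¹ * (s * k * s⁻¹) * s := by rw [hk]
      _ = y⁻¹ * s * k := by group
  have h2 : Commute k (x * s * x⁻¹) := by
    have h := hcomm.pow_right e
    rwa [← he, conj_pow, he1 c hc hcs] at h
  refine ⟨x, hx, ?_⟩
  show x⁻¹ * k * x * s = s * (x⁻¹ * k * x)
  calc x⁻¹ * k * x * s = x⁻¹ * (k * (x * s * x⁻¹)) * x := by group
    _ = x⁻¹ * (x * s * x⁻¹ * k) * x := by rw [h2.eq]
    _ = s * (x⁻¹ * k * x) := by group

end Cfsg.Lib.Char
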