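import Mathlib.RingTheory.IntegralClosure.IntegrallyClosed
import Mathlib.RingTheory.Ideal.Quotient.Operations
import Mathlib.Algebra.CharP.Lemmas
import Mathlib.FieldTheory.Finite.Basic
import Mathlib.GroupTheory.PGroup
import Cfsg.Agent.Lib.Char.Clifford
import Cfsg.Agent.Lib.Char.Formulas
import Cfsg.Agent.Lib.Char.Central
import Cfsg.Agent.Lib.Char.Galois

/-!
# Congruence correspondences between irreducible characters

`HasCorr ι p χ β`: the multiplicities in `χ ∘ ι` are `± 1` at `β` and `0` elsewhere, mod `p`.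
-/

set_option autoImplicit false
set_option linter.unusedSectionVars false
set_option linter.style.haveILetI false

namespace Cfsg.Lib.Char

open Cfsg
open scoped ComplexConjugate

universe u v w

section Congr

/-- A character of a group at an element of `p`-power order with integral value. -/
theorem modEq_degree_of_prime_pow {A : Type u} [Group A] [Finite A] {R : A → ℂ}
    (hR : IsCharacter A R) {x : A} {p k : ℕ} (hp : p.Prime) (hx : x ^ p ^ k = 1) {a : ℤ}
    (ha : R x = a) {T : ℕ} (hT : R 1 = T) : (T : ℤ) ≡ a [ZMOD p] := by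
  obtain ⟨n, μ, hμ, hk⟩ := exists_sum_roots hR x
  have h0 := hk 0
  have h1 := hk 1
  simp only [pow_zero, pow_one, Finset.sum_const, Finset.card_univ, Fintype.card_fin,
    nsmul_eq_mul, mul_one] at h0 h1
  rw [hT] at h0
  have hn : T = n := by exact_mod_cast h0
  rw [ha] at h1
  have hμp : ∀ i, μ i ^ p ^ k = 1 := fun i => by
    obtain ⟨c, hc⟩ := orderOf_dvd_iff_pow_eq_one.mpr hx
    rw [hc, pow_mul, hμ i, one_pow]
  have hint : ∀ i, μ i ∈ integralClosure ℤ ℂ := fun i =>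
    IsIntegral.of_pow (Nat.pow_pos hp.pos) (by rw [hμp i]; exact isIntegral_one)
  let O := integralClosure ℤ ℂ
  let I : Ideal O := Ideal.span {((p : ℕ) : O)}
  have hI : I ≠ ⊤ := by
    rw [Ne, Ideal.span_singleton_eq_top, isUnit_iff_exists_inv]
    rintro ⟨y, hy⟩
    have hy' : (p : ℂ) * (y : ℂ) = 1 := by
      have := congrArg (fun z : O => (z : ℂ)) hy
      simpa using this
    have hyi : IsIntegral ℤ (((p : ℚ)⁻¹ : ℚ) : ℂ) := by
      have : (((p : ℚ)⁻¹ : ℚ) : ℂ) = (y : ℂ) := by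
        push_cast
        exact inv_eq_of_mul_eq_one_right hy'
      rw [this]; exact y.2
    obtain ⟨z, hz⟩ := exists_int_of_isIntegral_rat hyi
    have hp1 : (p : ℤ) * z = 1 := by
      have hpQ : (p : ℚ) ≠ 0 := Nat.cast_ne_zero.mpr hp.ne_zero
      have : ((p : ℚ) * z) = 1 := by rw [← hz, mul_inv_cancel₀ hpQ]
      exact_mod_cast this
    have h2 := Int.natAbs_of_isUnit (isUnit_of_dvd_one ⟨z, hp1.symm⟩)
    rw [Int.natAbs_natCast] at h2
    exact hp.one_lt.ne' h2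
  haveI : Fact p.Prime := ⟨hp⟩
  haveI : Nontrivial (O ⧸ I) := Ideal.Quotient.nontrivial_iff.mpr hI
  have hp0 : (p : O ⧸ I) = 0 := by
    rw [← map_natCast (Ideal.Quotient.mk I)]
    exact Ideal.Quotient.eq_zero_iff_mem.mpr (Ideal.subset_span (Set.mem_singleton _))
  haveI : CharP (O ⧸ I) p := (CharP.charP_iff_prime_eq_zero hp).mpr hp0
  haveI : ExpChar (O ⧸ I) p := ExpChar.prime hp
  let μ' : Fin n → O := fun i => ⟨μ i, hint i⟩
  have hsum : (a : O) = ∑ i, μ' i := by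
    apply Subtype.ext
    simp only [AddSubmonoidClass.coe_finset_sum, SubringClass.coe_intCast]
    exact h1
  have hpow : ∀ i, (Ideal.Quotient.mk I (μ' i)) ^ p ^ k = 1 := fun i => by
    rw [← map_pow, show μ' i ^ p ^ k = 1 from Subtype.ext (by simpa [μ'] using hμp i), map_one]
  have h2 : ((a : ℤ) : O ⧸ I) ^ p ^ k = (n : O ⧸ I) := by
    rw [← map_intCast (Ideal.Quotient.mk I), hsum, map_sum, sum_pow_char_pow p k]
    simp [hpow]
  have h3 : ((a : ℤ) : O ⧸ I) ^ p ^ k = (a : O ⧸ I) := by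
    have h := congrArg (ZMod.castHom dvd_rfl (O ⧸ I)) (ZMod.pow_card_pow (n := k) (a : ZMod p))
    rwa [map_pow, map_intCast] at h
  have h4 : ((((T : ℤ) - a : ℤ)) : O ⧸ I) = 0 := by
    rw [hn]; push_cast; rw [← h2, h3, sub_self]
  exact (Int.modEq_iff_dvd.mpr ((CharP.intCast_eq_zero_iff _ p _).mp h4)).symm

/-- Orbit sums modulo `p` for a `p`-group. -/
theorem sum_modEq_sum_fixed {S : Type u} [Group S] {X : Type v} [Fintype X] [MulAction S X]
    {p : ℕ} [Fact p.Prime] (hS : IsPGroup p S) (F : X → ℕ) (hF : ∀ (a : S) x, F (a • x) = F x)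
    [DecidablePred fun x : X => ∀ a : S, a • x = x] :
    ∑ x, F x ≡ ∑ x ∈ Finset.univ.filter (fun x => ∀ a : S, a • x = x), F x [MOD p] := by
  letI act : MulAction S (Σ x : X, Fin (F x)) :=
    { smul := fun a q => ⟨a • q.1, Fin.cast (hF a q.1).symm q.2⟩
      one_smul := fun q => Sigma.ext (one_smul S q.1) ((Fin.heq_ext_iff (hF 1 q.1)).mpr rfl)
      mul_smul := fun a b q => Sigma.ext (mul_smul a b q.1)
        ((Fin.heq_ext_iff (congrArg F (mul_smul a b q.1))).mpr rfl) }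
  have h := hS.card_modEq_card_fixedPoints (Σ x : X, Fin (F x))
  rw [Nat.card_eq_fintype_card, Fintype.card_sigma] at h
  simp only [Fintype.card_fin] at h
  refine h.trans (congrArg (fun t => t % p) ?_)
  let e : MulAction.fixedPoints S (Σ x : X, Fin (F x)) ≃
      Σ x : {x : X // ∀ a : S, a • x = x}, Fin (F x.1) :=
    { toFun := fun q => ⟨⟨q.1.1, fun a => congrArg Sigma.fst (q.2 a)⟩, q.1.2⟩
      invFun := fun q => ⟨⟨q.1.1, q.2⟩, fun a => Sigma.ext (q.1.2 a)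
        ((Fin.heq_ext_iff (hF a q.1.1)).mpr rfl)⟩
      left_inv := fun _ => rfl
      right_inv := fun _ => rfl }
  rw [Nat.card_congr e, Nat.card_eq_fintype_card, Fintype.card_sigma]
  simp only [Fintype.card_fin]
  exact (Finset.sum_subtype _ (fun x => by simp) F).symm

end Congr

variable {G : Type u} [Group G] {C : Type u} [Group C] [Fintype C]

/-- The multiplicities of `χ ∘ ι` are `± 1` at `β` and `0` elsewhere, modulo `p`. -/
def HasCorr (ι : C →* G) (p : ℕ) (χ : G → ℂ) (β : C → ℂ) : Prop :=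
  IsIrrCharacter C β ∧ ∃ ε : ℤ, (ε = 1 ∨ ε = -1) ∧
    ∀ (η : C → ℂ) (m : ℕ), IsIrrCharacter C η → classInner (fun c => χ (ι c)) η = m →
      (η = β → (m : ℤ) ≡ ε [ZMOD p]) ∧ (η ≠ β → (p : ℕ) ∣ m)

/-- A bijection of the characters satisfying `inv` onto `Irr C` by `HasCorr`. -/
structure IsCorrespondence (ι : C →* G) (p : ℕ) (inv : (G → ℂ) → Prop) : Prop where
  exists_corr : ∀ χ, IsIrrCharacter G χ → inv χ → ∃ β, HasCorr ι p χ β
  injective : ∀ χ χ' β, IsIrrCharacter G χ → inv χ → IsIrrCharacter G χ' → inv χ' →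
    HasCorr ι p χ β → HasCorr ι p χ' β → χ = χ'
  surjective : ∀ β, IsIrrCharacter C β → ∃ χ, IsIrrCharacter G χ ∧ inv χ ∧ HasCorr ι p χ β

theorem not_dvd_of_modEq_sign {p : ℕ} (hp : p.Prime) {ε : ℤ} (hε : ε = 1 ∨ ε = -1) {m : ℕ}
    (h : (m : ℤ) ≡ ε [ZMOD p]) : ¬ p ∣ m := by
  intro hd
  have h1 : (p : ℤ) ∣ ε := by
    have h2 : (p : ℤ) ∣ ε - m := h.dvd
    simpa using dvd_add h2 (Int.natCast_dvd_natCast.mpr hd)
  rcases hε with rfl | rfl <;>
    · have := Int.natAbs_dvd_natAbs.mpr h1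
      simp only [Int.natAbs_natCast, Int.natAbs_neg, Int.natAbs_one, Nat.dvd_one] at this
      exact hp.one_lt.ne' this

theorem HasCorr.not_dvd_iff {ι : C →* G} {p : ℕ} (hp : p.Prime) {χ : G → ℂ} {β : C → ℂ}
    (h : HasCorr ι p χ β) {η : C → ℂ} (hη : IsIrrCharacter C η) {m : ℕ}
    (hm : classInner (fun c => χ (ι c)) η = m) : ¬ p ∣ m ↔ η = β := by
  obtain ⟨-, ε, hε, hall⟩ := h
  obtain ⟨h1, h2⟩ := hall η m hη hm
  exact ⟨fun hnd => not_not.mp fun hne => hnd (h2 hne), fun e => not_dvd_of_modEq_sign hp hε (h1 e)⟩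

theorem HasCorr.eq_of_not_dvd [Finite G] {ι : C →* G} {p : ℕ} (hp : p.Prime) {χ : G → ℂ}
    (hχ : IsCharacter G χ) {β β' : C → ℂ} (h : HasCorr ι p χ β) (h' : HasCorr ι p χ β') :
    β = β' := by
  obtain ⟨m, hm⟩ := (hχ.comp ι).exists_nat_classInner h'.1.isCharacter
  exact ((h.not_dvd_iff hp h'.1 hm).mp ((h'.not_dvd_iff hp h'.1 hm).mpr rfl)).symm

theorem HasCorr.self [Fintype G] (e : C ≃* G) (p : ℕ) {χ : G → ℂ} (hχ : IsIrrCharacter G χ) :
    HasCorr e.toMonoidHom p χ (fun c => χ (e c)) := by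
  have hβ : IsIrrCharacter C (fun c => χ (e c)) := isIrrCharacter_comp_equiv e hχ
  refine ⟨hβ, 1, Or.inl rfl, fun η m hη hm => ⟨fun he => ?_, fun hne => ?_⟩⟩
  · subst he
    have h1 : (m : ℂ) = 1 := hm.symm.trans (classInner_irr_self hβ)
    rw [show m = 1 by exact_mod_cast h1]; rfl
  · have h1 : (m : ℂ) = 0 := hm.symm.trans (classInner_irr_ne hβ hη (Ne.symm hne))
    rw [show m = 0 by exact_mod_cast h1]
    exact dvd_zero p

theorem HasCorr.trans [Finite G] {D : Type u} [Group D] [Fintype D] {ι₁ : D →* G} {ι₂ : C →* D}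
    {p : ℕ} {χ : G → ℂ} (hχ : IsCharacter G χ) {θ : D → ℂ} {β : C → ℂ}
    (h₁ : HasCorr ι₁ p χ θ) (h₂ : HasCorr ι₂ p θ β) : HasCorr (ι₁.comp ι₂) p χ β := by
  classical
  obtain ⟨hθ, ε₁, hε₁, ha₁⟩ := h₁
  obtain ⟨hβ, ε₂, hε₂, ha₂⟩ := h₂
  refine ⟨hβ, ε₁ * ε₂, ?_, fun η m hη hm => ?_⟩
  · rcases hε₁ with rfl | rfl <;> rcases hε₂ with rfl | rfl <;> simp
  choose a ha using fun φ : IrrCharacter D =>
    (hχ.comp ι₁).exists_nat_classInner φ.2.isCharacter
  choose b hb using fun φ : IrrCharacter D =>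
    (φ.2.isCharacter.comp ι₂).exists_nat_classInner hη.isCharacter
  have hexp : (fun c => χ ((ι₁.comp ι₂) c)) =
      ∑ φ : IrrCharacter D, (a φ : ℂ) • fun c => (φ : D → ℂ) (ι₂ c) := by
    funext c
    have h := congrFun (eq_sum_classInner (hχ.comp ι₁).isClassFunction) (ι₂ c)
    simp only [Finset.sum_apply, Pi.smul_apply] at h ⊢
    rw [MonoidHom.comp_apply, h]
    exact Finset.sum_congr rfl fun φ _ => by rw [ha φ]
  have hmsum : m = ∑ φ, a φ * b φ := by
    rw [hexp, classInner_sum_left] at hm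
    simp only [classInner_smul_left, hb] at hm
    exact_mod_cast hm.symm
  have hrest : ∀ φ : IrrCharacter D, (φ : D → ℂ) ≠ θ → (p : ℤ) ∣ ((a φ * b φ : ℕ) : ℤ) :=
    fun φ hne => Int.natCast_dvd_natCast.mpr
      (dvd_mul_of_dvd_left ((ha₁ φ (a φ) φ.2 (ha φ)).2 hne) _)
  have hmain : (m : ℤ) ≡ ((a ⟨θ, hθ⟩ : ℤ) * b ⟨θ, hθ⟩) [ZMOD p] := by
    rw [hmsum, ← Finset.add_sum_erase _ _ (Finset.mem_univ (⟨θ, hθ⟩ : IrrCharacter D))]
    push_cast
    refine (Int.modEq_iff_dvd.mpr ?_)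
    rw [sub_add_cancel_left]
    refine dvd_neg.mpr (Finset.dvd_sum fun φ hφ => ?_)
    have := hrest φ fun e => (Finset.mem_erase.mp hφ).1 (Subtype.ext e)
    push_cast at this
    exact this
  have ha0 := (ha₁ θ _ hθ (ha ⟨θ, hθ⟩)).1 rfl
  obtain ⟨hb1, hb2⟩ := ha₂ η _ hη (hb ⟨θ, hθ⟩)
  refine ⟨fun he => hmain.trans (ha0.mul (hb1 he)), fun hne => ?_⟩
  have h3 : (p : ℤ) ∣ (a ⟨θ, hθ⟩ : ℤ) * b ⟨θ, hθ⟩ :=
    dvd_mul_of_dvd_right (Int.natCast_dvd_natCast.mpr (hb2 hne)) _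
  exact Int.natCast_dvd_natCast.mp (Int.modEq_zero_iff_dvd.mp
    (hmain.trans (Int.modEq_zero_iff_dvd.mpr h3)))

/-- Transport along compatible isomorphisms. -/
theorem HasCorr.comp_equiv {G' : Type u} [Group G'] {C' : Type u} [Group C'] [Fintype C']
    {ι : C →* G} {ι' : C' →* G'} (a : G' ≃* G) (b : C' ≃* C) (hab : ∀ c, a (ι' c) = ι (b c))
    {p : ℕ} {χ : G → ℂ} {β : C → ℂ} (h : HasCorr ι p χ β) :
    HasCorr ι' p (fun g => χ (a g)) (fun c => β (b c)) := by
  obtain ⟨hβ, ε, hε, hall⟩ := h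
  refine ⟨isIrrCharacter_comp_equiv b hβ, ε, hε, fun η m hη hm => ?_⟩
  set η₀ : C → ℂ := fun c => η (b.symm c) with hη₀
  have h1 : η = fun c => η₀ (b c) := funext fun c => by simp [hη₀]
  have h2 : classInner (fun c => χ (ι c)) η₀ = m := by
    rw [← hm, h1]
    simp only [hab]
    exact (classInner_comp_equiv b (fun c => χ (ι c)) η₀).symm
  obtain ⟨h3, h4⟩ := hall η₀ m (isIrrCharacter_comp_equiv b.symm hη) h2
  exact ⟨fun he => h3 (funext fun c => by simp [hη₀, he]),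
    fun hne => h4 fun he => hne (funext fun c => by rw [h1, he])⟩

/-- Transport of a whole correspondence. -/
theorem IsCorrespondence.comp_equiv {G' : Type u} [Group G'] {C' : Type u} [Group C'] [Fintype C']
    {ι : C →* G} {ι' : C' →* G'} (a : G' ≃* G) (b : C' ≃* C) (hab : ∀ c, a (ι' c) = ι (b c))
    {p : ℕ} {inv : (G → ℂ) → Prop} {inv' : (G' → ℂ) → Prop}
    (hinv : ∀ χ : G → ℂ, inv χ ↔ inv' fun g => χ (a g)) (h : IsCorrespondence ι p inv) :
    IsCorrespondence ι' p inv' := by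
  have hba : ∀ c, a.symm (ι c) = ι' (b.symm c) := fun c => by
    rw [MulEquiv.symm_apply_eq, hab, MulEquiv.apply_symm_apply]
  have key : ∀ χ' : G' → ℂ, χ' = fun g => (fun x => χ' (a.symm x)) (a g) := fun χ' => by
    funext g; simp
  constructor
  · intro χ' hχ' hi
    obtain ⟨β, hβ⟩ := h.exists_corr _ (isIrrCharacter_comp_equiv a.symm hχ')
      ((hinv _).mpr ((key χ') ▸ hi))
    exact ⟨_, (key χ').symm ▸ hβ.comp_equiv a b hab⟩
  · intro χ χ' β hχ hi hχ' hi' hc hc'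
    have := h.injective _ _ _ (isIrrCharacter_comp_equiv a.symm hχ) ((hinv _).mpr ((key χ) ▸ hi))
      (isIrrCharacter_comp_equiv a.symm hχ') ((hinv _).mpr ((key χ') ▸ hi'))
      (hc.comp_equiv a.symm b.symm hba) (hc'.comp_equiv a.symm b.symm hba)
    rw [key χ, key χ', this]
  · intro β' hβ'
    obtain ⟨χ, hχ, hi, hc⟩ := h.surjective _ (isIrrCharacter_comp_equiv b.symm hβ')
    refine ⟨_, isIrrCharacter_comp_equiv a hχ, (hinv χ).mp hi, ?_⟩
    have := hc.comp_equiv a b hab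
    simpa using this

end Cfsg.Lib.Char
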