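import Mathlib.GroupTheory.NoncommCoprod
import Cfsg.Agent.Lib.Char.CoprimeElem
import Cfsg.Agent.Lib.Char.CanonExt
import Cfsg.Agent.Lib.Char.Correspondence
import Cfsg.Agent.Lib.Char.PermLemma

/-!
# The Glauberman correspondence for a cyclic group of operators

`P = N ⟨s⟩`, `N` normal, `|N|` prime to the order of `s`, `C = C_N(s)`.
-/

set_option autoImplicit false
set_option linter.unusedSectionVars false
set_option linter.style.haveILetI false

namespace Cfsg.Lib.Char

open Cfsg
open scoped ComplexConjugate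

universe u

variable {P : Type u} [Group P] [Finite P] {C : Subgroup P} [Fintype C] {s : P}

/-- The multiplicity of `β` in the slice `c ↦ φ (c y)`, as a function of `y ∈ ⟨s⟩`. -/
noncomputable def sliceMult (φ : P → ℂ) (β : C → ℂ) : Subgroup.zpowers s → ℂ :=
  fun y => classInner (fun c : C => φ ((c : P) * (y : P))) β

theorem isCharacter_sliceMult (hCs : ∀ c ∈ C, Commute c s) {φ : P → ℂ} (hφ : IsCharacter P φ)
    {β : C → ℂ} (hβ : IsIrrCharacter C β) : IsCharacter _ (sliceMult (s := s) φ β) := by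
  haveI := Fintype.ofFinite (Subgroup.zpowers s)
  refine isCharacter_iff.mpr ⟨fun a b => ?_, fun ν hν => ?_⟩
  · have hc : b * a = a * b := Subtype.ext (by
      obtain ⟨i, hi⟩ := a.2
      obtain ⟨l, hl⟩ := b.2
      simp only [Subgroup.coe_mul, ← hi, ← hl]
      exact ((Commute.refl s).zpow_zpow l i).eq)
    rw [hc, mul_inv_cancel_right]
  · have hcomm : ∀ (c : C) (y : Subgroup.zpowers s),
        Commute (C.subtype c) ((Subgroup.zpowers s).subtype y) := by
      intro c y
      obtain ⟨i, hi⟩ := y.2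
      show Commute (c : P) (y : P)
      rw [← hi]
      exact (hCs c c.2).zpow_right i
    let f : C × Subgroup.zpowers s →* P :=
      C.subtype.noncommCoprod (Subgroup.zpowers s).subtype hcomm
    obtain ⟨n, hn⟩ := (hφ.comp f).exists_nat_classInner
      ((hβ.isCharacter.comp (MonoidHom.fst C (Subgroup.zpowers s))).mul
        (hν.isCharacter.comp (MonoidHom.snd C (Subgroup.zpowers s))))
    refine ⟨n, ?_⟩
    rw [← hn]
    simp only [classInner, sliceMult, Fintype.sum_prod_type, Nat.card_prod, Nat.cast_mul,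
      Finset.mul_sum, Finset.sum_mul, f, MonoidHom.noncommCoprod_apply, Subgroup.coe_subtype,
      Pi.mul_apply, MonoidHom.coe_fst, MonoidHom.coe_snd, map_mul, mul_inv]
    rw [Finset.sum_comm]
    exact Finset.sum_congr rfl fun c _ => Finset.sum_congr rfl fun y _ => by ring

theorem sliceMult_one (φ : P → ℂ) (β : C → ℂ) :
    sliceMult (s := s) φ β 1 = classInner (fun c : C => φ (c : P)) β := by
  simp [sliceMult]

variable {N : Subgroup P} [hN : N.Normal]
  (htop : N ⊔ Subgroup.zpowers s = ⊤) (hcop : (Nat.card N).Coprime (orderOf s))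
  (hC : ∀ x, x ∈ C ↔ x ∈ N ∧ Commute x s)

include hC in
theorem isClassFunction_slice {φ : P → ℂ} (hφ : IsClassFunction P φ) (k : ℕ) :
    IsClassFunction C (fun c : C => φ ((c : P) * s ^ k)) := fun c h => by
  show φ (((h * c * h⁻¹ : C) : P) * s ^ k) = _
  have hh : ((h : P))⁻¹ * s ^ k = s ^ k * (h : P)⁻¹ :=
    ((((hC _).mp h.2).2.inv_left).pow_right k).eq
  rw [Subgroup.coe_mul, Subgroup.coe_mul, Subgroup.coe_inv, mul_assoc _ _ (s ^ k), hh,
    ← mul_assoc, mul_assoc (h : P)]
  exact hφ _ _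

include hcop hC in
theorem classInner_slice [Fintype N] {φ φ' : P → ℂ} (hφ : IsClassFunction P φ)
    (hφ' : IsClassFunction P φ') :
    classInner (fun c : C => φ ((c : P) * s)) (fun c : C => φ' ((c : P) * s)) =
      (Nat.card N : ℂ)⁻¹ * ∑ n : N, φ ((n : P) * s) * conj (φ' ((n : P) * s)) := by
  have h := (conj_coset_fibre (H := N) (by rw [Subgroup.normalizer_eq_top]; exact Subgroup.mem_top s)
    hcop C hC).2 (fun x => φ x * conj (φ' x)) fun g x _ => by simp only [hφ g x, hφ' g x]
  simp only [nsmul_eq_mul] at h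
  rw [classInner, inv_mul_eq_iff_eq_mul₀ card_cast_ne_zero, ← mul_assoc, mul_comm (Nat.card C : ℂ),
    mul_assoc, ← h, ← mul_assoc, inv_mul_cancel₀ card_cast_ne_zero, one_mul]

include htop hcop hC in
theorem canonExt_slice_pow {χ : N → ℂ} (hχ : IsIrrCharacter N χ)
    (hinv : ∀ n : N, χ (MulAut.conjNormal s n) = χ n) {χh : P → ℂ} (h : IsCanonExt N χ χh)
    {k : ℕ} (hk : k.Coprime (orderOf s)) {c : P} (hc : c ∈ C) :
    χh (c * s ^ k) = χh (c * s) := by
  obtain ⟨k', h1, h2⟩ := Nat.chineseRemainder hcop 1 k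
  have hk' : k'.Coprime (Nat.card P) := by
    rw [← N.card_mul_index, index_eq_orderOf htop hcop]
    refine Nat.Coprime.mul_right ?_ ?_
    · show k'.gcd _ = 1
      rw [h1.gcd_eq, Nat.gcd_one_left]
    · show k'.gcd _ = 1
      rw [h2.gcd_eq]; exact hk
  rw [← canonExt_pow htop hcop hχ hinv h hk' h1 (c * s), ((hC c).mp hc).2.mul_pow]
  congr 2
  · conv_lhs => rw [← pow_one c]
    exact (pow_eq_pow_iff_modEq.mpr
      (h1.of_dvd (Subgroup.orderOf_dvd_natCard N ((hC c).mp hc).1))).symm
  · exact (pow_eq_pow_iff_modEq.mpr h2).symm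

include htop hcop hC in
/-- The slice of the canonical extension at a generator is plus or minus an irreducible
character. -/
theorem exists_slice_eq {χ : N → ℂ} (hχ : IsIrrCharacter N χ)
    (hinv : ∀ n : N, χ (MulAut.conjNormal s n) = χ n) {χh : P → ℂ} (h : IsCanonExt N χ χh) :
    ∃ β : IrrCharacter C, ∃ ε : ℤ, (ε = 1 ∨ ε = -1) ∧
      (∀ k : ℕ, k.Coprime (orderOf s) → ∀ c : C,
        χh ((c : P) * s ^ k) = (ε : ℂ) * (β : C → ℂ) c) ∧
      classInner (fun c : C => χh (c : P)) (β : C → ℂ) ≠ 0 ∧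
      ∀ p j : ℕ, p.Prime → orderOf s = p ^ j → HasCorr
        ((Subgroup.inclusion fun x hx => ((hC x).mp hx).1 : C →* N)) p χ (β : C → ℂ) := by
  classical
  haveI := Fintype.ofFinite N
  have hCs : ∀ c ∈ C, Commute c s := fun c hc => ((hC c).mp hc).2
  have hcl : IsClassFunction P χh := h.1.isClassFunction
  have hf : IsClassFunction C (fun c : C => χh ((c : P) * s)) := by
    have := isClassFunction_slice hC hcl 1
    simpa using this
  let y₀ : Subgroup.zpowers s := ⟨s, Subgroup.mem_zpowers s⟩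
  have hR := fun η : IrrCharacter C => isCharacter_sliceMult (s := s) hCs h.1.isCharacter η.2
  have hy₀ : ∀ η : IrrCharacter C, ∃ a : ℤ, sliceMult χh (η : C → ℂ) y₀ = a := fun η =>
    exists_int_of_pow_invariant (hR η) y₀ fun k hk => by
      rw [Nat.card_zpowers] at hk
      simp only [sliceMult, SubmonoidClass.coe_pow, y₀]
      congr 1
      funext c
      exact canonExt_slice_pow htop hcop hC hχ hinv h hk c.2
  choose a ha using hy₀
  have hsum : ∑ η, a η * a η = 1 := by
    have h1 := classInner_slice hcop hC (φ := χh) (φ' := χh) hcl hcl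
    rw [sum_coset_self hχ h.1.isCharacter h.2.1, inv_mul_cancel₀ card_cast_ne_zero,
      classInner_eq_sum hf] at h1
    have h2 : ∀ η : IrrCharacter C,
        classInner (fun c : C => χh ((c : P) * s)) (η : C → ℂ) = (a η : ℂ) := ha
    simp only [h2, map_intCast] at h1
    exact_mod_cast h1
  obtain ⟨β, -, hβ⟩ := Finset.exists_ne_zero_of_sum_ne_zero (hsum.trans_ne one_ne_zero)
  have hsplit := Finset.sum_erase_add Finset.univ (fun η => a η * a η) (Finset.mem_univ β)
  have hβ1 : 1 ≤ a β * a β := by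
    rcases lt_or_eq_of_le (mul_self_nonneg (a β)) with h' | h'
    · omega
    · exact absurd h'.symm hβ
  have h0 : ∀ η, η ≠ β → a η = 0 := by
    intro η hne
    have : a η * a η ≤ ∑ y ∈ Finset.univ.erase β, a y * a y :=
      Finset.single_le_sum (f := fun y => a y * a y) (fun y _ => mul_self_nonneg _) (by simp [hne])
    exact mul_self_eq_zero.mp (le_antisymm (by omega) (mul_self_nonneg _))
  have hε : a β = 1 ∨ a β = -1 := by
    rw [Finset.sum_eq_single β (fun η _ hne => by simp [h0 η hne]) (by simp)] at hsum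
    exact Int.eq_one_or_neg_one_of_mul_eq_one hsum
  have hslice : ∀ c : C, χh ((c : P) * s) = (a β : ℂ) * (β : C → ℂ) c := fun c => by
    have h1 := congrFun (eq_sum_classInner hf) c
    simp only [Finset.sum_apply, Pi.smul_apply, smul_eq_mul] at h1
    rw [h1, Finset.sum_eq_single β]
    · congr 1
      exact ha β
    · intro η _ hne
      rw [show classInner (fun c : C => χh ((c : P) * s)) (η : C → ℂ) = (a η : ℂ) from ha η,
        h0 η hne, Int.cast_zero, zero_mul]
    · simp
  refine ⟨β, a β, hε, fun k hk c => ?_, ?_, fun p j hp hj => ⟨β.2, a β, hε, fun η m hη hm => ?_⟩⟩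
  · rw [canonExt_slice_pow htop hcop hC hχ hinv h hk c.2, hslice]
  · intro hz
    have h1 := (hR β).eq_zero_of_degree (by rw [sliceMult_one]; exact hz)
    have h2 := congrFun h1 y₀
    rw [ha β, Pi.zero_apply, Int.cast_eq_zero] at h2
    exact hβ (by rw [h2, mul_zero])
  · have hT : sliceMult (s := s) χh η 1 = (m : ℂ) := by
      rw [sliceMult_one, ← hm]
      congr 1
      funext c
      exact h.2.1 (Subgroup.inclusion (fun x hx => ((hC x).mp hx).1) c)
    have hx : y₀ ^ p ^ j = 1 :=
      Subtype.ext (by simp only [SubmonoidClass.coe_pow, OneMemClass.coe_one, y₀, ← hj,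
        pow_orderOf_eq_one])
    have hmod := modEq_degree_of_prime_pow (hR ⟨η, hη⟩) hp hx (ha ⟨η, hη⟩) hT
    refine ⟨fun he => ?_, fun hne => ?_⟩
    · subst he; exact hmod
    · rw [h0 ⟨η, hη⟩ fun e => hne (congrArg Subtype.val e)] at hmod
      exact Int.natCast_dvd_natCast.mp (Int.modEq_zero_iff_dvd.mp hmod)

include htop hcop hC in
/-- The slice determines the character. -/
theorem eq_of_slice_eq {χ χ' : N → ℂ} (hχ : IsIrrCharacter N χ)
    {χh χh' : P → ℂ} (hh : IsIrrCharacter P χh) (hres : ∀ n : N, χh (n : P) = χ n)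
    (hh' : IsIrrCharacter P χh') (hres' : ∀ n : N, χh' (n : P) = χ' n) {β : C → ℂ}
    (hβ : IsIrrCharacter C β) {ε ε' : ℤ} (hε : ε = 1 ∨ ε = -1) (hε' : ε' = 1 ∨ ε' = -1)
    (h1 : ∀ c : C, χh ((c : P) * s) = (ε : ℂ) * β c)
    (h2 : ∀ c : C, χh' ((c : P) * s) = (ε' : ℂ) * β c) : χ = χ' := by
  by_contra hne
  haveI := Fintype.ofFinite N
  have h3 := classInner_slice hcop hC hh.isClassFunction hh'.isClassFunction
  rw [sum_coset_ne htop hχ hne hh hh' hres hres', mul_zero,
    show (fun c : C => χh ((c : P) * s)) = (ε : ℂ) • β from funext h1,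
    show (fun c : C => χh' ((c : P) * s)) = (ε' : ℂ) • β from funext h2,
    classInner_smul_left, classInner_smul_right, classInner_irr_self hβ, map_intCast] at h3
  rcases hε with rfl | rfl <;> rcases hε' with rfl | rfl <;> norm_num at h3

include hcop hC in
/-- Invariant characters are as many as the classes of the fixed points. -/
theorem card_invariant_eq_card_classes :
    Nat.card {χ : IrrCharacter N // ∀ n, (χ : N → ℂ) (MulAut.conjNormal s n) = (χ : N → ℂ) n} =
      Nat.card (ConjClasses C) := by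
  classical
  haveI : Finite (ConjClasses N) := Quotient.finite _
  haveI : Finite (ConjClasses C) := Quotient.finite _
  let e : MulAut N := MulAut.conjNormal s
  let f : IrrCharacter N → IrrCharacter N :=
    fun χ => ⟨fun n => (χ : N → ℂ) (e n), isIrrCharacter_comp_equiv e χ.2⟩
  let h : ConjClasses N → ConjClasses N := ConjClasses.map e.symm.toMonoidHom
  have hmk : ∀ a, h (ConjClasses.mk a) = ConjClasses.mk (e.symm a) := fun _ => rfl
  have hh : Function.Bijective h := by
    rw [Finite.injective_iff_bijective.symm]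
    intro A B hAB
    obtain ⟨a, rfl⟩ := A.exists_rep
    obtain ⟨b, rfl⟩ := B.exists_rep
    rw [hmk, hmk, ConjClasses.mk_eq_mk_iff_isConj] at hAB
    exact ConjClasses.mk_eq_mk_iff_isConj.mpr (by simpa using e.toMonoidHom.map_isConj hAB)
  have key := brauer_permutation f h hh fun χ g g' hg => by
    rw [hmk, ConjClasses.mk_eq_mk_iff_isConj] at hg
    have h' := e.toMonoidHom.map_isConj hg
    simp only [MulEquiv.coe_toMonoidHom, MulEquiv.apply_symm_apply] at h'
    obtain ⟨c, hc⟩ := isConj_iff.mp h'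
    show (χ : N → ℂ) (e g') = _
    rw [← hc, χ.2.isClassFunction]
  rw [Nat.card_congr (Equiv.subtypeEquivRight fun χ : IrrCharacter N =>
    (⟨fun hi => Subtype.ext (funext hi), fun hi n => congrFun (congrArg Subtype.val hi) n⟩ :
      (∀ n, (χ : N → ℂ) (MulAut.conjNormal s n) = (χ : N → ℂ) n) ↔ f χ = χ)), key]
  let i : C →* N := Subgroup.inclusion fun x hx => ((hC x).mp hx).1
  have hnorm : s ∈ Subgroup.normalizer (N : Set P) := by
    rw [Subgroup.normalizer_eq_top]; exact Subgroup.mem_top s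
  have hfix : ∀ c : C, h (ConjClasses.map i (ConjClasses.mk c)) =
      ConjClasses.map i (ConjClasses.mk c) := fun c => by
    show h (ConjClasses.mk (i c)) = ConjClasses.mk (i c)
    rw [hmk]
    congr 1
    rw [MulEquiv.symm_apply_eq]
    refine Subtype.ext ?_
    show (c : P) = s * (c : P) * s⁻¹
    rw [← ((hC _).mp c.2).2.eq, mul_inv_cancel_right]
  symm
  refine Nat.card_congr (Equiv.ofBijective (fun K => ⟨ConjClasses.map i K, by
    obtain ⟨c, rfl⟩ := K.exists_rep; exact hfix c⟩) ⟨fun K L hKL => ?_, fun K => ?_⟩)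
  · obtain ⟨c, rfl⟩ := K.exists_rep
    obtain ⟨d, rfl⟩ := L.exists_rep
    have h1 : ConjClasses.mk (i c) = ConjClasses.mk (i d) := congrArg Subtype.val hKL
    obtain ⟨g, hg⟩ := isConj_iff.mp (ConjClasses.mk_eq_mk_iff_isConj.mp h1)
    obtain ⟨w, hwN, hws, hw⟩ := exists_commute_conj hnorm hcop ((hC _).mp c.2).2
      ((hC _).mp d.2).2 g.2 (congrArg Subtype.val hg)
    exact ConjClasses.mk_eq_mk_iff_isConj.mpr
      (isConj_iff.mpr ⟨⟨w, (hC w).mpr ⟨hwN, hws⟩⟩, Subtype.ext hw⟩)
  · obtain ⟨k, hk⟩ := K.1.exists_rep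
    have h1 := K.2
    rw [← hk, hmk, ConjClasses.mk_eq_mk_iff_isConj] at h1
    have h' := e.toMonoidHom.map_isConj h1
    simp only [MulEquiv.coe_toMonoidHom, MulEquiv.apply_symm_apply] at h'
    obtain ⟨y, hy⟩ := isConj_iff.mp h'
    have hy' : (y : P) * (k : P) * (y : P)⁻¹ = s * k * s⁻¹ := congrArg Subtype.val hy
    obtain ⟨x, hx, hxs⟩ := exists_conj_commute hnorm hcop y.2 hy'.symm
    let c : C := ⟨x⁻¹ * k * x, (hC _).mpr ⟨mul_mem (mul_mem (inv_mem hx) k.2) hx, hxs⟩⟩
    refine ⟨ConjClasses.mk c, Subtype.ext ?_⟩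
    show ConjClasses.mk (i c) = K.1
    rw [← hk, ConjClasses.mk_eq_mk_iff_isConj]
    refine isConj_iff.mpr ⟨⟨x, hx⟩, Subtype.ext ?_⟩
    show x * (x⁻¹ * k * x) * x⁻¹ = (k : P)
    group

include htop hcop hC in
/-- Every irreducible character of the fixed points is a slice. -/
theorem exists_of_slice {β : C → ℂ} (hβ : IsIrrCharacter C β) :
    ∃ (χ : N → ℂ) (χh : P → ℂ) (ε : ℤ), IsIrrCharacter N χ ∧
      (∀ n : N, χ (MulAut.conjNormal s n) = χ n) ∧ IsCanonExt N χ χh ∧ (ε = 1 ∨ ε = -1) ∧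
      ∀ k : ℕ, k.Coprime (orderOf s) → ∀ c : C, χh ((c : P) * s ^ k) = (ε : ℂ) * β c := by
  classical
  haveI : Finite (ConjClasses C) := Quotient.finite _
  have hext := fun χ : {χ : IrrCharacter N //
      ∀ n, (χ : N → ℂ) (MulAut.conjNormal s n) = (χ : N → ℂ) n} =>
    exists_canonExt htop hcop χ.1.2 χ.2
  choose ext hext using hext
  choose b ε hε hb hb0 hbc using fun χ : {χ : IrrCharacter N //
      ∀ n, (χ : N → ℂ) (MulAut.conjNormal s n) = (χ : N → ℂ) n} =>
    exists_slice_eq htop hcop hC χ.1.2 χ.2 (hext χ)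
  have hinj : Function.Injective b := by
    intro χ χ' he
    have h1 := hb χ 1 (Nat.coprime_one_left _)
    have h2 := hb χ' 1 (Nat.coprime_one_left _)
    simp only [pow_one] at h1 h2
    refine Subtype.ext (Subtype.ext (eq_of_slice_eq htop hcop hC χ.1.2 (hext χ).1 (hext χ).2.1
      (hext χ').1 (hext χ').2.1 (b χ').2 (hε χ) (hε χ') (fun c => ?_) h2))
    rw [h1 c, he]
  have hcard : Nat.card {χ : IrrCharacter N //
      ∀ n, (χ : N → ℂ) (MulAut.conjNormal s n) = (χ : N → ℂ) n} = Nat.card (IrrCharacter C) := by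
    rw [card_invariant_eq_card_classes hcop hC, card_irr_eq_card_conjClasses]
  obtain ⟨χ, hχ⟩ := ((Nat.bijective_iff_injective_and_card b).mpr ⟨hinj, hcard⟩).2 ⟨β, hβ⟩
  refine ⟨_, ext χ, ε χ, χ.1.2, χ.2, hext χ, hε χ, fun k hk c => ?_⟩
  rw [hb χ k hk c, hχ]

include htop hcop hC in
/-- The correspondence for a cyclic `p`-group of operators. -/
theorem isCorrespondence_cyclic {p j : ℕ} (hp : p.Prime) (hs : orderOf s = p ^ j) :
    IsCorrespondence ((Subgroup.inclusion fun x hx => ((hC x).mp hx).1 : C →* N)) p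
      (fun χ => ∀ n : N, χ (MulAut.conjNormal s n) = χ n) := by
  have hone := Nat.coprime_one_left (orderOf s)
  constructor
  · intro χ hχ hinv
    obtain ⟨χh, hh⟩ := exists_canonExt htop hcop hχ hinv
    obtain ⟨β, ε, -, -, -, hcorr⟩ := exists_slice_eq htop hcop hC hχ hinv hh
    exact ⟨_, hcorr p j hp hs⟩
  · intro χ χ' β hχ hinv hχ' hinv' hc hc'
    obtain ⟨χh, hh⟩ := exists_canonExt htop hcop hχ hinv
    obtain ⟨χh', hh'⟩ := exists_canonExt htop hcop hχ' hinv'
    obtain ⟨b, ε, hε, hb, -, hcorr⟩ := exists_slice_eq htop hcop hC hχ hinv hh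
    obtain ⟨b', ε', hε', hb', -, hcorr'⟩ := exists_slice_eq htop hcop hC hχ' hinv' hh'
    have e1 := hc.eq_of_not_dvd hp hχ.isCharacter (hcorr p j hp hs)
    have e2 := hc'.eq_of_not_dvd hp hχ'.isCharacter (hcorr' p j hp hs)
    refine eq_of_slice_eq htop hcop hC hχ hh.1 hh.2.1 hh'.1 hh'.2.1 hc.1 hε hε'
      (fun c => ?_) fun c => ?_
    · rw [e1, ← hb 1 hone c, pow_one]
    · rw [e2, ← hb' 1 hone c, pow_one]
  · intro β hβ
    obtain ⟨χ, χh, ε, hχ, hinv, hh, hε, hb⟩ := exists_of_slice htop hcop hC hβ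
    refine ⟨χ, hχ, hinv, ?_⟩
    obtain ⟨b, ε', hε', hb', -, hcorr⟩ := exists_slice_eq htop hcop hC hχ hinv hh
    suffices e : β = (b : C → ℂ) by rw [e]; exact hcorr p j hp hs
    have h2 : (ε : ℂ) • β = (ε' : ℂ) • (b : C → ℂ) := funext fun c => by
      simp only [Pi.smul_apply, smul_eq_mul, ← hb 1 hone c, ← hb' 1 hone c]
    by_contra hne
    have h3 := congrArg (fun g => classInner g β) h2
    simp only [classInner_smul_left, classInner_irr_self hβ,
      classInner_irr_ne b.2 hβ (Ne.symm hne), mul_one, mul_zero, Int.cast_eq_zero] at h3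
    rcases hε with rfl | rfl <;> omega

end Cfsg.Lib.Char
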