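import Mathlib.GroupTheory.Nilpotent
import Cfsg.Agent.Lib.Char.GlaubermanCyclic

/-!
# The Glauberman correspondence for a `p`-group of operators
-/

set_option autoImplicit false
set_option linter.unusedSectionVars false
set_option linter.style.haveILetI false

namespace Cfsg.Lib.Char

open Cfsg
open scoped ComplexConjugate

universe u

variable {Γ : Type u} [Group Γ]

/-- `φ` is invariant under conjugation by `S`. -/
def IsInvOn (S G : Subgroup Γ) (φ : G → ℂ) : Prop :=
  ∀ s ∈ S, ∀ g g' : G, (g' : Γ) = s * g * s⁻¹ → φ g' = φ g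

/-- Conjugation by a normalizing element, as an automorphism. -/
def twistEquiv (G : Subgroup Γ) {x : Γ} (hx : x ∈ Subgroup.normalizer (G : Set Γ)) : G ≃* G where
  toFun g := ⟨x * g * x⁻¹, (Subgroup.mem_normalizer_iff.mp hx _).mp g.2⟩
  invFun g := ⟨x⁻¹ * g * x, (Subgroup.mem_normalizer_iff.mp hx _).mpr (by
    rw [show x * (x⁻¹ * g * x) * x⁻¹ = (g : Γ) by group]; exact g.2)⟩
  left_inv g := Subtype.ext (by show x⁻¹ * (x * g * x⁻¹) * x = g; group)
  right_inv g := Subtype.ext (by show x * (x⁻¹ * g * x) * x⁻¹ = g; group)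
  map_mul' a b := Subtype.ext (by
    show x * (a * b) * x⁻¹ = x * a * x⁻¹ * (x * b * x⁻¹); group)

theorem coe_twistEquiv (G : Subgroup Γ) {x : Γ} (hx : x ∈ Subgroup.normalizer (G : Set Γ))
    (g : G) : ((twistEquiv G hx g : G) : Γ) = x * g * x⁻¹ := rfl

/-- The elements normalizing `G` and fixing `φ`. -/
def invStab (G : Subgroup Γ) (φ : G → ℂ) : Subgroup Γ where
  carrier := {x | ∃ hx : x ∈ Subgroup.normalizer (G : Set Γ), ∀ g, φ (twistEquiv G hx g) = φ g}
  one_mem' := ⟨one_mem _, fun g => congrArg φ (Subtype.ext (by rw [coe_twistEquiv]; group))⟩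
  mul_mem' := by
    rintro x y ⟨hx, hxf⟩ ⟨hy, hyf⟩
    refine ⟨mul_mem hx hy, fun g => ?_⟩
    rw [show twistEquiv G (mul_mem hx hy) g = twistEquiv G hx (twistEquiv G hy g) from
      Subtype.ext (by simp only [coe_twistEquiv]; group), hxf, hyf]
  inv_mem' := by
    rintro x ⟨hx, hxf⟩
    refine ⟨inv_mem hx, fun g => ?_⟩
    rw [← hxf]
    exact congrArg φ (Subtype.ext (by simp only [coe_twistEquiv]; group))

theorem isInvOn_iff {S G : Subgroup Γ} {φ : G → ℂ}
    (hS : S ≤ Subgroup.normalizer (G : Set Γ)) : IsInvOn S G φ ↔ S ≤ invStab G φ :=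
  ⟨fun h s hs => ⟨hS hs, fun g => h s hs g _ (coe_twistEquiv G (hS hs) g)⟩,
    fun h s hs g g' hg => by
      obtain ⟨hx, hf⟩ := h hs
      rw [show g' = twistEquiv G hx g from Subtype.ext hg, hf]⟩

theorem isInvOn_zpowers_iff {G : Subgroup Γ} {s : Γ} (hs : s ∈ Subgroup.normalizer (G : Set Γ))
    {φ : G → ℂ} : IsInvOn (Subgroup.zpowers s) G φ ↔ ∀ g, φ (twistEquiv G hs g) = φ g := by
  rw [isInvOn_iff (Subgroup.zpowers_le.mpr hs), Subgroup.zpowers_le]
  exact ⟨fun ⟨_, hf⟩ => hf, fun h => ⟨hs, h⟩⟩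

theorem IsInvOn.comp_twist {T G : Subgroup Γ} {φ : G → ℂ} (h : IsInvOn T G φ) {s : Γ}
    (hsT : ∀ t ∈ T, s * t * s⁻¹ ∈ T) (hs : s ∈ Subgroup.normalizer (G : Set Γ)) :
    IsInvOn T G fun g => φ (twistEquiv G hs g) := fun t ht g g' hg =>
  h (s * t * s⁻¹) (hsT t ht) _ _ (by simp only [coe_twistEquiv, hg]; group)

variable [Finite Γ]

/-- The correspondence for one operator of prime-power order. -/
theorem isCorrespondence_zpowers {G C : Subgroup Γ} [Fintype C] {s : Γ}
    (hs : s ∈ Subgroup.normalizer (G : Set Γ)) (hcop : (Nat.card G).Coprime (orderOf s))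
    {p j : ℕ} (hp : p.Prime) (hord : orderOf s = p ^ j) (hCG : C ≤ G)
    (hC : ∀ x, x ∈ C ↔ x ∈ G ∧ Commute x s) :
    IsCorrespondence (Subgroup.inclusion hCG) p (IsInvOn (Subgroup.zpowers s) G) := by
  classical
  let P : Subgroup Γ := G ⊔ Subgroup.zpowers s
  have hGP : G ≤ P := le_sup_left
  have hCP : C ≤ P := hCG.trans hGP
  let s' : P := ⟨s, Subgroup.mem_sup_right (Subgroup.mem_zpowers s)⟩
  haveI hN : (G.subgroupOf P).Normal := Subgroup.normal_subgroupOf_of_le_normalizer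
    (sup_le Subgroup.le_normalizer (Subgroup.zpowers_le.mpr hs))
  have htop : G.subgroupOf P ⊔ Subgroup.zpowers s' = ⊤ := by
    apply Subgroup.map_injective P.subtype_injective
    rw [Subgroup.map_sup, MonoidHom.map_zpowers, Subgroup.map_subgroupOf_eq_of_le hGP,
      ← MonoidHom.range_eq_map, Subgroup.range_subtype]
    rfl
  have hcop' : (Nat.card (G.subgroupOf P)).Coprime (orderOf s') := by
    rwa [Nat.card_congr (Subgroup.subgroupOfEquivOfLe hGP).toEquiv,
      show orderOf s' = orderOf s from (Subgroup.orderOf_coe s').symm]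
  have hC' : ∀ x, x ∈ C.subgroupOf P ↔ x ∈ G.subgroupOf P ∧ Commute x s' := fun x => by
    simp only [Subgroup.mem_subgroupOf]
    rw [hC]
    exact and_congr Iff.rfl ⟨fun h => Subtype.ext h, fun h => congrArg Subtype.val h⟩
  haveI := Fintype.ofFinite (C.subgroupOf P)
  have hcore := isCorrespondence_cyclic htop hcop' hC' hp
    ((Subgroup.orderOf_coe s').symm.trans hord)
  refine hcore.comp_equiv (ι' := Subgroup.inclusion hCG) (Subgroup.subgroupOfEquivOfLe hGP).symm
    (Subgroup.subgroupOfEquivOfLe hCP).symm (fun c => Subtype.ext (Subtype.ext rfl)) fun χ => ?_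
  rw [isInvOn_zpowers_iff hs]
  constructor
  · intro h g
    refine Eq.trans ?_ (h ((Subgroup.subgroupOfEquivOfLe hGP).symm g))
    exact congrArg χ (Subtype.ext (Subtype.ext rfl))
  · intro h n
    have := h (Subgroup.subgroupOfEquivOfLe hGP n)
    simp only [MulEquiv.symm_apply_apply] at this
    refine Eq.trans ?_ this
    exact congrArg χ (Subtype.ext (Subtype.ext rfl))

theorem exists_coatom_normal {S : Subgroup Γ} {p : ℕ} [Fact p.Prime] (hS : IsPGroup p S)
    (hne : S ≠ ⊥) : ∃ (T : Subgroup Γ) (s : Γ), T < S ∧ s ∈ S ∧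
      T ⊔ Subgroup.zpowers s = S ∧ ∀ x ∈ S, ∀ t ∈ T, x * t * x⁻¹ ∈ T := by
  haveI : Group.IsNilpotent S := hS.isNilpotent
  haveI : Nontrivial S := (Subgroup.nontrivial_iff_ne_bot S).mpr hne
  obtain ⟨T₀, hT₀, -⟩ := (eq_top_or_exists_le_coatom (⊥ : Subgroup S)).resolve_left bot_ne_top
  haveI hTn : T₀.Normal := Subgroup.NormalizerCondition.normal_of_coatom _
    Group.normalizerCondition_of_isNilpotent hT₀
  obtain ⟨s, hs⟩ : ∃ s, s ∉ T₀ := by
    by_contra h
    push Not at h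
    exact hT₀.1 (eq_top_iff.mpr fun x _ => h x)
  have hgen : T₀ ⊔ Subgroup.zpowers s = ⊤ := hT₀.2 _ (lt_of_le_of_ne le_sup_left fun h =>
    hs (h ▸ Subgroup.mem_sup_right (Subgroup.mem_zpowers s)))
  refine ⟨T₀.map S.subtype, s, ?_, s.2, ?_, fun x hx t ht => ?_⟩
  · refine lt_of_le_of_ne (Subgroup.map_subtype_le T₀) fun h => hs ?_
    obtain ⟨t, ht, hts⟩ : (s : Γ) ∈ T₀.map S.subtype := h.symm ▸ s.2
    rwa [← Subtype.ext (a1 := t) (a2 := s) hts]
  · rw [show Subgroup.zpowers (s : Γ) = (Subgroup.zpowers s).map S.subtype from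
      (MonoidHom.map_zpowers S.subtype s).symm, ← Subgroup.map_sup, hgen,
      ← MonoidHom.range_eq_map, Subgroup.range_subtype]
  · obtain ⟨t, ht, rfl⟩ := ht
    exact ⟨⟨x, hx⟩ * t * ⟨x, hx⟩⁻¹, hTn.conj_mem t ht _, rfl⟩

/-- The Glauberman correspondence for a `p`-group of operators. -/
theorem isCorrespondence_pGroup {p : ℕ} (hp : p.Prime) (S : Subgroup Γ) :
    IsPGroup p S → ∀ (G C : Subgroup Γ) [Fintype C],
      S ≤ Subgroup.normalizer (G : Set Γ) → (Nat.card G).Coprime (Nat.card S) →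
      ∀ hCG : C ≤ G, (∀ x, x ∈ C ↔ x ∈ G ∧ x ∈ Subgroup.centralizer (S : Set Γ)) →
      IsCorrespondence (Subgroup.inclusion hCG) p (IsInvOn S G) := by
  classical
  haveI : Fact p.Prime := ⟨hp⟩
  induction hn : Nat.card S using Nat.strong_induction_on generalizing S with
  | _ n ih =>
    intro hS G C _ hSG hcop hCG hC
    subst hn
    by_cases hne : S = ⊥
    · have hCG' : C = G := le_antisymm hCG fun x hx => (hC x).mpr ⟨hx, by
        rw [hne]
        exact Subgroup.mem_centralizer_iff.mpr fun y hy => by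
          rw [Subgroup.mem_bot.mp hy, one_mul, mul_one]⟩
      haveI := Fintype.ofFinite G
      let e : C ≃* G := MulEquiv.subgroupCongr hCG'
      have he : e.toMonoidHom = Subgroup.inclusion hCG := MonoidHom.ext fun c => Subtype.ext rfl
      have hinv : ∀ φ : G → ℂ, IsInvOn S G φ := fun φ s hs g g' hg => by
        rw [hne, Subgroup.mem_bot] at hs
        exact congrArg φ (Subtype.ext (by rw [hg, hs]; group))
      rw [← he]
      refine ⟨fun χ hχ _ => ⟨_, HasCorr.self e p hχ⟩, fun χ χ' β hχ _ hχ' _ hc hc' => ?_,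
        fun β hβ => ⟨_, isIrrCharacter_comp_equiv e.symm hβ, hinv _, ?_⟩⟩
      · have h1 := hc.eq_of_not_dvd hp hχ.isCharacter (HasCorr.self e p hχ)
        have h2 := hc'.eq_of_not_dvd hp hχ'.isCharacter (HasCorr.self e p hχ')
        funext g
        simpa using congrFun (h1.symm.trans h2) (e.symm g)
      · simpa using HasCorr.self e p (isIrrCharacter_comp_equiv e.symm hβ)
    obtain ⟨T, s, hTS, hsS, hgen, hTn⟩ := exists_coatom_normal hS hne
    have hsG := hSG hsS
    have hsT : ∀ t ∈ T, s * t * s⁻¹ ∈ T := hTn s hsS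
    let D : Subgroup Γ := G ⊓ Subgroup.centralizer (T : Set Γ)
    haveI := Fintype.ofFinite D
    have hTG : T ≤ Subgroup.normalizer (G : Set Γ) := hTS.le.trans hSG
    have hD : ∀ x, x ∈ D ↔ x ∈ G ∧ x ∈ Subgroup.centralizer (T : Set Γ) := fun _ => Iff.rfl
    have hcopT : (Nat.card G).Coprime (Nat.card T) :=
      hcop.coprime_dvd_right (Subgroup.card_dvd_of_le hTS.le)
    have hcorT := ih (Nat.card T)
      (lt_of_le_of_ne (Nat.le_of_dvd Nat.card_pos (Subgroup.card_dvd_of_le hTS.le))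
        fun h => hTS.ne (Subgroup.eq_of_le_of_card_ge hTS.le h.ge))
      T rfl (hS.to_le hTS.le) G D hTG hcopT inf_le_left hD
    have hsD : s ∈ Subgroup.normalizer (D : Set Γ) := by
      rw [Subgroup.mem_normalizer_iff]
      intro y
      rw [hD, hD, Subgroup.mem_normalizer_iff.mp hsG y]
      refine and_congr Iff.rfl ⟨fun h => Subgroup.mem_centralizer_iff.mpr fun t ht => ?_,
        fun h => Subgroup.mem_centralizer_iff.mpr fun t ht => ?_⟩
      · have ht' : s⁻¹ * t * s⁻¹⁻¹ ∈ T := hTn s⁻¹ (inv_mem hsS) t ht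
        rw [inv_inv] at ht'
        have h1 := Subgroup.mem_centralizer_iff.mp h _ ht'
        calc t * (s * y * s⁻¹) = s * (s⁻¹ * t * s * y) * s⁻¹ := by group
          _ = s * (y * (s⁻¹ * t * s)) * s⁻¹ := by rw [h1]
          _ = s * y * s⁻¹ * t := by group
      · have h1 := Subgroup.mem_centralizer_iff.mp h _ (hsT t ht)
        calc t * y = s⁻¹ * (s * t * s⁻¹ * (s * y * s⁻¹)) * s := by group
          _ = s⁻¹ * (s * y * s⁻¹ * (s * t * s⁻¹)) * s := by rw [h1]
          _ = y * t := by group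
    have hcopD : (Nat.card D).Coprime (orderOf s) :=
      (hcop.coprime_dvd_left (Subgroup.card_dvd_of_le inf_le_left)).coprime_dvd_right
        (Subgroup.orderOf_dvd_natCard S hsS)
    have hCD : C ≤ D := fun x hx => ⟨((hC x).mp hx).1,
      Subgroup.centralizer_le (SetLike.coe_subset_coe.mpr hTS.le) ((hC x).mp hx).2⟩
    obtain ⟨j, hj⟩ : ∃ j, orderOf s = p ^ j := by
      obtain ⟨k, hk⟩ := hS ⟨s, hsS⟩
      obtain ⟨j, -, hj⟩ := (Nat.dvd_prime_pow hp).mp
        (orderOf_dvd_of_pow_eq_one (congrArg Subtype.val hk : s ^ p ^ k = 1))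
      exact ⟨j, hj⟩
    have hcorS := isCorrespondence_zpowers hsD hcopD hp hj hCD fun x => by
      rw [hC, hD, and_assoc]
      refine and_congr Iff.rfl ⟨fun h => ⟨Subgroup.centralizer_le
        (SetLike.coe_subset_coe.mpr hTS.le) h, (Subgroup.mem_centralizer_iff.mp h s hsS).symm⟩,
        fun h => ?_⟩
      have hle : S ≤ Subgroup.centralizer ({x} : Set Γ) := by
        rw [← hgen]
        refine sup_le (fun t ht => Subgroup.mem_centralizer_singleton_iff.mpr ?_)
          (Subgroup.zpowers_le.mpr (Subgroup.mem_centralizer_singleton_iff.mpr h.2.eq.symm))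
        exact Subgroup.mem_centralizer_iff.mp h.1 t ht
      exact Subgroup.mem_centralizer_iff.mpr fun t ht =>
        Subgroup.mem_centralizer_singleton_iff.mp (hle ht)
    have hι : (Subgroup.inclusion (inf_le_left : D ≤ G)).comp (Subgroup.inclusion hCD) =
        Subgroup.inclusion hCG := MonoidHom.ext fun c => Subtype.ext rfl
    have hinvS : ∀ φ : G → ℂ, IsInvOn S G φ ↔
        IsInvOn T G φ ∧ ∀ g, φ (twistEquiv G hsG g) = φ g := by
      intro φ
      rw [isInvOn_iff hSG, isInvOn_iff hTG, ← isInvOn_zpowers_iff hsG,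
        isInvOn_iff (Subgroup.zpowers_le.mpr hsG), ← hgen, sup_le_iff]
    have hequiv : ∀ {χ : G → ℂ} {θ : D → ℂ},
        HasCorr (Subgroup.inclusion (inf_le_left : D ≤ G)) p χ θ →
        HasCorr (Subgroup.inclusion (inf_le_left : D ≤ G)) p (fun g => χ (twistEquiv G hsG g))
          (fun d => θ (twistEquiv D hsD d)) := fun h =>
      h.comp_equiv (twistEquiv G hsG) (twistEquiv D hsD) fun c => Subtype.ext rfl
    have hdown : ∀ χ, IsIrrCharacter G χ → IsInvOn S G χ → ∃ θ β,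
        IsInvOn (Subgroup.zpowers s) D θ ∧
        HasCorr (Subgroup.inclusion (inf_le_left : D ≤ G)) p χ θ ∧
        HasCorr (Subgroup.inclusion hCD) p θ β ∧
        HasCorr (Subgroup.inclusion hCG) p χ β := by
      intro χ hχ hi
      obtain ⟨θ, hθ⟩ := hcorT.exists_corr χ hχ ((hinvS χ).mp hi).1
      have h1 := hequiv hθ
      simp only [((hinvS χ).mp hi).2] at h1
      have hθi : IsInvOn (Subgroup.zpowers s) D θ := (isInvOn_zpowers_iff hsD).mpr fun d =>
        congrFun (h1.eq_of_not_dvd hp hχ.isCharacter hθ) d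
      obtain ⟨β, hβ⟩ := hcorS.exists_corr θ hθ.1 hθi
      exact ⟨θ, β, hθi, hθ, hβ, hι ▸ hθ.trans hχ.isCharacter hβ⟩
    constructor
    · intro χ hχ hi
      obtain ⟨θ, β, -, -, -, h⟩ := hdown χ hχ hi
      exact ⟨β, h⟩
    · intro χ χ' β hχ hi hχ' hi' hc hc'
      obtain ⟨θ, b, hθi, hθ, hb, h⟩ := hdown χ hχ hi
      obtain ⟨θ', b', hθi', hθ', hb', h'⟩ := hdown χ' hχ' hi'
      rw [← hc.eq_of_not_dvd hp hχ.isCharacter h] at hb
      rw [← hc'.eq_of_not_dvd hp hχ'.isCharacter h'] at hb'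
      have e := hcorS.injective θ θ' β hθ.1 hθi hθ'.1 hθi' hb hb'
      subst e
      exact hcorT.injective χ χ' θ hχ ((hinvS χ).mp hi).1 hχ' ((hinvS χ').mp hi').1 hθ hθ'
    · intro β hβ
      obtain ⟨θ, hθ, hθi, hb⟩ := hcorS.surjective β hβ
      obtain ⟨χ, hχ, hi, hc⟩ := hcorT.surjective θ hθ
      refine ⟨χ, hχ, (hinvS χ).mpr ⟨hi, fun g => ?_⟩, hι ▸ hc.trans hχ.isCharacter hb⟩
      have h1 := hequiv hc
      simp only [(isInvOn_zpowers_iff hsD).mp hθi] at h1
      exact congrFun (hcorT.injective _ χ θ (isIrrCharacter_comp_equiv _ hχ)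
        (hi.comp_twist hsT hsG) hχ hi h1 hc) g

end Cfsg.Lib.Char
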