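import Mathlib.GroupTheory.Sylow
import Cfsg.Agent.Lib.Core.PSolvable
import Cfsg.Agent.Lib.Char.GlaubermanP
import Cfsg.Agent.Lib.Char.Ramification

/-!
# Coprime action of a solvable group on irreducible characters

The number of invariant irreducible characters equals the number of invariant classes, and an
invariant character of an invariant normal subgroup lies under an invariant character.
-/

set_option autoImplicit false
set_option linter.unusedSectionVars false
set_option linter.style.haveILetI false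

namespace Cfsg.Lib.Char

open Cfsg
open scoped ComplexConjugate

universe u

variable {Γ : Type u} [Group Γ]

theorem mem_normalizer_inf_centralizer {G T : Subgroup Γ} {s : Γ}
    (hs : s ∈ Subgroup.normalizer (G : Set Γ)) (hsT : ∀ t ∈ T, s * t * s⁻¹ ∈ T)
    (hsT' : ∀ t ∈ T, s⁻¹ * t * s ∈ T) :
    s ∈ Subgroup.normalizer ((G ⊓ Subgroup.centralizer (T : Set Γ) : Subgroup Γ) : Set Γ) := by
  rw [Subgroup.mem_normalizer_iff]
  intro y
  rw [Subgroup.mem_inf, Subgroup.mem_inf, Subgroup.mem_normalizer_iff.mp hs y]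
  refine and_congr Iff.rfl ⟨fun h => Subgroup.mem_centralizer_iff.mpr fun t ht => ?_,
    fun h => Subgroup.mem_centralizer_iff.mpr fun t ht => ?_⟩
  · have h1 := Subgroup.mem_centralizer_iff.mp h _ (hsT' t ht)
    calc t * (s * y * s⁻¹) = s * (s⁻¹ * t * s * y) * s⁻¹ := by group
      _ = s * (y * (s⁻¹ * t * s)) * s⁻¹ := by rw [h1]
      _ = s * y * s⁻¹ * t := by group
  · have h1 := Subgroup.mem_centralizer_iff.mp h _ (hsT t ht)
    calc t * y = s⁻¹ * (s * t * s⁻¹ * (s * y * s⁻¹)) * s := by group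
      _ = s⁻¹ * (s * y * s⁻¹ * (s * t * s⁻¹)) * s := by rw [h1]
      _ = y * t := by group

theorem isInvOn_of_centralize {S G : Subgroup Γ} (h : S ≤ Subgroup.centralizer (G : Set Γ))
    (φ : G → ℂ) : IsInvOn S G φ := fun s hs g g' hg => congrArg φ (Subtype.ext (by
  rw [hg, ← Subgroup.mem_centralizer_iff.mp (h hs) g g.2]; group))

theorem isCharacter_expansion {G C : Type u} [Group G] [Fintype G] [Group C] [Fintype C]
    (ι : C →* G) {φ : G → ℂ} (hφ : IsClassFunction G φ) (β : C → ℂ) :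
    classInner (fun c => φ (ι c)) β =
      ∑ η : IrrCharacter G, classInner φ (η : G → ℂ) * classInner (fun c => (η : G → ℂ) (ι c)) β := by
  have hexp : (fun c => φ (ι c)) = ∑ η : IrrCharacter G,
      classInner φ (η : G → ℂ) • fun c => (η : G → ℂ) (ι c) := by
    funext c
    have h := congrFun (eq_sum_classInner hφ) (ι c)
    simp only [Finset.sum_apply, Pi.smul_apply] at h ⊢
    exact h
  rw [hexp, classInner_sum_left]
  simp only [classInner_smul_left]

variable [Finite Γ]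

/-- A normal layer of a solvable group of operators acting as a non-trivial `p`-group. -/
theorem exists_layer {S G : Subgroup Γ} (hSG : S ≤ Subgroup.normalizer (G : Set Γ))
    (hsolv : Group.IsSolvable S) (hne : ¬ S ≤ Subgroup.centralizer (G : Set Γ)) :
    ∃ (T P : Subgroup Γ) (p : ℕ), p.Prime ∧ p ∣ Nat.card S ∧ T ≤ S ∧ P ≤ T ∧ IsPGroup p P ∧
      (∀ x ∈ S, ∀ t ∈ T, x * t * x⁻¹ ∈ T) ∧ ¬ T ≤ Subgroup.centralizer (G : Set Γ) ∧
      S ⊓ Subgroup.centralizer (G : Set Γ) ≤ T ∧
      ∀ t ∈ T, ∃ x ∈ P, t * x⁻¹ ∈ Subgroup.centralizer (G : Set Γ) := by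
  classical
  let K : Subgroup S := (Subgroup.centralizer (G : Set Γ)).subgroupOf S
  haveI hK : K.Normal := ⟨fun k hk x => by
    rw [Subgroup.mem_subgroupOf] at hk ⊢
    refine Subgroup.mem_centralizer_iff.mpr fun g hg => ?_
    have hg' : (x : Γ)⁻¹ * g * x ∈ G := by
      rw [Subgroup.mem_normalizer_iff.mp (hSG x.2)]
      rw [show (x : Γ) * ((x : Γ)⁻¹ * g * x) * (x : Γ)⁻¹ = g by group]
      exact hg
    have h1 := Subgroup.mem_centralizer_iff.mp hk _ hg'
    simp only [Subgroup.coe_mul, Subgroup.coe_inv]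
    calc g * ((x : Γ) * k * (x : Γ)⁻¹) = x * ((x : Γ)⁻¹ * g * x * k) * (x : Γ)⁻¹ := by group
      _ = x * ((k : Γ) * ((x : Γ)⁻¹ * g * x)) * (x : Γ)⁻¹ := by rw [h1]
      _ = (x : Γ) * k * (x : Γ)⁻¹ * g := by group⟩
  haveI := hsolv
  haveI : Nontrivial (S ⧸ K) := by
    rw [QuotientGroup.nontrivial_iff]
    exact fun h => hne fun x hx => by
      have : (⟨x, hx⟩ : S) ∈ K := h.symm ▸ Subgroup.mem_top _
      exact this
  obtain ⟨M, hM⟩ := Cfsg.Lib.Core.exists_isMinNormal_univ (G := S ⧸ K)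
  obtain ⟨-, p, hp, -, hMp⟩ := Cfsg.Lib.Core.minimal_solvable_elementary hM inferInstance
  haveI : Fact p.Prime := ⟨hp⟩
  haveI := hM.1
  let T₀ : Subgroup S := M.comap (QuotientGroup.mk' K)
  let P₀ : Sylow p T₀ := default
  let π : T₀ →* M := ((QuotientGroup.mk' K).comp T₀.subtype).codRestrict M fun t => t.2
  have hπ : Function.Surjective π := fun m => by
    obtain ⟨x, hx⟩ := QuotientGroup.mk'_surjective K m.1
    exact ⟨⟨x, by show QuotientGroup.mk' K x ∈ M; rw [hx]; exact m.2⟩, Subtype.ext hx⟩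
  have himg : (P₀ : Subgroup T₀).map π = ⊤ := by
    obtain ⟨k, hk⟩ := IsPGroup.iff_card.mp hMp
    have h1 : ((P₀ : Subgroup T₀).map π).index ∣ (P₀ : Subgroup T₀).index :=
      Subgroup.index_map_dvd _ hπ
    have h2 : ((P₀ : Subgroup T₀).map π).index ∣ Nat.card M := Subgroup.index_dvd_card _
    obtain ⟨i, -, hi⟩ := (Nat.dvd_prime_pow hp).mp (hk ▸ h2)
    rw [← Subgroup.index_eq_one, hi]
    rcases Nat.eq_zero_or_pos i with rfl | hpos
    · rfl
    · exact absurd ((dvd_pow_self p hpos.ne').trans (hi ▸ h1)) P₀.not_dvd_index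
  refine ⟨T₀.map S.subtype, (P₀ : Subgroup T₀).map (S.subtype.comp T₀.subtype), p, hp, ?_,
    Subgroup.map_subtype_le _, ?_, P₀.2.map _, ?_, ?_, ?_, ?_⟩
  · obtain ⟨m, hm⟩ : ∃ m : M, m ≠ 1 := by
      haveI : Nontrivial M := (Subgroup.nontrivial_iff_ne_bot M).mpr hM.2.1
      exact exists_ne 1
    obtain ⟨k, hk⟩ := hMp m
    obtain ⟨j, -, hj⟩ := (Nat.dvd_prime_pow hp).mp (orderOf_dvd_of_pow_eq_one hk)
    have hj0 : j ≠ 0 := fun h => hm (orderOf_eq_one_iff.mp (by rw [hj, h, pow_zero]))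
    exact ((dvd_pow_self p hj0).trans (hj ▸ orderOf_dvd_natCard m)).trans
      ((Subgroup.card_subgroup_dvd_card M).trans (Subgroup.card_quotient_dvd_card K))
  · rintro _ ⟨a, -, rfl⟩
    exact ⟨a, a.2, rfl⟩
  · rintro x hx _ ⟨t, ht, rfl⟩
    exact ⟨⟨x, hx⟩ * t * ⟨x, hx⟩⁻¹, (hM.1.comap _).conj_mem t ht _, rfl⟩
  · intro h
    refine hM.2.1 (eq_bot_iff.mpr fun m hm => ?_)
    obtain ⟨x, rfl⟩ := QuotientGroup.mk'_surjective K m
    exact (QuotientGroup.eq_one_iff x).mpr (h ⟨x, hm, rfl⟩ : (x : Γ) ∈ Subgroup.centralizer (G : Set Γ))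
  · rintro x ⟨hxS, hxc⟩
    refine ⟨⟨x, hxS⟩, ?_, rfl⟩
    show QuotientGroup.mk' K ⟨x, hxS⟩ ∈ M
    rw [QuotientGroup.mk'_apply, (QuotientGroup.eq_one_iff _).mpr
      (show (⟨x, hxS⟩ : S) ∈ K from hxc)]
    exact one_mem M
  · rintro _ ⟨t, ht, rfl⟩
    obtain ⟨a, ha, hat⟩ : π ⟨t, ht⟩ ∈ (P₀ : Subgroup T₀).map π := himg ▸ Subgroup.mem_top _
    refine ⟨_, ⟨a, ha, rfl⟩, ?_⟩
    have h1 : t * (a : S)⁻¹ ∈ K := by
      rw [← QuotientGroup.eq_one_iff, QuotientGroup.mk_mul, QuotientGroup.mk_inv, mul_inv_eq_one]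
      exact (congrArg Subtype.val hat).symm
    exact h1

/-- The correspondence for a layer. -/
theorem isCorrespondence_layer {T P G H : Subgroup Γ} {p : ℕ} (hp : p.Prime) (hP : IsPGroup p P)
    (hPT : P ≤ T) (hdec : ∀ t ∈ T, ∃ x ∈ P, t * x⁻¹ ∈ Subgroup.centralizer (G : Set Γ))
    (hHG : H ≤ G) (hTH : T ≤ Subgroup.normalizer (H : Set Γ))
    (hcop : (Nat.card H).Coprime (Nat.card P)) (D : Subgroup Γ) [Fintype D] (hDH : D ≤ H)
    (hD : ∀ x, x ∈ D ↔ x ∈ H ∧ x ∈ Subgroup.centralizer (T : Set Γ)) :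
    IsCorrespondence (Subgroup.inclusion hDH) p (IsInvOn T H) ∧
      (∀ φ : H → ℂ, IsInvOn T H φ ↔ IsInvOn P H φ) ∧
      ∀ x ∈ H, x ∈ Subgroup.centralizer (P : Set Γ) → x ∈ D := by
  have hcen : ∀ x ∈ H, x ∈ Subgroup.centralizer (P : Set Γ) →
      x ∈ Subgroup.centralizer (T : Set Γ) := fun x hx h =>
    Subgroup.mem_centralizer_iff.mpr fun t ht => by
      obtain ⟨a, ha, hk⟩ := hdec t ht
      have h1 := Subgroup.mem_centralizer_iff.mp hk x (hHG hx)
      have h2 := Subgroup.mem_centralizer_iff.mp h a ha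
      calc t * x = t * a⁻¹ * (a * x) := by group
        _ = t * a⁻¹ * (x * a) := by rw [h2]
        _ = t * a⁻¹ * x * a := by group
        _ = x * (t * a⁻¹) * a := by rw [h1]
        _ = x * t := by group
  have hinv : ∀ φ : H → ℂ, IsInvOn T H φ ↔ IsInvOn P H φ := fun φ => by
    refine ⟨fun h s hs => h s (hPT hs), fun h t ht g g' hg => ?_⟩
    obtain ⟨a, ha, hk⟩ := hdec t ht
    have haH := hTH (hPT ha)
    refine Eq.trans ?_ (h a ha g _ (coe_twistEquiv H haH g))
    refine congrArg φ (Subtype.ext ?_)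
    rw [hg, coe_twistEquiv]
    have h1 := Subgroup.mem_centralizer_iff.mp hk _ (hHG ((Subgroup.mem_normalizer_iff.mp haH g).mp g.2))
    calc t * g * t⁻¹ = t * a⁻¹ * (a * g * a⁻¹) * (t * a⁻¹)⁻¹ := by group
      _ = a * g * a⁻¹ * (t * a⁻¹) * (t * a⁻¹)⁻¹ := by rw [h1]
      _ = a * g * a⁻¹ := by group
  refine ⟨?_, hinv, fun x hx h => (hD x).mpr ⟨hx, hcen x hx h⟩⟩
  have h := isCorrespondence_pGroup hp P hP H D (hPT.trans hTH) hcop hDH fun x => by
    rw [hD]
    exact and_congr_right fun hx =>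
      ⟨fun h => Subgroup.centralizer_le (SetLike.coe_subset_coe.mpr hPT) h, hcen x hx⟩
  exact h.comp_equiv (MulEquiv.refl H) (MulEquiv.refl D) (fun _ => rfl) fun φ => (hinv φ).symm

/-- `K` is a class of `G` fixed by `S`. -/
def IsFixCl (S G : Subgroup Γ) (K : ConjClasses G) : Prop :=
  ∀ s ∈ S, ∀ g g' : G, (g' : Γ) = s * g * s⁻¹ → ConjClasses.mk g = K → ConjClasses.mk g' = K

/-- A `p`-group acting coprimely: conjugate fixed points are conjugate in the fixed points. -/
theorem exists_conj_fixed_conj {P G : Subgroup Γ} {p : ℕ} [Fact p.Prime] (hP : IsPGroup p P)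
    (hPG : P ≤ Subgroup.normalizer (G : Set Γ)) (hcop : ¬ p ∣ Nat.card G) {c d g : Γ}
    (hc : c ∈ Subgroup.centralizer (P : Set Γ)) (hd : d ∈ Subgroup.centralizer (P : Set Γ))
    (hg : g ∈ G) (hgc : g * c * g⁻¹ = d) :
    ∃ w ∈ G, w ∈ Subgroup.centralizer (P : Set Γ) ∧ w * c * w⁻¹ = d := by
  let X := {x : Γ // x ∈ G ∧ x * c * x⁻¹ = d}
  letI act : MulAction P X :=
    { smul := fun a x => ⟨(a : Γ) * x.1 * (a : Γ)⁻¹,
        (Subgroup.mem_normalizer_iff.mp (hPG a.2) _).mp x.2.1, by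
          have h1 := Subgroup.mem_centralizer_iff.mp hc a a.2
          have h2 := Subgroup.mem_centralizer_iff.mp hd a a.2
          calc (a : Γ) * x.1 * (a : Γ)⁻¹ * c * ((a : Γ) * x.1 * (a : Γ)⁻¹)⁻¹
              = (a : Γ) * x.1 * ((a : Γ)⁻¹ * (c * (a : Γ))) * x.1⁻¹ * (a : Γ)⁻¹ := by group
            _ = (a : Γ) * (x.1 * c * x.1⁻¹) * (a : Γ)⁻¹ := by rw [← h1]; group
            _ = d := by rw [x.2.2, h2]; group⟩
      one_smul := fun x => Subtype.ext (by
        show ((1 : P) : Γ) * x.1 * ((1 : P) : Γ)⁻¹ = x.1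
        simp)
      mul_smul := fun a b x => Subtype.ext (by
        show ((a * b : P) : Γ) * x.1 * ((a * b : P) : Γ)⁻¹ =
          (a : Γ) * ((b : Γ) * x.1 * (b : Γ)⁻¹) * (a : Γ)⁻¹
        push_cast; group) }
  have hcard : Nat.card X = Nat.card (G ⊓ Subgroup.centralizer ({c} : Set Γ) : Subgroup Γ) := by
    refine Nat.card_congr
      { toFun := fun x => ⟨g⁻¹ * x.1, Subgroup.mul_mem _ (Subgroup.inv_mem _ hg) x.2.1,
          Subgroup.mem_centralizer_singleton_iff.mpr (by
            calc g⁻¹ * x.1 * c = g⁻¹ * (x.1 * c * x.1⁻¹) * x.1 := by group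
              _ = g⁻¹ * (g * c * g⁻¹) * x.1 := by rw [x.2.2, hgc]
              _ = c * (g⁻¹ * x.1) := by group)⟩
        invFun := fun z => ⟨g * z.1, Subgroup.mul_mem _ hg z.2.1, by
          have hz := Subgroup.mem_centralizer_singleton_iff.mp z.2.2
          calc g * z.1 * c * (g * z.1)⁻¹ = g * (z.1 * c) * z.1⁻¹ * g⁻¹ := by group
            _ = g * c * g⁻¹ := by rw [hz]; group
            _ = d := hgc⟩
        left_inv := fun x => Subtype.ext (by simp)
        right_inv := fun z => Subtype.ext (by simp) }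
  have hne := hP.nonempty_fixed_point_of_prime_not_dvd_card (α := X) (by
    rw [hcard]
    exact fun h => hcop (h.trans (Subgroup.card_dvd_of_le inf_le_left)))
  obtain ⟨⟨w, hw, hwc⟩, hfix⟩ := hne
  refine ⟨w, hw, Subgroup.mem_centralizer_iff.mpr fun a ha => ?_, hwc⟩
  have h1 : a * w * a⁻¹ = w := congrArg Subtype.val (hfix ⟨a, ha⟩)
  calc a * w = a * w * a⁻¹ * a := by group
    _ = w * a := by rw [h1]

/-- A fixed class contains a fixed point. -/
theorem exists_fixed_in_class {P G : Subgroup Γ} {p : ℕ} [Fact p.Prime] (hP : IsPGroup p P)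
    (hPG : P ≤ Subgroup.normalizer (G : Set Γ)) (hcop : ¬ p ∣ Nat.card G) {K : ConjClasses G}
    (hK : IsFixCl P G K) :
    ∃ c : G, (c : Γ) ∈ Subgroup.centralizer (P : Set Γ) ∧ ConjClasses.mk c = K := by
  classical
  haveI := Fintype.ofFinite G
  let Y := {g : G // ConjClasses.mk g = K}
  letI act : MulAction P Y :=
    { smul := fun a g => ⟨twistEquiv G (hPG a.2) g.1,
        hK a a.2 g.1 _ (coe_twistEquiv G (hPG a.2) g.1) g.2⟩
      one_smul := fun g => Subtype.ext (Subtype.ext (by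
        show ((1 : P) : Γ) * g.1 * ((1 : P) : Γ)⁻¹ = g.1
        simp))
      mul_smul := fun a b g => Subtype.ext (Subtype.ext (by
        show ((a * b : P) : Γ) * g.1 * ((a * b : P) : Γ)⁻¹ =
          (a : Γ) * ((b : Γ) * g.1 * (b : Γ)⁻¹) * (a : Γ)⁻¹
        push_cast; group)) }
  obtain ⟨g₀, rfl⟩ := K.exists_rep
  have hcard : Nat.card Y = (Subgroup.centralizer ({g₀} : Set G)).index := by
    rw [← card_classFinset, Nat.card_eq_fintype_card, Fintype.card_subtype]
    congr 1
    ext x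
    simp only [Finset.mem_filter, Finset.mem_univ, true_and, mem_classFinset,
      ConjClasses.mk_eq_mk_iff_isConj]
    exact isConj_comm
  obtain ⟨⟨c, hc⟩, hfix⟩ := hP.nonempty_fixed_point_of_prime_not_dvd_card (α := Y) (by
    rw [hcard]
    exact fun h => hcop (h.trans (Subgroup.index_dvd_card _)))
  refine ⟨c, Subgroup.mem_centralizer_iff.mpr fun a ha => ?_, hc⟩
  have h1 : a * c * a⁻¹ = (c : Γ) :=
    congrArg Subtype.val (congrArg Subtype.val (hfix ⟨a, ha⟩) : twistEquiv G (hPG ha) c = c)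
  calc a * (c : Γ) = a * c * a⁻¹ * a := by group
    _ = c * a := by rw [h1]

theorem not_dvd_card_of_coprime {G : Subgroup Γ} {p n : ℕ} (hp : p.Prime)
    (hcop : (Nat.card G).Coprime n) (hpn : p ∣ n) : ¬ p ∣ Nat.card G := fun h =>
  hp.one_lt.ne' (Nat.eq_one_of_dvd_one (hcop ▸ Nat.dvd_gcd h hpn))

theorem coprime_card_pGroup {G P : Subgroup Γ} {p : ℕ} [Fact p.Prime] (hP : IsPGroup p P)
    (hG : ¬ p ∣ Nat.card G) : (Nat.card G).Coprime (Nat.card P) := by
  obtain ⟨k, hk⟩ := IsPGroup.iff_card.mp hP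
  rw [hk]
  exact Nat.Coprime.pow_right k ((Fact.out : p.Prime).coprime_iff_not_dvd.mpr hG).symm

theorem index_inter_centralizer_lt {S T G D : Subgroup Γ} (hTS : T ≤ S)
    (hK : S ⊓ Subgroup.centralizer (G : Set Γ) ≤ T) (hT : ¬ T ≤ Subgroup.centralizer (G : Set Γ))
    (hTD : T ≤ Subgroup.centralizer (D : Set Γ)) :
    ((Subgroup.centralizer (D : Set Γ)).subgroupOf S).index <
      ((Subgroup.centralizer (G : Set Γ)).subgroupOf S).index := by
  have h1 : (Subgroup.centralizer (G : Set Γ)).subgroupOf S < T.subgroupOf S := by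
    refine lt_of_le_of_ne (fun x hx => hK ⟨x.2, hx⟩) fun h => hT fun t ht => ?_
    have : (⟨t, hTS ht⟩ : S) ∈ T.subgroupOf S := ht
    rw [← h] at this
    exact this
  have h2 : T.subgroupOf S ≤ (Subgroup.centralizer (D : Set Γ)).subgroupOf S :=
    fun x hx => hTD hx
  exact Subgroup.index_strictAnti (lt_of_lt_of_le h1 h2)

/-- Twisting is compatible with the correspondence of a layer. -/
theorem corr_twist {H D : Subgroup Γ} [Fintype D] {p : ℕ} (hDH : D ≤ H) {χ : H → ℂ} {θ : D → ℂ}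
    (h : HasCorr (Subgroup.inclusion hDH) p χ θ) {s : Γ}
    (hsH : s ∈ Subgroup.normalizer (H : Set Γ)) (hsD : s ∈ Subgroup.normalizer (D : Set Γ)) :
    HasCorr (Subgroup.inclusion hDH) p (fun g => χ (twistEquiv H hsH g))
      (fun d => θ (twistEquiv D hsD d)) :=
  h.comp_equiv (twistEquiv H hsH) (twistEquiv D hsD) fun _ => Subtype.ext rfl

/-- The correspondence of a layer preserves invariance under the whole group. -/
theorem isInvOn_iff_of_corr {S T H D : Subgroup Γ} [Fintype D] {p : ℕ} (hp : p.Prime)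
    (hDH : D ≤ H) (hcorr : IsCorrespondence (Subgroup.inclusion hDH) p (IsInvOn T H))
    (hTn : ∀ x ∈ S, ∀ t ∈ T, x * t * x⁻¹ ∈ T) (hSH : S ≤ Subgroup.normalizer (H : Set Γ))
    (hSD : S ≤ Subgroup.normalizer (D : Set Γ)) {χ : H → ℂ} (hχ : IsIrrCharacter H χ)
    (hT : IsInvOn T H χ) {θ : D → ℂ} (h : HasCorr (Subgroup.inclusion hDH) p χ θ) :
    IsInvOn S H χ ↔ IsInvOn S D θ := by
  rw [isInvOn_iff hSH, isInvOn_iff hSD]
  refine ⟨fun hi s hs => ⟨hSD hs, fun d => ?_⟩, fun hi s hs => ⟨hSH hs, fun g => ?_⟩⟩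
  · have h1 := corr_twist hDH h (hSH hs) (hSD hs)
    obtain ⟨hx, hf⟩ := hi hs
    simp only [hf] at h1
    exact congrFun (h1.eq_of_not_dvd hp hχ.isCharacter h) d
  · have h1 := corr_twist hDH h (hSH hs) (hSD hs)
    obtain ⟨hx, hf⟩ := hi hs
    simp only [hf] at h1
    exact congrFun (hcorr.injective _ χ θ (isIrrCharacter_comp_equiv _ hχ)
      (hT.comp_twist (hTn s hs) (hSH hs)) hχ hT h1 h) g

/-- Invariant irreducible characters are as many as invariant classes. -/
theorem card_inv_eq_card_fixCl {S : Subgroup Γ} (hsolv : Group.IsSolvable S) (G : Subgroup Γ)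
    (hSG : S ≤ Subgroup.normalizer (G : Set Γ)) (hcop : (Nat.card G).Coprime (Nat.card S)) :
    Nat.card {χ : IrrCharacter G // IsInvOn S G (χ : G → ℂ)} =
      Nat.card {K : ConjClasses G // IsFixCl S G K} := by
  classical
  induction hn : ((Subgroup.centralizer (G : Set Γ)).subgroupOf S).index
    using Nat.strong_induction_on generalizing G with
  | _ n ih =>
    subst hn
    by_cases hne : S ≤ Subgroup.centralizer (G : Set Γ)
    · rw [Nat.card_congr (Equiv.subtypeUnivEquiv fun χ : IrrCharacter G =>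
        isInvOn_of_centralize hne (χ : G → ℂ)), card_irr_eq_card_conjClasses]
      refine (Nat.card_congr (Equiv.subtypeUnivEquiv fun K => fun s hs g g' hg hgK => ?_)).symm
      rw [← hgK]
      congr 1
      exact Subtype.ext (by rw [hg, ← Subgroup.mem_centralizer_iff.mp (hne hs) g g.2]; group)
    obtain ⟨T, P, p, hp, hpS, hTS, hPT, hP, hTn, hTne, hK, hdec⟩ := exists_layer hSG hsolv hne
    haveI : Fact p.Prime := ⟨hp⟩
    have hpG := not_dvd_card_of_coprime hp hcop hpS
    let D : Subgroup Γ := G ⊓ Subgroup.centralizer (T : Set Γ)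
    haveI := Fintype.ofFinite D
    have hDG : D ≤ G := inf_le_left
    have hTn' : ∀ x ∈ S, ∀ t ∈ T, x⁻¹ * t * x ∈ T := fun x hx t ht => by
      simpa using hTn x⁻¹ (inv_mem hx) t ht
    have hSD : S ≤ Subgroup.normalizer (D : Set Γ) := fun s hs =>
      mem_normalizer_inf_centralizer (hSG hs) (hTn s hs) (hTn' s hs)
    obtain ⟨hcorr, hinvP, hcenP⟩ := isCorrespondence_layer hp hP hPT hdec le_rfl (hTS.trans hSG)
      (coprime_card_pGroup hP hpG) D hDG fun _ => Iff.rfl
    have hind := ih _ (index_inter_centralizer_lt (D := D) hTS hK hTne fun t ht =>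
      Subgroup.mem_centralizer_iff.mpr fun d hd =>
        (Subgroup.mem_centralizer_iff.mp hd.2 t ht).symm) D hSD
      (hcop.coprime_dvd_left (Subgroup.card_dvd_of_le hDG)) rfl
    have hDP : ∀ d : D, (d : Γ) ∈ Subgroup.centralizer (P : Set Γ) := fun d =>
      Subgroup.centralizer_le (SetLike.coe_subset_coe.mpr hPT) d.2.2
    have hconj : ∀ c d : D, IsConj (Subgroup.inclusion hDG c) (Subgroup.inclusion hDG d) →
        IsConj c d := by
      intro c d h
      obtain ⟨g, hg⟩ := isConj_iff.mp h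
      obtain ⟨w, hwG, hwP, hw⟩ := exists_conj_fixed_conj hP ((hPT.trans hTS).trans hSG) hpG
        (hDP c) (hDP d) g.2 (congrArg Subtype.val hg)
      exact isConj_iff.mpr ⟨⟨w, hcenP w hwG hwP⟩, Subtype.ext hw⟩
    have hcls : Nat.card {K : ConjClasses D // IsFixCl S D K} =
        Nat.card {K : ConjClasses G // IsFixCl S G K} := by
      refine Nat.card_congr (Equiv.ofBijective (fun K => ⟨ConjClasses.map (Subgroup.inclusion hDG)
        K.1, fun s hs g g' hg hgK => ?_⟩) ⟨fun K L hKL => ?_, fun K => ?_⟩)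
      · obtain ⟨c, hc⟩ := K.1.exists_rep
        rw [← hc] at hgK ⊢
        have hK' := K.2 s hs c _ (coe_twistEquiv D (hSD hs) c) hc
        rw [← hc] at hK'
        have e1 : ConjClasses.map (Subgroup.inclusion hDG) (ConjClasses.mk c) =
            ConjClasses.mk (twistEquiv G (hSG hs) (Subgroup.inclusion hDG c)) := by
          conv_lhs => rw [← hK']
          rfl
        rw [e1]
        obtain ⟨h, hh⟩ := isConj_iff.mp (ConjClasses.mk_eq_mk_iff_isConj.mp hgK)
        refine ConjClasses.mk_eq_mk_iff_isConj.mpr (isConj_iff.mpr ⟨twistEquiv G (hSG hs) h, ?_⟩)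
        rw [show g' = twistEquiv G (hSG hs) g from Subtype.ext hg, ← map_inv, ← map_mul, ← map_mul,
          hh]
      · obtain ⟨c, hc⟩ := K.1.exists_rep
        obtain ⟨d, hd⟩ := L.1.exists_rep
        refine Subtype.ext ?_
        have h1 := congrArg Subtype.val hKL
        simp only [← hc, ← hd] at h1
        rw [← hc, ← hd, ConjClasses.mk_eq_mk_iff_isConj]
        exact hconj c d (ConjClasses.mk_eq_mk_iff_isConj.mp h1)
      · obtain ⟨c, hcP, hc⟩ := exists_fixed_in_class hP ((hPT.trans hTS).trans hSG) hpG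
          (fun s hs => K.2 s (hTS (hPT hs)))
        let c' : D := ⟨c, hcenP c c.2 hcP⟩
        refine ⟨⟨ConjClasses.mk c', fun s hs g g' hg hgc => ?_⟩, Subtype.ext hc⟩
        rw [← hgc]
        refine ConjClasses.mk_eq_mk_iff_isConj.mpr (hconj g' g (ConjClasses.mk_eq_mk_iff_isConj.mp ?_))
        have hgK : ConjClasses.mk (Subgroup.inclusion hDG g) = K.1 :=
          (congrArg (ConjClasses.map (Subgroup.inclusion hDG)) hgc).trans hc
        rw [hgK]
        exact K.2 s hs (Subgroup.inclusion hDG g) (Subgroup.inclusion hDG g') hg hgK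
    have hex := fun χ : {χ : IrrCharacter G // IsInvOn S G (χ : G → ℂ)} =>
      hcorr.exists_corr _ χ.1.2 fun t ht => χ.2 t (hTS ht)
    choose b hb using hex
    have hbinv : ∀ χ : {χ : IrrCharacter G // IsInvOn S G (χ : G → ℂ)}, IsInvOn S D (b χ) :=
      fun χ => (isInvOn_iff_of_corr hp hDG hcorr hTn hSG hSD χ.1.2
        (fun t ht => χ.2 t (hTS ht)) (hb χ)).mp χ.2
    rw [← hcls, ← hind]
    refine Nat.card_congr (Equiv.ofBijective (fun χ => ⟨⟨b χ, (hb χ).1⟩, hbinv χ⟩)
      ⟨fun χ χ' h => ?_, fun θ => ?_⟩)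
    · have h1 : b χ = b χ' := congrArg (fun z => (z.1 : D → ℂ)) h
      refine Subtype.ext (Subtype.ext (hcorr.injective _ _ _ χ.1.2 (fun t ht => χ.2 t (hTS ht))
        χ'.1.2 (fun t ht => χ'.2 t (hTS ht)) (hb χ) (h1 ▸ hb χ')))
    · obtain ⟨χ, hχ, hT, hc⟩ := hcorr.surjective _ θ.1.2
      have hi := (isInvOn_iff_of_corr hp hDG hcorr hTn hSG hSD hχ hT hc).mpr θ.2
      exact ⟨⟨⟨χ, hχ⟩, hi⟩, Subtype.ext (Subtype.ext
        ((hb ⟨⟨χ, hχ⟩, hi⟩).eq_of_not_dvd hp hχ.isCharacter hc))⟩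

/-- The multiplicity of a character of a normal subgroup in the restriction divides the order. -/
theorem multiplicity_dvd_card {G : Type u} [Group G] [Fintype G] (N : Subgroup G) [N.Normal]
    [Fintype N] {χ : G → ℂ} (hχ : IsIrrCharacter G χ) {θ : N → ℂ} (hθ : IsIrrCharacter N θ)
    {e : ℕ} (he : classInner (fun n : N => χ n) θ = e) (h0 : e ≠ 0) : e ∣ Nat.card G := by
  classical
  have hle : N ≤ inertia N θ := le_inertia N hθ.isClassFunction
  haveI := Fintype.ofFinite (inertia N θ)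
  haveI : (N.subgroupOf (inertia N θ)).Normal := ‹N.Normal›.subgroupOf _
  haveI := Fintype.ofFinite (N.subgroupOf (inertia N θ))
  obtain ⟨ψ, hψ, hψ0, -, hψe⟩ := clifford_exists N hθ hle rfl hχ
    (by rw [he]; exact Nat.cast_ne_zero.mpr h0)
  have h1 := res_eq_smul N hθ hle rfl hψ hψ0
  rw [hψe, he] at h1
  have h2 := multiplicity_dvd_index (isIrrCharacter_resTo N hθ hle) (fun t => by
      funext x
      exact (mem_inertia_iff N).mp t.2 ⟨(x : inertia N θ), Subgroup.mem_subgroupOf.mp x.2⟩) hψ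
    (e := e) (funext fun x => congrFun h1 ⟨(x : inertia N θ), Subgroup.mem_subgroupOf.mp x.2⟩)
  exact h2.trans ((Subgroup.index_dvd_card _).trans (Subgroup.card_subgroup_dvd_card _))

/-- An invariant character of an invariant normal subgroup lies under an invariant character. -/
theorem exists_inv_over {S : Subgroup Γ} (hsolv : Group.IsSolvable S) (G : Subgroup Γ) [Fintype G]
    (hSG : S ≤ Subgroup.normalizer (G : Set Γ)) (hcop : (Nat.card G).Coprime (Nat.card S))
    (N : Subgroup Γ) [Fintype N] (hNG : N ≤ G) (hGN : G ≤ Subgroup.normalizer (N : Set Γ))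
    (hSN : S ≤ Subgroup.normalizer (N : Set Γ)) {θ : N → ℂ} (hθ : IsIrrCharacter N θ)
    (hinv : IsInvOn S N θ) :
    ∃ χ : G → ℂ, IsIrrCharacter G χ ∧
      classInner (fun n : N => χ (Subgroup.inclusion hNG n)) θ ≠ 0 ∧ IsInvOn S G χ := by
  classical
  induction hn : ((Subgroup.centralizer (G : Set Γ)).subgroupOf S).index
    using Nat.strong_induction_on generalizing G N with
  | _ n ih =>
    subst hn
    by_cases hne : S ≤ Subgroup.centralizer (G : Set Γ)
    · haveI : (N.subgroupOf G).Normal := Subgroup.normal_subgroupOf_of_le_normalizer hGN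
      haveI := Fintype.ofFinite (N.subgroupOf G)
      have hθ' := isIrrCharacter_comp_equiv (Subgroup.subgroupOfEquivOfLe hNG) hθ
      have hind := isCharacter_indFun (N.subgroupOf G) hθ'.isCharacter
      obtain ⟨χ, hχ⟩ := exists_constituent hind (by
        rw [indFun_apply_one]
        exact mul_ne_zero (Nat.cast_ne_zero.mpr Subgroup.index_ne_zero_of_finite)
          hθ'.apply_one_ne_zero)
      refine ⟨χ, χ.2, ?_, isInvOn_of_centralize hne _⟩
      rw [classInner_indFun _ _ χ.2.isClassFunction, ← classInner_conj_symm] at hχ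
      intro h0
      apply hχ
      rw [← classInner_comp_equiv (Subgroup.subgroupOfEquivOfLe hNG)] at h0
      rw [show (fun x : N.subgroupOf G => (χ : G → ℂ) x) = fun x : N.subgroupOf G => (χ : G → ℂ)
        (Subgroup.inclusion hNG (Subgroup.subgroupOfEquivOfLe hNG x)) from rfl, h0, map_zero]
    obtain ⟨T, P, p, hp, hpS, hTS, hPT, hP, hTn, hTne, hK, hdec⟩ := exists_layer hSG hsolv hne
    haveI : Fact p.Prime := ⟨hp⟩
    have hpG := not_dvd_card_of_coprime hp hcop hpS
    have hpN : ¬ p ∣ Nat.card N := fun h => hpG (h.trans (Subgroup.card_dvd_of_le hNG))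
    let D : Subgroup Γ := G ⊓ Subgroup.centralizer (T : Set Γ)
    let M : Subgroup Γ := N ⊓ Subgroup.centralizer (T : Set Γ)
    haveI := Fintype.ofFinite D
    haveI := Fintype.ofFinite M
    have hDG : D ≤ G := inf_le_left
    have hMN : M ≤ N := inf_le_left
    have hMD : M ≤ D := inf_le_inf_right _ hNG
    have hTn' : ∀ x ∈ S, ∀ t ∈ T, x⁻¹ * t * x ∈ T := fun x hx t ht => by
      simpa using hTn x⁻¹ (inv_mem hx) t ht
    have hSD : S ≤ Subgroup.normalizer (D : Set Γ) := fun s hs =>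
      mem_normalizer_inf_centralizer (hSG hs) (hTn s hs) (hTn' s hs)
    have hSM : S ≤ Subgroup.normalizer (M : Set Γ) := fun s hs =>
      mem_normalizer_inf_centralizer (hSN hs) (hTn s hs) (hTn' s hs)
    have hDM : D ≤ Subgroup.normalizer (M : Set Γ) := fun d hd =>
      mem_normalizer_inf_centralizer (hGN hd.1) (fun t ht => by
          rw [← Subgroup.mem_centralizer_iff.mp hd.2 t ht, mul_inv_cancel_right]; exact ht)
        (fun t ht => by
          rw [mul_assoc, Subgroup.mem_centralizer_iff.mp hd.2 t ht, inv_mul_cancel_left]; exact ht)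
    obtain ⟨hcorG, hinvG, -⟩ := isCorrespondence_layer hp hP hPT hdec le_rfl (hTS.trans hSG)
      (coprime_card_pGroup hP hpG) D hDG fun _ => Iff.rfl
    obtain ⟨hcorN, hinvN, -⟩ := isCorrespondence_layer hp hP hPT hdec hNG (hTS.trans hSN)
      (coprime_card_pGroup hP hpN) M hMN fun _ => Iff.rfl
    have hθT : IsInvOn T N θ := fun t ht => hinv t (hTS ht)
    obtain ⟨θ', hθ'⟩ := hcorN.exists_corr θ hθ hθT
    have hθ'inv := (isInvOn_iff_of_corr hp hMN hcorN hTn hSN hSM hθ hθT hθ').mp hinv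
    obtain ⟨β, hβ, hβθ, hβinv⟩ := ih _ (index_inter_centralizer_lt (D := D) hTS hK hTne fun t ht =>
      Subgroup.mem_centralizer_iff.mpr fun d hd =>
        (Subgroup.mem_centralizer_iff.mp hd.2 t ht).symm) D hSD
      (hcop.coprime_dvd_left (Subgroup.card_dvd_of_le hDG)) M hMD hDM hSM hθ'.1 hθ'inv rfl
    obtain ⟨χ, hχ, hχT, hχβ⟩ := hcorG.surjective β hβ
    refine ⟨χ, hχ, ?_, (isInvOn_iff_of_corr hp hDG hcorG hTn hSG hSD hχ hχT hχβ).mpr hβinv⟩
    intro h0
    have hχN := hχ.isCharacter.comp (Subgroup.inclusion hNG)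
    -- through `D`
    choose a ha using fun δ : IrrCharacter D =>
      (hχ.isCharacter.comp (Subgroup.inclusion hDG)).exists_nat_classInner δ.2.isCharacter
    choose b hb using fun δ : IrrCharacter D =>
      (δ.2.isCharacter.comp (Subgroup.inclusion hMD)).exists_nat_classInner hθ'.1.isCharacter
    -- through `N`
    choose c hc using fun η : IrrCharacter N => hχN.exists_nat_classInner η.2.isCharacter
    choose d hd using fun η : IrrCharacter N =>
      (η.2.isCharacter.comp (Subgroup.inclusion hMN)).exists_nat_classInner hθ'.1.isCharacter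
    have hsame : ∑ δ, a δ * b δ = ∑ η, c η * d η := by
      have h1 := isCharacter_expansion (Subgroup.inclusion hMD)
        (hχ.isCharacter.comp (Subgroup.inclusion hDG)).isClassFunction θ'
      have h2 := isCharacter_expansion (Subgroup.inclusion hMN) hχN.isClassFunction θ'
      simp only [ha, hb] at h1
      simp only [hc, hd] at h2
      have h3 : (∑ δ, (a δ : ℂ) * b δ) = ∑ η, (c η : ℂ) * d η := h1.symm.trans h2
      exact_mod_cast h3
    have hbne : b ⟨β, hβ⟩ ≠ 0 := fun h => hβθ ((hb ⟨β, hβ⟩).trans (by rw [h, Nat.cast_zero]))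
    haveI : (M.subgroupOf D).Normal := Subgroup.normal_subgroupOf_of_le_normalizer hDM
    haveI := Fintype.ofFinite (M.subgroupOf D)
    have hbdvd : b ⟨β, hβ⟩ ∣ Nat.card D := multiplicity_dvd_card (M.subgroupOf D) hβ
      (isIrrCharacter_comp_equiv (Subgroup.subgroupOfEquivOfLe hMD) hθ'.1)
      (by
        rw [← hb ⟨β, hβ⟩]
        exact classInner_comp_equiv (Subgroup.subgroupOfEquivOfLe hMD)
          (fun m : M => β (Subgroup.inclusion hMD m)) θ') hbne
    have hleft : ¬ p ∣ ∑ δ, a δ * b δ := by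
      intro hdiv
      rw [← Finset.add_sum_erase _ _ (Finset.mem_univ (⟨β, hβ⟩ : IrrCharacter D))] at hdiv
      have hrest : p ∣ ∑ δ ∈ Finset.univ.erase (⟨β, hβ⟩ : IrrCharacter D), a δ * b δ :=
        Finset.dvd_sum fun δ hδ => dvd_mul_of_dvd_left (not_not.mp fun hnd =>
          (Finset.mem_erase.mp hδ).1 (Subtype.ext ((hχβ.not_dvd_iff hp δ.2 (ha δ)).mp hnd))) _
      rw [← Nat.dvd_add_iff_left hrest] at hdiv
      rcases hp.dvd_mul.mp hdiv with h | h
      · exact (hχβ.not_dvd_iff hp hβ (ha ⟨β, hβ⟩)).mpr rfl h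
      · exact hpG ((h.trans hbdvd).trans (Subgroup.card_dvd_of_le hDG))
    have hPN : P ≤ Subgroup.normalizer (N : Set Γ) := (hPT.trans hTS).trans hSN
    letI act : MulAction P (IrrCharacter N) :=
      { smul := fun x η => ⟨fun g => (η : N → ℂ) (twistEquiv N (hPN (x⁻¹).2) g),
          isIrrCharacter_comp_equiv _ η.2⟩
        one_smul := fun η => Subtype.ext (funext fun g => congrArg (η : N → ℂ) (Subtype.ext (by
          show (((1 : P)⁻¹ : P) : Γ) * g * (((1 : P)⁻¹ : P) : Γ)⁻¹ = g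
          simp)))
        mul_smul := fun x y η => Subtype.ext (funext fun g => congrArg (η : N → ℂ) (Subtype.ext (by
          show (((x * y)⁻¹ : P) : Γ) * g * (((x * y)⁻¹ : P) : Γ)⁻¹ =
            ((y⁻¹ : P) : Γ) * (((x⁻¹ : P) : Γ) * g * ((x⁻¹ : P) : Γ)⁻¹) * ((y⁻¹ : P) : Γ)⁻¹
          push_cast; group))) }
    have hF : ∀ (x : P) (η : IrrCharacter N), c (x • η) * d (x • η) = c η * d η := by
      intro x η
      have e1 : (c (x • η) : ℂ) = c η := by
        rw [← hc, ← hc]
        conv_rhs => rw [← classInner_comp_equiv (twistEquiv N (hPN (x⁻¹).2))]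
        congr 1
        funext n
        exact (hχT ((x⁻¹ : P) : Γ) (hPT (x⁻¹).2) (Subgroup.inclusion hNG n) _ rfl).symm
      have e2 : (d (x • η) : ℂ) = d η := by
        rw [← hd, ← hd]
        congr 1
        funext m
        refine congrArg (η : N → ℂ) (Subtype.ext ?_)
        show ((x⁻¹ : P) : Γ) * m * ((x⁻¹ : P) : Γ)⁻¹ = m
        rw [← (Subgroup.mem_centralizer_iff.mp m.2.2 _ (hPT (x⁻¹).2)).symm.trans rfl,
          mul_inv_cancel_right]
      rw [show c (x • η) = c η by exact_mod_cast e1, show d (x • η) = d η by exact_mod_cast e2]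
    have hsum := sum_modEq_sum_fixed hP (fun η => c η * d η) hF
    rw [hsame] at hleft
    apply hleft
    rw [Nat.dvd_iff_mod_eq_zero, hsum, ← Nat.dvd_iff_mod_eq_zero]
    refine Finset.dvd_sum fun η hη => ?_
    by_cases he : (η : N → ℂ) = θ
    · have : (c η : ℂ) = 0 := by rw [← hc]; rw [he]; exact h0
      rw [show c η = 0 by exact_mod_cast this, zero_mul]
      exact dvd_zero p
    · refine dvd_mul_of_dvd_right (not_not.mp fun hnd => he ?_) _
      have hηP : IsInvOn P N (η : N → ℂ) := fun s hs g g' hg => by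
        have h1 := congrFun (congrArg Subtype.val
          ((Finset.mem_filter.mp hη).2 (⟨s, hs⟩ : P))) g'
        rw [← h1]
        exact congrArg (η : N → ℂ) (Subtype.ext (by
          show ((((⟨s, hs⟩ : P))⁻¹ : P) : Γ) * g' * ((((⟨s, hs⟩ : P))⁻¹ : P) : Γ)⁻¹ = g
          push_cast; rw [hg]; group))
      have hηT : IsInvOn T N (η : N → ℂ) := (hinvN _).mpr hηP
      obtain ⟨η', hη'⟩ := hcorN.exists_corr _ η.2 hηT
      rw [← (hη'.not_dvd_iff hp hθ'.1 (hd η)).mp hnd] at hη'
      exact hcorN.injective _ θ θ' η.2 hηT hθ hθT hη' hθ'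

end Cfsg.Lib.Char
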