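import Mathlib.GroupTheory.Solvable
import Mathlib.GroupTheory.SchurZassenhaus
import Cfsg.Agent.Lib.Char.GlaubermanSolv
import Cfsg.Agent.Lib.Char.ScalarRestriction

/-!
# Invariant irreducible characters over invariant characters in coprime layers
-/

set_option autoImplicit false
set_option linter.unusedSectionVars false
set_option linter.style.haveILetI false

namespace Cfsg.Lib.Char

open Cfsg
open scoped ComplexConjugate

universe u

theorem split_zpow {X : Type u} [CommGroup X] (x : X) {a b : ℕ} {u v : ℤ}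
    (h : u * a + v * b = 1) (hx : x ^ (a * b) = 1) :
    x ^ (v * b) * x ^ (u * a) = x ∧ (x ^ (v * b)) ^ a = 1 ∧ (x ^ (u * a)) ^ b = 1 := by
  have hz : x ^ ((a : ℤ) * b) = 1 := by rw [← Nat.cast_mul, zpow_natCast, hx]
  refine ⟨by rw [← zpow_add, add_comm, h, zpow_one], ?_, ?_⟩
  · rw [← zpow_natCast, ← zpow_mul, mul_assoc, mul_comm (b : ℤ), mul_comm v, zpow_mul, hz, one_zpow]
  · rw [← zpow_natCast, ← zpow_mul, mul_assoc, mul_comm u, zpow_mul, hz, one_zpow]

theorem zpow_mul_eq_self {X : Type u} [Group X] (x : X) {k m : ℕ} {r v : ℤ}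
    (h : r * k + v * m = 1) (hx : x ^ m = 1) : x ^ ((k : ℤ) * r) = x := by
  conv_rhs => rw [← zpow_one x, ← h, zpow_add, zpow_mul' x v, zpow_natCast, hx, one_zpow, mul_one,
    mul_comm r]

section Abelian

variable {M : Type u} [Group M] [Fintype M]

/-- Two characters over a common character of a normal subgroup with abelian quotient differ by
a linear character of the quotient. -/
theorem exists_linear_mul_eq (N : Subgroup M) [N.Normal] [Fintype N]
    (hab : ∀ a b : M, a * b * a⁻¹ * b⁻¹ ∈ N) {ψ ψ' : M → ℂ} (hψ : IsIrrCharacter M ψ)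
    (hψ' : IsIrrCharacter M ψ') {θ : N → ℂ} (hθ : IsIrrCharacter N θ)
    (h : classInner (fun n : N => ψ n) θ ≠ 0) (h' : classInner (fun n : N => ψ' n) θ ≠ 0) :
    ∃ l : M →* ℂˣ, (∀ n ∈ N, l n = 1) ∧ ψ' = fun x => ψ x * (l x : ℂ) := by
  classical
  by_contra hcon
  push Not at hcon
  haveI := Fintype.ofFinite (M ⧸ N)
  letI : CommGroup (M ⧸ N) :=
    { (inferInstance : Group (M ⧸ N)) with
      mul_comm := fun a b => by
        induction a using QuotientGroup.induction_on with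
        | _ x =>
          induction b using QuotientGroup.induction_on with
          | _ y =>
            rw [← QuotientGroup.mk_mul, ← QuotientGroup.mk_mul, QuotientGroup.eq]
            rw [show (x * y)⁻¹ * (y * x) = y⁻¹ * x⁻¹ * y⁻¹⁻¹ * x⁻¹⁻¹ by group]
            exact hab y⁻¹ x⁻¹ }
  set F : M → ℂ := fun x => ψ x * conj (ψ' x) with hF
  set D : M ⧸ N → ℂ := fun q => ∑ x ∈ Finset.univ.filter (fun x : M => (x : M ⧸ N) = q), F x
    with hD
  have hzero : D = 0 := by
    refine eq_zero_of_orthogonal (fun a b => by rw [mul_comm b, mul_inv_cancel_right])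
      fun ν hν => ?_
    have hν1 : (fun q => conj (ν q)) 1 = 1 := by
      show conj (ν 1) = 1
      rw [degree_eq_one_of_comm mul_comm hν, map_one]
    obtain ⟨f, hf⟩ := exists_hom_of_degree_one (isIrrCharacter_conjFn hν).isCharacter hν1
    have hmul := isIrrCharacter_mul_linear hψ (f.comp (QuotientGroup.mk' N))
    have h0 := classInner_irr_ne hmul hψ' fun e => hcon (f.comp (QuotientGroup.mk' N))
      (fun n hn => by
        simp [(QuotientGroup.eq_one_iff n).mpr hn]) (by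
        rw [← e]
        rfl)
    rw [classInner, mul_eq_zero, inv_eq_zero] at h0
    replace h0 := h0.resolve_left card_cast_ne_zero
    have h3 : ∑ q, D q * conj (ν q) = 0 := by
      rw [← h0, ← Finset.sum_fiberwise Finset.univ (fun x : M => (x : M ⧸ N))]
      refine Finset.sum_congr rfl fun q _ => ?_
      rw [hD, Finset.sum_mul]
      refine Finset.sum_congr rfl fun x hx => ?_
      rw [← (Finset.mem_filter.mp hx).2, hF]
      have h4 : conj (ν (x : M ⧸ N)) = (f (x : M ⧸ N) : ℂ) := congrFun hf _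
      simp only [MonoidHom.comp_apply, QuotientGroup.mk'_apply, Pi.mul_apply]
      rw [h4]; ring
    simp [classInner, h3]
  have h5 := congrFun hzero (1 : M ⧸ N)
  have hsum : ∑ n : N, ψ n * conj (ψ' n) = 0 := by
    rw [Pi.zero_apply, hD] at h5
    rw [← h5]
    refine Finset.sum_bij (fun n _ => (n : M)) (fun n _ => ?_) (fun a _ b _ e => Subtype.ext e)
      (fun x hx => ⟨⟨x, (QuotientGroup.eq_one_iff x).mp (Finset.mem_filter.mp hx).2⟩,
        Finset.mem_univ _, rfl⟩) (fun n _ => rfl)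
    simp
  choose a ha using fun η : IrrCharacter N =>
    (hψ.isCharacter.comp N.subtype).exists_nat_classInner η.2.isCharacter
  choose b hb using fun η : IrrCharacter N =>
    (hψ'.isCharacter.comp N.subtype).exists_nat_classInner η.2.isCharacter
  have h6 : classInner (fun n : N => ψ n) (fun n : N => ψ' n) = 0 := by
    rw [classInner, hsum, mul_zero]
  rw [classInner_eq_sum (f := fun n : N => ψ n)
    (hψ.isCharacter.comp N.subtype).isClassFunction] at h6
  have h7 : ∑ η, a η * b η = 0 := by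
    have : (∑ η, (a η : ℂ) * b η) = 0 := by
      rw [← h6]
      refine Finset.sum_congr rfl fun η _ => ?_
      rw [show classInner (fun n : N => ψ n) (η : N → ℂ) = a η from ha η,
        show classInner (fun n : N => ψ' n) (η : N → ℂ) = b η from hb η, Complex.conj_natCast]
    exact_mod_cast this
  have h8 := Finset.sum_eq_zero_iff.mp h7 ⟨θ, hθ⟩ (Finset.mem_univ _)
  rcases Nat.mul_eq_zero.mp h8 with h9 | h9
  · exact h ((ha ⟨θ, hθ⟩).trans (by rw [h9, Nat.cast_zero]))
  · exact h' ((hb ⟨θ, hθ⟩).trans (by rw [h9, Nat.cast_zero]))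

end Abelian

variable {Γ : Type u} [Group Γ] [Finite Γ]

/-- An abelian layer. -/
theorem exists_inv_over_abelian {S M N : Subgroup Γ} [Fintype N] [Fintype M]
    (hSM : S ≤ Subgroup.normalizer (M : Set Γ)) (hcop : (Nat.card M).Coprime (Nat.card S))
    (hNM : N ≤ M) (hMN : M ≤ Subgroup.normalizer (N : Set Γ))
    (hab : ∀ a ∈ M, ∀ b ∈ M, a * b * a⁻¹ * b⁻¹ ∈ N)
    (hSN : S ≤ Subgroup.normalizer (N : Set Γ)) {θ : N → ℂ} (hθ : IsIrrCharacter N θ)
    (hinv : IsInvOn S N θ) :
    ∃ ψ : M → ℂ, IsIrrCharacter M ψ ∧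
      classInner (fun n : N => ψ (Subgroup.inclusion hNM n)) θ ≠ 0 ∧ IsInvOn S M ψ := by
  classical
  haveI := Fintype.ofFinite S
  haveI : (N.subgroupOf M).Normal := Subgroup.normal_subgroupOf_of_le_normalizer hMN
  haveI := Fintype.ofFinite (N.subgroupOf M)
  let eN := Subgroup.subgroupOfEquivOfLe hNM
  have hθ' := isIrrCharacter_comp_equiv eN hθ
  obtain ⟨ψ₀, hψ₀⟩ := exists_constituent (isCharacter_indFun (N.subgroupOf M) hθ'.isCharacter) (by
    rw [indFun_apply_one]
    exact mul_ne_zero (Nat.cast_ne_zero.mpr Subgroup.index_ne_zero_of_finite)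
      hθ'.apply_one_ne_zero)
  rw [classInner_indFun _ _ ψ₀.2.isClassFunction, ← classInner_conj_symm] at hψ₀
  replace hψ₀ : classInner (fun x : N.subgroupOf M => (ψ₀ : M → ℂ) x) (fun x => θ (eN x)) ≠ 0 :=
    fun e => hψ₀ (by rw [e, map_zero])
  let tw : S → (M ≃* M) := fun s => twistEquiv M (hSM s.2)
  have htw : ∀ s : S, ∃ l : M →* ℂˣ, (∀ n ∈ N.subgroupOf M, l n = 1) ∧
      (fun g => (ψ₀ : M → ℂ) (tw s g)) = fun g => (ψ₀ : M → ℂ) g * (l g : ℂ) := by
    intro s
    refine exists_linear_mul_eq (N.subgroupOf M) (fun a b => hab a a.2 b b.2) ψ₀.2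
      (isIrrCharacter_comp_equiv (tw s) ψ₀.2) hθ' hψ₀ ?_
    let eS : N.subgroupOf M ≃* N.subgroupOf M :=
      eN.trans ((twistEquiv N (hSN s.2)).trans eN.symm)
    rw [← classInner_comp_equiv eS (fun x : N.subgroupOf M => (ψ₀ : M → ℂ) x)
      (fun x => θ (eN x))] at hψ₀
    intro h0
    apply hψ₀
    rw [← h0]
    congr 1
    funext x
    exact hinv (s : Γ) s.2 (eN x) (eN (eS x)) (by simp [eS, coe_twistEquiv])
  choose l hlN hl using htw
  -- the stabilizer of `ψ₀` among linear characters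
  let St : Subgroup (M →* ℂˣ) :=
    { carrier := {a | ∀ g, (ψ₀ : M → ℂ) g * (a g : ℂ) = (ψ₀ : M → ℂ) g}
      one_mem' := fun g => by simp
      mul_mem' := fun {a b} ha hb g => by
        rw [MonoidHom.mul_apply, Units.val_mul, ← mul_assoc, ha, hb]
      inv_mem' := fun {a} ha g => by
        conv_lhs => rw [← ha g, MonoidHom.inv_apply, mul_assoc, ← Units.val_mul, mul_inv_cancel,
          Units.val_one, mul_one] }
  have hmk : ∀ a b : M →* ℂˣ, (∀ g, (ψ₀ : M → ℂ) g * (a g : ℂ) = (ψ₀ : M → ℂ) g * (b g : ℂ)) →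
      (a : (M →* ℂˣ) ⧸ St) = b := fun a b h => by
    rw [QuotientGroup.eq]
    intro g
    rw [MonoidHom.mul_apply, MonoidHom.inv_apply, Units.val_mul, mul_left_comm, ← h, mul_left_comm,
      ← Units.val_mul, inv_mul_cancel, Units.val_one, mul_one]
  have hmk' : ∀ a b : M →* ℂˣ, (a : (M →* ℂˣ) ⧸ St) = b →
      ∀ g, (ψ₀ : M → ℂ) g * (a g : ℂ) = (ψ₀ : M → ℂ) g * (b g : ℂ) := fun a b h g => by
    have h1 := QuotientGroup.eq.mp h g
    rw [MonoidHom.mul_apply, MonoidHom.inv_apply, Units.val_mul] at h1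
    calc (ψ₀ : M → ℂ) g * (a g : ℂ)
        = (ψ₀ : M → ℂ) g * (((a g)⁻¹ : ℂˣ) * (b g : ℂ)) * (a g : ℂ) := by rw [h1]
      _ = (ψ₀ : M → ℂ) g * (b g : ℂ) * ((((a g)⁻¹ : ℂˣ) : ℂ) * (a g : ℂ)) := by ring
      _ = (ψ₀ : M → ℂ) g * (b g : ℂ) := by
        rw [← Units.val_mul, inv_mul_cancel, Units.val_one, mul_one]
  haveI hSt : St.Normal := ⟨fun a ha g => by
    have e : g * a * g⁻¹ = a := MonoidHom.ext fun x => by
      simp only [MonoidHom.mul_apply, MonoidHom.inv_apply]
      rw [mul_comm (g x), mul_inv_cancel_right]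
    rwa [e]⟩
  let act : S → ((M →* ℂˣ) →* (M →* ℂˣ)) := fun s =>
    { toFun := fun a => a.comp (tw s).toMonoidHom
      map_one' := MonoidHom.ext fun g => rfl
      map_mul' := fun a b => MonoidHom.ext fun g => rfl }
  have hcocycle : ∀ s t : S,
      ((l (s * t) : M →* ℂˣ) : (M →* ℂˣ) ⧸ St) = ((l t * act t (l s) : M →* ℂˣ) : _) := by
    intro s t
    refine hmk _ _ fun g => ?_
    have h1 := congrFun (hl (s * t)) g
    have h2 := congrFun (hl s) (tw t g)
    have h3 := congrFun (hl t) g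
    rw [← h1]
    have h4 : tw (s * t) g = tw s (tw t g) := Subtype.ext (by
      simp only [tw, coe_twistEquiv, Subgroup.coe_mul]; group)
    rw [h4, h2, h3, MonoidHom.mul_apply, Units.val_mul, mul_assoc]
    rfl
  let μ : M →* ℂˣ := ∏ s, l s
  have hμN : ∀ n ∈ N.subgroupOf M, μ n = 1 := fun n hn => by
    rw [show μ n = ∏ s, l s n from by simp [μ, MonoidHom.finsetProd_apply]]
    exact Finset.prod_eq_one fun s _ => hlN s n hn
  have hμ : ∀ t, ((l t ^ Nat.card S * act t μ : M →* ℂˣ) : (M →* ℂˣ) ⧸ St) = μ := by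
    intro t
    rw [show l t ^ Nat.card S * act t μ = ∏ s, (l t * act t (l s)) by
      rw [Finset.prod_mul_distrib, Finset.prod_const, Finset.card_univ,
        ← Nat.card_eq_fintype_card, map_prod]]
    rw [show ((∏ s, (l t * act t (l s)) : M →* ℂˣ) : (M →* ℂˣ) ⧸ St) =
        ∏ s, (((l t * act t (l s)) : M →* ℂˣ) : (M →* ℂˣ) ⧸ St) from
      map_prod (QuotientGroup.mk' St) _ _]
    rw [show ((μ : M →* ℂˣ) : (M →* ℂˣ) ⧸ St) = ∏ s, ((l s : M →* ℂˣ) : (M →* ℂˣ) ⧸ St) from
      map_prod (QuotientGroup.mk' St) _ _]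
    simp only [← hcocycle]
    exact Fintype.prod_equiv (Equiv.mulRight t) _ _ fun s => rfl
  obtain ⟨r, v, hrv⟩ := Nat.isCoprime_iff_coprime.mpr hcop.symm
  have hexp : ∀ a : M →* ℂˣ, a ^ ((Nat.card S : ℤ) * r) = a := fun a =>
    zpow_mul_eq_self a hrv (MonoidHom.ext fun g => by
      show (a ^ Nat.card M) g = _
      rw [MonoidHom.pow_apply, ← map_pow, pow_card_eq_one', map_one, MonoidHom.one_apply])
  refine ⟨fun g => (ψ₀ : M → ℂ) g * ((μ ^ r) g : ℂ), isIrrCharacter_mul_linear ψ₀.2 (μ ^ r), ?_,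
    fun s hs g g' hg => ?_⟩
  · intro h0
    apply hψ₀
    rw [← classInner_comp_equiv eN] at h0
    rw [← h0]
    congr 1
    funext x
    show _ = (ψ₀ : M → ℂ) (Subgroup.inclusion hNM (eN x)) *
      ((μ ^ r) (Subgroup.inclusion hNM (eN x)) : ℂ)
    rw [show Subgroup.inclusion hNM (eN x) = (x : M) from Subtype.ext rfl, MonoidHom.zpow_apply,
      hμN _ x.2, one_zpow, Units.val_one, mul_one]
  · obtain rfl : g' = tw ⟨s, hs⟩ g := Subtype.ext hg
    have h1 := congrFun (hl ⟨s, hs⟩) g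
    show (ψ₀ : M → ℂ) (tw ⟨s, hs⟩ g) * ((μ ^ r) (tw ⟨s, hs⟩ g) : ℂ) = _
    rw [h1, mul_assoc, ← Units.val_mul]
    refine hmk' (l ⟨s, hs⟩ * act ⟨s, hs⟩ (μ ^ r)) (μ ^ r) ?_ g
    have h2 := hμ ⟨s, hs⟩
    rw [QuotientGroup.mk_mul, QuotientGroup.mk_pow] at h2
    rw [QuotientGroup.mk_mul, map_zpow (act ⟨s, hs⟩), QuotientGroup.mk_zpow, QuotientGroup.mk_zpow]
    conv_lhs => arg 1; rw [← hexp (l ⟨s, hs⟩)]
    rw [QuotientGroup.mk_zpow, zpow_mul, zpow_natCast, ← mul_zpow, h2]

/-- Coprime operators and a solvable layer. -/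
theorem exists_inv_over_of_solvable_layer {S G : Subgroup Γ} [Fintype G]
    (hSG : S ≤ Subgroup.normalizer (G : Set Γ)) (hcop : (Nat.card G).Coprime (Nat.card S))
    (N : Subgroup Γ) [Fintype N] (hNG : N ≤ G) (hGN : G ≤ Subgroup.normalizer (N : Set Γ))
    (hSN : S ≤ Subgroup.normalizer (N : Set Γ))
    (hsol : ∃ k, (derivedSeries G k).map G.subtype ≤ N) {θ : N → ℂ} (hθ : IsIrrCharacter N θ)
    (hinv : IsInvOn S N θ) :
    ∃ χ : G → ℂ, IsIrrCharacter G χ ∧
      classInner (fun n : N => χ (Subgroup.inclusion hNG n)) θ ≠ 0 ∧ IsInvOn S G χ := by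
  classical
  obtain ⟨k, hk⟩ := hsol
  induction k generalizing N with
  | zero =>
    rw [derivedSeries_zero, ← MonoidHom.range_eq_map, Subgroup.range_subtype] at hk
    have hNG' : N = G := le_antisymm hNG hk
    subst hNG'
    refine ⟨θ, hθ, ?_, hinv⟩
    convert (classInner_irr_self hθ).trans_ne one_ne_zero using 2
    funext n
    exact congrArg θ (Subtype.ext rfl)
  | succ k ih =>
    let L : Subgroup Γ := (derivedSeries G k).map G.subtype
    let M : Subgroup Γ := L ⊔ N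
    haveI := Fintype.ofFinite M
    have hLG : L ≤ G := Subgroup.map_subtype_le _
    have hNM : N ≤ M := le_sup_right
    have hMG : M ≤ G := sup_le hLG hNG
    have hLnorm : ∀ x ∈ Subgroup.normalizer (G : Set Γ), ∀ y ∈ L, x * y * x⁻¹ ∈ L := by
      rintro x hx _ ⟨y, hy, rfl⟩
      refine ⟨twistEquiv G hx y, ?_, rfl⟩
      exact map_derivedSeries_le_derivedSeries (twistEquiv G hx).toMonoidHom k ⟨y, hy, rfl⟩
    have hnorm : ∀ X : Subgroup Γ, X ≤ Subgroup.normalizer (G : Set Γ) →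
        X ≤ Subgroup.normalizer (N : Set Γ) → X ≤ Subgroup.normalizer (M : Set Γ) := by
      intro X hXG hXN x hx
      have hmap : ∀ y ∈ Subgroup.normalizer (G : Set Γ), y ∈ Subgroup.normalizer (N : Set Γ) →
          ∀ z ∈ M, y * z * y⁻¹ ∈ M := by
        intro y hyG hyN z hz
        have hle : M ≤ M.comap (MulAut.conj y).toMonoidHom :=
          sup_le (fun w hw => Subgroup.mem_sup_left (hLnorm y hyG w hw))
            (fun w hw => Subgroup.mem_sup_right ((Subgroup.mem_normalizer_iff.mp hyN w).mp hw))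
        exact hle hz
      rw [Subgroup.mem_normalizer_iff]
      intro z
      refine ⟨hmap x (hXG hx) (hXN hx) z, fun hz => ?_⟩
      have := hmap x⁻¹ (inv_mem (hXG hx)) (inv_mem (hXN hx)) _ hz
      rwa [inv_inv, show x⁻¹ * (x * z * x⁻¹) * x = z by group] at this
    have hab : ∀ a ∈ M, ∀ b ∈ M, a * b * a⁻¹ * b⁻¹ ∈ N := by
      haveI hn : (N.subgroupOf G).Normal := Subgroup.normal_subgroupOf_of_le_normalizer hGN
      let q := QuotientGroup.mk' (N.subgroupOf G)
      have hA : (M.subgroupOf G) = derivedSeries G k ⊔ N.subgroupOf G := by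
        apply Subgroup.map_injective G.subtype_injective
        rw [Subgroup.map_sup, Subgroup.map_subgroupOf_eq_of_le hMG,
          Subgroup.map_subgroupOf_eq_of_le hNG]
      have hq : ∀ a : G, (a : Γ) ∈ M → ∃ d ∈ derivedSeries G k, q a = q d := by
        intro a ha
        have ha' : a ∈ M.subgroupOf G := ha
        rw [hA] at ha'
        obtain ⟨d, hd, n, hn', rfl⟩ := Subgroup.mem_sup_of_normal_right.mp ha'
        exact ⟨d, hd, by rw [map_mul, (QuotientGroup.eq_one_iff n).mpr hn' |> (fun h => (h : q n = 1)), mul_one]⟩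
      intro a ha b hb
      obtain ⟨d, hd, ed⟩ := hq ⟨a, hMG ha⟩ ha
      obtain ⟨e, he, ee⟩ := hq ⟨b, hMG hb⟩ hb
      have h1 : q ((⟨a, hMG ha⟩ : G) * ⟨b, hMG hb⟩ * (⟨a, hMG ha⟩ : G)⁻¹ * (⟨b, hMG hb⟩ : G)⁻¹) = 1 := by
        rw [show q ((⟨a, hMG ha⟩ : G) * ⟨b, hMG hb⟩ * (⟨a, hMG ha⟩ : G)⁻¹ * (⟨b, hMG hb⟩ : G)⁻¹) =
          q (d * e * d⁻¹ * e⁻¹) by simp only [map_mul, map_inv, ed, ee]]
        refine (QuotientGroup.eq_one_iff _).mpr (hk ⟨d * e * d⁻¹ * e⁻¹, ?_, rfl⟩)
        rw [derivedSeries_succ]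
        exact Subgroup.commutator_mem_commutator hd he
      exact (QuotientGroup.eq_one_iff (N := N.subgroupOf G) _).mp h1
    have hcopM : (Nat.card M).Coprime (Nat.card S) :=
      hcop.coprime_dvd_left (Subgroup.card_dvd_of_le hMG)
    have hSM := hnorm S hSG hSN
    obtain ⟨ψ, hψ, hψθ, hψinv⟩ := exists_inv_over_abelian hSM hcopM hNM (hMG.trans hGN) hab hSN hθ hinv
    obtain ⟨χ, hχ, hχψ, hχinv⟩ := ih M hMG (hnorm G Subgroup.le_normalizer hGN) hSM hψ hψinv le_sup_left
    refine ⟨χ, hχ, ?_, hχinv⟩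
    choose a ha using fun η : IrrCharacter M =>
      (hχ.isCharacter.comp (Subgroup.inclusion hMG)).exists_nat_classInner η.2.isCharacter
    choose b hb using fun η : IrrCharacter M =>
      (η.2.isCharacter.comp (Subgroup.inclusion hNM)).exists_nat_classInner hθ.isCharacter
    have h1 := isCharacter_expansion (Subgroup.inclusion hNM)
      (hχ.isCharacter.comp (Subgroup.inclusion hMG)).isClassFunction θ
    simp only [ha, hb] at h1
    intro h0
    have h2 : (∑ η, (a η : ℂ) * b η) = 0 := h1.symm.trans h0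
    have h2' : ∑ η, a η * b η = 0 := by exact_mod_cast h2
    have h3 := Finset.sum_eq_zero_iff.mp h2' ⟨ψ, hψ⟩ (Finset.mem_univ _)
    rcases Nat.mul_eq_zero.mp h3 with h | h
    · exact hχψ ((ha ⟨ψ, hψ⟩).trans (by rw [h, Nat.cast_zero]))
    · exact hψθ ((hb ⟨ψ, hψ⟩).trans (by rw [h, Nat.cast_zero]))

/-- The coprime splitting of a number. -/
theorem exists_coprime_split (n : ℕ) {o : ℕ} (ho : o ≠ 0) :
    ∃ a b : ℕ, o = a * b ∧ a.Coprime n ∧ a.Coprime b ∧ ∀ m : ℕ, m.Coprime n → b.Coprime m := by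
  induction o using Nat.strong_induction_on with
  | _ o ih =>
    by_cases h : o.Coprime n
    · exact ⟨o, 1, (mul_one o).symm, h, Nat.coprime_one_right o, fun m _ => Nat.coprime_one_left m⟩
    obtain ⟨q, hq, hqo, hqn⟩ := Nat.Prime.not_coprime_iff_dvd.mp h
    obtain ⟨c, rfl⟩ := hqo
    have hc : c ≠ 0 := fun e => ho (by rw [e, mul_zero])
    obtain ⟨a, b, rfl, ha, hab, hb⟩ := ih c (lt_mul_left (Nat.pos_of_ne_zero hc) hq.one_lt) hc
    refine ⟨a, q * b, by ring, ha, Nat.Coprime.mul_right ?_ hab, fun m hm =>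
      Nat.Coprime.mul_left ?_ (hb m hm)⟩
    · exact (Nat.Coprime.coprime_dvd_right hqn ha)
    · exact Nat.Coprime.coprime_dvd_left hqn hm.symm

/-- An invariant linear character of a normal subgroup lies under an invariant character. -/
theorem exists_invariant_over_linear {D : Type u} [Group D] [Finite D] (A G : Subgroup D)
    [hA : A.Normal] [hG : G.Normal] [Fintype A] [Fintype G] (hAG : A ≤ G) (l : A →* ℂˣ)
    (hl : ∀ (g : D) (a : A), l (MulAut.conjNormal g a) = l a)
    (hcop : G.index.Coprime (A.relIndex G))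
    (hsolv : Group.IsSolvable (D ⧸ G) ∨ ∃ k, (derivedSeries G k).map G.subtype ≤ A) :
    ∃ Φ : G → ℂ, IsIrrCharacter G Φ ∧
      classInner (fun a : A => Φ (Subgroup.inclusion hAG a)) (fun a => (l a : ℂ)) ≠ 0 ∧
      ∀ (g : D) (x : G), Φ (MulAut.conjNormal g x) = Φ x := by
  classical
  obtain ⟨a, b, hab, han, habc, hb⟩ :=
    exists_coprime_split G.index (o := orderOf l) (orderOf_pos_iff.mpr (isOfFinOrder_iff_pow_eq_one.mpr
      ⟨Nat.card A, Nat.card_pos, MonoidHom.ext fun x => by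
        rw [MonoidHom.pow_apply, ← map_pow, pow_card_eq_one', map_one, MonoidHom.one_apply]⟩)).ne'
  obtain ⟨u, v, huv⟩ := Nat.isCoprime_iff_coprime.mpr habc
  set l₁ : A →* ℂˣ := l ^ (v * b) with hl₁
  set l₂ : A →* ℂˣ := l ^ (u * a) with hl₂
  obtain ⟨hl12', hl₁a', hl₂b'⟩ := split_zpow l huv (hab ▸ pow_orderOf_eq_one l)
  have hl12 : l₁ * l₂ = l := hl12'
  have hl₁a : l₁ ^ a = 1 := hl₁a'
  have hl₂b : l₂ ^ b = 1 := hl₂b'
  have hl₁inv : ∀ (g : D) (x : A), l₁ (MulAut.conjNormal g x) = l₁ x := fun g x => by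
    simp only [hl₁, MonoidHom.zpow_apply, hl]
  have hl₂inv : ∀ (g : D) (x : A), l₂ (MulAut.conjNormal g x) = l₂ x := fun g x => by
    simp only [hl₂, MonoidHom.zpow_apply, hl]
  have hbm : b.Coprime (A.relIndex G) := hb _ hcop.symm
  -- extend the part of order prime to the index of `A`
  let e := Subgroup.subgroupOfEquivOfLe hAG
  haveI : (A.subgroupOf G).Normal := hA.subgroupOf G
  obtain ⟨μ, hμ, hμo⟩ := exists_linear_extension_coprime (l₂.comp e.toMonoidHom) (fun g n => by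
    show l₂ (e (MulAut.conjNormal g n)) = l₂ (e n)
    rw [← hl₂inv (g : D) (e n)]
    congr 1) ((hbm.symm).coprime_dvd_right (orderOf_dvd_of_pow_eq_one (by
      refine MonoidHom.ext fun x => ?_
      rw [MonoidHom.pow_apply, MonoidHom.comp_apply, ← MonoidHom.pow_apply, hl₂b]; rfl)))
  have hμb : μ ^ b = 1 := by
    refine (orderOf_dvd_iff_pow_eq_one (x := μ) (n := b)).mp ?_
    rw [hμo]
    refine orderOf_dvd_of_pow_eq_one (MonoidHom.ext fun x => ?_)
    rw [MonoidHom.pow_apply, MonoidHom.comp_apply, ← MonoidHom.pow_apply, hl₂b]; rfl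
  have hμinv : ∀ (g : D) (x : G), μ (MulAut.conjNormal g x) = μ x := by
    intro g x
    set q : G →* ℂˣ := μ.comp (MulAut.conjNormal g).toMonoidHom * μ⁻¹ with hq
    have hqA : ∀ n ∈ A.subgroupOf G, q n = 1 := fun n hn => by
      have hm : MulAut.conjNormal g n ∈ A.subgroupOf G := hA.conj_mem _ hn g
      rw [hq, MonoidHom.mul_apply, MonoidHom.inv_apply, mul_inv_eq_one, MonoidHom.comp_apply,
        MulEquiv.coe_toMonoidHom, hμ ⟨_, hm⟩, hμ ⟨n, hn⟩, MonoidHom.comp_apply, MonoidHom.comp_apply,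
        ← hl₂inv g (e.toMonoidHom ⟨n, hn⟩)]
      congr 1
    have h1 := pow_index_eq_one_of_trivial q hqA x
    have h2 : q x ^ b = 1 := by
      rw [hq, MonoidHom.mul_apply, mul_pow, MonoidHom.inv_apply, inv_pow, MonoidHom.comp_apply,
        ← MonoidHom.pow_apply, ← MonoidHom.pow_apply, hμb]
      simp
    have h3 := pow_gcd_eq_one.mpr ⟨h1, h2⟩
    have hco : Nat.Coprime (A.subgroupOf G).index b := hbm.symm
    rwa [hco.gcd_eq_one, pow_one, hq, MonoidHom.mul_apply, MonoidHom.inv_apply,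
      mul_inv_eq_one] at h3
  -- factor by the kernel of the other part
  let Z : Subgroup D := l₁.ker.map A.subtype
  haveI hZ : Z.Normal := ⟨by
    rintro _ ⟨z, hz, rfl⟩ g
    exact ⟨MulAut.conjNormal g z, by
      rw [SetLike.mem_coe, MonoidHom.mem_ker] at hz ⊢; rw [hl₁inv, hz], rfl⟩⟩
  let mk : D →* D ⧸ Z := QuotientGroup.mk' Z
  have hmks : Function.Surjective mk := QuotientGroup.mk'_surjective Z
  let Gb : Subgroup (D ⧸ Z) := G.map mk
  let Ab : Subgroup (D ⧸ Z) := A.map mk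
  haveI := Fintype.ofFinite Gb
  haveI := Fintype.ofFinite Ab
  haveI hGbN : Gb.Normal := hG.map mk hmks
  haveI hAbN : Ab.Normal := hA.map mk hmks
  have hZA : Z ≤ A := Subgroup.map_subtype_le _
  have hker : mk.ker = Z := QuotientGroup.ker_mk' Z
  have hidx : Gb.index = G.index := Subgroup.index_map_eq G hmks (by rw [hker]; exact hZA.trans hAG)
  let πA : A →* Ab := mk.subgroupMap A
  have hπA : Function.Surjective πA := mk.subgroupMap_surjective A
  have hπAker : πA.ker ≤ l₁.ker := fun x hx => by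
    have h1 : mk x = 1 := congrArg Subtype.val (MonoidHom.mem_ker.mp hx)
    have h2 : (x : D) ∈ Z := hker ▸ MonoidHom.mem_ker.mpr h1
    obtain ⟨z, hz, hzx⟩ := h2
    rwa [← Subtype.ext hzx]
  let lb : Ab →* ℂˣ := πA.liftOfSurjective hπA ⟨l₁, hπAker⟩
  have hlb : ∀ x, lb (πA x) = l₁ x := fun x =>
    πA.liftOfRightInverse_comp_apply _ _ ⟨l₁, hπAker⟩ x
  have hAbcard : (Nat.card Ab).Coprime G.index := by
    rw [Nat.coprime_iff_gcd_eq_one]
    by_contra hne
    obtain ⟨q, hq, hqA, hqn⟩ := Nat.Prime.not_coprime_iff_dvd.mp hne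
    haveI := Fact.mk hq
    obtain ⟨y, hy⟩ := exists_prime_orderOf_dvd_card' (G := Ab) q hqA
    obtain ⟨x, rfl⟩ := hπA y
    have hya : (πA x) ^ a = 1 := by
      rw [← map_pow]
      refine Subtype.ext ((QuotientGroup.eq_one_iff _).mpr ⟨x ^ a, ?_, rfl⟩)
      rw [SetLike.mem_coe, MonoidHom.mem_ker, map_pow, ← MonoidHom.pow_apply, hl₁a]; rfl
    exact hq.one_lt.ne' (Nat.eq_one_of_dvd_one (han ▸ Nat.dvd_gcd
      (hy ▸ orderOf_dvd_of_pow_eq_one hya) hqn))
  have hAbGb : Ab ≤ Gb := Subgroup.map_mono hAG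
  have hGbcop : (Nat.card Gb).Coprime Gb.index := by
    rw [hidx, ← Subgroup.card_mul_index (Ab.subgroupOf Gb),
      Nat.card_congr (Subgroup.subgroupOfEquivOfLe hAbGb).toEquiv]
    refine Nat.Coprime.mul_left hAbcard (Nat.Coprime.coprime_dvd_left ?_ hcop.symm)
    show Ab.relIndex Gb ∣ _
    rw [Subgroup.relIndex_map_map, hker, sup_eq_left.mpr hZA, sup_eq_left.mpr (hZA.trans hAG)]
  obtain ⟨S, hS⟩ := Subgroup.exists_right_complement'_of_coprime hGbcop
  haveI := Fintype.ofFinite S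
  have hScop : (Nat.card Gb).Coprime (Nat.card S) := hS.symm.index_eq_card ▸ hGbcop
  have hlbinv : ∀ (y : D ⧸ Z) (x : Ab), lb (MulAut.conjNormal y x) = lb x := by
    intro y x
    obtain ⟨g, rfl⟩ := hmks y
    obtain ⟨z, rfl⟩ := hπA x
    rw [show MulAut.conjNormal (mk g) (πA z) = πA (MulAut.conjNormal g z) from Subtype.ext rfl,
      hlb, hlb, hl₁inv]
  have hlbi : IsInvOn S Ab (fun x => (lb x : ℂ)) := fun s _ g g' hg => by
    rw [show g' = MulAut.conjNormal s g from Subtype.ext hg]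
    exact congrArg Units.val (hlbinv s g)
  have hnormal : ∀ (X Y : Subgroup (D ⧸ Z)) [Y.Normal], X ≤ Subgroup.normalizer (Y : Set (D ⧸ Z)) :=
    fun X Y _ => by rw [Subgroup.normalizer_eq_top]; exact le_top
  obtain ⟨Φb, hΦb, hΦbl, hΦbi⟩ : ∃ χ : Gb → ℂ, IsIrrCharacter Gb χ ∧
      classInner (fun n : Ab => χ (Subgroup.inclusion hAbGb n)) (fun x => (lb x : ℂ)) ≠ 0 ∧
      IsInvOn S Gb χ := by
    rcases hsolv with hq | hq
    · refine exists_inv_over ?_ Gb (hnormal S Gb) hScop Ab hAbGb (hnormal Gb Ab) (hnormal S Ab)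
        (isIrrCharacter_linear lb) hlbi
      haveI := hq
      haveI : Group.IsSolvable ((D ⧸ Z) ⧸ Gb) := Group.isSolvable_of_surjective
        (f := QuotientGroup.map G Gb mk (Subgroup.le_comap_map mk G)) (fun y => by
          obtain ⟨y, rfl⟩ := QuotientGroup.mk_surjective y
          obtain ⟨d, rfl⟩ := hmks y
          exact ⟨(d : D ⧸ G), rfl⟩)
      refine Group.isSolvable_of_ker_le_range (1 : PUnit.{u+1} →* S)
        ((QuotientGroup.mk' Gb).comp S.subtype) fun x hx => ?_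
      have h1 : (x : D ⧸ Z) ∈ Gb ⊓ S := ⟨(QuotientGroup.eq_one_iff _).mp hx, x.2⟩
      rw [hS.disjoint.eq_bot, Subgroup.mem_bot] at h1
      exact ⟨1, (Subtype.ext h1).symm⟩
    · obtain ⟨k, hk⟩ := hq
      refine exists_inv_over_of_solvable_layer (hnormal S Gb) hScop Ab hAbGb (hnormal Gb Ab)
        (hnormal S Ab) ⟨k, ?_⟩ (isIrrCharacter_linear lb) hlbi
      rintro _ ⟨y, hy, rfl⟩
      rw [SetLike.mem_coe, ← map_derivedSeries_eq (mk.subgroupMap_surjective G)] at hy
      obtain ⟨x, hx, rfl⟩ := hy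
      exact ⟨x, hk ⟨x, hx, rfl⟩, rfl⟩
  have hΦinv : ∀ (y : D ⧸ Z) (x : Gb), Φb (MulAut.conjNormal y x) = Φb x := by
    intro y x
    have hGbinv : Gb ≤ invStab Gb Φb := fun h hh =>
      ⟨hnormal Gb Gb hh, fun g => by
        rw [show twistEquiv Gb (hnormal Gb Gb hh) g = ⟨h, hh⟩ * g * ⟨h, hh⟩⁻¹ from Subtype.ext rfl]
        exact hΦb.isClassFunction _ _⟩
    have h1 : Gb ⊔ S ≤ invStab Gb Φb := sup_le hGbinv ((isInvOn_iff (hnormal S Gb)).mp hΦbi)
    obtain ⟨hy, hf⟩ := h1 (hS.sup_eq_top ▸ Subgroup.mem_top y)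
    rw [← hf x]
    exact congrArg Φb (Subtype.ext rfl)
  let πG : G →* Gb := mk.subgroupMap G
  refine ⟨fun x => Φb (πG x) * (μ x : ℂ),
    isIrrCharacter_mul_linear (hΦb.comp_surjective πG (mk.subgroupMap_surjective G)) μ, ?_,
    fun g x => ?_⟩
  · have hnorm : ∀ x : A, ((l₂ x : ℂˣ) : ℂ) * conj ((l₂ x : ℂˣ) : ℂ) = 1 := fun x => by
      have h1 : ((l₂ x : ℂˣ) : ℂ) ^ Nat.card A = 1 := by
        rw [← Units.val_pow_eq_pow_val, ← map_pow, pow_card_eq_one', map_one, Units.val_one]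
      rw [Complex.mul_conj', Complex.norm_eq_one_of_pow_eq_one h1 Nat.card_pos.ne']
      simp
    have heq : classInner (fun x : A => Φb (πG (Subgroup.inclusion hAG x)) *
        (μ (Subgroup.inclusion hAG x) : ℂ)) (fun x => (l x : ℂ)) =
        classInner (fun x : A => Φb (Subgroup.inclusion hAbGb (πA x)))
          (fun x => (lb (πA x) : ℂ)) := by
      simp only [classInner]
      congr 1
      refine Finset.sum_congr rfl fun x _ => ?_
      rw [show μ (Subgroup.inclusion hAG x) = l₂ x by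
        have := hμ (e.symm x)
        rw [MonoidHom.comp_apply, MulEquiv.coe_toMonoidHom, MulEquiv.apply_symm_apply] at this
        rw [← this]
        exact congrArg μ (Subtype.ext rfl), ← hl12, MonoidHom.mul_apply, Units.val_mul, map_mul, hlb]
      rw [show πG (Subgroup.inclusion hAG x) = Subgroup.inclusion hAbGb (πA x) from Subtype.ext rfl]
      calc Φb (Subgroup.inclusion hAbGb (πA x)) * ((l₂ x : ℂˣ) : ℂ) *
            (conj ((l₁ x : ℂˣ) : ℂ) * conj ((l₂ x : ℂˣ) : ℂ))
          = Φb (Subgroup.inclusion hAbGb (πA x)) * conj ((l₁ x : ℂˣ) : ℂ) *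
            (((l₂ x : ℂˣ) : ℂ) * conj ((l₂ x : ℂˣ) : ℂ)) := by ring
        _ = _ := by rw [hnorm, mul_one]
    rw [heq, classInner_comp_surjective πA hπA (fun y => Φb (Subgroup.inclusion hAbGb y))
      (fun y => (lb y : ℂ))]
    exact hΦbl
  · show Φb (πG (MulAut.conjNormal g x)) * (μ (MulAut.conjNormal g x) : ℂ) = _
    rw [hμinv, show πG (MulAut.conjNormal g x) = MulAut.conjNormal (mk g) (πG x) from
      Subtype.ext rfl, hΦinv]

/-- An invariant character of `N` lies under an invariant character of `G` when the two layers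
have coprime orders and one of them is solvable. -/
theorem exists_invariant_over {D : Type u} [Group D] [Fintype D] (G N : Subgroup D) [hG : G.Normal]
    [hN : N.Normal] [Fintype G] [Fintype N] (hNG : N ≤ G)
    (hcop : G.index.Coprime (N.relIndex G))
    (hsolv : Group.IsSolvable (D ⧸ G) ∨ ∃ k, (derivedSeries G k).map G.subtype ≤ N) {θ : N → ℂ}
    (hθ : IsIrrCharacter N θ) (hinv : ∀ (x : D) (n : N), θ (MulAut.conjNormal x n) = θ n) :
    ∃ χ : G → ℂ, IsIrrCharacter G χ ∧
      classInner (fun n : N => χ (Subgroup.inclusion hNG n)) θ ≠ 0 ∧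
      ∀ (x : D) (g : G), χ (MulAut.conjNormal x g) = χ g := by
  classical
  obtain ⟨m, σ, hσ, rfl⟩ := hθ
  haveI := hσ
  haveI := finite_detOne σ
  haveI := Fintype.ofFinite (detOne σ)
  haveI := extGroup_nontrivial σ
  let π := detProj σ
  have hπ : Function.Surjective π := detProj_surjective σ hinv
  let A : Subgroup (detOne σ) := N.comap π
  let Gs : Subgroup (detOne σ) := G.comap π
  haveI := Fintype.ofFinite A
  haveI := Fintype.ofFinite Gs
  haveI : A.Normal := hN.comap π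
  haveI : Gs.Normal := hG.comap π
  have hAG : A ≤ Gs := Subgroup.comap_mono hNG
  have hne : ∀ n : N, σ n ≠ 0 := fun n h => by
    have h1 : σ n * σ n⁻¹ = 1 := by rw [← map_mul, mul_inv_cancel, map_one]
    rw [h, zero_mul] at h1
    exact zero_ne_one h1
  choose c hc0 hc using fun x : A => exists_scalar_detRep σ (x := (x : detOne σ)) x.2
  let pN : A →* N :=
    { toFun := fun x => ⟨π x, x.2⟩
      map_one' := Subtype.ext (map_one π)
      map_mul' := fun x y => Subtype.ext (map_mul π _ _) }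
  have hc' : ∀ x : A, detRep σ (x : detOne σ) = c x • σ (pN x) := hc
  have huniq : ∀ (x : A) (t : ℂ), detRep σ (x : detOne σ) = t • σ (pN x) → c x = t := fun x t h =>
    smul_left_injective ℂ (hne (pN x)) ((hc' x).symm.trans h)
  let l₀ : A →* ℂˣ := MonoidHom.toHomUnits
    { toFun := c
      map_one' := huniq 1 1 (by rw [OneMemClass.coe_one, map_one, map_one, map_one, one_smul])
      map_mul' := fun x y => huniq _ _ (by
        rw [Subgroup.coe_mul, map_mul, hc' x, hc' y, smul_mul_smul_comm, ← map_mul σ, ← map_mul pN]) }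
  have hl₀ : ∀ x, (l₀ x : ℂ) = c x := fun x => rfl
  have hinv₀ : ∀ (g : detOne σ) (x : A), l₀ (MulAut.conjNormal g x) = l₀ x := by
    intro g x
    apply Units.ext
    rw [hl₀, hl₀]
    refine huniq _ _ ?_
    have h2 : pN (MulAut.conjNormal g x) = MulAut.conjNormal (π g) (pN x) := Subtype.ext (by
      show π (g * (x : detOne σ) * g⁻¹) = π g * π (x : detOne σ) * (π g)⁻¹
      rw [map_mul, map_mul, map_inv])
    rw [MulAut.conjNormal_apply, map_mul, map_mul, hc' x, mul_smul_comm, smul_mul_assoc, h2,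
      detRep_mul_comm σ g, mul_assoc, ← map_mul, mul_inv_cancel, map_one, mul_one]
  obtain ⟨Φ, hΦ, hΦl, hΦinv⟩ := exists_invariant_over_linear A Gs hAG l₀⁻¹
    (fun g x => by simp only [MonoidHom.inv_apply, hinv₀])
    (by
      rw [Subgroup.index_comap_of_surjective _ hπ, Subgroup.relIndex_comap,
        Subgroup.map_comap_eq_self_of_surjective hπ]
      exact hcop)
    (by
      rcases hsolv with h | ⟨k, hk⟩
      · left
        haveI := h
        refine Group.isSolvable_of_ker_le_range (1 : PUnit.{u+1} →* detOne σ ⧸ Gs)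
          (QuotientGroup.map Gs G π le_rfl) fun x hx => ?_
        obtain ⟨d, rfl⟩ := QuotientGroup.mk_surjective x
        refine ⟨1, ((QuotientGroup.eq_one_iff d).mpr ?_).symm⟩
        exact (QuotientGroup.eq_one_iff (π d)).mp hx
      · right
        refine ⟨k, ?_⟩
        rintro _ ⟨y, hy, rfl⟩
        let f : Gs →* G :=
          { toFun := fun x => ⟨π x, x.2⟩
            map_one' := Subtype.ext (map_one π)
            map_mul' := fun x z => Subtype.ext (map_mul π _ _) }
        exact hk ⟨f y, map_derivedSeries_le_derivedSeries f k ⟨y, hy, rfl⟩, rfl⟩)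
  set R : Gs → ℂ := fun x => (detRep σ).character (x : detOne σ) with hR
  obtain ⟨r, ρ, hρ, hρΦ⟩ := hΦ
  haveI := hρ
  have hΦchar : IsIrrCharacter Gs Φ := ⟨r, ρ, hρ, hρΦ⟩
  haveI : (A.subgroupOf Gs).Normal := (inferInstance : A.Normal).subgroupOf Gs
  haveI := Fintype.ofFinite (A.subgroupOf Gs)
  let eA := Subgroup.subgroupOfEquivOfLe hAG
  have hres : ∀ x : A, Φ (Subgroup.inclusion hAG x) = Φ 1 * ((l₀⁻¹ : A →* ℂˣ) x : ℂ) := by
    have hlinv : ∀ g : Gs, conjTwist (A.subgroupOf Gs) (fun y => ((l₀⁻¹ : A →* ℂˣ) (eA y) : ℂ)) g =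
        fun y => ((l₀⁻¹ : A →* ℂˣ) (eA y) : ℂ) := by
      intro g
      funext y
      rw [conjTwist_apply]
      simp only [MonoidHom.inv_apply]
      rw [← hinv₀ (g : detOne σ) (eA y)]
      congr 3
    have hne' : classInner (fun y : A.subgroupOf Gs => Φ y)
        (fun y => ((l₀⁻¹ : A →* ℂˣ) (eA y) : ℂ)) ≠ 0 := by
      rw [← classInner_comp_equiv eA] at hΦl
      exact hΦl
    have h := clifford_invariant (A.subgroupOf Gs) hΦchar
      (isIrrCharacter_comp_equiv eA (isIrrCharacter_linear (l₀⁻¹ : A →* ℂˣ))) hlinv hne'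
    intro x
    have h1 := congrFun h 1
    have h2 := congrFun h (eA.symm x)
    simp only [Pi.smul_apply, smul_eq_mul, MulEquiv.apply_symm_apply, map_one, Units.val_one,
      mul_one, OneMemClass.coe_one] at h1 h2
    rw [← h1] at h2
    rw [show Subgroup.inclusion hAG x = ((eA.symm x : A.subgroupOf Gs) : Gs) from Subtype.ext rfl]
    exact h2
  have hunit : ∀ x : A, ‖((l₀⁻¹ : A →* ℂˣ) x : ℂ)‖ = 1 := fun x => by
    refine Complex.norm_eq_one_of_pow_eq_one (n := Nat.card A) ?_ Nat.card_pos.ne'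
    rw [← Units.val_pow_eq_pow_val, ← map_pow, pow_card_eq_one', map_one, Units.val_one]
  have hscal : ∀ z : A, ρ (Subgroup.inclusion hAG z) =
      ((l₀⁻¹ : A →* ℂˣ) z : ℂ) • LinearMap.id := by
    intro z
    have h1 : ‖ρ.character (Subgroup.inclusion hAG z)‖ = (Module.finrank ℂ (Fin r → ℂ) : ℝ) := by
      rw [hρΦ, hres, norm_mul, hunit, mul_one, ← hρΦ, Representation.char_one,
        Complex.norm_natCast]
    obtain ⟨t, ht⟩ := (norm_character_eq_iff ρ _).mp h1
    have h2 : LinearMap.trace ℂ _ (ρ (Subgroup.inclusion hAG z)) = Φ (Subgroup.inclusion hAG z) :=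
      congrFun hρΦ _
    rw [ht, map_smul, LinearMap.trace_id, smul_eq_mul, hres, ← congrFun hρΦ 1,
      Representation.char_one, mul_comm] at h2
    rw [ht, mul_left_cancel₀ (Nat.cast_ne_zero.mpr (irreducible_finrank_pos ρ).ne') h2]
  have hmul : ∀ (x : Gs) (z : A),
      Φ (x * Subgroup.inclusion hAG z) = Φ x * ((l₀⁻¹ : A →* ℂˣ) z : ℂ) := by
    intro x z
    rw [← hρΦ]
    show LinearMap.trace ℂ _ (ρ (x * Subgroup.inclusion hAG z)) = _
    rw [map_mul, hscal, show ρ x * (((l₀⁻¹ : A →* ℂˣ) z : ℂ) • LinearMap.id) =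
      ((l₀⁻¹ : A →* ℂˣ) z : ℂ) • ρ x by ext v; simp, map_smul, smul_eq_mul, mul_comm]
    rfl
  set F : Gs → ℂ := fun x => Φ x * R x with hF
  have hFirr : IsIrrCharacter Gs F := by
    refine isIrrCharacter_of_norm_one (hΦchar.isCharacter.mul
      ((isCharacter_character (detRep σ)).comp Gs.subtype)) ?_
    rw [hF, hR]
    refine (classInner_mul_detRep σ Gs.subtype (fun n => ?_) Φ Φ fun x z hz => ?_).trans
      (classInner_irr_self hΦchar)
    · obtain ⟨k, hk⟩ := hπ n
      exact ⟨⟨k, by show π k ∈ G; rw [hk]; exact hNG n.2⟩, hk⟩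
    · rw [show z = Subgroup.inclusion hAG ⟨z, hz⟩ from Subtype.ext rfl, hmul, map_mul,
        mul_mul_mul_comm, Complex.mul_conj' ((l₀⁻¹ : A →* ℂˣ) _ : ℂ), hunit]
      simp
  have hFA : ∀ z : A, F (Subgroup.inclusion hAG z) = Φ 1 * σ.character (pN z) := by
    intro z
    rw [hF]
    simp only
    rw [hres, hR]
    show _ * ((l₀⁻¹ : A →* ℂˣ) z : ℂ) * LinearMap.trace ℂ _ (detRep σ (z : detOne σ)) = _
    rw [hc' z, map_smul, smul_eq_mul, MonoidHom.inv_apply, Units.val_inv_eq_inv_val, hl₀, mul_assoc,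
      ← mul_assoc (c z)⁻¹, inv_mul_cancel₀ (hc0 z), one_mul]
    rfl
  let πG : Gs →* G :=
    { toFun := fun x => ⟨π x, x.2⟩
      map_one' := Subtype.ext (map_one π)
      map_mul' := fun x y => Subtype.ext (map_mul π _ _) }
  have hπG : Function.Surjective πG := fun g => by
    obtain ⟨d, hd⟩ := hπ g
    exact ⟨⟨d, by show π d ∈ G; rw [hd]; exact g.2⟩, Subtype.ext hd⟩
  have hFker : ∀ k ∈ πG.ker, F k = F 1 := by
    intro k hk
    have hk1 : π (k : detOne σ) = 1 := congrArg Subtype.val (MonoidHom.mem_ker.mp hk)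
    have hkA : (k : detOne σ) ∈ A := by
      show π (k : detOne σ) ∈ N
      rw [hk1]
      exact one_mem N
    rw [show k = Subgroup.inclusion hAG ⟨k, hkA⟩ from Subtype.ext rfl, hFA,
      show (1 : Gs) = Subgroup.inclusion hAG 1 from (map_one _).symm, hFA, map_one,
      show pN ⟨k, hkA⟩ = 1 from Subtype.ext hk1, map_one pN]
  obtain ⟨ψ, hψ, hψF⟩ := exists_deflate_irr (N := πG.ker) hFirr hFker
  let eG := QuotientGroup.quotientKerEquivOfSurjective πG hπG
  have hχ := isIrrCharacter_comp_equiv eG.symm hψ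
  have hχF : ∀ x : Gs, ψ (eG.symm (πG x)) = F x := fun x => by
    rw [show eG.symm (πG x) = (x : Gs ⧸ πG.ker) from (MulEquiv.symm_apply_eq eG).mpr rfl, hψF]
  refine ⟨fun g => ψ (eG.symm g), hχ, ?_, fun x g => ?_⟩
  · have hpN : Function.Surjective pN := fun n => by
      obtain ⟨d, hd⟩ := hπ n
      exact ⟨⟨d, by show π d ∈ N; rw [hd]; exact n.2⟩, Subtype.ext hd⟩
    rw [show (fun n : N => ψ (eG.symm (Subgroup.inclusion hNG n))) = Φ 1 • σ.character from
      funext fun n => by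
        obtain ⟨z, rfl⟩ := hpN n
        rw [show Subgroup.inclusion hNG (pN z) = πG (Subgroup.inclusion hAG z) from Subtype.ext rfl,
          hχF, hFA]
        rfl, classInner_smul_left, classInner_irr_self ⟨m, σ, hσ, rfl⟩, mul_one]
    exact hΦchar.apply_one_ne_zero
  · obtain ⟨d, rfl⟩ := hπ x
    obtain ⟨y, rfl⟩ := hπG g
    show ψ (eG.symm _) = ψ (eG.symm _)
    rw [show MulAut.conjNormal (π d) (πG y) = πG (MulAut.conjNormal d y) from Subtype.ext (by
      show π d * π (y : detOne σ) * (π d)⁻¹ = π (d * (y : detOne σ) * d⁻¹)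
      rw [map_mul, map_mul, map_inv]), hχF, hχF, hF, hR]
    simp only
    rw [hΦinv d y, MulAut.conjNormal_apply]
    congr 1
    exact (isCharacter_character (detRep σ)).isClassFunction _ _

end Cfsg.Lib.Char
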