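import Cfsg.Agent.Lib.Solv.FixedPointProduct
import Cfsg.Agent.Lib.Char.Clifford2
import Cfsg.Agent.Lib.Char.Ramification
import Cfsg.Agent.Lib.Char.Gallagher
import Mathlib

/-!
# Degrees of primitive characters of solvable groups and class sizes

Along a chief series the degree of a primitive character grows at most by square roots of the
orders of the noncentral chief factors, while on average an element moves at least half of each of
them.
-/

set_option autoImplicit false
set_option linter.style.haveILetI false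
set_option linter.unusedSectionVars false

namespace Cfsg.Lib.Char.PrimitiveClassSize

open Cfsg Cfsg.Lib.Char
open scoped ComplexConjugate commutatorElement

universe u

variable {G : Type u} [Group G] [Fintype G]

/-- Every constituent on a normal subgroup of a primitive character is invariant. -/
theorem inertia_eq_top {χ : G → ℂ} (hχ : IsIrrCharacter G χ)
    (hprim : ¬ ∃ H : Subgroup G, H ≠ ⊤ ∧ ∃ θ : H → ℂ, IsCharacter H θ ∧ indFun H θ = χ)
    (N : Subgroup G) [N.Normal] [Fintype N] {θ : N → ℂ} (hθ : IsIrrCharacter N θ)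
    (hc : classInner (fun n : N => χ n) θ ≠ 0) : inertia N θ = ⊤ := by
  classical
  by_contra hne
  set T := inertia N θ with hT
  haveI := Fintype.ofFinite T
  obtain ⟨ψ, hψ, -, heq, -⟩ := clifford_exists N hθ (le_inertia N hθ.isClassFunction) hT hχ hc
  exact hprim ⟨T, hne, ψ, hψ.isCharacter, heq⟩

/-- A constituent of a constituent is a constituent. -/
theorem constituent_trans {H K : Type u} [Group H] [Fintype H] [Group K] [Fintype K] (f : K →* H)
    {X : H → ℂ} (hX : IsCharacter H X) {θ : H → ℂ} (hθ : IsIrrCharacter H θ)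
    (h1 : classInner X θ ≠ 0) {φ : K → ℂ} (hφ : IsIrrCharacter K φ)
    (h2 : classInner (fun k => θ (f k)) φ ≠ 0) : classInner (fun k => X (f k)) φ ≠ 0 := by
  classical
  choose n hn using fun ξ : IrrCharacter H => hX.exists_nat_classInner ξ.2.isCharacter
  choose m hm using fun ξ : IrrCharacter H => (ξ.2.isCharacter.comp f).exists_nat_classInner hφ.isCharacter
  have e : classInner (fun k => X (f k)) φ = ((∑ ξ, n ξ * m ξ : ℕ) : ℂ) := by
    have e0 : (fun k => X (f k)) = ∑ ξ : IrrCharacter H, (n ξ : ℂ) • fun k => (ξ : H → ℂ) (f k) := by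
      funext k
      conv_lhs => rw [eq_sum_classInner (f := X) hX.isClassFunction]
      simp only [Finset.sum_apply, Pi.smul_apply, smul_eq_mul, hn]
    rw [e0, classInner_sum_left, Nat.cast_sum]
    exact Finset.sum_congr rfl fun ξ _ => by
      rw [classInner_smul_left, Nat.cast_mul]
      exact congrArg _ (hm ξ)
  rw [e, Nat.cast_ne_zero]
  intro h0
  have h3 := Finset.sum_eq_zero_iff.1 h0 ⟨θ, hθ⟩ (Finset.mem_univ _)
  rcases Nat.mul_eq_zero.1 h3 with h | h
  · exact h1 (by rw [hn ⟨θ, hθ⟩, h, Nat.cast_zero])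
  · exact h2 ((hm ⟨θ, hθ⟩).trans (by rw [h, Nat.cast_zero]))

/-- The ratio `e` of the degrees of an invariant constituent: it divides the index, and its square
is at most the index. -/
theorem ratio_bound {H : Type u} [Group H] [Fintype H] (M : Subgroup H) [M.Normal] [Fintype M]
    {θ : H → ℂ} (hθ : IsIrrCharacter H θ) {φ : M → ℂ} (hφ : IsIrrCharacter M φ)
    (hinv : ∀ h, conjTwist M φ h = φ) (hc : classInner (fun x : M => θ x) φ ≠ 0) {c d : ℕ}
    (hc1 : θ 1 = c) (hd1 : φ 1 = d) :
    ∃ e : ℕ, c = e * d ∧ e ∣ M.index ∧ e * e ≤ M.index := by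
  classical
  obtain ⟨hdc, hidx⟩ := degree_ratio_dvd_index M hθ hφ hc hc1 hd1
  have hd0 : 0 < d := Nat.pos_of_ne_zero fun h => hφ.apply_one_ne_zero (by rw [hd1, h]; simp)
  refine ⟨c / d, (Nat.div_mul_cancel hdc).symm, hidx, ?_⟩
  obtain ⟨e, he⟩ := (hθ.isCharacter.comp M.subtype).exists_nat_classInner hφ.isCharacter
  change classInner (fun x : M => θ x) φ = _ at he
  have hres := clifford_invariant M hθ hφ hinv hc
  rw [he] at hres
  have hed : c / d = e := by
    have h := congrFun hres 1
    simp only [Pi.smul_apply, smul_eq_mul, OneMemClass.coe_one] at h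
    rw [hc1, hd1] at h
    have h' : c = e * d := by exact_mod_cast h
    rw [h', Nat.mul_div_cancel _ hd0]
  rw [hed]
  -- the norm of the restriction
  have h1 : classInner (fun x : M => θ x) (fun x : M => θ x) = ((e * e : ℕ) : ℂ) := by
    rw [hres, classInner_smul_left, classInner_smul_right, classInner_irr_self hφ, Complex.conj_natCast]
    push_cast
    ring
  have h2 : ∑ x : M, Complex.normSq (θ x) = (Nat.card M : ℝ) * (e * e : ℕ) := by
    have h3 : ((∑ x : M, Complex.normSq (θ x) : ℝ) : ℂ) = (((Nat.card M : ℝ) * (e * e : ℕ) : ℝ) : ℂ) := by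
      rw [Complex.ofReal_sum, Finset.sum_congr rfl fun (x : M) _ => (Complex.mul_conj (θ x)).symm]
      simp only [classInner] at h1
      rw [Complex.ofReal_mul, Complex.ofReal_natCast, Complex.ofReal_natCast, ← h1, ← mul_assoc,
        mul_inv_cancel₀ card_cast_ne_zero, one_mul]
    exact_mod_cast h3
  have h4 : ∑ x : H, Complex.normSq (θ x) = (Nat.card H : ℝ) := by
    have h3 : ((∑ x : H, Complex.normSq (θ x) : ℝ) : ℂ) = ((Nat.card H : ℝ) : ℂ) := by
      rw [Complex.ofReal_sum, Finset.sum_congr rfl fun x _ => (Complex.mul_conj (θ x)).symm]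
      have := classInner_irr_self hθ
      simp only [classInner] at this
      rw [Complex.ofReal_natCast]
      rw [inv_mul_eq_iff_eq_mul₀ card_cast_ne_zero, mul_one] at this
      exact this
    exact_mod_cast h3
  have h5 : ∑ x : M, Complex.normSq (θ x) ≤ ∑ x : H, Complex.normSq (θ x) :=
    (Finset.sum_map Finset.univ (Function.Embedding.subtype (· ∈ M))
      (fun x : H => Complex.normSq (θ x))).symm.trans_le
      (Finset.sum_le_univ_sum_of_nonneg fun x => Complex.normSq_nonneg _)
  rw [h2, h4, ← M.card_mul_index] at h5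
  push_cast at h5
  have h6 := le_of_mul_le_mul_left h5 (Nat.cast_pos.2 Nat.card_pos)
  exact_mod_cast h6

/-- `A` acts irreducibly and nontrivially, and `B` trivially, on every noncentral `p`-chief
factor. -/
def Controls (p : ℕ) (A B : Subgroup G) : Prop :=
  ∀ M N : Subgroup G, M.Normal → N.Normal → M < N →
    (∀ W : Subgroup G, W.Normal → M ≤ W → W ≤ N → W = M ∨ W = N) →
    (∀ n ∈ N, ∃ k, n ^ p ^ k ∈ M) →
    (∃ g : G, ∃ n ∈ N, ⁅g, n⁆ ∉ M) →
      (∀ b ∈ B, ∀ n ∈ N, ⁅b, n⁆ ∈ M) ∧
      (∀ W : Subgroup G, M ≤ W → W ≤ N → (∀ a ∈ A, ∀ w ∈ W, a * w * a⁻¹ ∈ W) → W = M ∨ W = N) ∧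
      ∃ a ∈ A, ∃ n ∈ N, ⁅a, n⁆ ∉ M

theorem controls_top (p : ℕ) : Controls p (⊤ : Subgroup G) ⊥ := by
  intro M N hM hN hlt hchief hp hnc
  refine ⟨fun b hb n hn => ?_, fun W hMW hWN hW => ?_, ?_⟩
  · rw [Subgroup.mem_bot.1 hb, commutatorElement_one_left]; exact one_mem M
  · exact hchief W ⟨fun w hw g => hW g (Subgroup.mem_top g) w hw⟩ hMW hWN
  · obtain ⟨g, n, hn, h⟩ := hnc
    exact ⟨g, Subgroup.mem_top g, n, hn, h⟩

/-- One step of the induction. -/
theorem step [Group.IsSolvable G] (p : ℕ) [Fact p.Prime] {A B : Subgroup G} [Fintype A]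
    (hAB : Controls p A B) (M N : Subgroup G) [M.Normal] [N.Normal] (hlt : M < N)
    (hchief : ∀ W : Subgroup G, W.Normal → M ≤ W → W ≤ N → W = M ∨ W = N)
    (e : ℕ) (he1 : e ∣ (M.subgroupOf N).index) (he2 : e * e ≤ (M.subgroupOf N).index) :
    ∃ F : A → ℕ, Nat.card A * e.factorization p ≤ ∑ a, F a ∧
      ∀ a : A, ∀ b ∈ B,
        ((Subgroup.centralizer ({(a : G) * b} : Set G)).relIndex M).factorization p + F a ≤
          ((Subgroup.centralizer ({(a : G) * b} : Set G)).relIndex N).factorization p := by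
  classical
  set M' := M.subgroupOf N with hM'
  haveI : M'.Normal := Subgroup.normal_subgroupOf
  set V := N ⧸ M' with hV
  set π := QuotientGroup.mk' M' with hπ
  have hπ1 : ∀ n : N, π n = 1 ↔ (n : G) ∈ M := fun n =>
    (QuotientGroup.eq_one_iff n).trans Subgroup.mem_subgroupOf
  -- the preimage of a `G`-invariant subgroup of the chief factor
  have hinvW : ∀ W : Subgroup V, (∀ (g : G) (n : N), π n ∈ W →
      π ⟨g * n * g⁻¹, (inferInstance : N.Normal).conj_mem n n.2 g⟩ ∈ W) → W = ⊥ ∨ W = ⊤ := by
    intro W hW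
    set W' := (W.comap π).map N.subtype with hW'
    have hmem : ∀ n : N, (n : G) ∈ W' ↔ π n ∈ W := fun n =>
      (Subgroup.mem_map_iff_mem N.subtype_injective).trans Subgroup.mem_comap
    have hWn : W'.Normal := ⟨by
      rintro _ ⟨n, hn, rfl⟩ g
      exact ⟨⟨g * n * g⁻¹, (inferInstance : N.Normal).conj_mem n n.2 g⟩, hW g n hn, rfl⟩⟩
    have hle : M ≤ W' := fun m hm => (hmem ⟨m, hlt.le hm⟩).2 (by
      rw [(hπ1 ⟨m, hlt.le hm⟩).2 hm]; exact one_mem W)
    rcases hchief W' hWn hle (Subgroup.map_subtype_le _) with h | h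
    · left
      rw [Subgroup.eq_bot_iff_forall]
      intro v hv
      obtain ⟨n, rfl⟩ := QuotientGroup.mk'_surjective M' v
      exact (hπ1 n).2 (h ▸ (hmem n).2 hv)
    · right
      rw [Subgroup.eq_top_iff']
      intro v
      obtain ⟨n, rfl⟩ := QuotientGroup.mk'_surjective M' v
      exact (hmem n).1 (h.symm ▸ n.2)
  haveI hVnt : Nontrivial V := by
    obtain ⟨n, hn, hnM⟩ := SetLike.exists_of_lt hlt
    exact ⟨π ⟨n, hn⟩, 1, fun h => hnM ((hπ1 ⟨n, hn⟩).1 h)⟩
  have hidx : M'.index = Nat.card V := Subgroup.index_eq_card _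
  -- the chief factor is abelian
  have hcomm : ∀ x y : V, x * y = y * x := by
    haveI : Group.IsSolvable V := inferInstance
    have hgood : ∀ (g : G) (n : N), π n ∈ commutator V →
        π ⟨g * n * g⁻¹, (inferInstance : N.Normal).conj_mem n n.2 g⟩ ∈ commutator V := by
      intro g n hn
      let φ : N →* N := (MulAut.conjNormal (H := N) g).toMonoidHom
      have hφ : M' ≤ M'.comap φ := fun x hx => by
        rw [Subgroup.mem_comap, hM', Subgroup.mem_subgroupOf]
        show (g * (x : G) * g⁻¹) ∈ M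
        exact (inferInstance : M.Normal).conj_mem _ hx g
      have h1 : (commutator V).map (QuotientGroup.map M' M' φ hφ) ≤ commutator V := by
        rw [_root_.commutator_def, Subgroup.map_commutator]
        exact Subgroup.commutator_mono le_top le_top
      exact h1 (Subgroup.mem_map_of_mem _ hn)
    rcases hinvW (commutator V) hgood with h | h
    · intro x y
      refine commutatorElement_eq_one_iff_mul_comm.1 ?_
      rw [← Subgroup.mem_bot, ← h]
      exact Subgroup.commutator_mem_commutator (Subgroup.mem_top x) (Subgroup.mem_top y)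
    · exact absurd h (Group.IsSolvable.commutator_lt_top_of_nontrivial V).ne
  have he0 : e ≠ 0 := fun h => by
    rw [h, zero_dvd_iff] at he1
    exact Subgroup.index_ne_zero_of_finite he1
  -- the effect of an element on the two relative indices
  let im : G → Subgroup V := fun g => ((Subgroup.centralizer ({g} : Set G)).subgroupOf N).map π
  have hkey : ∀ g : G, ((Subgroup.centralizer ({g} : Set G)).relIndex M).factorization p +
      (Nat.card V).factorization p =
      ((Subgroup.centralizer ({g} : Set G)).relIndex N).factorization p +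
        (Nat.card (im g)).factorization p := by
    intro g
    set C := Subgroup.centralizer ({g} : Set G) with hC
    have e1 : Nat.card (C.subgroupOf N) * C.relIndex N = Nat.card M' * Nat.card V := by
      rw [← hidx, Subgroup.card_mul_index, Subgroup.relIndex, Subgroup.card_mul_index]
    have e2 : Nat.card (C.subgroupOf M) * C.relIndex M = Nat.card M := by
      rw [Subgroup.relIndex, Subgroup.card_mul_index]
    have e3 : Nat.card (C.subgroupOf N) = Nat.card (C.subgroupOf M) * Nat.card (im g) := by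
      set ψ := π.comp (C.subgroupOf N).subtype with hψ
      have h := ψ.ker.card_mul_index
      rw [Subgroup.index_ker, show ψ.range = im g by
        rw [hψ, MonoidHom.range_comp, Subgroup.range_subtype]] at h
      rw [← h]
      congr 1
      refine Nat.card_congr
        { toFun := fun x => ⟨⟨((x.1 : N) : G), (hπ1 _).1 x.2⟩, x.1.2⟩
          invFun := fun x => ⟨⟨⟨((x.1 : M) : G), hlt.le x.1.2⟩, x.2⟩, (hπ1 _).2 x.1.2⟩
          left_inv := fun x => rfl
          right_inv := fun x => rfl }
    have e4 : Nat.card M' = Nat.card M := Nat.card_congr (Subgroup.subgroupOfEquivOfLe hlt.le).toEquiv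
    rw [e3, e4, ← e2, mul_assoc, mul_assoc] at e1
    have e5 : Nat.card (im g) * C.relIndex N = C.relIndex M * Nat.card V :=
      Nat.eq_of_mul_eq_mul_left Nat.card_pos e1
    have e6 := congrArg (fun n => n.factorization p) e5
    simp only [Nat.factorization_mul Nat.card_pos.ne' Subgroup.index_ne_zero_of_finite,
      Nat.factorization_mul (Subgroup.index_ne_zero_of_finite (H := C.subgroupOf M)) Nat.card_pos.ne',
      Subgroup.relIndex, Finsupp.add_apply] at e6
    simp only [Subgroup.relIndex]
    omega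
  have hmono : ∀ g : G, ((Subgroup.centralizer ({g} : Set G)).relIndex M).factorization p ≤
      ((Subgroup.centralizer ({g} : Set G)).relIndex N).factorization p := fun g => by
    have h := hkey g
    have : (Nat.card (im g)).factorization p ≤ (Nat.card V).factorization p :=
      (Nat.factorization_le_iff_dvd Nat.card_pos.ne' Nat.card_pos.ne').2
        (Subgroup.card_subgroup_dvd_card _) p
    omega
  by_cases he : e.factorization p = 0
  · exact ⟨fun _ => 0, by rw [he, mul_zero]; exact Nat.zero_le _, fun a b _ => by simpa using hmono _⟩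
  -- the chief factor is a `p`-group
  have hpe : p ∣ e := Nat.dvd_of_factorization_pos he
  letI : CommGroup V := { (inferInstance : Group V) with mul_comm := hcomm }
  have hVp : IsPGroup p V := by
    let P : Subgroup V :=
      { carrier := {v | ∃ k, v ^ p ^ k = 1}
        one_mem' := ⟨0, by simp⟩
        mul_mem' := fun {a b} ⟨k, hak⟩ ⟨l, hbl⟩ => ⟨k + l, by
          rw [mul_pow, pow_add, pow_mul, hak, one_pow, one_mul, mul_comm, pow_mul, hbl, one_pow]⟩
        inv_mem' := fun {a} ⟨k, hak⟩ => ⟨k, by rw [inv_pow, hak, inv_one]⟩ }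
    have hPinv : ∀ (g : G) (n : N), π n ∈ P →
        π ⟨g * n * g⁻¹, (inferInstance : N.Normal).conj_mem n n.2 g⟩ ∈ P := by
      rintro g n ⟨k, hk⟩
      refine ⟨k, ?_⟩
      rw [← map_pow, hπ1] at hk ⊢
      simp only [SubmonoidClass.coe_pow] at hk ⊢
      rw [conj_pow]
      exact (inferInstance : M.Normal).conj_mem _ hk g
    rcases hinvW P hPinv with h | h
    · exfalso
      obtain ⟨v, hv⟩ := exists_prime_orderOf_dvd_card' p (G := V) (hidx ▸ hpe.trans he1)
      have : v ∈ P := ⟨1, by rw [pow_one, ← hv, pow_orderOf_eq_one]⟩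
      rw [h, Subgroup.mem_bot] at this
      rw [this, orderOf_one] at hv
      exact (Fact.out : p.Prime).one_lt.ne hv
    · exact fun v => (show v ∈ P by rw [h]; exact Subgroup.mem_top v)
  obtain ⟨k, hk⟩ := IsPGroup.iff_card.1 hVp
  rw [hidx, hk] at he1 he2
  obtain ⟨j, -, rfl⟩ := (Nat.dvd_prime_pow (Fact.out : p.Prime)).1 he1
  have hj : 2 * j ≤ k := by
    rw [← pow_add] at he2
    have := (Nat.pow_le_pow_iff_right (Fact.out : p.Prime).one_lt).1 he2
    omega
  have hjf : (p ^ j).factorization p = j := by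
    rw [Nat.Prime.factorization_pow (Fact.out : p.Prime), Finsupp.single_eq_same]
  have hVf : (Nat.card V).factorization p = k := by
    rw [hk, Nat.Prime.factorization_pow (Fact.out : p.Prime), Finsupp.single_eq_same]
  have hpk : ∀ n ∈ N, ∃ i, n ^ p ^ i ∈ M := fun n hn => by
    obtain ⟨i, hi⟩ := hVp (π ⟨n, hn⟩)
    rw [← map_pow, hπ1] at hi
    exact ⟨i, hi⟩
  by_cases hcent : ∃ g : G, ∃ n ∈ N, ⁅g, n⁆ ∉ M
  swap
  · -- a central chief factor has prime order
    exfalso
    push Not at hcent
    obtain ⟨v, hv⟩ := exists_prime_orderOf_dvd_card' p (G := V) (by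
      rw [hk]; exact dvd_pow_self p (by rintro rfl; exact he (by rw [hjf]; omega)))
    have hgood : ∀ (g : G) (n : N), π n ∈ Subgroup.zpowers v →
        π ⟨g * n * g⁻¹, (inferInstance : N.Normal).conj_mem n n.2 g⟩ ∈ Subgroup.zpowers v := by
      intro g n hn
      have : π ⟨g * n * g⁻¹, (inferInstance : N.Normal).conj_mem n n.2 g⟩ = π n := by
        rw [← mul_inv_eq_one, ← map_inv, ← map_mul, hπ1]
        exact hcent g n n.2
      rwa [this]
    rcases hinvW (Subgroup.zpowers v) hgood with h | h
    · rw [Subgroup.zpowers_eq_bot] at h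
      rw [h, orderOf_one] at hv
      exact (Fact.out : p.Prime).one_lt.ne hv
    · have hc := congrArg (fun H : Subgroup V => Nat.card H) h
      simp only [Nat.card_zpowers, Subgroup.card_top, hv, hk] at hc
      have : k = 1 := (Nat.pow_eq_self_iff (Fact.out : p.Prime).one_lt).1 hc.symm
      exact he (by rw [hjf]; omega)
  obtain ⟨hBtriv, hAirr, hAnt⟩ := hAB M N inferInstance inferInstance hlt hchief hpk hcent
  -- the action on the chief factor
  let act : G →* MulAut V :=
    { toFun := fun g => QuotientGroup.congr M' M' (MulAut.conjNormal g) (by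
        ext x
        simp only [Subgroup.mem_map]
        constructor
        · rintro ⟨y, hy, rfl⟩
          rw [hM', Subgroup.mem_subgroupOf] at hy ⊢
          show g * (y : G) * g⁻¹ ∈ M
          exact (inferInstance : M.Normal).conj_mem _ hy g
        · intro hx
          refine ⟨(MulAut.conjNormal g⁻¹ : MulAut N) x, ?_, ?_⟩
          · rw [hM', Subgroup.mem_subgroupOf] at hx ⊢
            show g⁻¹ * (x : G) * g⁻¹⁻¹ ∈ M
            exact (inferInstance : M.Normal).conj_mem _ hx g⁻¹
          · refine Subtype.ext ?_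
            show g * (g⁻¹ * (x : G) * g⁻¹⁻¹) * g⁻¹ = x
            group)
      map_one' := by
        refine MulEquiv.ext fun x => QuotientGroup.induction_on x fun n => ?_
        show π ((MulAut.conjNormal (1 : G) : MulAut N) n) = π n
        rw [map_one, MulAut.one_apply]
      map_mul' := fun g h => by
        refine MulEquiv.ext fun x => QuotientGroup.induction_on x fun n => ?_
        show π ((MulAut.conjNormal (g * h) : MulAut N) n) =
          π ((MulAut.conjNormal g : MulAut N) ((MulAut.conjNormal h : MulAut N) n))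
        rw [map_mul, MulAut.mul_apply] }
  letI : MulDistribMulAction A V := MulDistribMulAction.compHom V (act.comp A.subtype)
  have hsmul : ∀ (a : A) (n : N),
      a • π n = π ⟨(a : G) * n * (a : G)⁻¹, (inferInstance : N.Normal).conj_mem n n.2 _⟩ := fun a n => rfl
  have hirr : ∀ W : Subgroup V, (∀ (a : A), ∀ w ∈ W, a • w ∈ W) → W = ⊥ ∨ W = ⊤ := by
    intro W hW
    set W' := (W.comap π).map N.subtype with hW'
    have hmem : ∀ n : N, (n : G) ∈ W' ↔ π n ∈ W := fun n =>
      (Subgroup.mem_map_iff_mem N.subtype_injective).trans Subgroup.mem_comap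
    have hle : M ≤ W' := fun m hm => (hmem ⟨m, hlt.le hm⟩).2 (by
      rw [(hπ1 ⟨m, hlt.le hm⟩).2 hm]; exact one_mem W)
    have hinv : ∀ a ∈ A, ∀ w ∈ W', a * w * a⁻¹ ∈ W' := by
      rintro a ha _ ⟨n, hn, rfl⟩
      exact ⟨⟨a * n * a⁻¹, (inferInstance : N.Normal).conj_mem n n.2 a⟩, hW ⟨a, ha⟩ _ hn, rfl⟩
    rcases hAirr W' hle (Subgroup.map_subtype_le _) hinv with h | h
    · left
      rw [Subgroup.eq_bot_iff_forall]
      intro v hv
      obtain ⟨n, rfl⟩ := QuotientGroup.mk'_surjective M' v
      exact (hπ1 n).2 (h ▸ (hmem n).2 hv)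
    · right
      rw [Subgroup.eq_top_iff']
      intro v
      obtain ⟨n, rfl⟩ := QuotientGroup.mk'_surjective M' v
      exact (hmem n).1 (h.symm ▸ n.2)
  have hnt : ∃ (a : A) (v : V), a • v ≠ v := by
    obtain ⟨a, ha, n, hn, h⟩ := hAnt
    refine ⟨⟨a, ha⟩, π ⟨n, hn⟩, fun heq => h ?_⟩
    rw [hsmul, ← mul_inv_eq_one, ← map_inv, ← map_mul, hπ1] at heq
    exact heq
  haveI : Group.IsSolvable A := inferInstance
  have hB2 := Cfsg.Lib.Solv.FixedPointProduct.prod_fix_sq_le p hVp hirr hnt
  let D : A → Subgroup V := fun a =>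
    { carrier := {v | a • v = v}
      one_mem' := smul_one a
      mul_mem' := fun {x y} hx hy => by
        show a • (x * y) = x * y
        rw [smul_mul', hx, hy]
      inv_mem' := fun {x} hx => by
        show a • x⁻¹ = x⁻¹
        rw [smul_inv', hx] }
  have hd : ∀ a : A, ∃ d, d ≤ k ∧ Nat.card (D a) = p ^ d := fun a => by
    obtain ⟨d, hd1, hd2⟩ := (Nat.dvd_prime_pow (Fact.out : p.Prime)).1
      (hk ▸ Subgroup.card_subgroup_dvd_card (D a))
    exact ⟨d, hd1, hd2⟩
  choose d hdk hd using hd
  have hsum : 2 * ∑ a, d a ≤ k * Nat.card A := by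
    have h1 : ∀ a : A, Nat.card (Cfsg.Lib.Solv.FixedPointProduct.fixOne (V := V) a) = p ^ d a :=
      fun a => (hd a)
    rw [Finset.prod_congr rfl fun a _ => h1 a, Finset.prod_pow_eq_pow_sum, ← pow_mul, hk, ← pow_mul] at hB2
    have := (Nat.pow_le_pow_iff_right (Fact.out : p.Prime).one_lt).1 hB2
    omega
  refine ⟨fun a => k - d a, ?_, fun a b hb => ?_⟩
  · have h1 : ∑ a, (k - d a) + ∑ a, d a = Nat.card A * k := by
      rw [← Finset.sum_add_distrib, Finset.sum_congr rfl fun a _ => Nat.sub_add_cancel (hdk a),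
        Finset.sum_const, Finset.card_univ, smul_eq_mul, Nat.card_eq_fintype_card]
    rw [hjf]
    nlinarith
  · have hle : (Nat.card (im ((a : G) * b))).factorization p ≤ d a := by
      have hsub : im ((a : G) * b) ≤ D a := by
        rintro _ ⟨n, hn, rfl⟩
        show a • π n = π n
        rw [hsmul, ← mul_inv_eq_one, ← map_inv, ← map_mul, hπ1]
        have hn' : (n : G) * ((a : G) * b) = (a : G) * b * n := by
          have := Subgroup.mem_centralizer_singleton_iff.1 (Subgroup.mem_subgroupOf.1 hn)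
          simpa [mul_assoc] using this
        have h1 : ⁅b, (n : G)⁆ ∈ M := hBtriv b hb n n.2
        show (a : G) * n * (a : G)⁻¹ * (n : G)⁻¹ ∈ M
        have h2 := (inferInstance : M.Normal).conj_mem _ (inv_mem h1) (a : G)
        have e' : (a : G) * ⁅b, (n : G)⁆⁻¹ * (a : G)⁻¹ =
            (a : G) * n * (a : G)⁻¹ * (n : G)⁻¹ := by
          rw [commutatorElement_def]
          calc (a : G) * (b * (n : G) * b⁻¹ * (n : G)⁻¹)⁻¹ * (a : G)⁻¹
              = (a : G) * n * ((a : G) * b * ((n : G) * b⁻¹))⁻¹ := by group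
            _ = (a : G) * n * ((n : G) * ((a : G) * b) * b⁻¹)⁻¹ := by
                rw [hn']; group
            _ = _ := by group
        rw [← e']; exact h2
      have h3 := (Nat.factorization_le_iff_dvd Nat.card_pos.ne' Nat.card_pos.ne').2
        (Subgroup.card_dvd_of_le hsub) p
      rwa [hd a, Nat.Prime.factorization_pow (Fact.out : p.Prime), Finsupp.single_eq_same] at h3
    have h := hkey ((a : G) * b)
    rw [hVf] at h
    have := hdk a
    simp only
    omega

/-- The bound on the degree of a primitive character. -/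
theorem main [Group.IsSolvable G] (p : ℕ) [Fact p.Prime] {χ : G → ℂ} (hχ : IsIrrCharacter G χ)
    (hprim : ¬ ∃ H : Subgroup G, H ≠ ⊤ ∧ ∃ θ : H → ℂ, IsCharacter H θ ∧ indFun H θ = χ)
    {A B : Subgroup G} [Fintype A] (hAB : Controls p A B) {c : ℕ} (hc : χ 1 = c) :
    ∃ F : A → ℕ, Nat.card A * c.factorization p ≤ ∑ a, F a ∧
      ∀ a : A, ∀ b ∈ B, F a ≤ ((Subgroup.centralizer ({(a : G) * b} : Set G)).index).factorization p := by
  classical
  suffices h : ∀ (n : ℕ) (N : Subgroup G) [N.Normal] [Fintype N], Nat.card N ≤ n → ∀ θ : N → ℂ,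
      IsIrrCharacter N θ → classInner (fun x : N => χ x) θ ≠ 0 → ∀ d : ℕ, θ 1 = d →
      ∃ F : A → ℕ, Nat.card A * d.factorization p ≤ ∑ a, F a ∧
        ∀ a : A, ∀ b ∈ B,
          F a ≤ ((Subgroup.centralizer ({(a : G) * b} : Set G)).relIndex N).factorization p by
    haveI : Fintype (⊤ : Subgroup G) := Fintype.ofFinite _
    obtain ⟨θ, hθ⟩ := exists_irr_constituent_res (H := (⊤ : Subgroup G)) hχ
    obtain ⟨d, hd0, hd⟩ := θ.2.exists_degree
    obtain ⟨F, h1, h2⟩ := h _ ⊤ le_rfl θ θ.2 hθ d hd
    have hcd : c = d := by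
      have hirr : IsIrrCharacter (⊤ : Subgroup G) (fun x : (⊤ : Subgroup G) => χ x) :=
        hχ.comp_surjective (f := (⊤ : Subgroup G).subtype) fun g => ⟨⟨g, Subgroup.mem_top g⟩, rfl⟩
      have heq : (fun x : (⊤ : Subgroup G) => χ x) = (θ : (⊤ : Subgroup G) → ℂ) := by
        by_contra hne
        exact hθ (classInner_irr_ne hirr θ.2 hne)
      have h1' := congrFun heq 1
      rw [hd, Subgroup.coe_one, hc] at h1'
      exact_mod_cast h1'
    subst hcd
    refine ⟨F, h1, fun a b hb => ?_⟩
    have := h2 a b hb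
    rwa [Subgroup.relIndex_top_right] at this
  intro n
  induction n with
  | zero =>
    intro N _ _ hn
    have := Nat.card_pos (α := N)
    omega
  | succ n ih =>
    intro N _ _ hn θ hθ hcθ d hd
    by_cases hbot : N = ⊥
    · subst hbot
      refine ⟨fun _ => 0, ?_, fun _ _ _ => Nat.zero_le _⟩
      have hd1 : d = 1 := by
        obtain ⟨m, ρ, hρ, rfl⟩ := hθ
        have h2 := classInner_irreducible_self ρ
        simp only [classInner] at h2
        haveI : Subsingleton (⊥ : Subgroup G) := inferInstance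
        rw [Fintype.sum_subsingleton _ (1 : (⊥ : Subgroup G)), hd, Complex.conj_natCast,
          Nat.card_unique, Nat.cast_one, inv_one, one_mul] at h2
        have h3 : d * d = 1 := by exact_mod_cast h2
        exact Nat.eq_one_of_mul_eq_one_right h3
      simp [hd1]
    obtain ⟨M, hM, hmax⟩ := Set.Finite.exists_maximal (s := {M : Subgroup G | M.Normal ∧ M < N})
      (Set.toFinite _) ⟨⊥, inferInstance, bot_lt_iff_ne_bot.2 hbot⟩
    haveI : M.Normal := hM.1
    haveI := Fintype.ofFinite M
    have hMn : Nat.card M ≤ n := by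
      have : Nat.card M < Nat.card N := Set.Finite.card_lt_card (Set.toFinite _) hM.2
      omega
    let incl : M →* N := Subgroup.inclusion hM.2.le
    obtain ⟨φ, hφ⟩ := exists_constituent (hθ.isCharacter.comp incl)
      (by show θ (incl 1) ≠ 0; rw [map_one]; exact hθ.apply_one_ne_zero)
    have hφχ : classInner (fun x : M => χ x) (φ : M → ℂ) ≠ 0 :=
      constituent_trans incl (hχ.isCharacter.comp N.subtype) hθ hcθ φ.2 hφ
    obtain ⟨dM, -, hdM⟩ := φ.2.exists_degree
    obtain ⟨F, hF1, hF2⟩ := ih M hMn φ φ.2 hφχ dM hdM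
    have htop := inertia_eq_top hχ hprim M φ.2 hφχ
    set M' := M.subgroupOf N with hM'
    haveI := Fintype.ofFinite M'
    haveI : M'.Normal := Subgroup.normal_subgroupOf
    let eqv : M' ≃* M := Subgroup.subgroupOfEquivOfLe hM.2.le
    have hφ' : IsIrrCharacter M' (fun x => (φ : M → ℂ) (eqv x)) :=
      isIrrCharacter_comp_equiv eqv φ.2
    have hinv : ∀ h : N, conjTwist M' (fun x => (φ : M → ℂ) (eqv x)) h = fun x => (φ : M → ℂ) (eqv x) := by
      intro h
      funext x
      have h1 := congrFun ((mem_inertia M).1 (htop.symm ▸ Subgroup.mem_top (h : G))) (eqv x)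
      rw [conjTwist_apply] at h1 ⊢
      rw [← h1]
      rfl
    have hcφ' : classInner (fun x : M' => θ x) (fun x => (φ : M → ℂ) (eqv x)) ≠ 0 := by
      have hh := classInner_comp_equiv eqv (fun x : M => θ (incl x)) (φ : M → ℂ)
      rw [show (fun x : M' => θ x) = (fun x : M' => θ (incl (eqv x))) from funext fun x => rfl]
      intro h0
      exact hφ (hh.symm.trans h0)
    obtain ⟨e, hed, he1, he2⟩ := ratio_bound M' hθ hφ' hinv hcφ' hd (d := dM) (by
      show (φ : M → ℂ) (eqv 1) = dM
      rw [map_one, hdM])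
    obtain ⟨F', hF'1, hF'2⟩ := step p hAB M N hM.2 (fun W hW h1 h2 => by
      by_cases hWN : W = N
      · exact Or.inr hWN
      · exact Or.inl (le_antisymm (hmax ⟨hW, lt_of_le_of_ne h2 hWN⟩ h1) h1)) e he1 he2
    refine ⟨fun a => F a + F' a, ?_, fun a b hb => le_trans (Nat.add_le_add_right (hF2 a b hb) _) (hF'2 a b hb)⟩
    rw [Finset.sum_add_distrib]
    by_cases he0 : e = 0
    · rw [hed, he0, zero_mul, Nat.factorization_zero]; simp
    by_cases hdM0 : dM = 0
    · rw [hed, hdM0, mul_zero, Nat.factorization_zero]; simp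
    rw [hed, Nat.factorization_mul he0 hdM0, Finsupp.add_apply, mul_add]
    omega

/-- The averaged conclusion. -/
theorem exists_le [Group.IsSolvable G] (p : ℕ) [Fact p.Prime] {χ : G → ℂ} (hχ : IsIrrCharacter G χ)
    (hprim : ¬ ∃ H : Subgroup G, H ≠ ⊤ ∧ ∃ θ : H → ℂ, IsCharacter H θ ∧ indFun H θ = χ)
    {A B : Subgroup G} (hAB : Controls p A B) {c : ℕ} (hc : χ 1 = c) :
    ∃ a : A, ∀ b ∈ B,
      c.factorization p ≤ ((Subgroup.centralizer ({(a : G) * b} : Set G)).index).factorization p := by
  classical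
  haveI := Fintype.ofFinite A
  obtain ⟨F, h1, h2⟩ := main p hχ hprim hAB hc
  obtain ⟨a, ha⟩ : ∃ a, c.factorization p ≤ F a := by
    by_contra h
    push Not at h
    have h' : ∑ a, F a < ∑ _a : A, c.factorization p :=
      Finset.sum_lt_sum_of_nonempty Finset.univ_nonempty fun a _ => h a
    rw [Finset.sum_const, Finset.card_univ, smul_eq_mul, ← Nat.card_eq_fintype_card] at h'
    omega
  exact ⟨a, fun b hb => ha.trans (h2 a b hb)⟩

end Cfsg.Lib.Char.PrimitiveClassSize
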