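import Cfsg.Agent.Lib.Char.GlaubermanSolv
import Cfsg.Agent.Lib.Char.LinearExt
import Cfsg.Agent.Lib.Char.Subconstituents

/-!
# Characters of degree prime to a coprime solvable complement
-/

set_option autoImplicit false
set_option linter.unusedSectionVars false
set_option linter.style.haveILetI false

namespace Cfsg.Lib.Char

open Cfsg Module
open scoped ComplexConjugate

universe u

/-- Irreducible characters along an isomorphism. -/
theorem card_irr_congr {A B : Type u} [Group A] [Group B] (e : A ≃* B) :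
    Nat.card (IrrCharacter A) = Nat.card (IrrCharacter B) :=
  Nat.card_congr
    { toFun := fun χ => ⟨fun b => (χ : A → ℂ) (e.symm b), isIrrCharacter_comp_equiv e.symm χ.2⟩
      invFun := fun χ => ⟨fun a => (χ : B → ℂ) (e a), isIrrCharacter_comp_equiv e χ.2⟩
      left_inv := fun χ => Subtype.ext (funext fun a => by simp)
      right_inv := fun χ => Subtype.ext (funext fun b => by simp) }

variable {Γ : Type u} [Group Γ] [Finite Γ]

/-- Invariant irreducible characters are as many as those of the fixed points. -/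
theorem card_inv_eq_card_irr_centralizer {S : Subgroup Γ} (hsolv : Group.IsSolvable S)
    (G : Subgroup Γ) (hSG : S ≤ Subgroup.normalizer (G : Set Γ))
    (hcop : (Nat.card G).Coprime (Nat.card S)) :
    Nat.card {χ : IrrCharacter G // IsInvOn S G (χ : G → ℂ)} =
      Nat.card (IrrCharacter (G ⊓ Subgroup.centralizer (S : Set Γ) : Subgroup Γ)) := by
  classical
  induction hn : ((Subgroup.centralizer (G : Set Γ)).subgroupOf S).index
    using Nat.strong_induction_on generalizing G with
  | _ n ih =>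
    subst hn
    by_cases hne : S ≤ Subgroup.centralizer (G : Set Γ)
    · have hG : G ⊓ Subgroup.centralizer (S : Set Γ) = G := inf_eq_left.mpr fun g hg =>
        Subgroup.mem_centralizer_iff.mpr fun s hs =>
          (Subgroup.mem_centralizer_iff.mp (hne hs) g hg).symm
      rw [Nat.card_congr (Equiv.subtypeUnivEquiv fun χ : IrrCharacter G =>
        isInvOn_of_centralize hne (χ : G → ℂ))]
      exact card_irr_congr (MulEquiv.subgroupCongr hG.symm)
    obtain ⟨T, P, p, hp, hpS, hTS, hPT, hP, hTn, hTne, hK, hdec⟩ := exists_layer hSG hsolv hne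
    haveI : Fact p.Prime := ⟨hp⟩
    have hpG := not_dvd_card_of_coprime hp hcop hpS
    let D : Subgroup Γ := G ⊓ Subgroup.centralizer (T : Set Γ)
    haveI := Fintype.ofFinite D
    have hDG : D ≤ G := inf_le_left
    have hTn' : ∀ x ∈ S, ∀ t ∈ T, x⁻¹ * t * x ∈ T := fun x hx t ht => by
      simpa using hTn x⁻¹ (inv_mem hx) t ht
    have hSD : S ≤ Subgroup.normalizer (D : Set Γ) := fun s hs =>
      mem_normalizer_inf_centralizer (hSG hs) (hTn s hs) (hTn' s hs)
    obtain ⟨hcorr, -, -⟩ := isCorrespondence_layer hp hP hPT hdec le_rfl (hTS.trans hSG)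
      (coprime_card_pGroup hP hpG) D hDG fun _ => Iff.rfl
    have hind := ih _ (index_inter_centralizer_lt (D := D) hTS hK hTne fun t ht =>
      Subgroup.mem_centralizer_iff.mpr fun d hd =>
        (Subgroup.mem_centralizer_iff.mp hd.2 t ht).symm) D hSD
      (hcop.coprime_dvd_left (Subgroup.card_dvd_of_le hDG)) rfl
    have hC : D ⊓ Subgroup.centralizer (S : Set Γ) = G ⊓ Subgroup.centralizer (S : Set Γ) :=
      le_antisymm (inf_le_inf_right _ hDG) fun x hx => ⟨⟨hx.1,
        Subgroup.centralizer_le (SetLike.coe_subset_coe.mpr hTS) hx.2⟩, hx.2⟩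
    have hex := fun χ : {χ : IrrCharacter G // IsInvOn S G (χ : G → ℂ)} =>
      hcorr.exists_corr _ χ.1.2 fun t ht => χ.2 t (hTS ht)
    choose b hb using hex
    have hbinv : ∀ χ : {χ : IrrCharacter G // IsInvOn S G (χ : G → ℂ)}, IsInvOn S D (b χ) :=
      fun χ => (isInvOn_iff_of_corr hp hDG hcorr hTn hSG hSD χ.1.2
        (fun t ht => χ.2 t (hTS ht)) (hb χ)).mp χ.2
    rw [← card_irr_congr (MulEquiv.subgroupCongr hC), ← hind]
    refine Nat.card_congr (Equiv.ofBijective (fun χ => ⟨⟨b χ, (hb χ).1⟩, hbinv χ⟩)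
      ⟨fun χ χ' h => ?_, fun θ => ?_⟩)
    · have h1 : b χ = b χ' := congrArg (fun z => (z.1 : D → ℂ)) h
      exact Subtype.ext (Subtype.ext (hcorr.injective _ _ _ χ.1.2 (fun t ht => χ.2 t (hTS ht))
        χ'.1.2 (fun t ht => χ'.2 t (hTS ht)) (hb χ) (h1 ▸ hb χ')))
    · obtain ⟨χ, hχ, hT, hc⟩ := hcorr.surjective _ θ.1.2
      have hi := (isInvOn_iff_of_corr hp hDG hcorr hTn hSG hSD hχ hT hc).mpr θ.2
      exact ⟨⟨⟨χ, hχ⟩, hi⟩, Subtype.ext (Subtype.ext
        ((hb ⟨⟨χ, hχ⟩, hi⟩).eq_of_not_dvd hp hχ.isCharacter hc))⟩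

/-- The characters of degree prime to the order of a coprime solvable complement. -/
theorem card_coprime_degree {G : Type u} [Group G] [Finite G] (K H : Subgroup G) [hK : K.Normal]
    (hKH : K ⊔ H = ⊤) (hcop : (Nat.card K).Coprime (Nat.card H)) (hsolv : Group.IsSolvable H) :
    Nat.card {χ : IrrCharacter G // (charDegree (χ : G → ℂ)).Coprime (Nat.card H)} =
      Nat.card (IrrCharacter (K ⊓ Subgroup.centralizer (H : Set G) : Subgroup G)) *
        Nat.card (H →* ℂˣ) := by
  classical
  haveI := Fintype.ofFinite G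
  haveI := Fintype.ofFinite K
  have hHK : H ≤ Subgroup.normalizer (K : Set G) := by
    rw [Subgroup.normalizer_eq_top]; exact le_top
  rw [← card_inv_eq_card_irr_centralizer hsolv K hHK hcop, ← Nat.card_prod]
  have hbot : K ⊓ H = ⊥ := Subgroup.inf_eq_bot_of_coprime hcop
  let f : H →* G ⧸ K := (QuotientGroup.mk' K).comp H.subtype
  have hf : Function.Bijective f := by
    constructor
    · rw [injective_iff_map_eq_one]
      intro h hh
      have h1 : (h : G) ∈ K ⊓ H := ⟨(QuotientGroup.eq_one_iff _).mp hh, h.2⟩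
      rw [hbot, Subgroup.mem_bot] at h1
      exact Subtype.ext h1
    · intro q
      obtain ⟨x, rfl⟩ := QuotientGroup.mk_surjective q
      have hx : x ∈ K ⊔ H := hKH ▸ Subgroup.mem_top x
      obtain ⟨k, hk, h, hh, rfl⟩ := Subgroup.mem_sup_of_normal_left.mp hx
      refine ⟨⟨h, hh⟩, ?_⟩
      show ((h : G) : G ⧸ K) = ((k * h : G) : G ⧸ K)
      rw [QuotientGroup.mk_mul, (QuotientGroup.eq_one_iff k).mpr hk, one_mul]
  let q : G →* H := (MulEquiv.ofBijective f hf).symm.toMonoidHom.comp (QuotientGroup.mk' K)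
  have hqK : ∀ k ∈ K, q k = 1 := fun k hk => by
    show (MulEquiv.ofBijective f hf).symm ((k : G) : G ⧸ K) = 1
    rw [(QuotientGroup.eq_one_iff k).mpr hk, map_one]
  have hqH : ∀ h : H, q (h : G) = h := fun h => by
    show (MulEquiv.ofBijective f hf).symm ((h : G) : G ⧸ K) = h
    rw [MulEquiv.symm_apply_eq]
    rfl
  have hidx : K.index = Nat.card H := by
    rw [Subgroup.index_eq_card, Nat.card_congr (MulEquiv.ofBijective f hf).toEquiv]
  have hext : ∀ θ : {θ : IrrCharacter K // IsInvOn H K (θ : K → ℂ)},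
      ∃ χ : G → ℂ, IsIrrCharacter G χ ∧ ∀ k : K, χ k = (θ.1 : K → ℂ) k := by
    intro θ
    obtain ⟨d, σ, hσ, hσθ⟩ := θ.1.2
    haveI := hσ
    have hinv : ∀ (g : G) (n : K), σ.character (MulAut.conjNormal g n) = σ.character n := by
      intro g n
      have h1 : K ⊔ H ≤ inertia K σ.character := by
        refine sup_le (le_inertia K (isIrrCharacter_character σ).isClassFunction) fun h hh => ?_
        funext x
        rw [hσθ]
        exact θ.2 h hh x (MulAut.conjNormal h x) (MulAut.conjNormal_apply h x)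
      exact congrFun (h1 (hKH ▸ Subgroup.mem_top g)) n
    have hd : Nat.Coprime K.index (finrank ℂ (Fin d → ℂ)) := by
      have h := charDegree_dvd_card (isIrrCharacter_character σ)
      have h1 := (isIrrCharacter_character σ).apply_one_eq_charDegree
      rw [Representation.char_one] at h1
      have h2 : finrank ℂ (Fin d → ℂ) = charDegree σ.character := by exact_mod_cast h1
      rw [h2, hidx]
      exact Nat.Coprime.coprime_dvd_right h hcop.symm
    have ho : Nat.Coprime K.index (orderOf (detHom σ)) := by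
      rw [hidx]
      refine Nat.Coprime.coprime_dvd_right ?_ hcop.symm
      refine orderOf_dvd_of_pow_eq_one (MonoidHom.ext fun n => ?_)
      rw [MonoidHom.pow_apply, ← map_pow, pow_card_eq_one', map_one]; rfl
    obtain ⟨μ, hμ, -⟩ := exists_linear_extension_coprime (detHom σ) (fun g n => Units.ext (by
      haveI : Representation.IsIrreducible
          (σ.comp (MulAut.conjNormal g).toMonoidHom : Representation ℂ K (Fin d → ℂ)) := by
        rw [isIrreducible_iff_isIrrCharacter]
        exact isIrrCharacter_comp_equiv (MulAut.conjNormal g) (isIrrCharacter_character σ)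
      obtain ⟨φ⟩ := nonempty_equiv_of_character_eq
        (σ.comp (MulAut.conjNormal g).toMonoidHom : Representation ℂ K (Fin d → ℂ)) σ
        (funext fun k => by exact hinv g k)
      simp only [detHom_apply]
      exact (det_eq_of_equiv φ n).symm)) ho
    obtain ⟨ρ, hρ⟩ := exists_extension_of_det σ hinv hd μ hμ
    haveI : ρ.IsIrreducible := isIrreducible_of_extension hρ
    exact ⟨ρ.character, isIrrCharacter_character ρ, fun k => by
      rw [← hσθ]; exact congrArg (fun f => LinearMap.trace ℂ _ f) (hρ k)⟩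
  choose ext hextI hextR using hext
  have hdegθ : ∀ θ : {θ : IrrCharacter K // IsInvOn H K (θ : K → ℂ)}, ∀ c : H →* ℂˣ,
      (charDegree (fun g => ext θ g * (c.comp q g : ℂ))).Coprime (Nat.card H) := by
    intro θ c
    have hirr := isIrrCharacter_mul_linear (hextI θ) (c.comp q)
    have h1 := hirr.apply_one_eq_charDegree
    have h2 := θ.1.2.apply_one_eq_charDegree
    have h3 : charDegree (fun g => ext θ g * (c.comp q g : ℂ)) =
        charDegree (θ.1 : K → ℂ) := by
      have h5 : (fun g => ext θ g * (c.comp q g : ℂ)) 1 = (θ.1 : K → ℂ) 1 := by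
        simp only [map_one, Units.val_one, mul_one]
        exact hextR θ 1
      have h6 := h1.symm.trans (h5.trans h2)
      exact_mod_cast h6
    rw [h3]
    exact Nat.Coprime.coprime_dvd_left (charDegree_dvd_card θ.1.2) hcop
  refine (Nat.card_congr (Equiv.ofBijective (fun x => ⟨⟨fun g => ext x.1 g * (x.2.comp q g : ℂ),
    isIrrCharacter_mul_linear (hextI x.1) (x.2.comp q)⟩, hdegθ x.1 x.2⟩) ⟨?_, ?_⟩)).symm
  · rintro ⟨θ, c⟩ ⟨θ', c'⟩ he
    have h1 : ∀ g, ext θ g * (c (q g) : ℂ) = ext θ' g * (c' (q g) : ℂ) :=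
      fun g => congrFun (congrArg (fun z => (z.1 : G → ℂ)) he) g
    have hθ : θ = θ' := by
      refine Subtype.ext (Subtype.ext (funext fun k => ?_))
      have h2 := h1 k
      rwa [hqK k k.2, map_one, map_one, Units.val_one, mul_one, mul_one, hextR, hextR] at h2
    subst hθ
    refine Prod.ext rfl (MonoidHom.ext fun h => ?_)
    obtain ⟨n, hn⟩ : ∃ n : K, ext θ ((n : G) * h) ≠ 0 := by
      by_contra hcon
      push Not at hcon
      have h2 := sum_coset_self θ.1.2 (hextI θ).isCharacter (hextR θ) (h : G)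
      simp only [hcon, zero_mul, Finset.sum_const_zero] at h2
      exact card_cast_ne_zero h2.symm
    have h2 := h1 ((n : G) * h)
    rw [map_mul, hqK n n.2, one_mul, hqH] at h2
    exact Units.ext (mul_left_cancel₀ hn h2)
  · rintro ⟨χ, hχ⟩
    obtain ⟨⟨θ, hθ⟩, hθc⟩ := exists_irr_constituent_res K χ.2
    obtain ⟨d, -, hd⟩ := hθ.exists_degree
    have hc := χ.2.apply_one_eq_charDegree
    obtain ⟨hdc, hratio⟩ := degree_ratio_dvd_index K χ.2 hθ hθc hc hd
    have hone : charDegree (χ : G → ℂ) / d = 1 := by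
      rw [hidx] at hratio
      have h2 : (charDegree (χ : G → ℂ) / d).Coprime (Nat.card H) :=
        hχ.coprime_dvd_left (Nat.div_dvd_of_dvd hdc)
      have h3 := Nat.dvd_gcd (dvd_refl _) hratio
      rw [h2.gcd_eq_one] at h3
      exact Nat.eq_one_of_dvd_one h3
    have heq : (fun k : K => (χ : G → ℂ) k) = θ := eq_of_constituent_of_degree
      (χ.2.isCharacter.comp K.subtype) hθ hθc (by
        show (χ : G → ℂ) 1 = θ 1
        rw [hc, hd, ← Nat.div_mul_cancel hdc, hone, one_mul])
    have hinv : IsInvOn H K θ := fun h _ k k' hk => by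
      rw [← heq]
      show (χ : G → ℂ) k' = (χ : G → ℂ) k
      rw [hk]
      exact χ.2.isClassFunction _ _
    let θ' : {θ : IrrCharacter K // IsInvOn H K (θ : K → ℂ)} := ⟨⟨θ, hθ⟩, hinv⟩
    obtain ⟨d', σ, hσ, hσθ⟩ := hθ
    haveI := hσ
    obtain ⟨ρ, hρ, hρc⟩ := exists_rep_of_res_eq K.subtype σ (hextI θ').isCharacter fun k => by
      rw [hσθ]; exact hextR θ' k
    obtain ⟨ρ', hρ', hρ'c⟩ := exists_rep_of_res_eq K.subtype σ χ.2.isCharacter fun k => by
      rw [hσθ]; exact congrFun heq k
    obtain ⟨c, hcK, hcg⟩ := exists_hom_of_two_extensions hρ hρ'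
    refine ⟨(θ', c.comp H.subtype), Subtype.ext (Subtype.ext (funext fun g => ?_))⟩
    show ext θ' g * (c (q g : G) : ℂ) = (χ : G → ℂ) g
    have hg : c (q g : G) = c g := by
      have hx : g ∈ K ⊔ H := hKH ▸ Subgroup.mem_top g
      obtain ⟨k, hk, h, hh, rfl⟩ := Subgroup.mem_sup_of_normal_left.mp hx
      rw [map_mul q, hqK k hk, one_mul, show q h = ⟨h, hh⟩ from hqH ⟨h, hh⟩, map_mul c, hcK k hk,
        one_mul]
    rw [hg, ← hρc, ← hρ'c]
    show LinearMap.trace ℂ _ (ρ g) * (c g : ℂ) = LinearMap.trace ℂ _ (ρ' g)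
    rw [hcg g, map_smul, smul_eq_mul, mul_comm]

end Cfsg.Lib.Char
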