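import Mathlib.Analysis.InnerProductSpace.PiL2
import Mathlib.Analysis.SpecialFunctions.Complex.Arg
import Mathlib.Analysis.SpecialFunctions.Trigonometric.Bounds
import Mathlib.GroupTheory.FiniteAbelian.Duality
import Mathlib.RingTheory.RootsOfUnity.Complex
import Mathlib.GroupTheory.NoncommCoprod
import Cfsg.Agent.Lib.Char.Formulas
import Cfsg.Agent.Lib.Char.Linear

/-!
# Elements with eigenvalues in a short arc

In a finite subgroup of `GL n ℂ` the elements whose eigenvalues all have real part above `√3/2`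
commute with each other.  An invariant norm is obtained from an equivariant embedding into
the square-summable functions on `G × Fin n`.
-/

set_option autoImplicit false
set_option linter.unusedSectionVars false
set_option linter.style.haveILetI false

namespace Cfsg.Lib.Char

open Cfsg
open scoped ComplexConjugate InnerProductSpace

universe u v

variable {G : Type u} [Group G] [Fintype G] {n : ℕ} (ρ : Representation ℂ G (Fin n → ℂ))

/-- An equivariant embedding into a space with invariant inner product. -/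
noncomputable def unitMap : (Fin n → ℂ) →ₗ[ℂ] EuclideanSpace ℂ (G × Fin n) where
  toFun v := WithLp.toLp 2 fun p => ρ p.1 v p.2
  map_add' u v := by ext p; simp
  map_smul' c v := by ext p; simp

theorem inner_unitMap (h : G) (u v : Fin n → ℂ) :
    ⟪unitMap ρ (ρ h u), unitMap ρ (ρ h v)⟫_ℂ = ⟪unitMap ρ u, unitMap ρ v⟫_ℂ := by
  simp only [PiLp.inner_apply]
  refine Fintype.sum_equiv ((Equiv.mulRight h).prodCongr (Equiv.refl (Fin n))) _ _ fun p => ?_
  simp only [unitMap, LinearMap.coe_mk, AddHom.coe_mk, Equiv.prodCongr_apply, Prod.map_fst,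
    Prod.map_snd, Equiv.coe_mulRight, Equiv.refl_apply]
  rw [map_mul]
  rfl

theorem norm_unitMap (h : G) (v : Fin n → ℂ) : ‖unitMap ρ (ρ h v)‖ = ‖unitMap ρ v‖ := by
  rw [norm_eq_sqrt_re_inner (𝕜 := ℂ), inner_unitMap, ← norm_eq_sqrt_re_inner]

theorem unitMap_eq_zero {v : Fin n → ℂ} : unitMap ρ v = 0 ↔ v = 0 := by
  refine ⟨fun h => funext fun i => ?_, fun h => by rw [h, map_zero]⟩
  have h1 := congrArg (fun f : EuclideanSpace ℂ (G × Fin n) => f (1, i)) h
  simpa [unitMap] using h1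

theorem norm_unitMap_pos {v : Fin n → ℂ} (h : v ≠ 0) : 0 < ‖unitMap ρ v‖ :=
  norm_pos_iff.mpr fun e => h ((unitMap_eq_zero ρ).mp e)

theorem norm_sum_sq_of_orth {ι : Type v} [Fintype ι] {E : Type u} [NormedAddCommGroup E]
    [InnerProductSpace ℂ E] (x : ι → E) (h : ∀ i j, i ≠ j → ⟪x i, x j⟫_ℂ = 0) :
    ‖∑ i, x i‖ ^ 2 = ∑ i, ‖x i‖ ^ 2 := by
  classical
  have h1 : ⟪∑ i, x i, ∑ i, x i⟫_ℂ = ∑ i, ⟪x i, x i⟫_ℂ := by
    rw [sum_inner]
    refine Finset.sum_congr rfl fun i _ => ?_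
    rw [inner_sum]
    exact Finset.sum_eq_single i (fun j _ hj => h i j (Ne.symm hj)) (by simp)
  simp only [inner_self_eq_norm_sq_to_K] at h1
  exact_mod_cast h1

theorem norm_hom_eq_one {H : Type v} [Group H] [Finite H] (l : H →* ℂˣ) (h : H) :
    ‖(l h : ℂ)‖ = 1 :=
  Complex.norm_eq_one_of_pow_eq_one (n := Nat.card H)
    (by rw [← Units.val_pow_eq_pow_val, ← map_pow, pow_card_eq_one', map_one, Units.val_one])
    Nat.card_pos.ne'

/-- Simultaneous eigenspace decomposition, orthogonal for the invariant inner product. -/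
theorem exists_weight_decomp {H : Type u} [CommGroup H] [Finite H] (f : H →* G) :
    ∃ (ι : Type u) (_ : Fintype ι) (μ : ι → H →* ℂˣ) (P : ι → Module.End ℂ (Fin n → ℂ)),
      (∀ v, ∑ i, P i v = v) ∧ (∀ i h v, ρ (f h) (P i v) = (μ i h : ℂ) • P i v) ∧
      (∀ i j, i ≠ j → ∀ u v, ⟪unitMap ρ (P i u), unitMap ρ (P j v)⟫_ℂ = 0) ∧
      (∀ i, ∃ v, P i v ≠ 0) ∧ Fintype.card ι ≤ n := by
  classical
  haveI := Fintype.ofFinite H
  haveI : Finite (H →* ℂˣ) := Nat.finite_of_card_ne_zero (by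
    rw [card_monoidHom_units]; exact Nat.card_pos.ne')
  haveI := Fintype.ofFinite (H →* ℂˣ)
  let Q : (H →* ℂˣ) → Module.End ℂ (Fin n → ℂ) := fun l =>
    (Nat.card H : ℂ)⁻¹ • ∑ h : H, (l h⁻¹ : ℂ) • ρ (f h)
  have hchar : ∀ h : H, h ≠ 1 → ∑ l : H →* ℂˣ, (l h : ℂ) = 0 := by
    intro h hh
    haveI : NeZero (Monoid.exponent H : ℂ) :=
      ⟨Nat.cast_ne_zero.mpr Monoid.exponent_ne_zero_of_finite⟩
    haveI : HasEnoughRootsOfUnity ℂ (Monoid.exponent H) :=
      IsSepClosed.hasEnoughRootsOfUnity ℂ _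
    obtain ⟨φ, hφ⟩ := CommGroup.exists_apply_ne_one_of_hasEnoughRootsOfUnity H ℂ hh
    have h1 : (φ h : ℂ) * ∑ l : H →* ℂˣ, (l h : ℂ) = ∑ l : H →* ℂˣ, (l h : ℂ) := by
      rw [Finset.mul_sum]
      exact Fintype.sum_equiv (Equiv.mulLeft φ) _ _ fun l => by simp
    by_contra hne
    exact hφ (Units.ext ((mul_eq_right₀ hne).mp h1))
  have hsum : ∀ v, ∑ l, Q l v = v := by
    intro v
    simp only [Q, LinearMap.smul_apply, LinearMap.coe_sum, Finset.sum_apply, ← Finset.smul_sum]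
    rw [Finset.sum_comm, Finset.sum_eq_single (1 : H)]
    · simp only [inv_one, map_one, Units.val_one, one_smul, Module.End.one_apply,
        Finset.sum_const, Finset.card_univ]
      rw [← Nat.cast_smul_eq_nsmul ℂ, smul_smul, ← Nat.card_eq_fintype_card,
        card_monoidHom_units, inv_mul_cancel₀ (Nat.cast_ne_zero.mpr Nat.card_pos.ne'), one_smul]
    · intro h _ hh
      rw [← Finset.sum_smul, hchar _ (inv_ne_one.mpr hh), zero_smul]
    · simp
  have hact : ∀ l k v, ρ (f k) (Q l v) = (l k : ℂ) • Q l v := by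
    intro l k v
    simp only [Q, LinearMap.smul_apply, LinearMap.coe_sum, Finset.sum_apply, map_smul, map_sum,
      Finset.smul_sum, smul_smul]
    refine Fintype.sum_equiv (Equiv.mulLeft k) _ _ fun h => ?_
    simp only [Equiv.coe_mulLeft, map_mul, Module.End.mul_apply]
    congr 1
    rw [mul_inv_rev, map_mul, Units.val_mul, map_inv l k, Units.val_inv_eq_inv_val]
    field_simp [(l k).ne_zero]
  have horth : ∀ l l', l ≠ l' → ∀ u v, ⟪unitMap ρ (Q l u), unitMap ρ (Q l' v)⟫_ℂ = 0 := by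
    intro l l' hne u v
    obtain ⟨k, hk⟩ : ∃ k, l k ≠ l' k := by
      by_contra hcon
      push Not at hcon
      exact hne (MonoidHom.ext hcon)
    have h1 := inner_unitMap ρ (f k) (Q l u) (Q l' v)
    rw [hact, hact, map_smul, map_smul, inner_smul_left, inner_smul_right, ← mul_assoc] at h1
    by_contra h0
    refine hk (Units.ext ?_)
    have h2 := (mul_eq_right₀ h0).mp h1
    calc (l k : ℂ) = (l k : ℂ) * (conj (l k : ℂ) * (l' k : ℂ)) := by rw [h2, mul_one]
      _ = (l' k : ℂ) := by rw [← mul_assoc, Complex.mul_conj', norm_hom_eq_one]; simp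
  refine ⟨{l : H →* ℂˣ // ∃ v, Q l v ≠ 0}, inferInstance, fun i => i.1, fun i => Q i.1,
    fun v => ?_, fun i h v => hact i.1 h v, fun i j hij => horth _ _ fun e => hij (Subtype.ext e),
    fun i => i.2, ?_⟩
  · conv_rhs => rw [← hsum v]
    refine Finset.sum_bij_ne_zero (fun i _ _ => i.1) (fun i _ _ => Finset.mem_univ _)
      (fun i _ _ j _ _ e => Subtype.ext e) (fun l _ hl => ⟨⟨l, v, hl⟩, Finset.mem_univ _, hl, rfl⟩)
      fun i _ _ => rfl
  · choose v hv using fun i : {l : H →* ℂˣ // ∃ v, Q l v ≠ 0} => i.2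
    have hli : LinearIndependent ℂ fun i => unitMap ρ (Q i.1 (v i)) :=
      linearIndependent_of_ne_zero_of_inner_eq_zero
        (fun i e => hv i ((unitMap_eq_zero ρ).mp e))
        (fun i j hij => horth _ _ (fun e => hij (Subtype.ext e)) _ _)
    have h2 : LinearIndependent ℂ fun i => Q i.1 (v i) := LinearIndependent.of_comp (unitMap ρ) hli
    simpa using h2.fintype_card_le_finrank

/-- The elements all of whose eigenvalues are within `1/2` of `√3/2`. -/
def shortArc : Set G :=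
  {g | ∀ v : Fin n → ℂ, v ≠ 0 →
    ‖unitMap ρ (ρ g v - ((Real.sqrt 3 / 2 : ℝ) : ℂ) • v)‖ < ‖unitMap ρ v‖ / 2}

theorem conj_mem_shortArc {g : G} (hg : g ∈ shortArc ρ) (x : G) : x * g * x⁻¹ ∈ shortArc ρ := by
  intro v hv
  set w := ρ x⁻¹ v with hw
  have hxw : v = ρ x w := by rw [hw, ← Module.End.mul_apply, ← map_mul, mul_inv_cancel]; simp
  have hw0 : w ≠ 0 := fun e => hv (by rw [hxw, e, map_zero])
  have h := hg w hw0
  have e1 : ρ (x * g * x⁻¹) v - ((Real.sqrt 3 / 2 : ℝ) : ℂ) • v =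
      ρ x (ρ g w - ((Real.sqrt 3 / 2 : ℝ) : ℂ) • w) := by
    rw [map_sub, map_smul, ← hxw, map_mul, map_mul, Module.End.mul_apply, Module.End.mul_apply]
  rw [e1, norm_unitMap, hxw, norm_unitMap]
  exact h

/-- Real part above `√3/2` on every weight puts an element in the short arc. -/
theorem mem_shortArc_of_weights {g : G} {ι : Type v} [Fintype ι]
    (μ : ι → ℂ) (P : ι → Module.End ℂ (Fin n → ℂ)) (hsum : ∀ v, ∑ i, P i v = v)
    (hact : ∀ i v, ρ g (P i v) = μ i • P i v)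
    (horth : ∀ i j, i ≠ j → ∀ u v, ⟪unitMap ρ (P i u), unitMap ρ (P j v)⟫_ℂ = 0)
    (hμ : ∀ i, ‖μ i - ((Real.sqrt 3 / 2 : ℝ) : ℂ)‖ < 1 / 2) : g ∈ shortArc ρ := by
  classical
  intro v hv
  set a : ℂ := ((Real.sqrt 3 / 2 : ℝ) : ℂ) with ha
  have h1 : unitMap ρ (ρ g v - a • v) = ∑ i, (μ i - a) • unitMap ρ (P i v) := by
    conv_lhs => rw [← hsum v]
    rw [map_sum (ρ g), Finset.smul_sum, ← Finset.sum_sub_distrib, map_sum]
    refine Finset.sum_congr rfl fun i _ => ?_
    rw [hact, ← sub_smul, map_smul]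
  have h2 : ‖unitMap ρ (ρ g v - a • v)‖ ^ 2 = ∑ i, ‖μ i - a‖ ^ 2 * ‖unitMap ρ (P i v)‖ ^ 2 := by
    rw [h1, norm_sum_sq_of_orth _ fun i j hij => by
      rw [inner_smul_left, inner_smul_right, horth i j hij, mul_zero, mul_zero]]
    exact Finset.sum_congr rfl fun i _ => by rw [norm_smul, mul_pow]
  have h3 : ‖unitMap ρ v‖ ^ 2 = ∑ i, ‖unitMap ρ (P i v)‖ ^ 2 := by
    rw [← norm_sum_sq_of_orth _ fun i j hij => horth i j hij v v, ← map_sum, hsum]
  obtain ⟨i₀, hi₀⟩ : ∃ i, P i v ≠ 0 := by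
    by_contra hcon
    push Not at hcon
    exact hv (by rw [← hsum v, Finset.sum_eq_zero fun i _ => hcon i])
  refine lt_of_pow_lt_pow_left₀ 2 (by positivity) ?_
  rw [h2, div_pow, h3, Finset.sum_div]
  refine Finset.sum_lt_sum (fun i _ => ?_) ⟨i₀, Finset.mem_univ _, ?_⟩
  · have := hμ i
    have h4 : ‖μ i - a‖ ^ 2 ≤ (1 / 2) ^ 2 := by gcongr
    nlinarith [sq_nonneg ‖unitMap ρ (P i v)‖]
  · have h4 : ‖μ i₀ - a‖ ^ 2 < (1 / 2) ^ 2 := by gcongr; exact hμ i₀
    have h5 : 0 < ‖unitMap ρ (P i₀ v)‖ ^ 2 := by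
      have := norm_unitMap_pos ρ hi₀
      positivity
    nlinarith

theorem norm_sub_sqrt_three_lt {α β : ℝ} (h : |α - β| < Real.pi / 6) :
    ‖Complex.exp (((α - β : ℝ) : ℂ) * Complex.I) - ((Real.sqrt 3 / 2 : ℝ) : ℂ)‖ < 1 / 2 := by
  refine lt_of_pow_lt_pow_left₀ 2 (by norm_num) ?_
  rw [← Complex.normSq_eq_norm_sq, Complex.normSq_apply]
  simp only [Complex.sub_re, Complex.sub_im, Complex.exp_ofReal_mul_I_re,
    Complex.exp_ofReal_mul_I_im, Complex.ofReal_re, Complex.ofReal_im, sub_zero]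
  have hcos : Real.sqrt 3 / 2 < Real.cos (α - β) := by
    rw [← Real.cos_pi_div_six, ← Real.cos_abs (α - β)]
    exact Real.cos_lt_cos_of_nonneg_of_le_pi (abs_nonneg _) (by linarith [Real.pi_pos]) h
  have h1 := Real.cos_sq_add_sin_sq (α - β)
  have h2 : Real.sqrt 3 ^ 2 = 3 := Real.sq_sqrt (by norm_num)
  nlinarith [Real.sqrt_pos.mpr (show (0 : ℝ) < 3 by norm_num)]

/-- A maximal displacement is attained. -/
theorem exists_max_displacement [NeZero n] (z : G) :
    ∃ v : Fin n → ℂ, v ≠ 0 ∧ ∀ u,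
      ‖unitMap ρ (ρ z u - u)‖ * ‖unitMap ρ v‖ ≤ ‖unitMap ρ (ρ z v - v)‖ * ‖unitMap ρ u‖ := by
  classical
  letI : CommGroup (Subgroup.zpowers z) := IsCyclic.commGroup
  obtain ⟨ι, _, μ, P, hsum, hact, horth, hne, -⟩ :=
    exists_weight_decomp ρ (Subgroup.zpowers z).subtype
  let zz : Subgroup.zpowers z := ⟨z, Subgroup.mem_zpowers z⟩
  haveI : Nonempty ι := by
    by_contra hcon
    rw [not_nonempty_iff] at hcon
    have h := hsum (fun _ => 1)
    simp only [Finset.univ_eq_empty, Finset.sum_empty] at h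
    exact one_ne_zero (congrFun h.symm 0)
  obtain ⟨j, hj⟩ := Finite.exists_max fun i => ‖(μ i zz : ℂ) - 1‖
  obtain ⟨v₀, hv₀⟩ := hne j
  have hz : ∀ i u, ρ z (P i u) = (μ i zz : ℂ) • P i u := fun i u => hact i zz u
  refine ⟨P j v₀, hv₀, fun u => ?_⟩
  have hv1 : ‖unitMap ρ (ρ z (P j v₀) - P j v₀)‖ =
      ‖(μ j zz : ℂ) - 1‖ * ‖unitMap ρ (P j v₀)‖ := by
    rw [hz, show (μ j zz : ℂ) • P j v₀ - P j v₀ = ((μ j zz : ℂ) - 1) • P j v₀ by
      rw [sub_smul, one_smul], map_smul, norm_smul]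
  have hu : ‖unitMap ρ (ρ z u - u)‖ ≤ ‖(μ j zz : ℂ) - 1‖ * ‖unitMap ρ u‖ := by
    refine le_of_pow_le_pow_left₀ two_ne_zero (by positivity) ?_
    have h1 : unitMap ρ (ρ z u - u) = ∑ i, ((μ i zz : ℂ) - 1) • unitMap ρ (P i u) := by
      conv_lhs => rw [← hsum u]
      rw [map_sum (ρ z), ← Finset.sum_sub_distrib, map_sum]
      refine Finset.sum_congr rfl fun i _ => ?_
      rw [hz, map_sub, map_smul, sub_smul, one_smul]
    rw [h1, mul_pow, norm_sum_sq_of_orth _ fun i k hik => by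
      rw [inner_smul_left, inner_smul_right, horth i k hik, mul_zero, mul_zero]]
    conv_rhs => rw [← hsum u, map_sum, norm_sum_sq_of_orth _ fun i k hik => horth i k hik u u,
      Finset.mul_sum]
    refine Finset.sum_le_sum fun i _ => ?_
    rw [norm_smul, mul_pow]
    gcongr
    exact hj i
  rw [hv1, mul_right_comm]
  exact mul_le_mul_of_nonneg_right hu (norm_nonneg _)

variable {ρ}

theorem eq_of_apply_eq (hfaith : ∀ g, ρ g = 1 → g = 1) {x y : G} (h : ρ x = ρ y) : x = y := by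
  have h1 : ρ (y⁻¹ * x) = 1 := by rw [map_mul, h, ← map_mul, inv_mul_cancel, map_one]
  exact (inv_mul_eq_one.mp (hfaith _ h1)).symm

/-- An element moving no vector by a right angle cannot carry `x` to another element commuting
with it. -/
theorem commute_of_commute_conj (hfaith : ∀ g, ρ g = 1 → g = 1) {x w : G}
    (hc : Commute x (w * x * w⁻¹))
    (hw : ∀ u : Fin n → ℂ, u ≠ 0 → ‖unitMap ρ (ρ w u - u)‖ < ‖unitMap ρ u‖) : Commute x w := by
  classical
  letI : CommGroup (Subgroup.zpowers x) := IsCyclic.commGroup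
  letI : CommGroup (Subgroup.zpowers (w * x * w⁻¹)) := IsCyclic.commGroup
  let f : Subgroup.zpowers x × Subgroup.zpowers (w * x * w⁻¹) →* G :=
    (Subgroup.zpowers x).subtype.noncommCoprod (Subgroup.zpowers (w * x * w⁻¹)).subtype (by
      rintro ⟨a, i, rfl⟩ ⟨b, j, rfl⟩
      exact hc.zpow_zpow i j)
  obtain ⟨ι, _, μ, P, hsum, hact, -, -, -⟩ := exists_weight_decomp ρ f
  let a₁ : Subgroup.zpowers x × Subgroup.zpowers (w * x * w⁻¹) := (⟨x, Subgroup.mem_zpowers x⟩, 1)
  let a₂ : Subgroup.zpowers x × Subgroup.zpowers (w * x * w⁻¹) :=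
    (1, ⟨w * x * w⁻¹, Subgroup.mem_zpowers _⟩)
  have hf1 : f a₁ = x := by simp [f, a₁]
  have hf2 : f a₂ = w * x * w⁻¹ := by simp [f, a₂]
  suffices h : x = w * x * w⁻¹ by
    show x * w = w * x
    calc x * w = w * x * w⁻¹ * w := by rw [← h]
      _ = w * x := by group
  refine eq_of_apply_eq hfaith (LinearMap.ext fun u => ?_)
  rw [← hsum u, map_sum, map_sum]
  refine Finset.sum_congr rfl fun i _ => ?_
  have e1 := hact i a₁ u
  have e2 := hact i a₂ u
  rw [hf1] at e1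
  rw [hf2] at e2
  by_cases h0 : P i u = 0
  · rw [h0, map_zero, map_zero]
  rw [e1, e2]
  congr 1
  by_contra hne
  set v := P i u with hv
  set p : Fin n → ℂ := ρ w⁻¹ v with hp
  have hwp : ρ w p = v := by
    rw [hp, ← Module.End.mul_apply, ← map_mul, mul_inv_cancel, map_one, Module.End.one_apply]
  have hxp : ρ x p = (μ i a₂ : ℂ) • p := by
    rw [hp, ← Module.End.mul_apply, ← map_mul,
      show x * w⁻¹ = w⁻¹ * (w * x * w⁻¹) by group, map_mul, Module.End.mul_apply, e2, map_smul]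
  have hp0 : p ≠ 0 := fun e => h0 (by rw [← hwp, e, map_zero])
  have horth' : ⟪unitMap ρ v, unitMap ρ p⟫_ℂ = 0 := by
    have h1 := inner_unitMap ρ x v p
    rw [e1, hxp, map_smul, map_smul, inner_smul_left, inner_smul_right, ← mul_assoc] at h1
    by_contra hh
    have h2 := (mul_eq_right₀ hh).mp h1
    apply hne
    calc (μ i a₁ : ℂ) = (μ i a₁ : ℂ) * (conj (μ i a₁ : ℂ) * (μ i a₂ : ℂ)) := by rw [h2, mul_one]
      _ = (μ i a₂ : ℂ) := by rw [← mul_assoc, Complex.mul_conj', norm_hom_eq_one]; simp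
  have h3 := hw p hp0
  rw [hwp, map_sub] at h3
  have h4 : ‖unitMap ρ v - unitMap ρ p‖ ^ 2 = ‖unitMap ρ v‖ ^ 2 + ‖unitMap ρ p‖ ^ 2 := by
    rw [@norm_sub_sq ℂ, horth']
    simp
  have h5 : ‖unitMap ρ v‖ = ‖unitMap ρ p‖ := by rw [← hwp, norm_unitMap]
  have h6 : ‖unitMap ρ v - unitMap ρ p‖ ^ 2 < ‖unitMap ρ p‖ ^ 2 := by gcongr
  have h7 := sq_nonneg ‖unitMap ρ p‖
  rw [h4, h5] at h6
  linarith

theorem dist_one_lt_of_shortArc {g : G} (hg : g ∈ shortArc ρ) {u : Fin n → ℂ} (hu : u ≠ 0) :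
    ‖unitMap ρ (ρ g u - u)‖ < ‖unitMap ρ u‖ := by
  set a : ℂ := ((Real.sqrt 3 / 2 : ℝ) : ℂ) with ha
  have h := hg u hu
  have h1 : ρ g u - u = (ρ g u - a • u) + (a - 1) • u := by
    rw [sub_smul, one_smul]; abel
  have h2 : ‖a - 1‖ ≤ 1 / 2 := by
    rw [ha, ← Complex.ofReal_one, ← Complex.ofReal_sub, Complex.norm_real, Real.norm_eq_abs,
      abs_le]
    have h3 : Real.sqrt 3 ^ 2 = 3 := Real.sq_sqrt (by norm_num)
    constructor <;> nlinarith [Real.sqrt_nonneg 3]
  rw [h1, map_add, map_smul]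
  refine (norm_add_le _ _).trans_lt ?_
  rw [norm_smul]
  nlinarith [norm_nonneg (unitMap ρ u)]

/-- Two elements of the short arc commute. -/
theorem commute_of_shortArc [NeZero n] (hfaith : ∀ g, ρ g = 1 → g = 1) {x y : G}
    (hx : x ∈ shortArc ρ) (hy : y ∈ shortArc ρ) : Commute x y := by
  classical
  choose v hv hmax using fun z => exists_max_displacement ρ z
  set r : G → ℝ := fun z => ‖unitMap ρ (ρ z (v z) - v z)‖ / ‖unitMap ρ (v z)‖ with hr
  have hr0 : ∀ z, 0 ≤ r z := fun z => div_nonneg (norm_nonneg _) (norm_nonneg _)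
  have hbound : ∀ z u, ‖unitMap ρ (ρ z u - u)‖ ≤ r z * ‖unitMap ρ u‖ := fun z u => by
    rw [hr]
    simp only
    rw [div_mul_eq_mul_div, le_div_iff₀ (norm_unitMap_pos ρ (hv z))]
    exact hmax z u
  have hstep : ∀ z, z ≠ 1 → r (x * z * x⁻¹ * z⁻¹) < r z := by
    intro z hz
    set z' := x * z * x⁻¹ * z⁻¹ with hz'
    have hpos : 0 < r z := by
      refine lt_of_le_of_ne (hr0 z) fun e => hz (hfaith z (LinearMap.ext fun u => ?_))
      have h1 := hbound z u
      rw [← e, zero_mul] at h1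
      exact sub_eq_zero.mp ((unitMap_eq_zero ρ).mp (norm_le_zero_iff.mp h1))
    rw [hr]
    simp only
    rw [div_lt_iff₀ (norm_unitMap_pos ρ (hv z'))]
    show _ < r z * _
    set v' := v z' with hv'
    set u := ρ (x⁻¹ * z⁻¹) v' with hu
    have hu0 : u ≠ 0 := fun e => hv z' (by
      rw [← hv']
      have : ρ (z * x) u = v' := by
        rw [hu, ← Module.End.mul_apply, ← map_mul, show z * x * (x⁻¹ * z⁻¹) = 1 by group, map_one,
          Module.End.one_apply]
      rw [← this, e, map_zero])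
    set a : ℂ := ((Real.sqrt 3 / 2 : ℝ) : ℂ)
    set p := ρ z u - u with hp
    set q := ρ x u - a • u with hq
    have hid : ρ z' v' - v' = (ρ x p - a • p) - (ρ z q - q) := by
      have e1 : ρ z' v' = ρ x (ρ z u) := by
        rw [hu, ← Module.End.mul_apply, ← Module.End.mul_apply, ← map_mul, ← map_mul,
          show x * z * (x⁻¹ * z⁻¹) = z' by rw [hz']; group]
      have e2 : v' = ρ z (ρ x u) := by
        rw [hu, ← Module.End.mul_apply, ← Module.End.mul_apply, ← map_mul, ← map_mul,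
          show z * x * (x⁻¹ * z⁻¹) = 1 by group, map_one, Module.End.one_apply]
      rw [e1]
      conv_lhs => arg 2; rw [e2]
      rw [hp, hq, map_sub, map_sub, map_smul, smul_sub]
      abel
    have huv : ‖unitMap ρ u‖ = ‖unitMap ρ v'‖ := by rw [hu, norm_unitMap]
    rw [hid, map_sub]
    refine (norm_sub_le _ _).trans_lt ?_
    have hA : ‖unitMap ρ (ρ x p - a • p)‖ ≤ ‖unitMap ρ p‖ / 2 := by
      by_cases hp0 : p = 0
      · rw [hp0, map_zero, smul_zero, sub_zero, map_zero, norm_zero, zero_div]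
      · exact (hx p hp0).le
    have hB : ‖unitMap ρ (ρ z q - q)‖ ≤ r z * ‖unitMap ρ q‖ := hbound z q
    have hC : ‖unitMap ρ q‖ < ‖unitMap ρ u‖ / 2 := hx u hu0
    have hD : ‖unitMap ρ p‖ ≤ r z * ‖unitMap ρ u‖ := hbound z u
    rw [← huv]
    nlinarith [mul_lt_mul_of_pos_left hC hpos]
  let zs : ℕ → G := fun k => (fun z => x * z * x⁻¹ * z⁻¹)^[k] y
  have hsucc : ∀ k, zs (k + 1) = x * zs k * x⁻¹ * (zs k)⁻¹ := fun k =>
    Function.iterate_succ_apply' _ k y
  have hex : ∃ k, zs k = 1 := by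
    by_contra hcon
    push Not at hcon
    have hanti : StrictAnti fun k => r (zs k) :=
      strictAnti_nat_of_succ_lt fun k => by rw [hsucc]; exact hstep _ (hcon k)
    exact not_injective_infinite_finite zs fun i j e =>
      hanti.injective (show r (zs i) = r (zs j) by rw [e])
  have hry : ∀ k, (∀ i < k, zs i ≠ 1) → r (zs k) < 1 := by
    intro k
    induction k with
    | zero =>
      intro _
      rw [hr]
      simp only
      rw [div_lt_one (norm_unitMap_pos ρ (hv _))]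
      exact dist_one_lt_of_shortArc hy (hv _)
    | succ k ih =>
      intro h
      rw [hsucc]
      exact (hstep _ (h k (Nat.lt_succ_self k))).trans (ih fun i hi => h i (Nat.lt_succ_of_lt hi))
  have hfin := Nat.find_spec hex
  rcases hj : Nat.find hex with _ | _ | j
  · rw [hj] at hfin
    have : y = 1 := hfin
    rw [this]
    exact Commute.one_right x
  · rw [hj, hsucc] at hfin
    have h1 : x * y * x⁻¹ * y⁻¹ = 1 := hfin
    show x * y = y * x
    calc x * y = x * y * x⁻¹ * y⁻¹ * (y * x) := by group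
      _ = y * x := by rw [h1, one_mul]
  · exfalso
    rw [hj, hsucc, hsucc] at hfin
    have hmin : ∀ i < j + 1 + 1, zs i ≠ 1 := fun i hi => Nat.find_min hex (hj ▸ hi)
    set w := zs j with hw
    have hrw : r w < 1 := hry j fun i hi => hmin i (by omega)
    have hc : Commute x (x * w * x⁻¹ * w⁻¹) := by
      show x * (x * w * x⁻¹ * w⁻¹) = x * w * x⁻¹ * w⁻¹ * x
      calc x * (x * w * x⁻¹ * w⁻¹)
          = x * (x * w * x⁻¹ * w⁻¹) * x⁻¹ * (x * w * x⁻¹ * w⁻¹)⁻¹ *
              (x * w * x⁻¹ * w⁻¹ * x) := by group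
        _ = x * w * x⁻¹ * w⁻¹ * x := by rw [hfin, one_mul]
    have hc2 : Commute x (w * x * w⁻¹) := by
      have h1 := ((Commute.refl x).inv_right.mul_right hc).inv_right
      rwa [show (x⁻¹ * (x * w * x⁻¹ * w⁻¹))⁻¹ = w * x * w⁻¹ by group] at h1
    have hcomm := commute_of_commute_conj hfaith hc2 fun u hu =>
      (hbound w u).trans_lt (by
        nlinarith [norm_unitMap_pos ρ hu])
    refine hmin (j + 1) (by omega) ?_
    rw [hsucc, ← hw, hcomm.eq]
    group

end Cfsg.Lib.Char
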