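import Cfsg.Agent.Lib.Char.Clifford2
import Cfsg.Agent.Lib.Char.Gallagher
import Cfsg.Agent.Lib.Char.Linear
import Cfsg.Agent.Lib.Char.Quotient
import Cfsg.Agent.Lib.Char.Extension
import Cfsg.Agent.Lib.Char.LinearExt

/-!
# Induction from a normal subgroup with abelian inertia quotient
-/

set_option autoImplicit false
set_option linter.unusedSectionVars false
set_option linter.style.haveILetI false

namespace Cfsg.Lib.Char

open Cfsg
open scoped ComplexConjugate

universe u

variable {G : Type u} [Group G] [Fintype G]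

/-- An irreducible character trivial on a normal subgroup with abelian quotient is linear. -/
theorem degree_one_of_abelian_quotient (H : Subgroup G) [H.Normal]
    (hab : ∀ x y : G, x * y * x⁻¹ * y⁻¹ ∈ H) {β : G → ℂ} (hβ : IsIrrCharacter G β)
    (hker : ∀ n ∈ H, β n = β 1) : β 1 = 1 := by
  obtain ⟨ψ, hψ, hψβ⟩ := exists_deflate_irr H hβ hker
  have hc : ∀ a b : G ⧸ H, a * b = b * a := by
    intro a b
    induction a using QuotientGroup.induction_on with
    | H x => induction b using QuotientGroup.induction_on with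
      | H y =>
        have h : ((x * y * x⁻¹ * y⁻¹ : G) : G ⧸ H) = 1 := (QuotientGroup.eq_one_iff _).mpr (hab x y)
        simp only [QuotientGroup.mk_mul, QuotientGroup.mk_inv] at h
        rw [mul_inv_eq_one, mul_inv_eq_iff_eq_mul] at h
        exact h
  rw [← hψβ 1]
  exact degree_eq_one_of_comm hc hψ

/-- An invariant character induced along an abelian quotient. -/
theorem indFun_invariant_abelian (H : Subgroup G) [H.Normal] [Fintype H] {θ : H → ℂ}
    (hθ : IsIrrCharacter H θ) (hinv : ∀ g, conjTwist H θ g = θ)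
    (hab : ∀ x y : G, x * y * x⁻¹ * y⁻¹ ∈ H) :
    ∃ (e : ℕ) (C : Finset (G → ℂ)), 0 < e ∧ (∀ ψ ∈ C, IsIrrCharacter G ψ) ∧
      e ^ 2 * C.card = H.index ∧ indFun H θ = (e : ℂ) • ∑ ψ ∈ C, ψ ∧
      (∀ ψ ∈ C, (fun h : H => ψ h) = (e : ℂ) • θ) ∧
      ∀ χ : G → ℂ, IsIrrCharacter G χ → (fun h : H => χ h) = θ → e = 1 := by
  classical
  have hΦ := isCharacter_indFun H hθ.isCharacter
  have hΦ1 : indFun H θ 1 ≠ 0 := by
    rw [indFun_apply_one]
    exact mul_ne_zero (Nat.cast_ne_zero.mpr Subgroup.index_ne_zero_of_finite) hθ.apply_one_ne_zero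
  obtain ⟨ψ₀, hψ₀⟩ := exists_constituent hΦ hΦ1
  have hmult : ∀ ψ : G → ℂ, IsClassFunction G ψ →
      classInner (fun h : H => ψ h) θ = conj (classInner (indFun H θ) ψ) := fun ψ hψ => by
    rw [classInner_indFun H θ hψ, classInner_conj_symm]
  obtain ⟨e, he⟩ := (ψ₀.2.isCharacter.comp H.subtype).exists_nat_classInner hθ.isCharacter
  have he' : classInner (fun h : H => (ψ₀ : G → ℂ) h) θ = (e : ℂ) := he
  have he0 : e ≠ 0 := fun h => hψ₀ (by
    have := hmult _ ψ₀.2.isClassFunction
    rw [he', h, Nat.cast_zero] at this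
    exact (map_eq_zero _).mp this.symm)
  have hres : (fun h : H => (ψ₀ : G → ℂ) h) = (e : ℂ) • θ := by
    rw [clifford_invariant H ψ₀.2 hθ hinv (by rw [he']; exact Nat.cast_ne_zero.mpr he0), he']
  have hind : indFun H ((e : ℂ) • θ) = indFun H (fun _ => 1) * (ψ₀ : G → ℂ) := by
    rw [← hres]
    have h := indFun_mul H (fun _ => (1 : ℂ)) ψ₀.2.isClassFunction
    simp only [one_mul] at h
    rw [h]
    rfl
  -- every constituent restricts to the same multiple of `θ`
  have key : ∀ ψ : IrrCharacter G, classInner (indFun H θ) (ψ : G → ℂ) ≠ 0 →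
      (fun h : H => (ψ : G → ℂ) h) = (e : ℂ) • θ := by
    intro ψ hψ
    have h1 := hψ
    have h2 : classInner (indFun H ((e : ℂ) • θ)) (ψ : G → ℂ) ≠ 0 := by
      rw [indFun_smul, classInner_smul_left]
      exact mul_ne_zero (Nat.cast_ne_zero.mpr he0) h1
    have hone := isCharacter_indFun H isIrrCharacter_one.isCharacter
    rw [hind, eq_sum_classInner hone.isClassFunction, Finset.sum_mul, classInner_sum_left] at h2
    obtain ⟨β, -, hβ⟩ := Finset.exists_ne_zero_of_sum_ne_zero h2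
    rw [smul_mul_assoc, classInner_smul_left] at hβ
    have hker : ∀ n ∈ H, (β : G → ℂ) n = (β : G → ℂ) 1 := fun n hn =>
      apply_eq_of_constituent hone β.2 (left_ne_zero_of_mul hβ) (indFun_one_apply H ⟨n, hn⟩)
    have hlin := degree_one_of_abelian_quotient H hab β.2 hker
    obtain ⟨l, hl⟩ := exists_hom_of_degree_one β.2.isCharacter hlin
    have hirr : IsIrrCharacter G ((β : G → ℂ) * (ψ₀ : G → ℂ)) := by
      rw [mul_comm, hl]
      exact isIrrCharacter_mul_linear ψ₀.2 l
    have heq : (ψ : G → ℂ) = (β : G → ℂ) * (ψ₀ : G → ℂ) := by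
      by_contra hne
      exact right_ne_zero_of_mul hβ (classInner_irr_ne hirr ψ.2 (Ne.symm hne))
    rw [← hres]
    funext h
    rw [heq, Pi.mul_apply, hker h h.2, hlin, one_mul]
  set C : Finset (G → ℂ) := (Finset.univ.filter fun ψ : IrrCharacter G =>
    classInner (indFun H θ) (ψ : G → ℂ) ≠ 0).image fun ψ : IrrCharacter G => (ψ : G → ℂ) with hC
  have hcoef : ∀ ψ : IrrCharacter G, classInner (indFun H θ) (ψ : G → ℂ) ≠ 0 →
      classInner (indFun H θ) (ψ : G → ℂ) = (e : ℂ) := by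
    intro ψ hψ
    have h := hmult _ ψ.2.isClassFunction
    rw [key ψ hψ, classInner_smul_left, classInner_irr_self hθ, mul_one] at h
    have h2 := congrArg conj h
    rw [Complex.conj_natCast, Complex.conj_conj] at h2
    exact h2.symm
  have hmemC : ∀ ψ ∈ C, ∃ hψ : IsIrrCharacter G ψ, classInner (indFun H θ) ψ ≠ 0 := by
    intro ψ hψ
    obtain ⟨φ, hφ, rfl⟩ := Finset.mem_image.mp hψ
    exact ⟨φ.2, (Finset.mem_filter.mp hφ).2⟩
  have hexp : indFun H θ = (e : ℂ) • ∑ ψ ∈ C, ψ := by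
    conv_lhs => rw [eq_sum_classInner hΦ.isClassFunction]
    rw [hC, Finset.sum_image fun a _ b _ h => Subtype.ext h, Finset.smul_sum, Finset.sum_filter]
    refine Finset.sum_congr rfl fun ψ _ => ?_
    by_cases h : classInner (indFun H θ) (ψ : G → ℂ) = 0
    · simp [h]
    · rw [if_pos h, hcoef ψ h]
  refine ⟨e, C, Nat.pos_of_ne_zero he0, fun ψ hψ => (hmemC ψ hψ).1, ?_, hexp,
    fun ψ hψ => key ⟨ψ, (hmemC ψ hψ).1⟩ (hmemC ψ hψ).2, fun χ hχ hχθ => ?_⟩
  · have h := classInner_indFun_self H hθ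
    rw [show inertia H θ = ⊤ from Subgroup.ext fun g => iff_of_true (hinv g) (Subgroup.mem_top g),
      Subgroup.card_top] at h
    have hn : classInner (indFun H θ) (indFun H θ) = ((e ^ 2 * C.card : ℕ) : ℂ) := by
      rw [hexp, classInner_smul_left, classInner_smul_right, Complex.conj_natCast,
        classInner_sum_left, Finset.sum_congr rfl (g := fun _ => (1 : ℂ)) fun ψ hψ => ?_,
        Finset.sum_const, nsmul_eq_mul, mul_one]
      · push_cast; ring
      · rw [classInner_sum_right, Finset.sum_eq_single ψ (fun φ hφ hne =>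
          classInner_irr_ne (hmemC ψ hψ).1 (hmemC φ hφ).1 hne.symm) (fun h => absurd hψ h),
          classInner_irr_self (hmemC ψ hψ).1]
    rw [hn] at h
    have h' : Nat.card H * (e ^ 2 * C.card) = Nat.card H * H.index := by
      rw [H.card_mul_index]; exact_mod_cast h
    exact Nat.eq_of_mul_eq_mul_left Nat.card_pos h'
  · have hne : classInner (indFun H θ) χ ≠ 0 := by
      rw [classInner_indFun H θ hχ.isClassFunction, hχθ, classInner_irr_self hθ]
      exact one_ne_zero
    have h := congrFun (key ⟨χ, hχ⟩ hne) 1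
    change (fun h : H => χ h) 1 = _ at h
    rw [hχθ, Pi.smul_apply, smul_eq_mul] at h
    have : (e : ℂ) = 1 := mul_right_cancel₀ hθ.apply_one_ne_zero (by rw [one_mul]; exact h.symm)
    exact_mod_cast this

/-- An invariant irreducible character of a normal subgroup of coprime index extends. -/
theorem exists_extension_of_coprime (H : Subgroup G) [H.Normal] {θ : H → ℂ}
    (hθ : IsIrrCharacter H θ) (hinv : ∀ g, conjTwist H θ g = θ)
    (hcop : Nat.Coprime (Nat.card H) H.index) :
    ∃ χ : G → ℂ, IsIrrCharacter G χ ∧ (fun h : H => χ h) = θ := by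
  obtain ⟨m, σ, hσ, rfl⟩ := hθ
  haveI := hσ
  have hinv' : ∀ (g : G) (n : H), σ.character (MulAut.conjNormal g n) = σ.character n :=
    fun g n => (congrArg σ.character (Subtype.ext (MulAut.conjNormal_apply g n))).trans
      (congrFun (hinv g) n)
  have hdvd : Module.finrank ℂ (Fin m → ℂ) ∣ Nat.card H := by
    haveI := Fintype.ofFinite H
    exact degree_dvd_card (isIrrCharacter_character σ) (by rw [Representation.char_one])
  have hord : orderOf (detHom σ) ∣ Nat.card H := orderOf_dvd_of_pow_eq_one (MonoidHom.ext fun n => by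
    rw [MonoidHom.pow_apply, ← map_pow, pow_card_eq_one', map_one, MonoidHom.one_apply])
  have hcd : Nat.Coprime H.index (Module.finrank ℂ (Fin m → ℂ)) :=
    (hcop.coprime_dvd_left hdvd).symm
  have hci : Nat.Coprime H.index (orderOf (detHom σ)) := (hcop.coprime_dvd_left hord).symm
  have hdinv : ∀ (g : G) (n : H), detHom σ (MulAut.conjNormal g n) = detHom σ n := fun g n => by
    obtain ⟨φ⟩ := nonempty_equiv_of_character_eq σ
      (σ.comp (MulAut.conjNormal g : MulAut H).toMonoidHom) (funext fun n => (hinv' g n).symm)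
    exact Units.ext (det_eq_of_equiv φ n)
  obtain ⟨μ, hμ, -⟩ := exists_linear_extension_coprime (detHom σ) hdinv hci
  obtain ⟨ρ, hρ⟩ := exists_extension_of_det σ hinv' hcd μ hμ
  haveI := isIrreducible_of_extension hρ
  exact ⟨ρ.character, isIrrCharacter_character ρ,
    funext fun n => congrArg (LinearMap.trace ℂ _) (hρ n)⟩

/-- The characters of `G` over `θ` when the inertia quotient is abelian. -/
theorem indFun_abelian_inertia (H T : Subgroup G) [hN : H.Normal] {θ : H → ℂ}
    (hθ : IsIrrCharacter H θ) (hT : T = inertia H θ)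
    (hab : ∀ x ∈ T, ∀ y ∈ T, x * y * x⁻¹ * y⁻¹ ∈ H) :
    ∃ (e : ℕ) (C : Finset (G → ℂ)), 0 < e ∧ (∀ χ ∈ C, IsIrrCharacter G χ) ∧
      e ^ 2 * C.card = H.relIndex T ∧ indFun H θ = (e : ℂ) • ∑ χ ∈ C, χ ∧
      (∀ χ ∈ C, χ 1 = (T.index : ℂ) * e * θ 1) ∧
      (Nat.Coprime (Nat.card H) (H.relIndex T) → e = 1) := by
  classical
  haveI := Fintype.ofFinite H
  have hHT : H ≤ T := hT ▸ le_inertia H hθ.isClassFunction
  haveI : (H.subgroupOf T).Normal := hN.subgroupOf T
  haveI := Fintype.ofFinite T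
  haveI := Fintype.ofFinite (H.subgroupOf T)
  have hθ' := isIrrCharacter_resTo H hθ hHT
  have hinv : ∀ t : T, conjTwist (H.subgroupOf T) (resTo H θ T) t = resTo H θ T := by
    intro t
    funext x
    exact (mem_inertia_iff H).mp (hT ▸ t.2) ⟨(x : T), Subgroup.mem_subgroupOf.mp x.2⟩
  obtain ⟨e, C, he0, hC, hcard, hind, hres, hone⟩ := indFun_invariant_abelian (H.subgroupOf T) hθ'
    hinv (fun x y => Subgroup.mem_subgroupOf.mpr (hab x x.2 y y.2))
  have hval : ∀ ψ ∈ C, (fun h : H => ψ ⟨h, hHT h.2⟩) = (e : ℂ) • θ := by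
    intro ψ hψ
    funext h
    exact congrFun (hres ψ hψ) ⟨⟨h, hHT h.2⟩, h.2⟩
  have hne : ∀ ψ ∈ C, classInner (fun h : H => ψ ⟨h, hHT h.2⟩) θ ≠ 0 := fun ψ hψ => by
    rw [hval ψ hψ, classInner_smul_left, classInner_irr_self hθ, mul_one]
    exact Nat.cast_ne_zero.mpr he0.ne'
  have hinj : Set.InjOn (indFun T) (↑C : Set (T → ℂ)) := fun ψ hψ ψ' hψ' h =>
    clifford_injective H hθ hHT hT (hC ψ hψ) (hC ψ' hψ') (hne ψ hψ) (hne ψ' hψ') h
  refine ⟨e, C.image (indFun T), he0, ?_, ?_, ?_, ?_, fun hcop => ?_⟩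
  · intro χ hχ
    obtain ⟨ψ, hψ, rfl⟩ := Finset.mem_image.mp hχ
    exact (clifford_induce H hθ hHT hT (hC ψ hψ) (hne ψ hψ)).1
  · rw [Finset.card_image_of_injOn hinj, hcard]
    rfl
  · rw [← indFun_trans H T hHT θ, Finset.sum_image hinj,
      show (fun x : H.subgroupOf T => θ ⟨(x : T), Subgroup.mem_subgroupOf.mp x.2⟩) = resTo H θ T
        from rfl, hind, indFun_smul, indFun_sum]
  · intro χ hχ
    obtain ⟨ψ, hψ, rfl⟩ := Finset.mem_image.mp hχ
    have h1 : ψ 1 = (e : ℂ) * θ 1 := congrFun (hval ψ hψ) 1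
    rw [indFun_apply_one, h1, mul_assoc]
  · obtain ⟨χ, hχ, hχθ⟩ := exists_extension_of_coprime (H.subgroupOf T) hθ' hinv (by
      rw [Nat.card_congr (Subgroup.subgroupOfEquivOfLe hHT).toEquiv]
      exact hcop)
    exact hone χ hχ hχθ

end Cfsg.Lib.Char
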