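import Cfsg.Agent.Lib.Char.Ito
import Mathlib.RingTheory.RootsOfUnity.Complex
import Mathlib.GroupTheory.Perm.Cycle.Type

/-!
# Groups all of whose irreducible degrees are powers of a prime
-/

set_option autoImplicit false
set_option linter.unusedSectionVars false
set_option linter.style.haveILetI false

namespace Cfsg.Lib.Char

open Cfsg
open scoped ComplexConjugate

universe u

theorem exists_index_prime_of_dvd_abelianization {G : Type u} [Group G] [Finite G] {p : ℕ}
    [hp : Fact p.Prime] (h : p ∣ (commutator G).index) :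
    ∃ N : Subgroup G, N.Normal ∧ N.index = p := by
  haveI := Fintype.ofFinite G
  haveI : Finite (G →* ℂˣ) := Nat.finite_of_card_ne_zero (by
    rw [card_linear_eq_index]; exact Subgroup.index_ne_zero_of_finite)
  obtain ⟨f, hf⟩ := exists_prime_orderOf_dvd_card' p (card_linear_eq_index (G := G) ▸ h)
  refine ⟨f.ker, inferInstance, ?_⟩
  rw [Subgroup.index_ker]
  have hle : f.range ≤ rootsOfUnity p ℂ := by
    rintro _ ⟨x, rfl⟩
    rw [mem_rootsOfUnity, ← MonoidHom.pow_apply, ← hf, pow_orderOf_eq_one, MonoidHom.one_apply]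
  haveI : NeZero p := ⟨hp.out.ne_zero⟩
  have hd := Subgroup.card_dvd_of_le hle
  rw [Complex.card_rootsOfUnity] at hd
  rcases (Nat.dvd_prime hp.out).mp hd with h1 | h1
  · exfalso
    have hbot := Subgroup.card_eq_one.mp h1
    have : f = 1 := MonoidHom.ext fun x => by
      have hx : f x ∈ f.range := ⟨x, rfl⟩
      rw [hbot, Subgroup.mem_bot] at hx
      simp [hx]
    rw [this, orderOf_one] at hf
    exact hp.out.one_lt.ne hf
  · exact h1

/-- If all degrees are powers of `p`, there is an abelian normal `p`-complement. -/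
theorem exists_abelian_complement_of_p_degrees (p : ℕ) (hp : p.Prime) :
    ∀ (n : ℕ) {G : Type u} [Group G] [Finite G], Nat.card G = n →
      (∀ χ : IrrCharacter G, ∃ k : ℕ, (χ : G → ℂ) 1 = (p : ℂ) ^ k) →
      ∃ A : Subgroup G, A.Normal ∧ (∀ a ∈ A, ∀ b ∈ A, a * b = b * a) ∧
        Nat.Coprime (Nat.card A) p ∧ ∃ k : ℕ, A.index = p ^ k := by
  intro n
  induction n using Nat.strong_induction_on with
  | _ n ih =>
  intro G _ _ hn hall
  subst hn
  classical
  haveI := Fact.mk hp
  haveI := Fintype.ofFinite G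
  by_cases hab : ∀ a b : G, a * b = b * a
  · obtain ⟨k, m, hm, hkm⟩ : ∃ k m, ¬ p ∣ m ∧ Nat.card G = p ^ k * m :=
      ⟨_, _, Nat.not_dvd_ordCompl hp Nat.card_pos.ne', (Nat.ordProj_mul_ordCompl_eq_self _ p).symm⟩
    let A : Subgroup G :=
      { carrier := {x | x ^ m = 1}
        one_mem' := one_pow m
        mul_mem' := fun {a b} (ha : a ^ m = 1) (hb : b ^ m = 1) => by
          show (a * b) ^ m = 1
          rw [Commute.mul_pow (hab a b), ha, hb, one_mul]
        inv_mem' := fun {a} (ha : a ^ m = 1) => by show a⁻¹ ^ m = 1; rw [inv_pow, ha, inv_one] }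
    haveI hAn : A.Normal := ⟨fun a ha g => by rwa [hab g a, mul_inv_cancel_right]⟩
    refine ⟨A, hAn, fun a _ b _ => hab a b, ?_, ?_⟩
    · refine (hp.coprime_iff_not_dvd.mpr fun hd => ?_).symm
      obtain ⟨x, hx⟩ := exists_prime_orderOf_dvd_card' p hd
      apply hm
      rw [← hx]
      exact orderOf_dvd_of_pow_eq_one (Subtype.ext x.2)
    · have hP : IsPGroup p (G ⧸ A) := by
        intro q
        obtain ⟨g, rfl⟩ := QuotientGroup.mk_surjective q
        refine ⟨k, ?_⟩
        rw [← QuotientGroup.mk_pow, QuotientGroup.eq_one_iff]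
        show (g ^ p ^ k) ^ m = 1
        rw [← pow_mul, ← hkm, pow_card_eq_one']
      rw [Subgroup.index_eq_card]
      exact IsPGroup.iff_card.mp hP
  · -- there is a nonlinear character
    choose k hk using hall
    have hex : ∃ χ : IrrCharacter G, k χ ≠ 0 := by
      by_contra hcon
      push Not at hcon
      exact hab (comm_iff_all_linear.mpr fun χ => by rw [hk χ, hcon χ, pow_zero])
    obtain ⟨χ₀, hχ₀⟩ := hex
    have hpG : p ∣ Nat.card G :=
      (dvd_pow_self p hχ₀).trans (degree_dvd_card χ₀.2 (by rw [hk χ₀, Nat.cast_pow]))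
    have hpI : p ∣ (commutator G).index := by
      have h := sum_sq_degree (G := G)
      simp only [hk, ← pow_mul] at h
      norm_cast at h
      have hsplit : ∑ χ : IrrCharacter G, p ^ (k χ * 2) =
          (Finset.univ.filter fun χ : IrrCharacter G => k χ = 0).card +
          ∑ χ ∈ Finset.univ.filter (fun χ : IrrCharacter G => ¬ k χ = 0), p ^ (k χ * 2) := by
        rw [← Finset.sum_filter_add_sum_filter_not Finset.univ (fun χ => k χ = 0)]
        congr 1
        rw [Finset.card_eq_sum_ones]
        exact Finset.sum_congr rfl fun χ hχ => by simp [(Finset.mem_filter.mp hχ).2]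
      have hcard : (Finset.univ.filter fun χ : IrrCharacter G => k χ = 0).card =
          (commutator G).index := by
        rw [← card_degree_one, ← Nat.card_eq_finsetCard]
        refine Nat.card_congr (Equiv.subtypeEquivRight fun χ => ?_)
        simp only [Finset.mem_filter, Finset.mem_univ, true_and, hk χ]
        constructor
        · intro h; rw [h, pow_zero]
        · intro h
          norm_cast at h
          exact (pow_eq_one_iff.mp h).resolve_left hp.one_lt.ne'
      rw [hsplit, hcard] at h
      have hdvd : p ∣ ∑ χ ∈ Finset.univ.filter (fun χ : IrrCharacter G => ¬ k χ = 0),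
          p ^ (k χ * 2) :=
        Finset.dvd_sum fun χ hχ => dvd_pow_self p (by
          have := (Finset.mem_filter.mp hχ).2; omega)
      exact (Nat.dvd_add_left hdvd).mp (h ▸ hpG)
    obtain ⟨N, hN, hNi⟩ := exists_index_prime_of_dvd_abelianization hpI
    haveI := Fintype.ofFinite N
    have hlt : Nat.card N < Nat.card G := by
      rw [← N.card_mul_index, hNi]
      exact lt_mul_of_one_lt_right Nat.card_pos hp.one_lt
    obtain ⟨A, hA, hAab, hAco, a, hAi⟩ := ih _ hlt rfl fun θ => by
      obtain ⟨χ, hχ⟩ := exists_constituent (isCharacter_indFun N θ.2.isCharacter) (by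
        rw [indFun_apply_one]
        exact mul_ne_zero (Nat.cast_ne_zero.mpr Subgroup.index_ne_zero_of_finite)
          θ.2.apply_one_ne_zero)
      have hc : classInner (fun n : N => (χ : G → ℂ) n) (θ : N → ℂ) ≠ 0 := by
        rw [classInner_indFun N _ χ.2.isClassFunction, ← classInner_conj_symm] at hχ
        exact fun e => hχ (by rw [e, map_zero])
      obtain ⟨e, he⟩ := (χ.2.isCharacter.comp N.subtype).exists_nat_classInner θ.2.isCharacter
      have he' : classInner (fun n : N => (χ : G → ℂ) n) (θ : N → ℂ) = (e : ℂ) := he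
      obtain ⟨d, hd⟩ := θ.2.isCharacter.exists_degree
      have h := clifford_degree N χ.2 θ.2 hc
      rw [hk χ, he', hd] at h
      norm_cast at h
      obtain ⟨j, -, hj⟩ := (Nat.dvd_prime_pow hp).mp (Dvd.intro_left _ h.symm)
      exact ⟨j, by rw [hd, hj, Nat.cast_pow]⟩
    have hmem : ∀ x : N, x ^ Nat.card A = 1 → x ∈ A := by
      intro x hx
      rw [← QuotientGroup.eq_one_iff, ← orderOf_eq_one_iff]
      refine Nat.eq_one_of_dvd_coprimes (hAco.pow_right a) ?_ ?_
      · exact orderOf_dvd_of_pow_eq_one (by rw [← QuotientGroup.mk_pow, hx, QuotientGroup.mk_one])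
      · rw [← hAi, Subgroup.index_eq_card]; exact orderOf_dvd_natCard _
    refine ⟨A.map N.subtype, ⟨?_⟩, ?_, ?_, a + 1, ?_⟩
    · rintro _ ⟨x, hx, rfl⟩ g
      refine ⟨⟨g * x * g⁻¹, hN.conj_mem x x.2 g⟩, hmem _ (Subtype.ext ?_), rfl⟩
      have h1 : (⟨x, hx⟩ : A) ^ Nat.card A = 1 := pow_card_eq_one'
      have h2 : ((x : G)) ^ Nat.card A = 1 := congrArg (fun y : A => ((y : N) : G)) h1
      rw [SubmonoidClass.coe_pow, OneMemClass.coe_one, conj_pow, h2, mul_one, mul_inv_cancel]
    · rintro _ ⟨x, hx, rfl⟩ _ ⟨y, hy, rfl⟩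
      exact congrArg N.subtype (hAab x hx y hy)
    · rwa [Subgroup.card_map_of_injective N.subtype_injective]
    · rw [Subgroup.index_map_subtype, hAi, hNi, pow_succ]

end Cfsg.Lib.Char
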