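import Cfsg.Agent.Lib.Char.Monomial
import Cfsg.Agent.Lib.Char.PDegree
import Cfsg.Agent.Lib.Char.Clifford2
import Cfsg.Agent.Lib.Char.Extension
import Cfsg.Agent.Lib.Char.Formulas
import Cfsg.Agent.S4456
import Mathlib.GroupTheory.SchurZassenhaus

/-!
# Groups with two irreducible degrees
-/

set_option autoImplicit false
set_option linter.unusedSectionVars false
set_option linter.style.haveILetI false

namespace Cfsg.Lib.Char

open Cfsg
open scoped ComplexConjugate commutatorElement

universe u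

variable {G : Type u} [Group G] [Fintype G]

/-- Linear characters separate the points of an abelian group. -/
theorem eq_one_of_forall_hom (hc : ∀ a b : G, a * b = b * a) {a : G}
    (h : ∀ f : G →* ℂˣ, f a = 1) : a = 1 := by
  classical
  by_contra hne
  have hs := sum_degree_mul a
  rw [if_neg hne] at hs
  have hsum : ∀ φ : IrrCharacter G, (φ : G → ℂ) 1 * (φ : G → ℂ) a = 1 := by
    intro φ
    have h1 := degree_eq_one_of_comm hc φ.2
    obtain ⟨f, hf⟩ := exists_hom_of_degree_one φ.2.isCharacter h1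
    rw [h1, one_mul, hf]
    simp [h f]
  simp only [hsum, Finset.sum_const, nsmul_eq_mul, mul_one, Nat.cast_eq_zero,
    Finset.card_eq_zero] at hs
  exact Finset.notMem_empty (⟨_, isIrrCharacter_one⟩ : IrrCharacter G) (hs ▸ Finset.mem_univ _)

theorem degrees_of_surjective {m : ℕ} {Q : Type u} [Group Q] (π : G →* Q)
    (hπ : Function.Surjective π)
    (hcd : ∀ χ : IrrCharacter G, (χ : G → ℂ) 1 = 1 ∨ (χ : G → ℂ) 1 = (m : ℂ))
    (φ : IrrCharacter Q) : (φ : Q → ℂ) 1 = 1 ∨ (φ : Q → ℂ) 1 = (m : ℂ) := by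
  simpa using hcd ⟨_, φ.2.comp_surjective π hπ⟩

/-- With degrees `1` and `m`, a subgroup of index `m` contains the derived subgroup. -/
theorem commutator_le_of_index {m : ℕ}
    (hcd : ∀ χ : IrrCharacter G, (χ : G → ℂ) 1 = 1 ∨ (χ : G → ℂ) 1 = (m : ℂ))
    (H : Subgroup G) (hH : H.index = m) : commutator G ≤ H := by
  classical
  haveI := Fintype.ofFinite H
  intro y hy
  have hperm := isCharacter_indFun H (isCharacter_one : IsCharacter H fun _ => 1)
  set π := indFun H (fun _ => (1 : ℂ)) with hπ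
  have hπ1 : π 1 = (m : ℂ) := by rw [hπ, indFun_apply_one, hH, mul_one]
  have hπone : classInner π (fun _ => (1 : ℂ)) = 1 := by
    rw [hπ, classInner_indFun H _ (isIrrCharacter_one.isClassFunction)]
    exact classInner_irr_self (isIrrCharacter_one : IsIrrCharacter H fun _ => 1)
  have hker : π y = π 1 := by
    rw [eq_sum_classInner (f := π) hperm.isClassFunction]
    simp only [Finset.sum_apply, Pi.smul_apply]
    refine Finset.sum_congr rfl fun φ _ => ?_
    by_cases h0 : classInner π (φ : G → ℂ) = 0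
    · simp [h0]
    congr 1
    by_cases h1 : (φ : G → ℂ) = fun _ => 1
    · rw [h1]
    have hlin : (φ : G → ℂ) 1 = 1 := by
      refine (hcd φ).resolve_right fun hm => ?_
      have hrest := isCharacter_sub_constituent hperm isIrrCharacter_one (by
        rw [hπone]; exact one_ne_zero)
      have h2 : classInner (π - fun _ => (1 : ℂ)) (φ : G → ℂ) ≠ 0 := by
        rw [classInner_sub_left, classInner_irr_ne isIrrCharacter_one φ.2 (Ne.symm h1), sub_zero]
        exact h0
      have hle := degree_le_of_constituent φ.2 hrest h2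
      simp only [Pi.sub_apply, hπ1, hm, Complex.sub_re, Complex.natCast_re, Complex.one_re] at hle
      linarith
    obtain ⟨f, hf⟩ := exists_hom_of_degree_one φ.2.isCharacter hlin
    simp [hf, MonoidHom.mem_ker.mp (Abelianization.commutator_subset_ker f hy)]
  by_contra hyH
  have h3 : π y = 0 + ((Nat.card H : ℂ)⁻¹ *
      ∑ x ∈ Finset.univ.erase (1 : G), extendByZero H (fun _ => (1 : ℂ)) (x⁻¹ * y * x)) := by
    rw [hπ, indFun, ← Finset.add_sum_erase _ _ (Finset.mem_univ (1 : G)), mul_add,
      inv_one, one_mul, mul_one, extendByZero_of_notMem _ _ hyH, mul_zero]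
  rw [hker, hπ1, zero_add] at h3
  have h4 := congrArg Complex.re h3
  rw [show ((Nat.card H : ℂ)⁻¹) = (((Nat.card H : ℝ)⁻¹ : ℝ) : ℂ) by simp,
    Complex.re_ofReal_mul, Complex.re_sum] at h4
  have h5 : ∑ x ∈ Finset.univ.erase (1 : G),
      (extendByZero H (fun _ => (1 : ℂ)) (x⁻¹ * y * x)).re ≤ (Nat.card G : ℝ) - 1 := by
    refine (Finset.sum_le_card_nsmul _ _ 1 fun x _ => ?_).trans ?_
    · by_cases hx : x⁻¹ * y * x ∈ H
      · rw [extendByZero_of_mem _ _ hx]; simp
      · rw [extendByZero_of_notMem _ _ hx]; simp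
    · rw [Finset.card_erase_of_mem (Finset.mem_univ _), Finset.card_univ,
        ← Nat.card_eq_fintype_card, nsmul_eq_mul, mul_one, Nat.cast_sub Nat.card_pos,
        Nat.cast_one]
  have hG : (Nat.card G : ℝ) = Nat.card H * (m : ℝ) := by
    rw [← H.card_mul_index, hH, Nat.cast_mul]
  have hH0 : (0 : ℝ) < Nat.card H := Nat.cast_pos.mpr Nat.card_pos
  simp only [Complex.natCast_re] at h4
  rw [eq_inv_mul_iff_mul_eq₀ hH0.ne'] at h4
  linarith

/-- A nilpotent group with two degrees is metabelian. -/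
theorem metabelian_of_nilpotent [Group.IsNilpotent G] {m : ℕ}
    (hcd : ∀ χ : IrrCharacter G, (χ : G → ℂ) 1 = 1 ∨ (χ : G → ℂ) 1 = (m : ℂ))
    {a b : G} (ha : a ∈ commutator G) (hb : b ∈ commutator G) : a * b = b * a := by
  classical
  rw [← commutatorElement_eq_one_iff_mul_comm]
  by_contra hne
  have hs := sum_degree_mul ⁅a, b⁆
  rw [if_neg hne, Finset.sum_congr rfl fun χ _ => ?_, sum_sq_degree] at hs
  · exact card_cast_ne_zero hs
  rw [pow_two]
  congr 1
  rcases hcd χ with h1 | hm
  · obtain ⟨f, hf⟩ := exists_hom_of_degree_one χ.2.isCharacter h1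
    simp [hf, commutatorElement_eq_one_iff_mul_comm, mul_comm]
  · obtain ⟨H, lam, hl⟩ := exists_monomial_of_nilpotent _ rfl χ.2
    haveI := Fintype.ofFinite H
    have hidx : H.index = m := by
      rw [hl, indFun_apply_one] at hm
      simp only [map_one, Units.val_one, mul_one] at hm
      exact_mod_cast hm
    have hle := commutator_le_of_index hcd H hidx
    have key : ∀ x : G, extendByZero H (fun h => (lam h : ℂ)) (x⁻¹ * ⁅a, b⁆ * x) = 1 := by
      intro x
      have hc : ∀ c ∈ commutator G, x⁻¹ * c * x ∈ H := fun c hc => hle (by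
        have h := (inferInstance : (commutator G).Normal).conj_mem c hc x⁻¹
        rwa [inv_inv] at h)
      have he : x⁻¹ * ⁅a, b⁆ * x =
          ((⁅(⟨_, hc a ha⟩ : H), (⟨_, hc b hb⟩ : H)⁆ : H) : G) := by
        simp [commutatorElement_def, mul_assoc]
      rw [he, extendByZero_coe, map_commutatorElement,
        commutatorElement_eq_one_iff_mul_comm.mpr (mul_comm _ _), Units.val_one]
    rw [hl]
    simp only [indFun, key, mul_one, inv_mul_cancel, extendByZero_of_mem _ _ H.one_mem]
    simp [show (⟨(1 : G), H.one_mem⟩ : H) = 1 from rfl]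

/-- Projection onto a complement of a normal subgroup. -/
theorem exists_projection (A P : Subgroup G) [A.Normal] (hinf : P ⊓ A = ⊥) (hsup : P ⊔ A = ⊤) :
    ∃ π : G →* P, Function.Surjective π ∧ (∀ s : P, π s = s) ∧
      ∀ x : G, x * (π x : G)⁻¹ ∈ A := by
  have hb : Function.Bijective ((QuotientGroup.mk' A).comp P.subtype) := by
    constructor
    · rw [injective_iff_map_eq_one]
      intro s hs
      have h1 : (s : G) ∈ P ⊓ A := ⟨s.2, (QuotientGroup.eq_one_iff _).mp hs⟩
      rw [hinf, Subgroup.mem_bot] at h1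
      exact Subtype.ext h1
    · intro q
      obtain ⟨x, rfl⟩ := QuotientGroup.mk_surjective q
      obtain ⟨s, hs, a, ha, rfl⟩ :=
        Subgroup.mem_sup_of_normal_right.mp (hsup ▸ Subgroup.mem_top x : x ∈ P ⊔ A)
      refine ⟨⟨s, hs⟩, ?_⟩
      simp [(QuotientGroup.eq_one_iff a).mpr ha]
  let e : P ≃* G ⧸ A := MulEquiv.ofBijective _ hb
  refine ⟨e.symm.toMonoidHom.comp (QuotientGroup.mk' A),
    e.symm.surjective.comp (QuotientGroup.mk'_surjective A), fun s => e.symm_apply_apply s,
    fun x => ?_⟩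
  have h : (((e.symm (x : G ⧸ A)) : G) : G ⧸ A) = (x : G ⧸ A) := e.apply_symm_apply (x : G ⧸ A)
  rw [← QuotientGroup.eq_one_iff, QuotientGroup.mk_mul, QuotientGroup.mk_inv]
  show (x : G ⧸ A) * (((e.symm (x : G ⧸ A)) : G) : G ⧸ A)⁻¹ = 1
  rw [h, mul_inv_cancel]

/-- Degrees `1`, `m` and an abelian `p'` normal subgroup with `p`-group complement. -/
theorem structure_p_complement {m p : ℕ} (hp : p.Prime) (hm : 1 < m)
    (hcd : ∀ χ : IrrCharacter G, (χ : G → ℂ) 1 = 1 ∨ (χ : G → ℂ) 1 = (m : ℂ))
    (A P : Subgroup G) [hA : A.Normal] (hAc : ∀ a ∈ A, ∀ b ∈ A, a * b = b * a)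
    (hP : IsPGroup p P) (hinf : P ⊓ A = ⊥) (hsup : P ⊔ A = ⊤)
    (hcop : (Nat.card A).Coprime p) (hnc : ¬ A ≤ Subgroup.center G) :
    ∃ N : Subgroup G, N.Normal ∧ (∀ a ∈ N, ∀ b ∈ N, a * b = b * a) ∧ N.index = m ∧
      commutator G ≤ N := by
  classical
  haveI := Fintype.ofFinite A
  haveI := Fact.mk hp
  obtain ⟨π, hπs, hπ, hπA⟩ := exists_projection A P hinf hsup
  let tw : G → (A →* ℂˣ) → (A →* ℂˣ) := fun g f =>
    f.comp (MulAut.conjNormal g : MulAut A).toMonoidHom
  have tw_mul : ∀ g h f, tw h (tw g f) = tw (g * h) f := fun g h f =>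
    MonoidHom.ext fun a => congrArg f (Subtype.ext (by simp [mul_assoc]))
  have tw_map : ∀ g f f', tw g (f * f') = tw g f * tw g f' := fun g f f' => rfl
  have tw_mem : ∀ (g : G) (f : A →* ℂˣ),
      g ∈ inertia A (fun a => (f a : ℂ)) ↔ tw g f = f := by
    intro g f
    rw [mem_inertia_iff, MonoidHom.ext_iff]
    exact forall_congr' fun a => Units.val_inj
  have hAin : ∀ f : A →* ℂˣ, A ≤ inertia A (fun a => (f a : ℂ)) := fun f =>
    le_inertia A (isIrrCharacter_linear f).isClassFunction
  have hπmem : ∀ (f : A →* ℂˣ) (x : G), x ∈ inertia A (fun a => (f a : ℂ)) →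
      (π x : G) ∈ inertia A (fun a => (f a : ℂ)) := by
    intro f x hx
    have h := mul_mem (inv_mem (hAin f (hπA x))) hx
    simpa using h
  -- the stabiliser of a moved linear character
  have hstab : ∀ f : A →* ℂˣ, inertia A (fun a => (f a : ℂ)) ≠ ⊤ →
      (inertia A (fun a => (f a : ℂ))).index = m ∧
      commutator G ≤ inertia A (fun a => (f a : ℂ)) ∧
      ∀ x y : G, x ∈ P → y ∈ P → x ∈ inertia A (fun a => (f a : ℂ)) →
        y ∈ inertia A (fun a => (f a : ℂ)) → x * y = y * x := by
    intro f hf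
    set T := inertia A (fun a => (f a : ℂ)) with hT
    haveI := Fintype.ofFinite T
    have hAT : A ≤ T := hAin f
    let S : Subgroup G := P ⊓ T
    haveI := Fintype.ofFinite S
    let lam : T →* ℂˣ :=
      { toFun := fun x => f ⟨(x : G) * (π x : G)⁻¹, hπA x⟩
        map_one' := by rw [← map_one f]; congr 1; apply Subtype.ext; simp
        map_mul' := fun x y => by
          have h := (tw_mem (π (x : G) : G) f).mp (hπmem f x x.2)
          have h' := DFunLike.congr_fun h ⟨(y : G) * (π y : G)⁻¹, hπA y⟩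
          have he : (⟨((x * y : T) : G) * (π ((x * y : T) : G) : G)⁻¹, hπA _⟩ : A) =
              ⟨(x : G) * (π x : G)⁻¹, hπA x⟩ *
                (MulAut.conjNormal (π (x : G) : G) : MulAut A) ⟨(y : G) * (π y : G)⁻¹, hπA y⟩ := by
            apply Subtype.ext
            simp [mul_assoc]
          rw [he, map_mul]
          exact congrArg _ h' }
    let πT : T →* S :=
      { toFun := fun x => ⟨(π (x : G) : G), (π (x : G)).2, hπmem f x x.2⟩
        map_one' := Subtype.ext (by simp)
        map_mul' := fun x y => Subtype.ext (by simp) }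
    have hπT : Function.Surjective πT := fun s =>
      ⟨⟨(s : G), (Subgroup.mem_inf.mp s.2).2⟩, Subtype.ext (show ((π (s : G)) : G) = (s : G) from
        congrArg Subtype.val (hπ ⟨(s : G), (Subgroup.mem_inf.mp s.2).1⟩))⟩
    have hidx : 1 < T.index := by
      have h1 := Subgroup.index_ne_zero_of_finite (H := T)
      have h2 : T.index ≠ 1 := fun h => hf (Subgroup.index_eq_one.mp h)
      omega
    have hdeg : ∀ θ : IrrCharacter S, (T.index : ℂ) * (θ : S → ℂ) 1 = (m : ℂ) := by
      intro θ
      let ψ : T → ℂ := (fun x => (θ : S → ℂ) (πT x)) * fun x => (lam x : ℂ)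
      have hψ : IsIrrCharacter T ψ := isIrrCharacter_mul_linear (θ.2.comp_surjective πT hπT) lam
      have hres : (fun h : A => ψ ⟨h, hAT h.2⟩) = (θ : S → ℂ) 1 • fun a => (f a : ℂ) := by
        funext a
        have h1 : (π (a : G) : G) = 1 := by
          have h2 : (π (a : G) : G) ∈ P ⊓ A := ⟨(π (a : G)).2, by
            have h3 := mul_mem (inv_mem (hπA a)) a.2
            simpa using h3⟩
          rwa [hinf, Subgroup.mem_bot] at h2
        have h4 : πT ⟨a, hAT a.2⟩ = 1 := Subtype.ext h1
        show (θ : S → ℂ) (πT ⟨a, hAT a.2⟩) * (f _ : ℂ) = (θ : S → ℂ) 1 * (f a : ℂ)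
        rw [h4]
        congr 3
        exact Subtype.ext (by show (a : G) * (π (a : G) : G)⁻¹ = a; rw [h1, inv_one, mul_one])
      obtain ⟨hirr, -⟩ := clifford_induce A (isIrrCharacter_linear f) hAT hT hψ (by
        rw [hres, classInner_smul_left, classInner_irr_self (isIrrCharacter_linear f), mul_one]
        exact θ.2.apply_one_ne_zero)
      have h1 : indFun T ψ 1 = (T.index : ℂ) * (θ : S → ℂ) 1 := by
        rw [indFun_apply_one]; simp [ψ]
      rcases hcd ⟨_, hirr⟩ with h | h
      · obtain ⟨d, hd⟩ := θ.2.isCharacter.exists_degree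
        change indFun T ψ 1 = 1 at h
        rw [h1, hd, ← Nat.cast_mul, Nat.cast_eq_one] at h
        exact absurd (Nat.eq_one_of_mul_eq_one_right h) hidx.ne'
      · exact h1.symm.trans h
    have hm' : T.index = m := by
      have h := hdeg ⟨_, isIrrCharacter_one⟩
      simp only [mul_one] at h
      exact_mod_cast h
    refine ⟨hm', commutator_le_of_index hcd T hm', fun x y hxP hyP hx hy => ?_⟩
    have hcomm := (comm_iff_all_linear (G := S)).mpr fun θ => by
      have h := hdeg θ
      rw [hm'] at h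
      exact (mul_eq_left₀ (Nat.cast_ne_zero.mpr (by omega))).mp h
    exact congrArg Subtype.val (hcomm ⟨x, hxP, hx⟩ ⟨y, hyP, hy⟩)
  -- coprime powers are injective on the dual
  have hpow : ∀ (S : Subgroup G), S ≤ P → ∀ f f' : A →* ℂˣ,
      f ^ Nat.card S = f' ^ Nat.card S → f = f' := by
    intro S hS f f' h
    obtain ⟨j, hj⟩ := IsPGroup.iff_card.mp (hP.to_le hS)
    refine MonoidHom.ext fun a => ?_
    obtain ⟨b, rfl⟩ := (powCoprime (n := Nat.card S)
      (by rw [hj]; exact hcop.pow_right j) : A ≃ A).surjective a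
    show f (b ^ Nat.card S) = f' (b ^ Nat.card S)
    rw [map_pow, map_pow]
    exact DFunLike.congr_fun h b
  obtain ⟨f, hf⟩ : ∃ f : A →* ℂˣ, inertia A (fun a => (f a : ℂ)) ≠ ⊤ := by
    by_contra hall
    push Not at hall
    refine hnc fun a ha => Subgroup.mem_center_iff.mpr fun g => ?_
    have h1 : (MulAut.conjNormal g : MulAut A) ⟨a, ha⟩ * ⟨a, ha⟩⁻¹ = 1 :=
      eq_one_of_forall_hom (fun x y => Subtype.ext (hAc x x.2 y y.2)) fun f => by
        have h2 := (tw_mem g f).mp (hall f ▸ Subgroup.mem_top g)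
        rw [map_mul, map_inv, mul_inv_eq_one]
        exact DFunLike.congr_fun h2 ⟨a, ha⟩
    have h3 := congrArg Subtype.val (mul_inv_eq_one.mp h1)
    simp only [MulAut.conjNormal_apply] at h3
    exact mul_inv_eq_iff_eq_mul.mp h3
  obtain ⟨hfm, hfc, hfS⟩ := hstab f hf
  set T := inertia A (fun a => (f a : ℂ)) with hT
  haveI hTn : T.Normal := Subgroup.Normal.of_commutator_le _ hfc
  have hfix : ∀ s ∈ P, s ∈ T → ∀ w : A →* ℂˣ, tw s w = w := by
    intro s hsP hsT w
    by_contra hw
    let S : Subgroup G := P ⊓ T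
    haveI := Fintype.ofFinite S
    let Nm : (A →* ℂˣ) → (A →* ℂˣ) := fun w => ∏ x : S, tw (x : G) w
    have Nm_mul : ∀ w w', Nm (w * w') = Nm w * Nm w' := fun w w' => by
      show ∏ x : S, tw (x : G) (w * w') = _
      rw [Finset.prod_congr rfl fun x _ => tw_map _ w w', Finset.prod_mul_distrib]
    have tw_Nm : ∀ g ∈ P, ∀ w, tw g (Nm w) = Nm (tw g w) := by
      intro g hg w
      let G₀ : (A →* ℂˣ) →* (A →* ℂˣ) :=
        MonoidHom.mk' (tw g) (tw_map g)
      have hn : ∀ x : S, g⁻¹ * (x : G) * g ∈ S := fun x =>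
        Subgroup.mem_inf.mpr ⟨mul_mem (mul_mem (inv_mem hg) x.2.1) hg, by
          have := hTn.conj_mem _ x.2.2 g⁻¹
          rwa [inv_inv] at this⟩
      have hn' : ∀ x : S, g * (x : G) * g⁻¹ ∈ S := fun x =>
        Subgroup.mem_inf.mpr ⟨mul_mem (mul_mem hg x.2.1) (inv_mem hg), hTn.conj_mem _ x.2.2 g⟩
      let e : S ≃ S :=
        { toFun := fun x => ⟨_, hn x⟩
          invFun := fun x => ⟨_, hn' x⟩
          left_inv := fun x => Subtype.ext (by simp [mul_assoc])
          right_inv := fun x => Subtype.ext (by simp [mul_assoc]) }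
      show G₀ (∏ x : S, tw (x : G) w) = ∏ x : S, tw (x : G) (tw g w)
      rw [map_prod]
      refine Fintype.prod_equiv e _ _ fun x => ?_
      show tw g (tw (x : G) w) = tw (g⁻¹ * (x : G) * g) (tw g w)
      rw [tw_mul, tw_mul]
      congr 1
      group
    have Nm_fix : ∀ w, (∀ x : S, tw (x : G) w = w) → Nm w = w ^ Nat.card S := fun w h => by
      show ∏ x : S, tw (x : G) w = _
      rw [Finset.prod_congr rfl fun x _ => h x, Finset.prod_const, Finset.card_univ,
        Nat.card_eq_fintype_card]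
    have fix_Nm : ∀ (x : S) w, tw (x : G) (Nm w) = Nm w := by
      intro x w
      let G₀ : (A →* ℂˣ) →* (A →* ℂˣ) := MonoidHom.mk' (tw (x : G)) (tw_map _)
      show G₀ (∏ y : S, tw (y : G) w) = _
      rw [map_prod]
      exact Fintype.prod_equiv (Equiv.mulRight x) _ _ fun y => tw_mul (y : G) (x : G) w
    let v : A →* ℂˣ := w ^ Nat.card S * (Nm w)⁻¹
    have NmH : ∀ a b, Nm (a * b) = Nm a * Nm b := Nm_mul
    have hNv : Nm v = 1 := by
      let H₀ : (A →* ℂˣ) →* (A →* ℂˣ) := MonoidHom.mk' Nm NmH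
      show H₀ (w ^ Nat.card S * (Nm w)⁻¹) = 1
      rw [map_mul, show H₀ (Nm w)⁻¹ = (H₀ (Nm w))⁻¹ from map_inv H₀ _,
        show H₀ (w ^ Nat.card S) = H₀ w ^ Nat.card S from map_pow H₀ w _]
      show Nm w ^ Nat.card S * (Nm (Nm w))⁻¹ = 1
      rw [Nm_fix _ fun x => fix_Nm x w]
      exact mul_inv_cancel (G := A →* ℂˣ) _
    have hv : tw s v ≠ v := by
      intro h
      apply hw
      apply hpow S inf_le_left
      let G₀ : (A →* ℂˣ) →* (A →* ℂˣ) := MonoidHom.mk' (tw s) (tw_map s)
      have h' : G₀ (w ^ Nat.card S * (Nm w)⁻¹) = w ^ Nat.card S * (Nm w)⁻¹ := h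
      rw [map_mul, show G₀ (Nm w)⁻¹ = (G₀ (Nm w))⁻¹ from map_inv G₀ _,
        show G₀ (w ^ Nat.card S) = G₀ w ^ Nat.card S from map_pow G₀ w _,
        show G₀ (Nm w) = Nm w from fix_Nm ⟨s, Subgroup.mem_inf.mpr ⟨hsP, hsT⟩⟩ w] at h'
      exact mul_right_cancel h'
    -- a stabiliser of `f * v` in `P` fixes `f`
    have hNf : Nm f = f ^ Nat.card S := Nm_fix f fun x => (tw_mem _ _).mp x.2.2
    have hboth : ∀ g ∈ P, tw g (f * v) = f * v → tw g f = f ∧ tw g v = v := by
      intro g hg h
      have h1 := tw_Nm g hg (f * v)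
      rw [h, Nm_mul, hNv] at h1
      erw [mul_one] at h1
      rw [hNf] at h1
      let G₀ : (A →* ℂˣ) →* (A →* ℂˣ) := MonoidHom.mk' (tw g) (tw_map g)
      have hfg : tw g f = f := hpow S inf_le_left _ _ ((map_pow G₀ f _).symm.trans h1)
      rw [tw_map, hfg] at h
      exact ⟨hfg, mul_left_cancel h⟩
    set U := inertia A (fun a => ((f * v) a : ℂ)) with hU
    have hUT : U ≤ T := by
      intro x hx
      have h1 := hπmem _ x hx
      have h2 := (hboth _ (π x).2 ((tw_mem _ _).mp h1)).1
      have h3 := mul_mem (hAin f (hπA x)) ((tw_mem _ _).mpr h2)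
      simpa [mul_assoc] using h3
    have hUne : U ≠ ⊤ := fun h => hf (top_le_iff.mp (h ▸ hUT))
    obtain ⟨hUm, -, -⟩ := hstab _ hUne
    have hUT' : U = T := Subgroup.eq_of_le_of_card_ge hUT (by
      have h1 := U.card_mul_index
      have h2 := T.card_mul_index
      rw [hUm] at h1
      rw [hfm, ← h1] at h2
      exact (Nat.eq_of_mul_eq_mul_right (by omega) h2).le)
    exact hv (hboth s hsP ((tw_mem _ _).mp (hUT'.symm ▸ hsT : s ∈ U))).2
  refine ⟨T, hTn, ?_, hfm, hfc⟩
  -- elements of `P ∩ T` centralise `A`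
  have hsc : ∀ s ∈ P, s ∈ T → ∀ a ∈ A, s * a = a * s := by
    intro s hsP hsT a ha
    have h1 : (MulAut.conjNormal s : MulAut A) ⟨a, ha⟩ * ⟨a, ha⟩⁻¹ = 1 :=
      eq_one_of_forall_hom (fun x y => Subtype.ext (hAc x x.2 y y.2)) fun w => by
        rw [map_mul, map_inv, mul_inv_eq_one]
        exact DFunLike.congr_fun (hfix s hsP hsT w) ⟨a, ha⟩
    have h3 := congrArg Subtype.val (mul_inv_eq_one.mp h1)
    simp only [MulAut.conjNormal_apply] at h3
    exact mul_inv_eq_iff_eq_mul.mp h3
  intro x hx y hy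
  have e1 : x = x * (π x : G)⁻¹ * (π x : G) := (inv_mul_cancel_right _ _).symm
  have e2 : y = y * (π y : G)⁻¹ * (π y : G) := (inv_mul_cancel_right _ _).symm
  have cab : Commute (x * (π x : G)⁻¹) (y * (π y : G)⁻¹) := hAc _ (hπA x) _ (hπA y)
  have cat : Commute (x * (π x : G)⁻¹) (π y : G) :=
    (hsc _ (π y).2 (hπmem f y hy) _ (hπA x)).symm
  have csb : Commute (π x : G) (y * (π y : G)⁻¹) := hsc _ (π x).2 (hπmem f x hx) _ (hπA y)
  have cst : Commute (π x : G) (π y : G) :=
    hfS _ _ (π x).2 (π y).2 (hπmem f x hx) (hπmem f y hy)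
  have h := (cab.mul_right cat).mul_left (csb.mul_right cst)
  rw [← e1, ← e2] at h
  exact h.eq

/-- A twist fixing a character has order dividing the degree. -/
theorem pow_degree_eq_one_of_twist {θ : G → ℂ} (hθ : IsCharacter G θ) {d : ℕ} (hd : θ 1 = d)
    (μ : G →* ℂˣ) (h : ∀ x, θ x * (μ x : ℂ) = θ x) (x : G) : μ x ^ d = 1 := by
  obtain ⟨n, ρ, rfl⟩ := hθ
  rw [Representation.char_one, Module.finrank_fin_fun, Nat.cast_inj] at hd
  subst hd
  let σ : Representation ℂ G (Fin n → ℂ) :=
    { toFun := fun g => (μ g : ℂ) • ρ g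
      map_one' := by simp
      map_mul' := fun g g' => by
        simp [smul_mul_assoc, mul_smul_comm, smul_smul, mul_comm] }
  have hchar : σ.character = ρ.character := funext fun g => by
    show LinearMap.trace ℂ _ ((μ g : ℂ) • ρ g) = LinearMap.trace ℂ _ (ρ g)
    rw [map_smul, smul_eq_mul, mul_comm]
    exact h g
  have h1 := congrFun (congrArg detChar hchar) x
  rw [detChar_character, detChar_character] at h1
  simp only [detHom_apply] at h1
  change LinearMap.det ((μ x : ℂ) • ρ x) = _ at h1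
  rw [LinearMap.det_smul, Module.finrank_fin_fun] at h1
  apply Units.ext
  rw [Units.val_pow_eq_pow_val, Units.val_one]
  exact (mul_eq_right₀ (by rw [← detHom_apply]; exact Units.ne_zero _)).mp h1

/-- Degrees `1`, `m` and a derived subgroup that is least normal of order prime to `m`. -/
theorem frobenius_quotient {m : ℕ}
    (hcd : ∀ χ : IrrCharacter G, (χ : G → ℂ) 1 = 1 ∨ (χ : G → ℂ) 1 = (m : ℂ))
    (hne : commutator G ≠ ⊥)
    (hmin : ∀ M : Subgroup G, M.Normal → M ≠ ⊥ → commutator G ≤ M)
    (hcop : (Nat.card (commutator G)).Coprime m) :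
    (∀ a ∈ commutator G, ∀ b ∈ commutator G, a * b = b * a) ∧
      (∀ x ∉ commutator G, ∀ l ∈ commutator G, x * l = l * x → l = 1) ∧
      (commutator G).index = m ∧ m ≤ Nat.card (commutator G) := by
  classical
  have hkey : ∀ L : Subgroup G, L = commutator G → (∀ a ∈ L, ∀ b ∈ L, a * b = b * a) ∧
      (∀ x ∉ L, ∀ l ∈ L, x * l = l * x → l = 1) ∧ L.index = m ∧ m ≤ Nat.card L := by
    intro L hLdef
    rw [← hLdef] at hne hmin hcop
    haveI : L.Normal := hLdef ▸ inferInstance
    haveI := Fintype.ofFinite L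
    obtain ⟨φ, hφ⟩ : ∃ φ : IrrCharacter G, (φ : G → ℂ) 1 = (m : ℂ) := by
      by_contra hall
      push Not at hall
      refine hne (hLdef.trans (eq_bot_iff.mpr (commutator_def G ▸ Subgroup.commutator_le.mpr ?_)))
      intro a _ b _
      rw [Subgroup.mem_bot, commutatorElement_eq_one_iff_mul_comm]
      exact comm_iff_all_linear.mpr (fun χ => (hcd χ).resolve_right (hall χ)) a b
    have hm0 : m ≠ 0 := fun h => φ.2.apply_one_ne_zero (by rw [hφ, h, Nat.cast_zero])
    have hLab : ∀ a ∈ L, ∀ b ∈ L, a * b = b * a := by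
      intro a ha b hb
      have h := (comm_iff_all_linear (G := L)).mpr (fun θ => ?_) ⟨a, ha⟩ ⟨b, hb⟩
      · exact congrArg Subtype.val h
      obtain ⟨χ, hχ⟩ := exists_constituent (isCharacter_indFun L θ.2.isCharacter) (by
        rw [indFun_apply_one]
        exact mul_ne_zero (Nat.cast_ne_zero.mpr Subgroup.index_ne_zero_of_finite)
          θ.2.apply_one_ne_zero)
      have hc : classInner (fun n : L => (χ : G → ℂ) n) (θ : L → ℂ) ≠ 0 := by
        rw [classInner_indFun L _ χ.2.isClassFunction, ← classInner_conj_symm] at hχ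
        exact fun e => hχ (by rw [e, map_zero])
      obtain ⟨e, he⟩ := (χ.2.isCharacter.comp L.subtype).exists_nat_classInner θ.2.isCharacter
      have he' : classInner (fun n : L => (χ : G → ℂ) n) (θ : L → ℂ) = (e : ℂ) := he
      obtain ⟨d, hd⟩ := θ.2.isCharacter.exists_degree
      have h := clifford_degree L χ.2 θ.2 hc
      rw [he', hd] at h
      rw [hd, Nat.cast_eq_one]
      rcases hcd χ with h1 | h1 <;> rw [h1] at h <;> norm_cast at h
      · exact Nat.eq_one_of_mul_eq_one_left h.symm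
      · exact Nat.eq_one_of_dvd_coprimes hcop (degree_dvd_card θ.2 hd) (Dvd.intro_left _ h.symm)
    have hLne : ∃ l ∈ L, l ≠ (1 : G) := by
      by_contra h
      push Not at h
      exact hne (eq_bot_iff.mpr fun l hl => Subgroup.mem_bot.mpr (h l hl))
    have hcentral : ¬ ∀ x : G, ∀ l ∈ L, x * l = l * x := by
      intro hc
      have hmc : m ∣ Nat.card G := degree_dvd_card φ.2 hφ
      have hm1 : m ≠ 1 := by
        intro h1
        apply hne
        rw [hLdef, eq_bot_iff, commutator_def, Subgroup.commutator_le]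
        intro a _ b _
        rw [Subgroup.mem_bot, commutatorElement_eq_one_iff_mul_comm]
        refine comm_iff_all_linear.mpr (fun χ => ?_) a b
        rcases hcd χ with h | h
        · exact h
        · rw [h, h1, Nat.cast_one]
      obtain ⟨p, hp, hpm⟩ := Nat.exists_prime_and_dvd hm1
      haveI := Fact.mk hp
      obtain ⟨s, hs⟩ := exists_prime_orderOf_dvd_card' p (hpm.trans hmc)
      have hpow : s ^ p = 1 := by rw [← hs]; exact pow_orderOf_eq_one s
      have hLp : ∀ l ∈ L, l ^ p = 1 → l = 1 := by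
        intro l hl h
        have h1 : orderOf (⟨l, hl⟩ : L) ∣ p := orderOf_dvd_of_pow_eq_one (Subtype.ext h)
        have h2 := Nat.eq_one_of_dvd_coprimes (hcop.coprime_dvd_right hpm)
          (orderOf_dvd_natCard (⟨l, hl⟩ : L)) h1
        exact congrArg Subtype.val (orderOf_eq_one_iff.mp h2)
      have hsc : ∀ g : G, g * s * g⁻¹ = s := by
        intro g
        have hl : ⁅g, s⁆ ∈ L := by
          rw [hLdef, commutator_def]
          exact Subgroup.commutator_mem_commutator (Subgroup.mem_top g) (Subgroup.mem_top s)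
        have h1 : g * s * g⁻¹ = ⁅g, s⁆ * s := by simp [commutatorElement_def, mul_assoc]
        have h2 : (⁅g, s⁆ * s) ^ p = 1 := by
          rw [← h1, conj_pow, hpow, mul_one, mul_inv_cancel]
        rw [(Commute.mul_pow (hc s _ hl).symm p), hpow, mul_one] at h2
        rw [h1, hLp _ hl h2, one_mul]
      have hn : (Subgroup.zpowers s).Normal := ⟨fun x hx g => by
        obtain ⟨k, rfl⟩ := Subgroup.mem_zpowers_iff.mp hx
        rw [← conj_zpow, hsc]
        exact hx⟩
      have hle := hmin _ hn (Subgroup.zpowers_ne_bot.mpr fun h => by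
        rw [h, orderOf_one] at hs; exact hp.one_lt.ne hs)
      obtain ⟨l, hl, hl1⟩ := hLne
      refine hl1 (hLp l hl ?_)
      obtain ⟨k, rfl⟩ := Subgroup.mem_zpowers_iff.mp (hle hl)
      rw [← zpow_natCast, ← zpow_mul, mul_comm, zpow_mul, zpow_natCast, hpow, one_zpow]
    have hLmem : ∀ a b : G, a * b * a⁻¹ * b⁻¹ ∈ L := fun a b => by
      rw [hLdef, commutator_def]
      exact Subgroup.commutator_mem_commutator (Subgroup.mem_top a) (Subgroup.mem_top b)
    -- an element not centralising `L` fixes nothing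
    have hfpf : ∀ x : G, (∃ l ∈ L, x * l ≠ l * x) → ∀ l ∈ L, x * l = l * x → l = 1 := by
      intro x hx l hl hxl
      let D : Subgroup G := L ⊓ Subgroup.centralizer {x}
      have hD : D.Normal := ⟨fun d hd y => ⟨(inferInstance : L.Normal).conj_mem d hd.1 y, by
        apply Subgroup.mem_centralizer_singleton_iff.mpr
        have h1 : x = (x * y * x⁻¹ * y⁻¹) * (y * x * y⁻¹) := by simp [mul_assoc]
        have h2 : Commute (x * y * x⁻¹ * y⁻¹) (y * d * y⁻¹) :=
          hLab _ (hLmem x y) _ ((inferInstance : L.Normal).conj_mem d hd.1 y)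
        have hdx : Commute d x := Subgroup.mem_centralizer_singleton_iff.mp hd.2
        have h3 : Commute (y * x * y⁻¹) (y * d * y⁻¹) := by
          show (y * x * y⁻¹) * (y * d * y⁻¹) = (y * d * y⁻¹) * (y * x * y⁻¹)
          simp only [mul_assoc, inv_mul_cancel_left]
          rw [← mul_assoc x, ← mul_assoc d, hdx.eq]
        have h4 := h2.mul_left h3
        rw [← h1] at h4
        exact h4.symm.eq⟩⟩
      have hDb : D = ⊥ := by
        by_contra h
        obtain ⟨l', hl', hne'⟩ := hx
        exact hne' (Subgroup.mem_centralizer_singleton_iff.mp (hmin D hD h hl').2).symm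
      have : l ∈ D := ⟨hl, Subgroup.mem_centralizer_singleton_iff.mpr hxl.symm⟩
      rwa [hDb, Subgroup.mem_bot] at this
    -- bijectivity of commutation with such an element
    have hsurj : ∀ x : G, (∃ l ∈ L, x * l ≠ l * x) → ∀ c ∈ L, ∃ l ∈ L, x * l * x⁻¹ * l⁻¹ = c := by
      intro x hx c hc
      let F : L → L := fun l => ⟨x * l * x⁻¹ * (l : G)⁻¹, hLmem x l⟩
      have hF : Function.Injective F := by
        intro a b hab
        have h1 : x * a * x⁻¹ * (a : G)⁻¹ = x * b * x⁻¹ * (b : G)⁻¹ := congrArg Subtype.val hab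
        have hba : x * ((b : G)⁻¹ * a) = ((b : G)⁻¹ * a) * x := by
          have hc1 := hLab _ (inv_mem b.2) _ a.2
          have h2 : x * a * x⁻¹ = x * b * x⁻¹ * ((b : G)⁻¹ * a) := by
            rw [← mul_assoc, ← mul_inv_eq_iff_eq_mul]
            exact h1
          calc x * ((b : G)⁻¹ * a) = (x * b * x⁻¹)⁻¹ * (x * a * x⁻¹) * x := by
                simp [mul_assoc]
            _ = ((b : G)⁻¹ * a) * x := by rw [h2, inv_mul_cancel_left]
        have := hfpf x hx _ (mul_mem (inv_mem b.2) a.2) hba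
        exact Subtype.ext (inv_mul_eq_one.mp this).symm
      obtain ⟨l, hl⟩ := Finite.injective_iff_surjective.mp hF ⟨c, hc⟩
      exact ⟨l, l.2, congrArg Subtype.val hl⟩
    -- the centraliser of `L` is `L`
    have hC : ∀ c : G, (∀ l ∈ L, c * l = l * c) → c ∈ L := by
      intro c hc
      obtain ⟨x, hx⟩ := not_forall.mp hcentral
      push Not at hx
      obtain ⟨l, hl, hlc⟩ := hsurj x hx _ (hLmem x c)
      let D : Subgroup G := Subgroup.centralizer (L : Set G) ⊓ Subgroup.centralizer {x}
      have hD : D.Normal := ⟨fun d hd y => by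
        have hd1 : ∀ l ∈ L, Commute l d := fun l hl => Subgroup.mem_centralizer_iff.mp hd.1 l hl
        have hcd1 : y * d * y⁻¹ ∈ Subgroup.centralizer (L : Set G) :=
          (Subgroup.Normal.conj_mem inferInstance d hd.1 y)
        refine ⟨hcd1, Subgroup.mem_centralizer_singleton_iff.mpr ?_⟩
        have h1 : x = (x * y * x⁻¹ * y⁻¹) * (y * x * y⁻¹) := by simp [mul_assoc]
        have h2 : Commute (x * y * x⁻¹ * y⁻¹) (y * d * y⁻¹) :=
          Subgroup.mem_centralizer_iff.mp hcd1 _ (hLmem x y)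
        have hdx : Commute d x := Subgroup.mem_centralizer_singleton_iff.mp hd.2
        have h3 : Commute (y * x * y⁻¹) (y * d * y⁻¹) := by
          show (y * x * y⁻¹) * (y * d * y⁻¹) = (y * d * y⁻¹) * (y * x * y⁻¹)
          simp only [mul_assoc, inv_mul_cancel_left]
          rw [← mul_assoc x, ← mul_assoc d, hdx.eq]
        have h4 := h2.mul_left h3
        rw [← h1] at h4
        exact h4.symm.eq⟩
      have hDb : D = ⊥ := by
        by_contra h
        obtain ⟨l', hl', hne'⟩ := hx
        exact hne' (Subgroup.mem_centralizer_singleton_iff.mp (hmin D hD h hl').2).symm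
      have hmem : l⁻¹ * c ∈ D := by
        refine ⟨Subgroup.mem_centralizer_iff.mpr fun l' hl' => ?_,
          Subgroup.mem_centralizer_singleton_iff.mpr ?_⟩
        · exact (Commute.mul_right (hLab l' hl' _ (inv_mem hl)) (hc l' hl').symm).eq
        · have h5 : x * l * x⁻¹ = x * c * x⁻¹ * c⁻¹ * l := mul_inv_eq_iff_eq_mul.mp hlc
          symm
          calc x * (l⁻¹ * c) = (x * l * x⁻¹)⁻¹ * (x * c * x⁻¹) * x := by simp [mul_assoc]
            _ = l⁻¹ * c * x := by rw [h5]; simp [mul_assoc]
      rw [hDb, Subgroup.mem_bot] at hmem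
      exact (inv_mul_eq_one.mp hmem) ▸ hl
    have hout : ∀ x ∉ L, ∃ l ∈ L, x * l ≠ l * x := fun x hx => by
      by_contra h
      push Not at h
      exact hx (hC x h)
    refine ⟨hLab, fun x hx => hfpf x (hout x hx), ?_⟩
    have htop : L ≠ ⊤ := fun h =>
      hcentral fun x l hl => hLab x (h ▸ Subgroup.mem_top x) l hl
    obtain ⟨l₀, hl₀, hl₀1⟩ := hLne
    obtain ⟨f, hf⟩ : ∃ f : L →* ℂˣ, f ≠ 1 := by
      by_contra h
      push Not at h
      exact hl₀1 (congrArg Subtype.val (eq_one_of_forall_hom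
        (fun x y => Subtype.ext (hLab x x.2 y y.2)) (a := (⟨l₀, hl₀⟩ : L)) fun f => by rw [h f]; rfl))
    have hin : inertia L (fun a => (f a : ℂ)) = L := by
      refine le_antisymm (fun g hg => ?_) (le_inertia L (isIrrCharacter_linear f).isClassFunction)
      by_contra hgL
      apply hf
      refine MonoidHom.ext fun a => ?_
      obtain ⟨l, hl, hla⟩ := hsurj g (hout g hgL) a a.2
      have h1 : f ⟨g * l * g⁻¹, (inferInstance : L.Normal).conj_mem l hl g⟩ = f ⟨l, hl⟩ :=
        Units.ext ((mem_inertia_iff L).mp hg ⟨l, hl⟩)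
      have h2 : a = ⟨g * l * g⁻¹, (inferInstance : L.Normal).conj_mem l hl g⟩ * (⟨l, hl⟩ : L)⁻¹ :=
        Subtype.ext hla.symm
      rw [h2, map_mul, map_inv, h1, mul_inv_cancel]
      rfl
    obtain ⟨hirr, -⟩ := clifford_induce L (isIrrCharacter_linear f) le_rfl hin.symm
      (isIrrCharacter_linear f) (by
        rw [show (fun h : L => (f ⟨h, h.2⟩ : ℂ)) = fun h => (f h : ℂ) from rfl,
          classInner_irr_self (isIrrCharacter_linear f)]
        exact one_ne_zero)
    have hLm : L.index = m := by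
      rcases hcd ⟨_, hirr⟩ with h | h <;>
        (change indFun L (fun a => (f a : ℂ)) 1 = _ at h
         rw [indFun_apply_one, map_one, Units.val_one, mul_one] at h)
      · exact absurd (Subgroup.index_eq_one.mp (by exact_mod_cast h)) htop
      · exact_mod_cast h
    refine ⟨hLm, ?_⟩
    rw [← hLm, Subgroup.index_eq_card]
    refine Nat.card_le_card_of_injective
      (fun q => (⟨q.out * l₀ * q.out⁻¹, (inferInstance : L.Normal).conj_mem l₀ hl₀ _⟩ : L))
      fun q r hqr => ?_
    have h1 : q.out * l₀ * q.out⁻¹ = r.out * l₀ * r.out⁻¹ := congrArg Subtype.val hqr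
    have h2 : q.out⁻¹ * r.out ∈ L := by
      by_contra h
      apply hl₀1
      refine hfpf _ (hout _ h) l₀ hl₀ ?_
      calc q.out⁻¹ * r.out * l₀ = q.out⁻¹ * (r.out * l₀ * r.out⁻¹) * r.out := by simp [mul_assoc]
        _ = l₀ * (q.out⁻¹ * r.out) := by rw [← h1]; simp [mul_assoc]
    rw [← q.out_eq, ← r.out_eq]
    exact QuotientGroup.eq.mpr h2
  exact hkey _ rfl

/-- Degrees `1`, `m`: structure. -/
theorem two_degree_structure {m : ℕ} (hm : 1 < m)
    (hcd : ∀ χ : IrrCharacter G, (χ : G → ℂ) 1 = 1 ∨ (χ : G → ℂ) 1 = (m : ℂ))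
    (hex : ∃ χ : IrrCharacter G, (χ : G → ℂ) 1 = (m : ℂ)) :
    (∃ N : Subgroup G, N.Normal ∧ (∀ a ∈ N, ∀ b ∈ N, a * b = b * a) ∧ N.index = m ∧
      commutator G ≤ N) ∨
    ∃ p e : ℕ, p.Prime ∧ m = p ^ e ∧ ∃ P A : Subgroup G, P.Normal ∧ A.Normal ∧ IsPGroup p P ∧
      (∀ a ∈ A, ∀ b ∈ A, a * b = b * a) ∧ A ≤ Subgroup.center G ∧ P ⊓ A = ⊥ ∧ P ⊔ A = ⊤ := by
  classical
  by_cases hpp : ∃ p e : ℕ, p.Prime ∧ m = p ^ e
  · obtain ⟨p, e, hp, hme⟩ := hpp
    obtain ⟨A, hA, hAc, hAco, k, hAi⟩ :=
      exists_abelian_complement_of_p_degrees p hp _ rfl fun χ : IrrCharacter G => by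
        rcases hcd χ with h | h
        · exact ⟨0, by rw [h, pow_zero]⟩
        · exact ⟨e, by rw [h, hme, Nat.cast_pow]⟩
    haveI := hA
    obtain ⟨P, hP⟩ := Subgroup.exists_right_complement'_of_coprime (N := A)
      (by rw [hAi]; exact hAco.pow_right k)
    have hinf : P ⊓ A = ⊥ := by rw [inf_comm]; exact hP.disjoint.eq_bot
    have hsup : P ⊔ A = ⊤ := by rw [sup_comm]; exact hP.sup_eq_top
    have hPp : IsPGroup p P := IsPGroup.of_card (n := k) (by
      have h1 := hP.card_mul_card
      rw [← A.card_mul_index, hAi] at h1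
      exact Nat.eq_of_mul_eq_mul_left Nat.card_pos h1)
    by_cases hnc : A ≤ Subgroup.center G
    · refine Or.inr ⟨p, e, hp, hme, P, A, ⟨fun x hx g => ?_⟩, hA, hPp, hAc, hnc, hinf, hsup⟩
      obtain ⟨s, hs, a, ha, rfl⟩ :=
        Subgroup.mem_sup_of_normal_right.mp (hsup ▸ Subgroup.mem_top g : g ∈ P ⊔ A)
      have hax : Commute a x := ((Subgroup.mem_center_iff.mp (hnc ha)) x).symm
      rw [show s * a * x * (s * a)⁻¹ = s * (a * x * a⁻¹) * s⁻¹ by simp [mul_assoc],
        hax.eq, mul_inv_cancel_right]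
      exact mul_mem (mul_mem hs hx) (inv_mem hs)
    · exact Or.inl (structure_p_complement hp hm hcd A P hAc hPp hinf hsup hAco hnc)
  · left
    push Not at hpp
    have hnab : ¬ commutator G ≤ (⊥ : Subgroup G) := by
      intro h
      obtain ⟨χ, hχ⟩ := hex
      have hc : ∀ a b : G, a * b = b * a := fun a b => by
        rw [← commutatorElement_eq_one_iff_mul_comm, ← Subgroup.mem_bot]
        exact h (commutator_def G ▸
          Subgroup.commutator_mem_commutator (Subgroup.mem_top a) (Subgroup.mem_top b))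
      have h1 := comm_iff_all_linear.mp hc χ
      rw [hχ, Nat.cast_eq_one] at h1
      omega
    obtain ⟨K, ⟨hK, hKc⟩, hKmax⟩ :=
      (Set.toFinite {K : Subgroup G | K.Normal ∧ ¬ commutator G ≤ K}).exists_maximal
        ⟨⊥, inferInstance, hnab⟩
    haveI := hK
    have hgt : ∀ M : Subgroup G, M.Normal → K ≤ M → M ≠ K → commutator G ≤ M := by
      intro M hM hle hne
      by_contra hc
      exact hne (le_antisymm (hKmax ⟨hM, hc⟩ hle) hle)
    let π := QuotientGroup.mk' K
    have hπ : Function.Surjective π := QuotientGroup.mk'_surjective K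
    haveI := Fintype.ofFinite (G ⧸ K)
    have hcdQ := degrees_of_surjective π hπ hcd
    have hmap : commutator (G ⧸ K) = (commutator G).map π := by
      rw [commutator_def, commutator_def, Subgroup.map_commutator, Subgroup.map_top_of_surjective π hπ]
    have hneQ : commutator (G ⧸ K) ≠ ⊥ := by
      rw [hmap, Ne, Subgroup.map_eq_bot_iff, QuotientGroup.ker_mk']
      exact hKc
    have hminQ : ∀ M : Subgroup (G ⧸ K), M.Normal → M ≠ ⊥ → commutator (G ⧸ K) ≤ M := by
      intro M hM hM1
      rw [hmap, Subgroup.map_le_iff_le_comap]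
      have hkM : K ≤ M.comap π := fun x hx => by
        rw [Subgroup.mem_comap]
        show ((x : G) : G ⧸ K) ∈ M
        rw [(QuotientGroup.eq_one_iff x).mpr hx]
        exact one_mem M
      refine hgt _ (hM.comap π) hkM fun he => hM1 (eq_bot_iff.mpr fun q hq => ?_)
      obtain ⟨x, rfl⟩ := hπ q
      have hx : x ∈ M.comap π := hq
      rw [he] at hx
      exact Subgroup.mem_bot.mpr ((QuotientGroup.eq_one_iff x).mpr hx)
    have hcop : (Nat.card (commutator (G ⧸ K))).Coprime m := by
      refine Nat.coprime_of_dvd fun p hp hpd hpm => ?_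
      haveI := Fact.mk hp
      obtain ⟨M, hM, hMco, k, hMi⟩ := Cfsg.Agent.S4456.result (G := G ⧸ K) p hp (fun φ h1 => by
        rcases hcdQ φ with h | h <;> rw [φ.2.apply_one_eq_charDegree] at h
        · exact absurd (by exact_mod_cast h) h1
        · rw [show charDegree (φ : G ⧸ K → ℂ) = m by exact_mod_cast h]; exact hpm)
      by_cases hM1 : M = ⊥
      · subst hM1
        rw [Subgroup.index_bot] at hMi
        obtain ⟨φ, hφ⟩ : ∃ φ : IrrCharacter (G ⧸ K), (φ : G ⧸ K → ℂ) 1 = (m : ℂ) := by
          by_contra hall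
          push Not at hall
          refine hneQ (eq_bot_iff.mpr (commutator_def (G ⧸ K) ▸ Subgroup.commutator_le.mpr ?_))
          intro a _ b _
          rw [Subgroup.mem_bot, commutatorElement_eq_one_iff_mul_comm]
          exact comm_iff_all_linear.mpr (fun χ => (hcdQ χ).resolve_right (hall χ)) a b
        obtain ⟨j, -, hj⟩ := (Nat.dvd_prime_pow hp).mp (hMi ▸ degree_dvd_card φ.2 hφ)
        exact hpp p j hp hj
      · have h1 := hMco.coprime_dvd_left (Subgroup.card_dvd_of_le (hminQ M hM hM1))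
        exact hp.one_lt.ne' (h1.symm.eq_one_of_dvd hpd)
    obtain ⟨hLab, hfpf, hLm, hmL⟩ := frobenius_quotient hcdQ hneQ hminQ hcop
    set N : Subgroup G := (commutator (G ⧸ K)).comap π with hN
    haveI : N.Normal := Subgroup.Normal.comap inferInstance π
    haveI := Fintype.ofFinite N
    have hNi : N.index = m := by rw [hN, Subgroup.index_comap_of_surjective _ hπ, hLm]
    have hGN : commutator G ≤ N := by
      rw [hN, ← Subgroup.map_le_iff_le_comap, hmap]
    refine ⟨N, inferInstance, ?_, hNi, hGN⟩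
    let L := commutator (G ⧸ K)
    haveI := Fintype.ofFinite L
    let q : N →* L := π.subgroupComap L
    have hq : Function.Surjective q := π.subgroupComap_surjective_of_surjective L hπ
    suffices h : ∀ θ : IrrCharacter N, (θ : N → ℂ) 1 = 1 by
      intro a ha b hb
      exact congrArg Subtype.val (comm_iff_all_linear.mpr h ⟨a, ha⟩ ⟨b, hb⟩)
    intro θ
    obtain ⟨d, hd⟩ := θ.2.isCharacter.exists_degree
    have hdm : d ∣ m := by
      obtain ⟨χ, hχ⟩ := exists_constituent (isCharacter_indFun N θ.2.isCharacter) (by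
        rw [indFun_apply_one]
        exact mul_ne_zero (Nat.cast_ne_zero.mpr Subgroup.index_ne_zero_of_finite)
          θ.2.apply_one_ne_zero)
      have hc : classInner (fun n : N => (χ : G → ℂ) n) (θ : N → ℂ) ≠ 0 := by
        rw [classInner_indFun N _ χ.2.isClassFunction, ← classInner_conj_symm] at hχ
        exact fun e => hχ (by rw [e, map_zero])
      obtain ⟨e, he⟩ := (χ.2.isCharacter.comp N.subtype).exists_nat_classInner θ.2.isCharacter
      have he' : classInner (fun n : N => (χ : G → ℂ) n) (θ : N → ℂ) = (e : ℂ) := he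
      have h := clifford_degree N χ.2 θ.2 hc
      rw [he', hd] at h
      rcases hcd χ with h1 | h1 <;> rw [h1] at h <;> norm_cast at h
      · rw [Nat.eq_one_of_mul_eq_one_left h.symm]; exact one_dvd m
      · exact Dvd.intro_left _ h.symm
    by_contra hd1
    let tw : (L →* ℂˣ) → (N → ℂ) := fun l => (θ : N → ℂ) * fun n => (l (q n) : ℂ)
    have hirr : ∀ l, IsIrrCharacter N (tw l) := fun l => isIrrCharacter_mul_linear θ.2 (l.comp q)
    have hex' : ∀ l, ∃ g : G, g ∉ N ∧ g ∈ inertia N (tw l) := by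
      intro l
      by_contra hall
      push Not at hall
      have hin : inertia N (tw l) = N := le_antisymm
        (fun g hg => by_contra fun h => hall g h hg) (le_inertia N (hirr l).isClassFunction)
      obtain ⟨hind, -⟩ := clifford_induce N (hirr l) le_rfl hin.symm (hirr l) (by
        rw [show (fun h : N => tw l ⟨h, h.2⟩) = tw l from rfl, classInner_irr_self (hirr l)]
        exact one_ne_zero)
      have h1 : indFun N (tw l) 1 = ((m * d : ℕ) : ℂ) := by
        rw [indFun_apply_one, hNi]; simp [tw, hd]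
      apply hd1
      rw [hd, Nat.cast_eq_one]
      rcases hcd ⟨_, hind⟩ with h | h <;> change indFun N (tw l) 1 = _ at h <;> rw [h1] at h
      · rw [Nat.cast_eq_one] at h; exact Nat.eq_one_of_mul_eq_one_left h
      · rw [Nat.cast_inj] at h; exact (Nat.mul_eq_left (by omega)).mp h
    choose g hgN hgI using hex'
    have hinj : Function.Injective
        (fun l => (⟨(g l : G ⧸ N), fun h => hgN l ((QuotientGroup.eq_one_iff _).mp h)⟩ :
          {c : G ⧸ N // c ≠ 1})) := by
      intro l₁ l₂ h
      have hq12 : (g l₁)⁻¹ * g l₂ ∈ N := QuotientGroup.eq.mp (congrArg Subtype.val h)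
      have hg2 : g l₁ ∈ inertia N (tw l₂) := by
        have h2 := mul_mem (hgI l₂) (inv_mem (le_inertia N (hirr l₂).isClassFunction hq12))
        simpa [mul_assoc] using h2
      have hnot : π (g l₁) ∉ L := fun h3 => hgN l₁ h3
      set gb := π (g l₁) with hgb
      let c : L →* L := (MulAut.conjNormal gb : MulAut L).toMonoidHom
      have hqc : ∀ n : N, q ⟨g l₁ * n * (g l₁)⁻¹, (inferInstance : N.Normal).conj_mem n n.2 _⟩ =
          c (q n) := fun n => Subtype.ext
            (show π (g l₁ * n * (g l₁)⁻¹) = gb * π n * gb⁻¹ by rw [map_mul, map_mul, map_inv, hgb])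
      let a : L →* ℂˣ := l₁ * l₂⁻¹
      have hfix : ∀ n : N, (θ : N → ℂ) n * (((a * (a.comp c)⁻¹).comp q) n : ℂ) = (θ : N → ℂ) n := by
        intro n
        have e1 := (mem_inertia_iff N).mp (hgI l₁) n
        have e2 := (mem_inertia_iff N).mp hg2 n
        simp only [tw, Pi.mul_apply, hqc] at e1 e2
        simp only [a, MonoidHom.coe_comp, Function.comp_apply, MonoidHom.mul_apply,
          MonoidHom.inv_apply, Units.val_mul, Units.val_inv_eq_inv_val, mul_inv_rev, inv_inv]
        have u2 := (l₂ (q n)).ne_zero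
        have u3 := (l₁ (c (q n))).ne_zero
        field_simp
        linear_combination -(l₂ (c (q n)) : ℂ) * e1 + (l₁ (c (q n)) : ℂ) * e2
      have hone : ∀ x : L, a x = a (c x) := by
        intro x
        obtain ⟨n, rfl⟩ := hq x
        have h1 := pow_degree_eq_one_of_twist θ.2.isCharacter hd _ hfix n
        have h2 : ((a * (a.comp c)⁻¹) (q n)) ^ Nat.card L = 1 := by
          rw [← map_pow, pow_card_eq_one', map_one]
        have h3 : (a * (a.comp c)⁻¹) (q n) = 1 := by
          have := pow_gcd_eq_one.mpr ⟨(h1 : ((a * (a.comp c)⁻¹) (q n)) ^ d = 1), h2⟩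
          rwa [(hcop.coprime_dvd_right hdm).symm.gcd_eq_one, pow_one] at this
        simpa [mul_inv_eq_one] using h3
      have ha : a = 1 := by
        let F : L → L := fun l => c l * l⁻¹
        have hF : Function.Injective F := by
          intro x y hxy
          have hxy' : c x * x⁻¹ = c y * y⁻¹ := hxy
          have hcomm : ∀ u v : L, u * v = v * u := fun u v => Subtype.ext (hLab u u.2 v v.2)
          have h4 : c (y⁻¹ * x) = y⁻¹ * x := by
            rw [map_mul, map_inv, mul_inv_eq_iff_eq_mul.mp hxy']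
            simp [mul_assoc]
          have h5 := congrArg Subtype.val h4
          simp only [c, MulEquiv.coe_toMonoidHom, MulAut.conjNormal_apply] at h5
          have h6 := hfpf gb hnot _ (y⁻¹ * x).2 (mul_inv_eq_iff_eq_mul.mp h5)
          exact (inv_mul_eq_one.mp (Subtype.ext h6 : y⁻¹ * x = 1)).symm
        refine MonoidHom.ext fun x => ?_
        obtain ⟨l, rfl⟩ := Finite.injective_iff_surjective.mp hF x
        show a (c l * l⁻¹) = 1
        rw [map_mul, map_inv, ← hone, mul_inv_cancel]
      exact mul_inv_eq_one.mp ha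
    haveI : Finite (L →* ℂˣ) := Nat.finite_of_card_ne_zero (by
      rw [card_linear_eq_index]; exact Subgroup.index_ne_zero_of_finite)
    have hcard := Nat.card_le_card_of_injective _ hinj
    haveI := Fintype.ofFinite (G ⧸ N)
    rw [card_linear_eq_index, Nat.card_eq_fintype_card (α := {c : G ⧸ N // c ≠ 1}),
      Fintype.card_subtype_compl, Fintype.card_subtype_eq, ← Nat.card_eq_fintype_card,
      ← Subgroup.index_eq_card, hNi] at hcard
    have hLcomm : commutator L = ⊥ := by
      rw [eq_bot_iff, commutator_def, Subgroup.commutator_le]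
      intro x _ y _
      rw [Subgroup.mem_bot, commutatorElement_eq_one_iff_mul_comm]
      exact Subtype.ext (hLab x x.2 y y.2)
    rw [hLcomm, Subgroup.index_bot] at hcard
    change m ≤ Nat.card L at hmL
    omega

end Cfsg.Lib.Char
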