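import Mathlib
import Cfsg.Agent.Lib.Char.CoherenceSibley
import Cfsg.Agent.S0852
import Cfsg.Agent.S0853

/-!
# Splitting character sums over a Frobenius kernel

Character sums of a group with a Frobenius kernel split into the characters trivial on the kernel
and the others; the coherent extension of the latter gives the exceptional characters.
-/

set_option autoImplicit false
set_option linter.unusedSectionVars false
set_option linter.style.haveILetI false

namespace Cfsg.Lib.Char

open Cfsg
open scoped ComplexConjugate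

universe u v

section Split

variable {L : Type u} [Group L] [Fintype L] {K : Subgroup L} [hKn : K.Normal]

open Classical in
/-- The irreducible characters with the kernel in their kernel. -/
noncomputable def irrTrivialOn (K : Subgroup L) : Finset (IrrCharacter L) :=
  Finset.univ.filter fun η => ∀ k ∈ K, (η : L → ℂ) k = (η : L → ℂ) 1

theorem mem_irrTrivialOn {η : IrrCharacter L} :
    η ∈ irrTrivialOn K ↔ ∀ k ∈ K, (η : L → ℂ) k = (η : L → ℂ) 1 := by
  classical
  simp [irrTrivialOn]

/-- A sum over irreducible characters splits at the kernel. -/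
theorem sum_irr_split (F : (L → ℂ) → ℂ) :
    ∑ η : IrrCharacter L, F η = ∑ η ∈ irrTrivialOn K, F η +
      ∑ χ ∈ (irrNontrivialOn_finite K).toFinset, F χ := by
  classical
  rw [← Finset.sum_filter_add_sum_filter_not Finset.univ (fun η : IrrCharacter L => η ∈ irrTrivialOn K),
    show Finset.univ.filter (fun η : IrrCharacter L => η ∈ irrTrivialOn K) = irrTrivialOn K by ext; simp]
  congr 1
  refine Finset.sum_bij (fun η _ => (η : L → ℂ)) (fun η hη => ?_) (fun _ _ _ _ h => Subtype.ext h)
    (fun χ hχ => ?_) (fun _ _ => rfl)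
  · rw [Set.Finite.mem_toFinset]
    have h := (Finset.mem_filter.1 hη).2
    rw [mem_irrTrivialOn] at h
    push Not at h
    exact ⟨η.2, h⟩
  · rw [Set.Finite.mem_toFinset] at hχ
    obtain ⟨hi, k, hk, hne⟩ := hχ
    exact ⟨⟨χ, hi⟩, Finset.mem_filter.2 ⟨Finset.mem_univ _,
      fun h => hne (mem_irrTrivialOn.1 h k hk)⟩, rfl⟩

/-- Sum over the kernel of a class function, and vanishing off it. -/
theorem kernel_expansion (hC : ∀ h ∈ K, h ≠ 1 → Subgroup.centralizer ({h} : Set L) ≤ K) [Fintype K]
    (hlin : ∀ η ∈ irrTrivialOn K, (η : L → ℂ) 1 = 1) {f : L → ℂ} (hf : IsClassFunction L f) :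
    (∑ k : K, f k = (Nat.card K : ℂ) * ∑ η ∈ irrTrivialOn K, classInner f η) ∧
      ((∀ η ∈ irrTrivialOn K, classInner f η = 0) → ∀ x : L, x ∉ K → f x = 0) := by
  classical
  have hexp : ∀ x : L, f x = ∑ η ∈ irrTrivialOn K, classInner f η * (η : L → ℂ) x +
      ∑ χ ∈ (irrNontrivialOn_finite K).toFinset, classInner f χ * χ x := by
    intro x
    conv_lhs => rw [eq_sum_classInner hf]
    simp only [Finset.sum_apply, Pi.smul_apply, smul_eq_mul]
    exact sum_irr_split (K := K) fun χ => classInner f χ * χ x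
  refine ⟨?_, fun h0 x hx => ?_⟩
  · rw [Finset.sum_congr rfl fun (k : K) _ => hexp k, Finset.sum_add_distrib, Finset.sum_comm,
      Finset.sum_comm (s := Finset.univ) (t := (irrNontrivialOn_finite K).toFinset)]
    rw [Finset.sum_eq_zero (s := (irrNontrivialOn_finite K).toFinset) fun χ hχ => ?_, add_zero, Finset.mul_sum]
    · refine Finset.sum_congr rfl fun η hη => ?_
      rw [← Finset.mul_sum, Finset.sum_congr rfl (g := fun _ => (1 : ℂ)) fun k _ => ?_, Finset.sum_const,
        Finset.card_univ, nsmul_eq_mul, mul_one, Nat.card_eq_fintype_card, mul_comm]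
      rw [mem_irrTrivialOn.1 hη k k.2, hlin η hη]
    · rw [Set.Finite.mem_toFinset] at hχ
      rw [← Finset.mul_sum]
      have h1 : classInner χ (fun _ : L => (1 : ℂ)) = 0 := classInner_irr_ne hχ.1 isIrrCharacter_one fun e => by
        obtain ⟨-, k, -, hne⟩ := hχ
        exact hne (by rw [e])
      rw [classInner_one_right, mul_eq_zero] at h1
      have h2 := h1.resolve_left (inv_ne_zero card_cast_ne_zero)
      rw [← Finset.sum_subset (Finset.subset_univ (Finset.univ.filter fun x : L => x ∈ K))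
        (fun x _ hx => (frobKernel_degree hC hχ.1 hχ.2).2 x (by simpa using hx)),
        Finset.sum_subtype _ (p := fun x : L => x ∈ K) (by simp)] at h2
      rw [h2, mul_zero]
  · rw [hexp x, Finset.sum_eq_zero fun η hη => by rw [h0 η hη, zero_mul], zero_add,
      Finset.sum_eq_zero fun χ hχ => by
        rw [Set.Finite.mem_toFinset] at hχ
        rw [(frobKernel_degree hC hχ.1 hχ.2).2 x hx, mul_zero]]

/-- The number of linear characters over the kernel. -/
theorem card_irrTrivialOn (hlin : ∀ η ∈ irrTrivialOn K, (η : L → ℂ) 1 = 1) :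
    (irrTrivialOn K).card = K.index := by
  classical
  have h := sum_sq_trivialOn (N := L) K
  rw [show Finset.univ.filter (fun η : IrrCharacter L => ∀ k ∈ K, (η : L → ℂ) k = (η : L → ℂ) 1) =
      irrTrivialOn K by ext; simp [mem_irrTrivialOn],
    Finset.sum_congr rfl (g := fun _ => (1 : ℂ)) fun η hη => by rw [hlin η hη, one_pow],
    Finset.sum_const, nsmul_eq_mul, mul_one] at h
  exact_mod_cast h

/-- Column orthogonality on the characters nontrivial on the kernel. -/
theorem kernel_column (hlin : ∀ η ∈ irrTrivialOn K, (η : L → ℂ) 1 = 1) {g k : L} (hg : g ∈ K)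
    (hk : k ∈ K) [Decidable (IsConj g k)] :
    ∑ χ ∈ (irrNontrivialOn_finite K).toFinset, χ g * conj (χ k) =
      (if IsConj g k then (Nat.card (Subgroup.centralizer ({g} : Set L)) : ℂ) else 0) - (K.index : ℂ) := by
  have h := column_orthogonality (G := L) g k
  rw [sum_irr_split (K := K) (fun χ => χ g * conj (χ k)),
    Finset.sum_congr rfl (g := fun _ => (1 : ℂ)) fun η hη => by
      rw [mem_irrTrivialOn.1 hη g hg, mem_irrTrivialOn.1 hη k hk, hlin η hη, map_one, mul_one],
    Finset.sum_const, nsmul_eq_mul, mul_one, card_irrTrivialOn hlin] at h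
  rw [← h]; ring

/-- Column orthogonality against the identity. -/
theorem kernel_column_one (hlin : ∀ η ∈ irrTrivialOn K, (η : L → ℂ) 1 = 1) {k : L} (hk : k ∈ K)
    (hk1 : k ≠ 1) :
    ∑ χ ∈ (irrNontrivialOn_finite K).toFinset, χ 1 * conj (χ k) = -(K.index : ℂ) := by
  classical
  rw [kernel_column hlin K.one_mem hk, if_neg fun h => hk1 (isConj_one_right.mp h), zero_sub]

/-- The class formula on the characters nontrivial on the kernel, when there is no solution. -/
theorem kernel_class_zero (hlin : ∀ η ∈ irrTrivialOn K, (η : L → ℂ) 1 = 1) {a b c : L} (ha : a ∈ K)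
    (hb : b ∈ K) (hc : c ∈ K) (hno : ∀ p q : L, IsConj a p → IsConj b q → p * q ≠ c) :
    ∑ χ ∈ (irrNontrivialOn_finite K).toFinset, χ a * χ b * conj (χ c) / χ 1 = -(K.index : ℂ) := by
  classical
  have h := card_class_product a b c
  rw [Finset.filter_false_of_mem (fun p hp => by
    rw [Finset.mem_product, mem_classFinset, mem_classFinset] at hp
    exact hno p.1 p.2 hp.1 hp.2), Finset.card_empty, Nat.cast_zero, eq_comm, mul_eq_zero] at h
  have hne : ∀ x : L, ((classFinset x).card : ℂ) ≠ 0 := fun x =>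
    Nat.cast_ne_zero.mpr (Finset.card_ne_zero.mpr ⟨x, mem_classFinset.2 (IsConj.refl x)⟩)
  have h' := h.resolve_left (div_ne_zero (mul_ne_zero (hne a) (hne b)) card_cast_ne_zero)
  rw [sum_irr_split (K := K) (fun χ => χ a * χ b * conj (χ c) / χ 1),
    Finset.sum_congr rfl (g := fun _ => (1 : ℂ)) fun η hη => by
      rw [mem_irrTrivialOn.1 hη a ha, mem_irrTrivialOn.1 hη b hb, mem_irrTrivialOn.1 hη c hc, hlin η hη,
        map_one, mul_one, mul_one, div_one],
    Finset.sum_const, nsmul_eq_mul, mul_one, card_irrTrivialOn hlin] at h'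
  linear_combination h'

end Split

section Exceptional

variable {G : Type v} [Group G] [Fintype G]

/-- The exceptional characters of a coherent set. -/
theorem exceptional_data (H A : Subgroup G) [Fintype A] (hN : Subgroup.normalizer (H : Set G) = A)
    (hTI : ∀ g : G, g ∉ A → ∀ k ∈ H, g * k * g⁻¹ ∈ H → k = 1) (hlt : H < A)
    (hC : ∀ k ∈ H, k ≠ 1 → Subgroup.centralizer ({k} : Set G) ≤ H)
    {σ : (A → ℂ) → (G → ℂ)} (hσ : IsLinearIsometryOn (zspan (irrNontrivialOn (H.subgroupOf A))) σ)
    (hσα : ∀ α ∈ zspanOn (irrNontrivialOn (H.subgroupOf A)) ({1}ᶜ : Set A), σ α = indFun A α)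
    (htwo : ∃ χ ∈ irrNontrivialOn (H.subgroupOf A), ∃ ξ ∈ irrNontrivialOn (H.subgroupOf A), χ ≠ ξ) :
    (∃ m : ℤ, ∀ χ ∈ irrNontrivialOn (H.subgroupOf A), ∀ k : A, (k : G) ∈ H → k ≠ 1 →
      σ χ k - χ k = (m : ℂ) * χ 1 / ((H.subgroupOf A).index : ℂ)) ∧
    ∀ ψ : G → ℂ, IsIrrCharacter G ψ →
      ((∃ χ ∈ irrNontrivialOn (H.subgroupOf A), ψ = σ χ ∨ ψ = -σ χ) ↔
        ¬ ∀ a ∈ H, ∀ b ∈ H, a ≠ 1 → b ≠ 1 → ψ a = ψ b) := by
  subst hN
  refine ⟨Cfsg.Agent.S0853.result H hTI hlt hC _ rfl htwo σ hσ hσα, fun ψ hψ => ?_⟩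
  refine (Cfsg.Agent.S0852.result H hTI hlt hC _ rfl htwo σ hσ hσα ψ hψ).trans ?_
  push Not
  rfl

end Exceptional

end Cfsg.Lib.Char
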