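import Cfsg.Prelude.Def_LieExceptional
import Mathlib.GroupTheory.GroupAction.MultipleTransitivity
import Mathlib.GroupTheory.Index

/-!
# Elementary facts about Zassenhaus groups
-/

set_option autoImplicit false
set_option linter.style.haveILetI false

namespace Cfsg.Lib.Char

open Cfsg

variable {G Ω : Type*} [Group G] [Finite G] [MulAction G Ω] [Fintype Ω]

/-- Moving one two-point stabilizer to another. -/
theorem zas_two_point_ne_bot (hZ : IsZassenhausGroup G Ω) {a b : Ω} (hab : a ≠ b) :
    ∃ x : G, x ≠ 1 ∧ x • a = a ∧ x • b = b := by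
  obtain ⟨-, h2, -, ⟨g, hg, c, d, hcd, hgc, hgd⟩, -⟩ := hZ
  obtain ⟨k, hkc, hkd⟩ := MulAction.is_two_pretransitive_iff.1 h2 hcd hab
  refine ⟨k * g * k⁻¹, fun e => hg ?_, ?_, ?_⟩
  · rwa [mul_inv_eq_one, mul_eq_left] at e
  · rw [← hkc, mul_smul, mul_smul, inv_smul_smul, hgc]
  · rw [← hkd, mul_smul, mul_smul, inv_smul_smul, hgd]

/-- A Zassenhaus group has degree at least three. -/
theorem zas_two_lt_card (hZ : IsZassenhausGroup G Ω) : 2 < Fintype.card Ω := by
  classical
  obtain ⟨hf, -, -, ⟨g, hg, c, d, hcd, hgc, hgd⟩, -⟩ := hZ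
  haveI := hf
  obtain ⟨e, he⟩ : ∃ e : Ω, g • e ≠ e := by
    by_contra hall
    push Not at hall
    exact hg (FaithfulSMul.eq_of_smul_eq_smul fun y : Ω => by rw [hall, one_smul])
  exact Fintype.two_lt_card_iff.2 ⟨c, d, e, hcd, fun h => he (h ▸ hgc), fun h => he (h ▸ hgd)⟩

/-- A subgroup of the stabilizer of `a` of order one less than the degree, whose nontrivial elements
fix only `a`, consists of all such elements and the identity. -/
theorem zas_mem_kernel (hZ : IsZassenhausGroup G Ω) (a : Ω) (H : Subgroup G)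
    (hHa : H ≤ MulAction.stabilizer G a) (hHcard : Nat.card H + 1 = Fintype.card Ω)
    (hHfix : ∀ u ∈ H, u ≠ 1 → ∀ c : Ω, u • c = c → c = a) {x : G} (hxa : x • a = a)
    (hx : ∀ c : Ω, x • c = c → c = a) : x ∈ H := by
  classical
  haveI := Fintype.ofFinite G
  obtain ⟨-, h2, h3, -, -⟩ := hZ
  set A := Finset.univ.filter (fun g : G => g • a = a) with hA
  set F := A.filter (fun g => ∀ c : Ω, g • c = c → c = a) with hF
  set T : Ω → Finset G := fun c => A.filter fun g => g • c = c ∧ g ≠ 1 with hT
  have hstab : ∀ c : Ω, c ≠ a →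
      (Fintype.card Ω - 1) * ((T c).card + 1) = A.card := by
    intro c hc
    have hfib : ∀ d ∈ Finset.univ.erase a, (A.filter fun g => g • c = d).card = (T c).card + 1 := by
      intro d hd
      obtain ⟨k, hka, hkc⟩ := MulAction.is_two_pretransitive_iff.1 h2 hc.symm (Finset.ne_of_mem_erase hd).symm
      have e1 : (A.filter fun g => g • c = d).card = (A.filter fun g => g • c = c).card := by
        refine Finset.card_equiv (Equiv.mulLeft k⁻¹) fun g => ?_
        simp only [hA, Finset.mem_filter, Finset.mem_univ, true_and, Equiv.coe_mulLeft, mul_smul,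
          inv_smul_eq_iff, hka, hkc]
      rw [e1, show A.filter (fun g => g • c = c) = insert 1 (T c) from ?_,
        Finset.card_insert_of_notMem (by simp [hT])]
      ext g
      by_cases hg : g = 1
      · subst hg; simp [hA, hT]
      · simp [hT, hg]
    rw [Finset.card_eq_sum_card_fiberwise (s := A) (f := fun g => g • c)
      (t := Finset.univ.erase a) (fun g hg => Finset.mem_erase.mpr ⟨fun h => hc ?_, Finset.mem_univ _⟩),
      Finset.sum_congr rfl hfib, Finset.sum_const, smul_eq_mul,
      Finset.card_erase_of_mem (Finset.mem_univ _), Finset.card_univ]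
    exact MulAction.injective g (h.trans (Finset.mem_filter.mp hg).2.symm)
  have hsplit : A.filter (fun g => ¬ ∀ c : Ω, g • c = c → c = a) =
      insert 1 ((Finset.univ.erase a).biUnion T) := by
    have hn : ∃ c : Ω, c ≠ a := by
      by_contra hh
      push Not at hh
      have h1 : Fintype.card Ω ≤ 1 := Fintype.card_le_one_iff.2 fun u v => (hh u).trans (hh v).symm
      have h0 := Nat.card_pos (α := H)
      omega
    ext g
    by_cases hg : g = 1
    · subst hg
      obtain ⟨c, hc⟩ := hn
      simp only [hA, Finset.mem_filter, Finset.mem_univ, true_and, one_smul, Finset.mem_insert_self,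
        iff_true]
      exact fun h => hc (h c trivial)
    · simp only [hT, Finset.mem_filter, Finset.mem_insert, hg, false_or, Finset.mem_biUnion,
        Finset.mem_erase, Finset.mem_univ, and_true, ne_eq, not_false_eq_true]
      constructor
      · rintro ⟨h1, h2'⟩
        push Not at h2'
        obtain ⟨c, hc, hca⟩ := h2'
        exact ⟨c, hca, h1, hc⟩
      · rintro ⟨c, hca, h1, hc⟩
        exact ⟨h1, fun h => hca (h c hc)⟩
  have hdisj : Set.PairwiseDisjoint (↑(Finset.univ.erase a) : Set Ω) T := by
    intro c hc d hd hcd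
    show Disjoint (T c) (T d)
    rw [Finset.disjoint_left]
    intro g hg hg'
    simp only [hT, hA, Finset.mem_filter, Finset.mem_univ, true_and] at hg hg'
    exact hg.2.2 (h3 g a c d (Finset.ne_of_mem_erase hc).symm hcd (Finset.ne_of_mem_erase hd).symm
      hg.1 hg.2.1 hg'.2.1)
  have hcount : F.card + 1 + ∑ c ∈ Finset.univ.erase a, (T c).card = A.card := by
    rw [← Finset.card_filter_add_card_filter_not (s := A) (fun g => ∀ c : Ω, g • c = c → c = a),
      hsplit, Finset.card_insert_of_notMem (by simp [hT]), Finset.card_biUnion hdisj, ← hF]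
    ring
  have hsum : ∀ c ∈ Finset.univ.erase a,
      (Fintype.card Ω - 1) * (T c).card + (Fintype.card Ω - 1) = A.card := fun c hc => by
    rw [← hstab c (Finset.ne_of_mem_erase hc)]; ring
  have hn1 : 0 < Fintype.card Ω - 1 := by have := Nat.card_pos (α := H); omega
  have hFcard : F.card + 1 = Fintype.card Ω - 1 := by
    have hm : (Fintype.card Ω - 1) * ∑ c ∈ Finset.univ.erase a, (T c).card +
        (Fintype.card Ω - 1) * (Fintype.card Ω - 1) = (Fintype.card Ω - 1) * A.card := by
      have hc : (Finset.univ.erase a).card = Fintype.card Ω - 1 := by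
        rw [Finset.card_erase_of_mem (Finset.mem_univ _), Finset.card_univ]
      calc _ = ∑ c ∈ Finset.univ.erase a, ((Fintype.card Ω - 1) * (T c).card + (Fintype.card Ω - 1)) := by
            rw [Finset.sum_add_distrib, Finset.mul_sum, Finset.sum_const, hc, smul_eq_mul]
        _ = _ := by rw [Finset.sum_congr rfl hsum, Finset.sum_const, hc, smul_eq_mul]
    rw [← hcount] at hm
    have : (Fintype.card Ω - 1) * (Fintype.card Ω - 1) = (Fintype.card Ω - 1) * (F.card + 1) := by
      linarith
    exact (Nat.eq_of_mul_eq_mul_left hn1 this).symm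
  have hsub : Finset.univ.filter (fun u : G => u ∈ H ∧ u ≠ 1) ⊆ F := by
    intro u hu
    obtain ⟨-, hu, hu1⟩ := Finset.mem_filter.mp hu
    exact Finset.mem_filter.mpr ⟨Finset.mem_filter.mpr ⟨Finset.mem_univ _, hHa hu⟩, hHfix u hu hu1⟩
  have hHF : (Finset.univ.filter fun u : G => u ∈ H ∧ u ≠ 1).card + 1 = Nat.card H := by
    rw [Nat.card_eq_fintype_card, Fintype.card_subtype,
      show (Finset.univ.filter fun u : G => u ∈ H) =
        insert 1 (Finset.univ.filter fun u : G => u ∈ H ∧ u ≠ 1) from ?_,
      Finset.card_insert_of_notMem (by simp)]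
    ext u
    by_cases h : u = 1
    · subst h; simp [H.one_mem]
    · simp [h]
  have heq := Finset.eq_of_subset_of_card_le hsub (by omega)
  have hxF : x ∈ F := Finset.mem_filter.mpr ⟨Finset.mem_filter.mpr ⟨Finset.mem_univ _, hxa⟩, hx⟩
  rw [← heq] at hxF
  exact (Finset.mem_filter.mp hxF).2.1

end Cfsg.Lib.Char
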