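import Cfsg.Agent.Lib.Char.Zassenhaus
import Cfsg.Agent.S0740
import Cfsg.Agent.S0080
import Cfsg.Agent.S0035
import Cfsg.Agent.S0040
import Cfsg.Agent.S0039
import Cfsg.Agent.S0042
import Cfsg.Agent.S0878
import Cfsg.Agent.Lib.Solv.Nilpotent
import Cfsg.Agent.Lib.Char.Linear
import Mathlib.GroupTheory.SpecificGroups.ZGroup

/-!
# Zassenhaus groups with two-point stabilizers of odd order
-/

set_option autoImplicit false
set_option linter.style.haveILetI false

namespace Cfsg.Lib.Char

open Cfsg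
open scoped commutatorElement Pointwise

universe u v

variable {G : Type u} {Ω : Type v} [Group G] [Finite G] [MulAction G Ω] [Fintype Ω]

/-- All two-point stabilizers have the same order. -/
theorem zas_card_pair (hZ : IsZassenhausGroup G Ω) {a b c d : Ω} (hab : a ≠ b) (hcd : c ≠ d) :
    Nat.card ↥(MulAction.stabilizer G c ⊓ MulAction.stabilizer G d : Subgroup G) =
      Nat.card ↥(MulAction.stabilizer G a ⊓ MulAction.stabilizer G b : Subgroup G) := by
  obtain ⟨k, hka, hkb⟩ := MulAction.is_two_pretransitive_iff.1 hZ.2.1 hab hcd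
  have hc' : ∀ g : G, g ∈ (MulAction.stabilizer G a ⊓ MulAction.stabilizer G b : Subgroup G) ↔
      k * g * k⁻¹ ∈ (MulAction.stabilizer G c ⊓ MulAction.stabilizer G d : Subgroup G) := by
    intro g
    have hi1 : k⁻¹ • c = a := by rw [inv_smul_eq_iff, hka]
    have hi2 : k⁻¹ • d = b := by rw [inv_smul_eq_iff, hkb]
    simp only [Subgroup.mem_inf, MulAction.mem_stabilizer_iff, mul_smul, hi1, hi2]
    constructor
    · rintro ⟨h1, h2⟩; rw [h1, h2]; exact ⟨hka, hkb⟩
    · rintro ⟨h1, h2⟩
      exact ⟨MulAction.injective k (h1.trans hka.symm), MulAction.injective k (h2.trans hkb.symm)⟩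
  exact (Nat.card_congr ((MulAut.conj k).toEquiv.subtypeEquiv fun g => hc' g)).symm

/-- The order of a point stabilizer and of the group. -/
theorem zas_card_group (hZ : IsZassenhausGroup G Ω) {a b : Ω} (hab : a ≠ b) :
    Nat.card (MulAction.stabilizer G a) = (Fintype.card Ω - 1) *
        Nat.card ↥(MulAction.stabilizer G a ⊓ MulAction.stabilizer G b : Subgroup G) ∧
      Nat.card G = Fintype.card Ω * ((Fintype.card Ω - 1) *
        Nat.card ↥(MulAction.stabilizer G a ⊓ MulAction.stabilizer G b : Subgroup G)) := by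
  classical
  have h2 := hZ.2.1
  have horb : MulAction.orbit (MulAction.stabilizer G a) b = {x : Ω | x ≠ a} := by
    ext x
    constructor
    · rintro ⟨g, rfl⟩
      intro h
      have hga : (g : G) • a = a := g.2
      exact hab (MulAction.injective (g : G) (hga.trans h.symm))
    · intro hx
      obtain ⟨k, hka, hkb⟩ := MulAction.is_two_pretransitive_iff.1 h2 hab (Ne.symm hx)
      exact ⟨⟨k, hka⟩, hkb⟩
  have h1 : Nat.card (MulAction.stabilizer G a) = (Fintype.card Ω - 1) *
      Nat.card ↥(MulAction.stabilizer G a ⊓ MulAction.stabilizer G b : Subgroup G) := by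
    rw [← Subgroup.card_mul_index (MulAction.stabilizer (MulAction.stabilizer G a) b),
      MulAction.index_stabilizer, horb, mul_comm]
    congr 1
    · rw [show {x : Ω | x ≠ a} = ({a} : Set Ω)ᶜ from rfl, Set.ncard_compl, Set.ncard_singleton,
        Nat.card_eq_fintype_card]
    · exact Nat.card_congr ⟨fun g => ⟨(g.1 : G), g.1.2, g.2⟩, fun g => ⟨⟨g.1, g.2.1⟩, g.2.2⟩,
        fun g => rfl, fun g => rfl⟩
  refine ⟨h1, ?_⟩
  rw [← h1, ← Subgroup.card_mul_index (MulAction.stabilizer G a), MulAction.index_stabilizer,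
    mul_comm]
  congr 1
  rw [show MulAction.orbit G a = Set.univ from ?_, Set.ncard_univ, Nat.card_eq_fintype_card]
  ext x
  simp only [Set.mem_univ, iff_true]
  by_cases hx : x = a
  · exact ⟨1, by simp [hx]⟩
  · obtain ⟨k, hka, -⟩ := MulAction.is_two_pretransitive_iff.1 h2 hab hx
    exact ⟨k, hka⟩

open Classical in
/-- The number of fixed points of an element. -/
noncomputable def zasFix (Ω : Type v) [MulAction G Ω] [Fintype Ω] (g : G) : ℕ :=
  (Finset.univ.filter fun x : Ω => g • x = x).card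

theorem zasFix_conj (g k : G) : zasFix Ω (k * g * k⁻¹) = zasFix Ω g := by
  classical
  refine Finset.card_equiv (MulAction.toPerm k⁻¹) fun x => ?_
  simp only [Finset.mem_filter, Finset.mem_univ, true_and, MulAction.toPerm_apply, mul_smul]
  exact eq_inv_smul_iff.symm

theorem zasFix_le_two (hZ : IsZassenhausGroup G Ω) {g : G} (hg : g ≠ 1) : zasFix Ω g ≤ 2 := by
  classical
  by_contra h
  push Not at h
  obtain ⟨x, y, z, hx, hy, hz, hxy, hxz, hyz⟩ := Finset.two_lt_card_iff.mp h
  exact hg (hZ.2.2.1 g x y z hxy hyz hxz (Finset.mem_filter.mp hx).2 (Finset.mem_filter.mp hy).2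
    (Finset.mem_filter.mp hz).2)

open Classical in
/-- The numbers of elements with given numbers of fixed points. -/
theorem zas_counts [Fintype G] (hZ : IsZassenhausGroup G Ω) {a b : Ω} (hab : a ≠ b) {h e : ℕ}
    (hh : Fintype.card Ω = h + 1)
    (he : Nat.card ↥(MulAction.stabilizer G a ⊓ MulAction.stabilizer G b : Subgroup G) = e) :
    (Finset.univ.filter fun g : G => g ≠ 1 ∧ zasFix Ω g = 1).card + (h + 1) = (h + 1) * h ∧
    2 * (Finset.univ.filter fun g : G => g ≠ 1 ∧ zasFix Ω g = 2).card + (h + 1) * h =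
      (h + 1) * h * e ∧
    (Finset.univ.filter fun g : G => g ≠ 1 ∧ zasFix Ω g = 0).card +
      (Finset.univ.filter fun g : G => g ≠ 1 ∧ zasFix Ω g = 1).card +
      (Finset.univ.filter fun g : G => g ≠ 1 ∧ zasFix Ω g = 2).card + 1 = Nat.card G := by
  obtain ⟨hA, hG⟩ := zas_card_group hZ hab
  rw [hh, he, Nat.add_sub_cancel] at hA hG
  have hs1 : ∑ g : G, zasFix Ω g = (h + 1) * h * e := by
    simp only [zasFix, Finset.card_filter]
    rw [Finset.sum_comm, Finset.sum_congr rfl (g := fun _ => h * e) fun x _ => ?_, Finset.sum_const,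
      Finset.card_univ, hh, smul_eq_mul, mul_assoc]
    rw [← Finset.card_filter, ← Fintype.card_subtype, ← Nat.card_eq_fintype_card]
    obtain ⟨y, hy⟩ : ∃ y, x ≠ y := by
      by_cases hx : x = a
      · exact ⟨b, hx ▸ hab⟩
      · exact ⟨a, hx⟩
    have := (zas_card_group hZ hy).1
    rw [hh, Nat.add_sub_cancel, zas_card_pair hZ hab hy, he] at this
    exact this
  have hs2 : ∑ g : G, (zasFix Ω g * zasFix Ω g - zasFix Ω g) = (h + 1) * h * e := by
    have : ∀ g : G, zasFix Ω g * zasFix Ω g - zasFix Ω g =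
        ((Finset.univ : Finset Ω).offDiag.filter fun q => g • q.1 = q.1 ∧ g • q.2 = q.2).card := by
      intro g
      rw [zasFix, ← Finset.offDiag_card]
      congr 1
      ext q
      simp only [Finset.mem_offDiag, Finset.mem_filter, Finset.mem_univ, true_and]
      tauto
    simp only [this, Finset.card_filter]
    rw [Finset.sum_comm, Finset.sum_congr rfl (g := fun _ => e) fun q hq => ?_, Finset.sum_const,
      Finset.offDiag_card, Finset.card_univ, hh, smul_eq_mul]
    · congr 1
      rw [← Nat.mul_sub_one, Nat.add_sub_cancel]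
    · rw [← Finset.card_filter, ← Fintype.card_subtype, ← Nat.card_eq_fintype_card, ← he,
        ← zas_card_pair hZ hab (Finset.mem_offDiag.mp hq).2.2]
      exact Nat.card_congr (Equiv.subtypeEquivRight fun g => by
        simp [Subgroup.mem_inf, MulAction.mem_stabilizer_iff])
  have hone : zasFix Ω (1 : G) = h + 1 := by simp [zasFix, hh]
  set f : ℕ → Finset G := fun k => Finset.univ.filter fun g : G => g ≠ 1 ∧ zasFix Ω g = k with hf
  have hsplit : ∀ F : ℕ → ℕ, ∑ g : G, F (zasFix Ω g) =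
      F (h + 1) + ((f 0).card * F 0 + (f 1).card * F 1 + (f 2).card * F 2) := by
    intro F
    rw [← Finset.add_sum_erase _ _ (Finset.mem_univ (1 : G)), hone]
    congr 1
    rw [show Finset.univ.erase (1 : G) = f 0 ∪ f 1 ∪ f 2 from ?_, Finset.sum_union ?_,
      Finset.sum_union ?_]
    · have : ∀ k, ∑ g ∈ f k, F (zasFix Ω g) = (f k).card * F k := fun k => by
        rw [Finset.sum_congr rfl (g := fun _ => F k) fun g hg => by rw [(Finset.mem_filter.mp hg).2.2],
          Finset.sum_const, smul_eq_mul]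
      rw [this, this, this]
    · rw [Finset.disjoint_left]
      intro g hg hg'
      simp only [hf, Finset.mem_filter] at hg hg'
      omega
    · rw [Finset.disjoint_left]
      intro g hg hg'
      simp only [hf, Finset.mem_union, Finset.mem_filter] at hg hg'
      omega
    · ext g
      simp only [hf, Finset.mem_erase, Finset.mem_univ, and_true, Finset.mem_union, Finset.mem_filter,
        true_and]
      constructor
      · intro hg
        have := zasFix_le_two (Ω := Ω) hZ hg
        interval_cases hk : zasFix Ω g <;> simp [hg]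
      · rintro ((⟨hg, -⟩ | ⟨hg, -⟩) | ⟨hg, -⟩) <;> exact hg
  have e0 := hsplit fun _ => 1
  have e1 := hsplit fun k => k
  have e2 := hsplit fun k => k * k - k
  simp only [Finset.sum_const, Finset.card_univ, smul_eq_mul, mul_one, ← Nat.card_eq_fintype_card] at e0
  rw [hs1] at e1
  rw [hs2] at e2
  have h3 : (h + 1) * (h + 1) - (h + 1) = (h + 1) * h := by rw [← Nat.mul_sub_one, Nat.add_sub_cancel]
  rw [h3] at e2
  simp only [hf] at e0 e1 e2
  norm_num at e0 e1 e2
  refine ⟨?_, ?_, ?_⟩ <;> simp only [ne_eq, Nat.card_eq_fintype_card] at * <;> linarith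

variable (hZ : IsZassenhausGroup G Ω) {a b : Ω} (hab : a ≠ b)

local notation "DD" => (MulAction.stabilizer G a ⊓ MulAction.stabilizer G b : Subgroup G)

include hZ hab

theorem zas_card_D_gt_one : 1 < Nat.card DD := by
  obtain ⟨x, hx, hxa, hxb⟩ := zas_two_point_ne_bot hZ hab
  rw [Subgroup.one_lt_card_iff_ne_bot]
  exact fun h => hx ((Subgroup.eq_bot_iff_forall _).mp h x ⟨hxa, hxb⟩)

theorem zas_three_le_D (hodd : Odd (Nat.card DD)) : 3 ≤ Nat.card DD := by
  have := zas_card_D_gt_one hZ hab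
  obtain ⟨k, hk⟩ := hodd
  omega

/-- An involution fixes at most one point when two-point stabilizers have odd order. -/
theorem zas_invol_fix (hodd : Odd (Nat.card DD)) {t : G} (ht : orderOf t = 2) {c d : Ω} (hc : t • c = c)
    (hd : t • d = d) : c = d := by
  by_contra hcd
  have h := zas_card_pair hZ hab hcd
  have h2 : 2 ∣ Nat.card DD := by
    rw [← h, ← ht]
    exact Subgroup.orderOf_dvd_natCard _ ⟨hc, hd⟩
  obtain ⟨k, hk⟩ := hodd
  omega

/-- An element moving a nontrivial element of the two-point stabilizer inside it fixes or swaps the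
two points. -/
theorem zas_set_stab {g x : G} (hx : x ∈ DD) (hx1 : x ≠ 1) (hgx : g * x * g⁻¹ ∈ DD) :
    (g • a = a ∧ g • b = b) ∨ (g • a = b ∧ g • b = a) := by
  have hne : g * x * g⁻¹ ≠ 1 := fun e => hx1 (by rwa [mul_inv_eq_one, mul_eq_left] at e)
  have f1 : (g * x * g⁻¹) • (g • a) = g • a := by
    rw [mul_smul, mul_smul, inv_smul_smul]; exact congrArg (g • ·) hx.1
  have f2 : (g * x * g⁻¹) • (g • b) = g • b := by
    rw [mul_smul, mul_smul, inv_smul_smul]; exact congrArg (g • ·) hx.2
  have hd : ∀ c, (g * x * g⁻¹) • c = c → c = a ∨ c = b := fun c hc => by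
    by_contra hh
    push Not at hh
    exact hne (hZ.2.2.1 _ a b c hab hh.2.symm hh.1.symm hgx.1 hgx.2 hc)
  have hne2 : g • a ≠ g • b := fun e => hab (MulAction.injective g e)
  rcases hd _ f1 with e1 | e1 <;> rcases hd _ f2 with e2 | e2
  · exact absurd (e1.trans e2.symm) hne2
  · exact Or.inl ⟨e1, e2⟩
  · exact Or.inr ⟨e1, e2⟩
  · exact absurd (e1.trans e2.symm) hne2

theorem zas_swap_conj {s : G} (hsa : s • a = b) (hsb : s • b = a) {x : G} (hx : x ∈ DD) :
    s * x * s⁻¹ ∈ DD ∧ s⁻¹ * x * s ∈ DD := by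
  have i1 : s⁻¹ • a = b := by rw [inv_smul_eq_iff, hsb]
  have i2 : s⁻¹ • b = a := by rw [inv_smul_eq_iff, hsa]
  have hxa : x • a = a := hx.1
  have hxb : x • b = b := hx.2
  exact ⟨⟨show (s * x * s⁻¹) • a = a by rw [mul_smul, mul_smul, i1, hxb, hsb],
      show (s * x * s⁻¹) • b = b by rw [mul_smul, mul_smul, i2, hxa, hsa]⟩,
    ⟨show (s⁻¹ * x * s) • a = a by rw [mul_smul, mul_smul, hsa, hxb, i2],
      show (s⁻¹ * x * s) • b = b by rw [mul_smul, mul_smul, hsb, hxa, i1]⟩⟩

/-- The point stabilizer is a Frobenius group with complement the two-point stabilizer. -/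
theorem zas_frobenius :
    IsFrobeniusComplement ((DD).subgroupOf (MulAction.stabilizer G a)) := by
  set A := MulAction.stabilizer G a with hA
  refine ⟨?_, ?_, ?_⟩
  · obtain ⟨x, hx, hxa, hxb⟩ := zas_two_point_ne_bot hZ hab
    intro h
    exact hx (congrArg Subtype.val ((Subgroup.eq_bot_iff_forall _).mp h ⟨x, hxa⟩
      (Subgroup.mem_subgroupOf.mpr ⟨hxa, hxb⟩)))
  · intro h
    have hle : A ≤ DD := Subgroup.subgroupOf_eq_top.mp h
    obtain ⟨c, hca, hcb⟩ : ∃ c, c ≠ a ∧ c ≠ b := by
      by_contra hh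
      push Not at hh
      have h3 := zas_two_lt_card hZ
      classical
      have : (Finset.univ : Finset Ω) ⊆ {a, b} := fun x _ => by
        by_cases hxa : x = a
        · simp [hxa]
        · simp [hh x hxa]
      have := Finset.card_le_card this
      rw [Finset.card_univ, Finset.card_pair hab] at this
      omega
    obtain ⟨k, hka, hkb⟩ := MulAction.is_two_pretransitive_iff.1 hZ.2.1 hab hca.symm
    exact hcb (hkb.symm.trans (hle hka).2)
  · intro g hg
    rw [Subgroup.eq_bot_iff_forall]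
    rintro x ⟨hx1, hx2⟩
    by_contra hne
    have hx2' : x ∈ MulAut.conj g • (DD).subgroupOf A := hx2
    rw [Subgroup.mem_pointwise_smul_iff_inv_smul_mem, ← map_inv, MulAut.smul_def,
      MulAut.conj_apply, inv_inv, Subgroup.mem_subgroupOf] at hx2'
    have hx' : (x : G) ∈ DD := Subgroup.mem_subgroupOf.mp hx1
    have hga : (g : G) • a = a := g.2
    rcases zas_set_stab hZ hab hx' (fun e => hne (Subtype.ext e)) (g := (g : G)⁻¹)
        (by simpa using hx2') with ⟨-, h2⟩ | ⟨h1, -⟩
    · rw [inv_smul_eq_iff] at h2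
      exact hg (Subgroup.mem_subgroupOf.mpr ⟨g.2, h2.symm⟩)
    · rw [inv_smul_eq_iff] at h1
      exact hab (MulAction.injective (g : G) (hga.trans h1))

/-- The Frobenius kernel of a point stabilizer. -/
theorem zas_exists_kernel :
    ∃ N : Subgroup (MulAction.stabilizer G a), N.Normal ∧ Group.IsNilpotent N ∧
      N.IsComplement' ((DD).subgroupOf (MulAction.stabilizer G a)) ∧ N ≠ ⊥ ∧
      ∀ x ∈ N, x ≠ 1 → ∀ c : Ω, (x : G) • c = c → c = a := by
  set A := MulAction.stabilizer G a with hA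
  set D' := (DD).subgroupOf A with hD'
  have hF := zas_frobenius hZ hab
  obtain ⟨N, hN, hNn, hNnil⟩ := Cfsg.Agent.S0042.result D' hF
  obtain ⟨N', hN', -, hc⟩ := Cfsg.Agent.S0035.result D' hF
  have hNN : N = N' := SetLike.ext' (hN.trans hN'.symm)
  refine ⟨N, hNn, hNnil, hNN ▸ hc, fun h => hF.2.1 ?_, fun x hx hx1 c hc' => ?_⟩
  · have h2 : N'.IsComplement' D' := hc
    rw [← hNN, h, Subgroup.isComplement'_bot_left] at h2
    exact h2
  · by_contra hca
    have hxk : x ∈ frobeniusKernel D' := hN ▸ hx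
    rcases hxk with h | h
    · exact hx1 h
    obtain ⟨k, hka, hkb⟩ := MulAction.is_two_pretransitive_iff.1 hZ.2.1 hab (Ne.symm hca)
    refine h ⟨k, hka⟩ ?_
    rw [Subgroup.mem_pointwise_smul_iff_inv_smul_mem, ← map_inv, MulAut.smul_def,
      MulAut.conj_apply, inv_inv, Subgroup.mem_subgroupOf]
    have hxa : (x : G) • a = a := x.2
    refine ⟨show (k⁻¹ * (x : G) * k) • a = a by
      rw [mul_smul, mul_smul, hka, hxa, inv_smul_eq_iff, hka],
      show (k⁻¹ * (x : G) * k) • b = b by rw [mul_smul, mul_smul, hkb, hc', inv_smul_eq_iff, hkb]⟩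

/-- A two-point stabilizer of odd order has cyclic Sylow subgroups. -/
theorem zas_isZGroup (hodd : Odd (Nat.card DD)) : IsZGroup ↥DD := by
  obtain ⟨N, hNn, -, hc, hN1, hfix⟩ := zas_exists_kernel hZ hab
  haveI := hNn
  set D' := (DD).subgroupOf (MulAction.stabilizer G a) with hD'
  have hF := zas_frobenius hZ hab
  have hfpf := (Cfsg.Agent.S0039.result N D' hc hN1 hF.1).mp hF
  let e : D' ≃* ↥DD := Subgroup.subgroupOfEquivOfLe inf_le_left
  haveI : IsZGroup D' := by
    refine ⟨fun p hp P => ?_⟩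
    haveI := Fact.mk hp
    rcases Cfsg.Agent.S0040.result N D' hc hN1 hfpf p P with h | ⟨m, ⟨q⟩⟩
    · exact h
    · exfalso
      haveI : NeZero (2 ^ m) := ⟨pow_ne_zero _ (by norm_num)⟩
      have h1 := Subgroup.card_subgroup_dvd_card (P : Subgroup D')
      rw [Nat.card_congr q.toEquiv, Nat.card_congr e.toEquiv, Nat.card_eq_fintype_card,
        QuaternionGroup.card] at h1
      obtain ⟨k, hk⟩ := hodd
      have h2 : 2 ∣ Nat.card DD := Dvd.dvd.trans ⟨2 * 2 ^ m, by ring⟩ h1
      omega
  exact IsZGroup.of_surjective (f := e.toMonoidHom) e.surjective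

section Simple

variable [IsSimpleGroup G]
  (hodd : Odd (Nat.card ↥(MulAction.stabilizer G a ⊓ MulAction.stabilizer G b : Subgroup G)))

include hodd

/-- The two-point stabilizer is a Hall subgroup. -/
theorem zas_D_coprime_index : (Nat.card DD).Coprime (DD).index := by
  classical
  refine Nat.coprime_of_dvd fun r hr hrd hri => ?_
  haveI := Fact.mk hr
  have hr2 : r ≠ 2 := by
    rintro rfl
    obtain ⟨k, hk⟩ := hodd
    omega
  obtain ⟨x, hx⟩ := exists_prime_orderOf_dvd_card' r hrd
  rw [← Subgroup.orderOf_coe] at hx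
  have hx1 : (x : G) ≠ 1 := fun e => by rw [e, orderOf_one] at hx; exact hr.one_lt.ne hx
  have hP : IsPGroup r (Subgroup.zpowers (x : G)) :=
    IsPGroup.of_card (n := 1) (by rw [Nat.card_zpowers, hx, pow_one])
  have hmod := hP.card_modEq_card_fixedPoints (α := Ω)
  have hfix : MulAction.fixedPoints (Subgroup.zpowers (x : G)) Ω = {a, b} := by
    ext c
    constructor
    · intro hc
      by_contra hh
      simp only [Set.mem_insert_iff, Set.mem_singleton_iff, not_or] at hh
      exact hx1 (hZ.2.2.1 _ a b c hab (Ne.symm hh.2) (Ne.symm hh.1) x.2.1 x.2.2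
        (hc ⟨_, Subgroup.mem_zpowers _⟩))
    · intro hc
      rintro ⟨g, k, rfl⟩
      have : (x : G) ∈ MulAction.stabilizer G c := by
        rcases hc with rfl | rfl
        · exact x.2.1
        · exact x.2.2
      exact Subgroup.zpow_mem _ this k
  rw [hfix, Nat.card_eq_fintype_card, Nat.card_coe_set_eq, Set.ncard_pair hab] at hmod
  obtain ⟨-, hG⟩ := zas_card_group hZ hab
  have h3 := zas_two_lt_card hZ
  set n := Fintype.card Ω
  have hidx : (DD).index = n * (n - 1) := by
    apply Nat.eq_of_mul_eq_mul_left (Nat.card_pos (α := ↥DD))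
    rw [(DD).card_mul_index, hG]; ring
  rw [hidx] at hri
  rcases hr.dvd_mul.mp hri with h | h
  · have h2 : r ∣ 2 := (Nat.modEq_zero_iff_dvd).mp (hmod.symm.trans (Nat.modEq_zero_iff_dvd.mpr h))
    exact hr2 ((Nat.prime_dvd_prime_iff_eq hr Nat.prime_two).mp h2)
  · have h1 : r ∣ n - 2 := (Nat.modEq_iff_dvd' (by omega)).mp hmod.symm
    have : r ∣ (n - 1) - (n - 2) := Nat.dvd_sub h h1
    rw [show (n - 1) - (n - 2) = 1 by omega] at this
    exact hr.not_dvd_one this

/-- A linear character of the two-point stabilizer invariant under the swap is trivial. -/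
theorem zas_lin_eq_one {s : G} (hsa : s • a = b) (hsb : s • b = a) (l : ↥DD →* ℂˣ)
    (hl : ∀ x : ↥DD, l ⟨s * x * s⁻¹, (zas_swap_conj hZ hab hsa hsb x.2).1⟩ = l x) : l = 1 := by
  have hcomm : commutator G = ⊤ := by
    rcases Subgroup.Normal.eq_bot_or_eq_top (H := commutator G) inferInstance with h | h
    · exfalso
      obtain ⟨x, hx1, hxa, hxb⟩ := zas_two_point_ne_bot hZ hab
      obtain ⟨hf, h2, -, -, -⟩ := hZ
      haveI := hf
      refine hx1 (FaithfulSMul.eq_of_smul_eq_smul fun y : Ω => ?_)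
      rw [one_smul]
      by_cases hy : y = a
      · rw [hy, hxa]
      · obtain ⟨k, hka, -⟩ := MulAction.is_two_pretransitive_iff.1 h2 hab hy
        have hxk : x * k = k * x :=
          commutatorElement_eq_one_iff_mul_comm.mp ((Subgroup.eq_bot_iff_forall _).mp h _
            (Subgroup.commutator_mem_commutator (Subgroup.mem_top x) (Subgroup.mem_top k)))
        rw [← hka, ← mul_smul, hxk, mul_smul, hxa]
    · exact h
  have hfoc : (DD).focalSubgroup = DD := by
    refine (Cfsg.Agent.S0080.result DD ?_).1.trans (by rw [hcomm, top_inf_eq])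
    exact ((zas_D_coprime_index hZ hab hodd).symm).coprime_dvd_right
      (Subgroup.relIndex_dvd_card _ _)
  have hle : (DD).focalSubgroup ≤ l.ker.map (DD).subtype := by
    rw [Subgroup.focalSubgroup_def, Subgroup.closure_le]
    rintro g ⟨hg, x, hx, u, rfl⟩
    refine ⟨⟨_, hg⟩, ?_, rfl⟩
    show l _ = 1
    have hy : u * x⁻¹ * u⁻¹ ∈ DD := by
      have := (DD).mul_mem ((DD).inv_mem hx) hg
      rwa [show x⁻¹ * ⁅x, u⁆ = u * x⁻¹ * u⁻¹ by rw [commutatorElement_def]; group] at this
    rw [show (⟨⁅x, u⁆, hg⟩ : ↥DD) = ⟨x, hx⟩ * ⟨_, hy⟩ from Subtype.ext (by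
      show ⁅x, u⁆ = x * (u * x⁻¹ * u⁻¹)
      rw [commutatorElement_def]; group), map_mul]
    by_cases hx1 : x = 1
    · subst hx1
      rw [← map_mul, show (⟨1, hx⟩ : ↥DD) * ⟨_, hy⟩ = 1 from Subtype.ext (by simp), map_one]
    rcases zas_set_stab hZ hab ((DD).inv_mem hx) (inv_ne_one.mpr hx1) hy with ⟨h1, h2⟩ | ⟨h1, h2⟩
    · have hu : u ∈ DD := ⟨h1, h2⟩
      rw [show (⟨_, hy⟩ : ↥DD) = ⟨u, hu⟩ * (⟨x, hx⟩ : ↥DD)⁻¹ * (⟨u, hu⟩ : ↥DD)⁻¹ from rfl, map_mul,
        map_mul, map_inv, map_inv, mul_comm (l ⟨u, hu⟩), mul_inv_cancel_right, mul_inv_cancel]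
    · have hd : s⁻¹ * u ∈ DD := ⟨show (s⁻¹ * u) • a = a by rw [mul_smul, h1, inv_smul_eq_iff, hsa],
        show (s⁻¹ * u) • b = b by rw [mul_smul, h2, inv_smul_eq_iff, hsb]⟩
      set w : ↥DD := ⟨s⁻¹ * u, hd⟩ * (⟨x, hx⟩ : ↥DD)⁻¹ * (⟨s⁻¹ * u, hd⟩ : ↥DD)⁻¹ with hw
      rw [show (⟨_, hy⟩ : ↥DD) = ⟨s * w * s⁻¹, (zas_swap_conj hZ hab hsa hsb w.2).1⟩ from
        Subtype.ext (by
          show u * x⁻¹ * u⁻¹ = s * ((s⁻¹ * u) * x⁻¹ * (s⁻¹ * u)⁻¹) * s⁻¹
          group), hl, hw, map_mul, map_mul, map_inv, map_inv, mul_comm (l ⟨s⁻¹ * u, hd⟩),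
        mul_inv_cancel_right, mul_inv_cancel]
  rw [hfoc] at hle
  refine MonoidHom.ext fun x => ?_
  obtain ⟨y, hy, hyx⟩ := hle x.2
  rw [← (Subtype.ext hyx : y = x)]
  exact hy

/-- An involution swapping the two points inverts their stabilizer. -/
theorem zas_invert {s : G} (hs : orderOf s = 2) (hsa : s • a = b) (hsb : s • b = a) {x : G}
    (hx : x ∈ DD) : s * x * s⁻¹ = x⁻¹ := by
  classical
  haveI := Fintype.ofFinite ↥DD
  have hss : s * s = 1 := by rw [← pow_two, ← hs, pow_orderOf_eq_one]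
  let σ : ↥DD →* ↥DD :=
    { toFun := fun y => ⟨s * y * s⁻¹, (zas_swap_conj hZ hab hsa hsb y.2).1⟩
      map_one' := Subtype.ext (by simp)
      map_mul' := fun y z => Subtype.ext (by simp [mul_assoc]) }
  have hσσ : ∀ y, σ (σ y) = y := fun y => Subtype.ext (by
    show s * (s * y * s⁻¹) * s⁻¹ = y
    have : s⁻¹ = s := inv_eq_of_mul_eq_one_right hss
    rw [this, ← mul_assoc, ← mul_assoc, hss, one_mul, mul_assoc, hss, mul_one])
  -- modulo the derived subgroup
  have hmod : ∀ y : ↥DD, y * σ y ∈ commutator ↥DD := by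
    intro y
    haveI : Finite (Abelianization ↥DD) := Quotient.finite _
    have hinj : Abelianization.of (y * σ y) = 1 := by
      by_contra hne
      obtain ⟨φ, hφ⟩ := CommGroup.exists_apply_ne_one_of_hasEnoughRootsOfUnity
        (Abelianization ↥DD) ℂ hne
      let l₀ : ↥DD →* ℂˣ := φ.comp Abelianization.of
      have := zas_lin_eq_one hZ hab hodd hsa hsb (l₀ * l₀.comp σ) (fun z => by
        show l₀ (σ z) * l₀ (σ (σ z)) = l₀ z * l₀ (σ z)
        rw [hσσ, mul_comm])
      have h1 : l₀ y * l₀ (σ y) = 1 := DFunLike.congr_fun this y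
      exact hφ (by rw [← map_mul] at h1; exact h1)
    exact (QuotientGroup.eq_one_iff _).mp hinj
  haveI := zas_isZGroup hZ hab hodd
  haveI : IsCyclic (commutator ↥DD) := IsZGroup.isCyclic_commutator _
  -- the derived subgroup is central
  have hcent : commutator ↥DD ≤ Subgroup.center ↥DD := by
    intro z hz
    obtain ⟨z₀, hz₀⟩ := IsCyclic.exists_generator (α := commutator ↥DD)
    have haut : ∀ f : ↥DD →* ↥DD, (∀ w ∈ commutator ↥DD, f w ∈ commutator ↥DD) →
        ∃ k : ℤ, ∀ w ∈ commutator ↥DD, f w = w ^ k := by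
      intro f hf
      obtain ⟨k, hk⟩ := Subgroup.mem_zpowers_iff.mp (hz₀ ⟨f z₀, hf _ z₀.2⟩)
      refine ⟨k, fun w hw => ?_⟩
      obtain ⟨i, hi⟩ := Subgroup.mem_zpowers_iff.mp (hz₀ ⟨w, hw⟩)
      have hk' : ((z₀ : ↥DD)) ^ k = f z₀ := by rw [← SubgroupClass.coe_zpow, hk]
      have hi' : ((z₀ : ↥DD)) ^ i = w := by rw [← SubgroupClass.coe_zpow, hi]
      rw [← hi', map_zpow, ← hk', ← zpow_mul, ← zpow_mul, mul_comm]
    have hnc : (commutator ↥DD).Normal := inferInstance
    have hσc : ∀ w ∈ commutator ↥DD, σ w ∈ commutator ↥DD := fun w hw =>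
      (show (commutator ↥DD).map σ ≤ commutator ↥DD by
        rw [commutator_def, Subgroup.map_commutator]
        exact Subgroup.commutator_mono le_top le_top) (Subgroup.mem_map_of_mem σ hw)
    obtain ⟨m, hm⟩ := haut σ hσc
    refine Subgroup.mem_center_iff.mpr fun y => ?_
    obtain ⟨k, hk⟩ := haut (MulAut.conj y).toMonoidHom fun w hw => hnc.conj_mem w hw y
    -- `σ y` and `y⁻¹` induce the same power map
    have hcomm : ∀ u w : ↥DD, u ∈ commutator ↥DD → w ∈ commutator ↥DD → u * w = w * u := fun u w hu hw => by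
      letI := IsCyclic.commGroup (α := commutator ↥DD)
      exact congrArg Subtype.val (mul_comm (⟨u, hu⟩ : commutator ↥DD) ⟨w, hw⟩)
    have hσy : ∀ w ∈ commutator ↥DD, σ y * w * (σ y)⁻¹ = w ^ k := by
      intro w hw
      have h1 : y * σ w * y⁻¹ = (σ w) ^ k := hk _ (hσc w hw)
      have h2 := congrArg σ h1
      rw [map_mul, map_mul, map_inv, map_zpow, hσσ] at h2
      exact h2
    have hinv : ∀ w ∈ commutator ↥DD, y⁻¹ * w * y = w ^ k := by
      intro w hw
      have hc := hmod y
      have h1 := hσy w hw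
      rw [show σ y = y⁻¹ * (y * σ y) by group, mul_inv_rev, inv_inv] at h1
      calc y⁻¹ * w * y = y⁻¹ * ((y * σ y) * w * (y * σ y)⁻¹) * y := by
            rw [hcomm _ w hc hw, mul_inv_cancel_right]
        _ = w ^ k := by rw [← h1]; group
    have hfix : ∀ w ∈ commutator ↥DD, (y ^ 2) * w * (y ^ 2)⁻¹ = w := by
      intro w hw
      have hw' : y * w * y⁻¹ ∈ commutator ↥DD := hnc.conj_mem w hw y
      have h1 : y * w * y⁻¹ = y⁻¹ * w * y := (hk w hw).trans (hinv w hw).symm
      calc y ^ 2 * w * (y ^ 2)⁻¹ = y * (y * w * y⁻¹) * y⁻¹ := by rw [pow_two]; group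
        _ = w := by rw [h1]; group
    obtain ⟨j, hj⟩ := hodd
    have hyj : (y ^ 2) ^ (j + 1) = y := by
      rw [← pow_mul, show 2 * (j + 1) = Nat.card ↥DD + 1 by omega, pow_succ, pow_card_eq_one', one_mul]
    have h2 : Commute (y ^ 2) z := mul_inv_eq_iff_eq_mul.mp (hfix z hz)
    exact (hyj ▸ h2.pow_left (j + 1))
  haveI : Group.IsNilpotent ↥DD := by
    have : Group.IsNilpotent (Abelianization ↥DD) := inferInstance
    exact Subgroup.isNilpotent_of_ker_le_center (Abelianization.of : ↥DD →* Abelianization ↥DD)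
      (by rw [Abelianization.ker_of]; exact hcent)
  letI := IsCyclic.commGroup (α := ↥DD)
  have hbot : commutator ↥DD = ⊥ := by
    rw [commutator_def, Subgroup.commutator_eq_bot_iff_le_centralizer]
    intro u _ w _
    exact mul_comm w u
  have h := hmod ⟨x, hx⟩
  rw [hbot, Subgroup.mem_bot] at h
  have h2 : x * (s * x * s⁻¹) = 1 := congrArg Subtype.val h
  exact (inv_eq_of_mul_eq_one_right h2).symm

theorem zas_D_comm {x y : G} (hx : x ∈ DD) (hy : y ∈ DD) : x * y = y * x := by
  obtain ⟨s, hs, hsa, hsb⟩ := (Cfsg.Agent.S0740.result hZ hab).1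
  have h1 := zas_invert hZ hab hodd hs hsa hsb ((DD).mul_mem hx hy)
  rw [show s * (x * y) * s⁻¹ = s * x * s⁻¹ * (s * y * s⁻¹) by group,
    zas_invert hZ hab hodd hs hsa hsb hx, zas_invert hZ hab hodd hs hsa hsb hy, mul_inv_rev] at h1
  calc x * y = (y⁻¹ * x⁻¹)⁻¹ := by group
    _ = y * x := by rw [← h1]; group

/-- The involutions swapping the two points are a coset of the stabilizer. -/
theorem zas_swap_iff {s : G} (hs : orderOf s = 2) (hsa : s • a = b) (hsb : s • b = a) (t : G) :
    (orderOf t = 2 ∧ t • a = b) ↔ ∃ d ∈ DD, t = s * d := by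
  have hss : s * s = 1 := by rw [← pow_two, ← hs, pow_orderOf_eq_one]
  constructor
  · rintro ⟨ht, hta⟩
    have htb : t • b = a := by
      rw [← hta, ← mul_smul, ← pow_two, ← ht, pow_orderOf_eq_one, one_smul]
    refine ⟨s⁻¹ * t, ⟨show (s⁻¹ * t) • a = a by rw [mul_smul, hta, inv_smul_eq_iff, hsa],
      show (s⁻¹ * t) • b = b by rw [mul_smul, htb, inv_smul_eq_iff, hsb]⟩, by group⟩
  · rintro ⟨d, hd, rfl⟩
    have hda : d • a = a := hd.1
    have hta : (s * d) • a = b := by rw [mul_smul, hda, hsa]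
    refine ⟨?_, hta⟩
    have h2 : (s * d) ^ 2 = 1 := by
      have hsi : s⁻¹ = s := inv_eq_of_mul_eq_one_right hss
      calc (s * d) ^ 2 = s * d * s⁻¹ * d := by rw [pow_two, hsi, ← mul_assoc]
        _ = 1 := by rw [zas_invert hZ hab hodd hs hsa hsb hd, inv_mul_cancel]
    refine orderOf_eq_prime h2 fun h => hab ?_
    rw [h, one_smul] at hta
    exact hta

open Classical in
theorem zas_card_swap [Fintype G] {c d : Ω} (hcd : c ≠ d) :
    (Finset.univ.filter fun t : G => orderOf t = 2 ∧ t • c = d).card = Nat.card DD := by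
  have hpair := zas_card_pair hZ hab hcd
  have hodd' : Odd (Nat.card ↥(MulAction.stabilizer G c ⊓ MulAction.stabilizer G d : Subgroup G)) :=
    hpair ▸ hodd
  obtain ⟨s, hs, hsa, hsb⟩ := (Cfsg.Agent.S0740.result hZ hcd).1
  rw [← hpair, Nat.card_eq_fintype_card, Fintype.card_subtype]
  refine (Finset.card_equiv (Equiv.mulLeft s) fun g => ?_).symm
  simp only [Finset.mem_filter, Finset.mem_univ, true_and, Equiv.coe_mulLeft,
    zas_swap_iff hZ hcd hodd' hs hsa hsb]
  exact ⟨fun h => ⟨g, h, rfl⟩, fun ⟨w, hw, e⟩ => by rwa [mul_left_cancel e]⟩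

/-- Involutions are conjugate. -/
theorem zas_invol_conj {x : G} (hx : orderOf x = 2) {s : G} (hs : orderOf s = 2) (hsa : s • a = b)
    (hsb : s • b = a) : IsConj x s := by
  haveI := hZ.1
  obtain ⟨c, hc⟩ : ∃ c : Ω, x • c ≠ c := by
    by_contra hall
    push Not at hall
    have h1 : x = 1 := FaithfulSMul.eq_of_smul_eq_smul fun y : Ω => by rw [hall, one_smul]
    rw [h1, orderOf_one] at hx
    omega
  obtain ⟨g, hga, hgb⟩ := MulAction.is_two_pretransitive_iff.1 hZ.2.1 (Ne.symm hc) hab
  have ht2 : orderOf (g * x * g⁻¹) = 2 := by rw [← MulAut.conj_apply, MulEquiv.orderOf_eq, hx]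
  have hta : (g * x * g⁻¹) • a = b := by rw [← hga, mul_smul, mul_smul, inv_smul_smul, hgb]
  obtain ⟨d, hd, hd'⟩ := (zas_swap_iff hZ hab hodd hs hsa hsb _).mp ⟨ht2, hta⟩
  obtain ⟨j, hj⟩ := hodd
  have hdc : d ^ Nat.card DD = 1 := congrArg Subtype.val (pow_card_eq_one' (x := (⟨d, hd⟩ : ↥DD)))
  set w := d ^ (j + 1) with hw
  have hww : w * w = d := by
    rw [hw, ← pow_add, show j + 1 + (j + 1) = Nat.card DD + 1 by omega, pow_succ, hdc, one_mul]
  refine (isConj_iff.mpr ⟨g, hd'⟩ : IsConj x (s * d)).trans (isConj_iff.mpr ⟨w, ?_⟩)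
  have hs' : s * w * s⁻¹ = w⁻¹ := zas_invert hZ hab ⟨j, hj⟩ hs hsa hsb (pow_mem hd _)
  have hws : w * s = s * w⁻¹ := by
    have : s * w = w⁻¹ * s := by rw [← hs']; group
    calc w * s = w * (s * w) * w⁻¹ := by group
      _ = s * w⁻¹ := by rw [this]; group
  calc w * (s * d) * w⁻¹ = (w * s) * (d * w⁻¹) := by group
    _ = s * w⁻¹ * (w * w * w⁻¹) := by rw [hws, hww]
    _ = s := by group

open Classical in
/-- Involutions and the pairs they move. -/
theorem zas_invol_double_count [Fintype G] {h e : ℕ} (hh : Fintype.card Ω = h + 1)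
    (he : Nat.card DD = e) :
    ∑ t ∈ Finset.univ.filter (fun t : G => orderOf t = 2), (h + 1 - zasFix Ω t) = (h + 1) * h * e := by
  have hrow : ∀ t : G, h + 1 - zasFix Ω t =
      ((Finset.univ : Finset Ω).offDiag.filter fun q => t • q.1 = q.2).card := by
    intro t
    rw [zasFix, ← hh, ← Finset.card_compl, Finset.compl_filter]
    refine Finset.card_bij (fun x _ => (x, t • x)) (fun x hx => ?_) (fun x _ y _ h => congrArg Prod.fst h)
      (fun q hq => ?_)
    · simp only [Finset.mem_filter, Finset.mem_offDiag, Finset.mem_univ, true_and] at hx ⊢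
      exact ⟨fun e => hx e.symm, trivial⟩
    · simp only [Finset.mem_filter, Finset.mem_offDiag, Finset.mem_univ, true_and] at hq
      exact ⟨q.1, Finset.mem_filter.mpr ⟨Finset.mem_univ _, fun e => hq.1 (e ▸ hq.2)⟩,
        Prod.ext rfl hq.2⟩
  simp only [hrow, Finset.card_filter]
  rw [Finset.sum_comm, Finset.sum_congr rfl (g := fun _ => e) fun q hq => ?_, Finset.sum_const,
    Finset.offDiag_card, Finset.card_univ, hh, smul_eq_mul]
  · congr 1
    rw [← Nat.mul_sub_one, Nat.add_sub_cancel]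
  · rw [← Finset.card_filter, Finset.filter_filter, zas_card_swap hZ hab hodd
      (Finset.mem_offDiag.mp hq).2.2, he]

open Classical in
/-- The involutions: their fixed points and their number. -/
theorem zas_invol_count [Fintype G] {h e : ℕ} (hh : Fintype.card Ω = h + 1) (he : Nat.card DD = e) :
    (Even h → (∀ t : G, orderOf t = 2 → zasFix Ω t = 1) ∧
      (Finset.univ.filter fun t : G => orderOf t = 2).card = e * (h + 1)) ∧
    (¬ Even h → (∀ t : G, orderOf t = 2 → zasFix Ω t = 0) ∧
      (Finset.univ.filter fun t : G => orderOf t = 2).card = e * h) := by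
  have key := zas_invol_double_count hZ hab hodd hh he
  have hfix : ∀ t : G, orderOf t = 2 → zasFix Ω t ≤ 1 ∧ zasFix Ω t % 2 = (h + 1) % 2 := by
    intro t ht
    refine ⟨Finset.card_le_one.mpr fun c hc d hd => zas_invol_fix hZ hab hodd ht
      (Finset.mem_filter.mp hc).2 (Finset.mem_filter.mp hd).2, ?_⟩
    haveI := Fact.mk Nat.prime_two
    have hp : IsPGroup 2 (Subgroup.zpowers t) :=
      IsPGroup.of_card (n := 1) (by rw [Nat.card_zpowers, ht, pow_one])
    have h1 := hp.card_modEq_card_fixedPoints (α := Ω)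
    rw [Nat.card_eq_fintype_card, hh] at h1
    rw [h1, Nat.card_eq_fintype_card, zasFix, ← Fintype.card_subtype]
    congr 1
    refine Fintype.card_congr (Equiv.subtypeEquivRight fun x => ?_)
    refine ⟨fun hx => ?_, fun hx => hx ⟨t, Subgroup.mem_zpowers t⟩⟩
    rintro ⟨g, k, rfl⟩
    exact Subgroup.zpow_mem (MulAction.stabilizer G x) hx k
  constructor
  · intro hev
    rw [Nat.even_iff] at hev
    have hone : ∀ t : G, orderOf t = 2 → zasFix Ω t = 1 := fun t ht => by
      have := hfix t ht; omega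
    refine ⟨hone, ?_⟩
    rw [Finset.sum_congr rfl (g := fun _ => h) fun t ht => by rw [hone t (Finset.mem_filter.mp ht).2, Nat.add_sub_cancel],
      Finset.sum_const, smul_eq_mul] at key
    have h0 : 0 < h := by have := zas_two_lt_card hZ; omega
    apply Nat.eq_of_mul_eq_mul_right h0
    rw [key]; ring
  · intro hev
    rw [Nat.not_even_iff] at hev
    have hzero : ∀ t : G, orderOf t = 2 → zasFix Ω t = 0 := fun t ht => by
      have := hfix t ht; omega
    refine ⟨hzero, ?_⟩
    rw [Finset.sum_congr rfl (g := fun _ => h + 1) fun t ht => by rw [hzero t (Finset.mem_filter.mp ht).2, Nat.sub_zero],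
      Finset.sum_const, smul_eq_mul] at key
    apply Nat.eq_of_mul_eq_mul_right (Nat.succ_pos h)
    rw [Nat.succ_eq_add_one, key]; ring

open Classical in
/-- The number of involutions fixing a point. -/
theorem zas_invol_at [Fintype G] {h e : ℕ} (hh : Fintype.card Ω = h + 1) (he : Nat.card DD = e)
    (c : Ω) : (Finset.univ.filter fun t : G => orderOf t = 2 ∧ t • c = c).card ≤ e := by
  rcases Nat.even_or_odd h with hev | hev
  · obtain ⟨hone, hcard⟩ := (zas_invol_count hZ hab hodd hh he).1 hev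
    have hconst : ∀ d : Ω, (Finset.univ.filter fun t : G => orderOf t = 2 ∧ t • d = d).card =
        (Finset.univ.filter fun t : G => orderOf t = 2 ∧ t • c = c).card := by
      intro d
      by_cases hd : d = c
      · rw [hd]
      obtain ⟨k, hk, -⟩ := MulAction.is_two_pretransitive_iff.1 hZ.2.1 hd (Ne.symm hd)
      refine Finset.card_equiv (MulAut.conj k).toEquiv fun t => ?_
      have hki : k⁻¹ • c = d := by rw [inv_smul_eq_iff, hk]
      have he' : ((MulAut.conj k).toEquiv t : G) = k * t * k⁻¹ := rfl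
      simp only [Finset.mem_filter, Finset.mem_univ, true_and, he']
      rw [← MulAut.conj_apply k t, MulEquiv.orderOf_eq, MulAut.conj_apply, mul_smul, mul_smul, hki]
      constructor
      · rintro ⟨h1, h2⟩; exact ⟨h1, by rw [h2, hk]⟩
      · rintro ⟨h1, h2⟩; exact ⟨h1, MulAction.injective k (h2.trans hk.symm)⟩
    have hsum : ∑ d : Ω, (Finset.univ.filter fun t : G => orderOf t = 2 ∧ t • d = d).card =
        (Finset.univ.filter fun t : G => orderOf t = 2).card := by
      simp only [Finset.card_filter]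
      rw [Finset.sum_comm]
      refine Finset.sum_congr rfl fun t _ => ?_
      by_cases ht : orderOf t = 2
      · simp only [ht, true_and, if_true]
        rw [← Finset.card_filter]
        exact hone t ht
      · simp [ht]
    rw [Finset.sum_congr rfl fun d _ => hconst d, Finset.sum_const, Finset.card_univ, smul_eq_mul,
      hcard, hh, mul_comm e] at hsum
    exact (Nat.eq_of_mul_eq_mul_left (Nat.succ_pos h) hsum).le
  · obtain ⟨hzero, -⟩ := (zas_invol_count hZ hab hodd hh he).2 (Nat.not_even_iff_odd.mpr hev)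
    refine le_of_eq_of_le ?_ (Nat.zero_le e)
    rw [Finset.card_eq_zero, Finset.filter_eq_empty_iff]
    rintro t - ⟨ht, htc⟩
    have := hzero t ht
    rw [zasFix, Finset.card_eq_zero, Finset.filter_eq_empty_iff] at this
    exact this (Finset.mem_univ c) htc

end Simple

end Cfsg.Lib.Char
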