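import Mathlib
import Cfsg.Agent.Lib.Char.FeitKernelSplit
import Cfsg.Agent.Lib.Char.ZassenhausReduce
import Cfsg.Agent.Lib.Char.Indicator
import Cfsg.Agent.Lib.Char.PermLemma
import Cfsg.Agent.S0881
import Cfsg.Agent.S0883

/-!
# Preliminaries for Feit's inequality for Zassenhaus groups

The characters of a simple Zassenhaus group induced from a point stabilizer, sums over the group
weighted by fixed points, and the arithmetic of the final contradiction.
-/

set_option autoImplicit false
set_option linter.unusedSectionVars false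
set_option linter.style.haveILetI false

namespace Cfsg.Lib.Char

open Cfsg
open scoped ComplexConjugate

universe u v

section Fix

variable {G : Type u} {Ω : Type v} [Group G] [Fintype G] [MulAction G Ω] [Fintype Ω]

open Classical in
theorem sum_extendByZero_stab (a : Ω) (f : G → ℂ) (hf : ∀ x y : G, f (x * y * x⁻¹) = f y)
    [Fintype (MulAction.stabilizer G a)] (h : ∀ c : Ω, ∃ x : G, x • a = c) :
    ∑ g : G, f g * (zasFix Ω g : ℂ) = (Fintype.card Ω : ℂ) * ∑ g : MulAction.stabilizer G a, f g := by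
  have h1 : ∀ g : G, f g * (zasFix Ω g : ℂ) = ∑ c : Ω, if g • c = c then f g else 0 := by
    intro g
    rw [zasFix, Finset.sum_ite, Finset.sum_const_zero, add_zero, Finset.sum_const, nsmul_eq_mul, mul_comm]
  rw [Finset.sum_congr rfl fun g _ => h1 g, Finset.sum_comm]
  rw [Finset.sum_congr rfl (g := fun _ => ∑ g : MulAction.stabilizer G a, f g) fun c _ => ?_, Finset.sum_const,
    Finset.card_univ, nsmul_eq_mul]
  obtain ⟨x, rfl⟩ := h c
  rw [← Finset.sum_filter]
  refine Finset.sum_bij' (fun g hg => (⟨x⁻¹ * g * x, by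
      show (x⁻¹ * g * x) • a = a
      rw [mul_smul, mul_smul, (Finset.mem_filter.1 hg).2, inv_smul_smul]⟩ : MulAction.stabilizer G a))
    (fun g _ => x * (g : G) * x⁻¹) (fun _ _ => Finset.mem_univ _) (fun g _ => Finset.mem_filter.2
      ⟨Finset.mem_univ _, by rw [mul_smul, mul_smul, inv_smul_smul, show (g : G) • a = a from g.2]⟩)
    (fun g _ => by simp [mul_assoc]) (fun g _ => Subtype.ext (by simp [mul_assoc])) (fun g _ => ?_)
  show f g = f (x⁻¹ * g * x)
  have := hf x⁻¹ g
  rw [inv_inv] at this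
  rw [this]

open Classical in
/-- The character induced from the trivial character of a point stabilizer counts fixed points. -/
theorem indFun_stab_one_eq_fix (a : Ω) (h : ∀ c : Ω, ∃ x : G, x • a = c) (g : G) :
    indFun (MulAction.stabilizer G a) (fun _ => (1 : ℂ)) g = (zasFix Ω g : ℂ) := by
  haveI := Fintype.ofFinite (MulAction.stabilizer G a)
  have hif : ∀ x : G, extendByZero (MulAction.stabilizer G a) (fun _ => (1 : ℂ)) (x⁻¹ * g * x) =
      if g • (x • a) = x • a then 1 else 0 := by
    intro x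
    have hiff : x⁻¹ * g * x ∈ MulAction.stabilizer G a ↔ g • (x • a) = x • a := by
      rw [MulAction.mem_stabilizer_iff, mul_smul, mul_smul, inv_smul_eq_iff]
    by_cases hx : g • (x • a) = x • a
    · rw [if_pos hx, extendByZero_of_mem _ _ (hiff.2 hx)]
    · rw [if_neg hx, extendByZero_of_notMem _ _ fun h => hx (hiff.1 h)]
  show (Nat.card (MulAction.stabilizer G a) : ℂ)⁻¹ * _ = _
  rw [Finset.sum_congr rfl fun x _ => hif x, inv_mul_eq_iff_eq_mul₀ card_cast_ne_zero,
    ← Finset.sum_fiberwise_of_maps_to (g := fun x : G => x • a) (t := Finset.univ)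
      (fun x _ => Finset.mem_univ _)]
  rw [Finset.sum_congr rfl (g := fun c => if g • c = c then (Nat.card (MulAction.stabilizer G a) : ℂ) else 0)
    fun c _ => ?_, ← Finset.sum_filter, Finset.sum_const, nsmul_eq_mul, zasFix, mul_comm]
  rw [Finset.sum_congr rfl (g := fun _ => if g • c = c then (1 : ℂ) else 0)
    (fun x hx => by rw [(Finset.mem_filter.1 hx).2]), Finset.sum_const, nsmul_eq_mul]
  obtain ⟨x, rfl⟩ := h c
  rw [mul_ite, mul_one, mul_zero]
  refine if_congr Iff.rfl ?_ rfl
  rw [Nat.card_eq_fintype_card, ← Finset.card_univ]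
  refine congrArg _ (Finset.card_bij' (fun y hy => (⟨x⁻¹ * y, by
      show (x⁻¹ * y) • a = a
      rw [mul_smul, (Finset.mem_filter.1 hy).2, inv_smul_smul]⟩ : MulAction.stabilizer G a))
    (fun y _ => x * (y : G)) (fun _ _ => Finset.mem_univ _) (fun y _ => Finset.mem_filter.2
      ⟨Finset.mem_univ _, by rw [mul_smul, show (y : G) • a = a from y.2]⟩)
    (fun y _ => mul_inv_cancel_left x y) (fun y _ => Subtype.ext (inv_mul_cancel_left x (y : G))))

end Fix

section Arith

/-- The cleared form of the class equation for a kernel of even order. -/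
theorem feit_even_algebra {e n m r : ℂ} (he : e ≠ 0) (hn : n ≠ 0) (hmn : 1 - m * n ≠ 0) (hp : n * e + 2 ≠ 0)
    (hr : 2 * r = e - 1)
    (heq : 1 + r / (n * e + 2) - (r + 2 * m - n * m ^ 2) / (n * e) +
      (-e ^ 2 + m * (n * e + 1 - 3 * e) - 3 * m ^ 2 + n * m ^ 3) / (e * (1 - m * n)) = 0) :
    (n * e + 2) * (n * e * (1 - e) + m * (n - 3 * e * n - 2)) - (1 - m * n) * (e - 1) = 0 := by
  have hne : n * e ≠ 0 := mul_ne_zero hn he
  have hem : e * (1 - m * n) ≠ 0 := mul_ne_zero he hmn
  have key : (n * e + 2) * (n * e) * (1 - m * n) * (1 + r / (n * e + 2) - (r + 2 * m - n * m ^ 2) / (n * e) +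
      (-e ^ 2 + m * (n * e + 1 - 3 * e) - 3 * m ^ 2 + n * m ^ 3) / (e * (1 - m * n))) =
      (n * e + 2) * (n * e) * (1 - m * n) + (n * e) * (1 - m * n) * r -
        (n * e + 2) * (1 - m * n) * (r + 2 * m - n * m ^ 2) +
        (n * e + 2) * n * (-e ^ 2 + m * (n * e + 1 - 3 * e) - 3 * m ^ 2 + n * m ^ 3) := by
    generalize (-e ^ 2 + m * (n * e + 1 - 3 * e) - 3 * m ^ 2 + n * m ^ 3) = w
    generalize 1 - m * n = q at hmn hem ⊢
    generalize n * e + 2 = p at hp ⊢
    field_simp
    try ring
  rw [heq, mul_zero] at key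
  linear_combination (1 - m * n) * hr - key

/-- The class equation for a kernel of even order has no solutions. -/
theorem feit_even_arith {e n m : ℤ} (he : 3 ≤ e) (hn : 3 ≤ n) (hS : 2 * (n * m ^ 2 - 2 * m) ≤ e - 1)
    (heq : (n * e + 2) * (n * e * (1 - e) + m * (n - 3 * e * n - 2)) - (1 - m * n) * (e - 1) = 0) : False := by
  have h9 : 9 ≤ n * e := by nlinarith
  rcases le_or_gt 0 m with hm | hm
  · have h1 : m * (n - 3 * e * n - 2) ≤ 0 := mul_nonpos_of_nonneg_of_nonpos hm (by nlinarith)
    have h2 : n * e * (1 - e) ≤ 9 * (1 - e) := by nlinarith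
    have h3 : (n * e + 2) * m * (3 * e * n + 2 - n) ≥ m * n * (e - 1) := by
      have : (n * e + 2) * (3 * e * n + 2 - n) ≥ n * (e - 1) := by nlinarith
      nlinarith
    nlinarith
  · obtain ⟨k, rfl⟩ : ∃ k, m = -k := ⟨-m, by ring⟩
    have hk : 1 ≤ k := by omega
    have h5 : n * e * (e - 1) ≤ k * (3 * e * n + 2) := by
      by_contra h6
      push Not at h6
      have h7 : (n * e + 2) * (k * (3 * e * n + 2)) < (n * e + 2) * (n * e * (e - 1)) :=
        mul_lt_mul_of_pos_left h6 (by omega)
      have h8 : 0 ≤ k * n * (n * e + 2) := mul_nonneg (mul_nonneg (by omega) (by omega)) (by omega)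
      have h9' : 0 ≤ (1 + k * n) * (e - 1) := mul_nonneg (by nlinarith) (by omega)
      linarith
    have h10 : 3 * k ≤ n * k * k := by nlinarith
    have h11 : n * e * (10 * k) ≤ n * e * (e - 1) := mul_le_mul_of_nonneg_left (by nlinarith) (by omega)
    nlinarith

end Arith

end Cfsg.Lib.Char
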