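import Mathlib
import Cfsg.Agent.Lib.Char.FeitZassenhausBasic
import Cfsg.Agent.Lib.Perm.ZasAbelian.Bound

/-!
# The irreducible characters of a simple Zassenhaus group with coherent kernel

For a simple Zassenhaus group with odd two-point stabilizers and coherent characters over the kernel,
the irreducible characters fall into the trivial one, the Steinberg character, those induced from
linear characters of the point stabilizer, the exceptional ones, and those constant on the kernel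
with negative value.
-/

set_option autoImplicit false
set_option linter.unusedSectionVars false
set_option linter.style.haveILetI false

namespace Cfsg.Lib.Char

open Cfsg
open scoped ComplexConjugate

universe u v

section Decomp

variable {G : Type u} {Ω : Type v} [Group G] [Fintype G] [MulAction G Ω] [Fintype Ω] [IsSimpleGroup G]
  (hZ : IsZassenhausGroup G Ω) {a b : Ω} (hab : a ≠ b)
  (hodd : Odd (Nat.card ↥(MulAction.stabilizer G a ⊓ MulAction.stabilizer G b : Subgroup G)))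
  (H : Subgroup G) (hHa : H ≤ MulAction.stabilizer G a) (hHcard : Nat.card H + 1 = Fintype.card Ω)
  (hHfix : ∀ u ∈ H, u ≠ 1 → ∀ c : Ω, u • c = c → c = a)

local notation "DD" => (MulAction.stabilizer G a ⊓ MulAction.stabilizer G b : Subgroup G)
local notation "AA" => (MulAction.stabilizer G a : Subgroup G)

include hZ hab hodd hHa hHcard hHfix

/-- Fixed points on the point stabilizer. -/
theorem fz_fix (g : G) (hg1 : g ≠ 1) (hga : g • a = a) :
    (g ∈ H → zasFix Ω g = 1) ∧ (g ∉ H → zasFix Ω g = 2) := by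
  classical
  refine ⟨fun hg => ?_, fun hg => ?_⟩
  · rw [zasFix, Finset.card_eq_one]
    exact ⟨a, Finset.ext fun c => by
      simp only [Finset.mem_filter, Finset.mem_univ, true_and, Finset.mem_singleton]
      exact ⟨fun hc => hHfix g hg hg1 c hc, fun hc => hc ▸ hga⟩⟩
  · refine le_antisymm (zasFix_le_two hZ hg1) ?_
    obtain ⟨c, hc, hca⟩ : ∃ c : Ω, g • c = c ∧ c ≠ a := by
      by_contra hh
      push Not at hh
      exact hg (zas_mem_kernel hZ a H hHa hHcard hHfix hga hh)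
    rw [zasFix]
    exact Finset.one_lt_card.2 ⟨c, Finset.mem_filter.2 ⟨Finset.mem_univ _, hc⟩, a,
      Finset.mem_filter.2 ⟨Finset.mem_univ _, hga⟩, hca⟩

/-- The point stabilizer modulo the kernel has linear characters only. -/
theorem fz_linear [(H.subgroupOf AA).Normal] [Fintype AA] (η : IrrCharacter AA)
    (hη : η ∈ irrTrivialOn (H.subgroupOf AA)) : (η : AA → ℂ) 1 = 1 := by
  classical
  obtain ⟨ψ, hψ, hψη⟩ := exists_deflate_irr (N := H.subgroupOf AA) η.2 (mem_irrTrivialOn.1 hη)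
  rw [← hψη 1]
  refine degree_eq_one_of_comm (fun x y => ?_) hψ
  induction x using QuotientGroup.induction_on with | H x => ?_
  induction y using QuotientGroup.induction_on with | H y => ?_
  have hrep : ∀ x : AA, ∃ d : AA, (d : G) ∈ DD ∧
      (QuotientGroup.mk x : AA ⧸ H.subgroupOf AA) = QuotientGroup.mk d := by
    intro x
    obtain ⟨u, hu, d, hd, hxd⟩ := Cfsg.Lib.Perm.ZasAbelian.stab_decomp hab H hHa hHcard hHfix x.2
    refine ⟨⟨d, hd.1⟩, hd, ?_⟩
    rw [show x = (⟨u, hHa hu⟩ : AA) * ⟨d, hd.1⟩ from Subtype.ext hxd, QuotientGroup.mk_mul,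
      (QuotientGroup.eq_one_iff (⟨u, hHa hu⟩ : AA)).mpr hu, one_mul]
  obtain ⟨c, hc, hxc⟩ := hrep x
  obtain ⟨d, hd, hyd⟩ := hrep y
  rw [hxc, hyd, ← QuotientGroup.mk_mul, ← QuotientGroup.mk_mul,
    show c * d = d * c from Subtype.ext (zas_D_comm hZ hab hodd hc hd)]

open Classical in
/-- The Steinberg character. -/
theorem fz_steinberg : IsIrrCharacter G (fun g => (zasFix Ω g : ℂ) - 1) := by
  haveI := hZ.1
  haveI : MulAction.IsPretransitive G Ω := by
    haveI := hZ.2.1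
    exact MulAction.isPretransitive_of_is_two_pretransitive
  haveI := Fintype.ofFinite AA
  have hfun : indFun AA (fun _ => (1 : ℂ)) = fun g => (zasFix Ω g : ℂ) :=
    funext fun g => indFun_stab_one_eq_fix a (fun c => MulAction.exists_smul_eq G a c) g
  have h2 := Cfsg.Lib.Perm.ZasAbelian.norm_indFun_one hZ hab
  have h1 : classInner (indFun AA fun _ => (1 : ℂ)) (fun _ : G => (1 : ℂ)) = 1 := by
    rw [classInner_indFun AA _ (isIrrCharacter_one (G := G)).isClassFunction]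
    exact classInner_irr_self isIrrCharacter_one
  have h1' : classInner (fun _ : G => (1 : ℂ)) (indFun AA fun _ => (1 : ℂ)) = 1 := by
    rw [← classInner_conj_symm, h1, map_one]
  rw [show (fun g => (zasFix Ω g : ℂ) - 1) = indFun AA (fun _ => (1 : ℂ)) - fun _ => (1 : ℂ) by
    rw [hfun]; rfl]
  obtain ⟨ε, μ, hε, hμ⟩ := exists_signed_irr_of_norm_one
    ((isCharacter_indFun AA isIrrCharacter_one.isCharacter).isGeneralized.sub
      (isIrrCharacter_one (G := G)).isGeneralized)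
    (by rw [classInner_sub_left, classInner_sub_right, classInner_sub_right, h2, h1, h1',
          classInner_irr_self isIrrCharacter_one]; norm_num)
  rcases hε with rfl | rfl
  · rw [hμ, Int.cast_one, one_smul]
    exact μ.2
  · exfalso
    have h3 := congrFun hμ 1
    obtain ⟨d, hd0, hd⟩ := μ.2.exists_degree
    rw [hfun] at h3
    simp only [Pi.sub_apply, Pi.smul_apply, smul_eq_mul, hd] at h3
    have hfix : zasFix Ω (1 : G) = Fintype.card Ω := by
      simp [zasFix]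
    rw [hfix] at h3
    have h4 : ((Fintype.card Ω + d : ℕ) : ℂ) = ((1 : ℕ) : ℂ) := by
      push_cast at h3 ⊢
      linear_combination h3
    have := Nat.cast_injective h4
    have := zas_two_lt_card hZ
    omega

set_option maxHeartbeats 1000000 in
open Classical in
/-- The irreducible characters, sorted. -/
theorem fz_decomp [(H.subgroupOf AA).Normal] [Fintype AA] {h e : ℕ} (hh : Fintype.card Ω = h + 1)
    (he : Nat.card DD = e) (hlt : 2 * e < h - 1)
    {σ : (AA → ℂ) → (G → ℂ)} (hσ : IsLinearIsometryOn (zspan (irrNontrivialOn (H.subgroupOf AA))) σ)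
    {m : ℤ}
    (hm : ∀ χ ∈ irrNontrivialOn (H.subgroupOf AA), ∀ k : AA, (k : G) ∈ H → k ≠ 1 →
      σ χ k - χ k = (m : ℂ) * χ 1 / (e : ℂ))
    (hexc : ∀ ψ : G → ℂ, IsIrrCharacter G ψ →
      ((∃ χ ∈ irrNontrivialOn (H.subgroupOf AA), ψ = σ χ ∨ ψ = -σ χ) ↔
        ¬ ∀ x ∈ H, ∀ y ∈ H, x ≠ 1 → y ≠ 1 → ψ x = ψ y)) :
    ∃ Mu R : Finset (IrrCharacter G),
      2 * Mu.card + 1 = e ∧
      (∀ μ ∈ Mu, (μ : G → ℂ) 1 = (h : ℂ) + 1 ∧ (∀ k ∈ H, k ≠ 1 → (μ : G → ℂ) k = 1) ∧
        ∀ y : G, (∀ c : Ω, y • c ≠ c) → (μ : G → ℂ) y = 0) ∧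
      (∀ ψ ∈ R, ∃ c : ℤ, c ≤ -1 ∧ (ψ : G → ℂ) 1 = -((h : ℂ) - 1) * c ∧
        ∀ k ∈ H, k ≠ 1 → (ψ : G → ℂ) k = c) ∧
      (∀ χ ∈ irrNontrivialOn (H.subgroupOf AA), σ χ 1 = χ 1 * (1 - ((h : ℂ) - 1) * m / e) ∧
        (IsIrrCharacter G (σ χ) ∨ IsIrrCharacter G (-σ χ)) ∧
        (∀ x : AA, (x : G) ∉ H → σ χ x = 0) ∧ ∑ g, σ χ g = 0) ∧
      ∀ F : (G → ℂ) → ℂ, (∀ f, F (-f) = F f) →
        ∑ ψ : IrrCharacter G, F ψ = F (fun _ => 1) + F (fun g => (zasFix Ω g : ℂ) - 1) +
          ∑ μ ∈ Mu, F μ +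
          ∑ χ ∈ (irrNontrivialOn_finite (H.subgroupOf AA)).toFinset, F (σ χ) + ∑ ψ ∈ R, F ψ := by
  haveI := hZ.1
  haveI : MulAction.IsPretransitive G Ω := by
    haveI := hZ.2.1
    exact MulAction.isPretransitive_of_is_two_pretransitive
  obtain ⟨hA1, -⟩ := zas_card_group hZ hab
  rw [hh, Nat.add_sub_cancel, he] at hA1
  have hHh : Nat.card H = h := by omega
  have hlt' : Nat.card DD < Fintype.card Ω - 2 := by omega
  set K : Subgroup AA := H.subgroupOf AA with hKdef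
  have hKmem : ∀ x : AA, x ∈ K ↔ (x : G) ∈ H := fun x => Subgroup.mem_subgroupOf
  have hKcard : Nat.card K = h := by
    rw [hKdef, Nat.card_congr (Subgroup.subgroupOfEquivOfLe hHa).toEquiv, hHh]
  have hKidx : K.index = e := by
    have := K.card_mul_index
    rw [hKcard, hA1] at this
    exact Nat.eq_of_mul_eq_mul_left (show 0 < h by omega) this
  have hCK : ∀ k ∈ K, k ≠ 1 → Subgroup.centralizer ({k} : Set AA) ≤ K := fun k hk hk1 x hx =>
    zas_centralizer_le hZ hab H hHa hHcard hHfix hk (fun h' => hk1 (Subtype.ext h'))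
      (Subgroup.mem_centralizer_singleton_iff.mpr
        (congrArg Subtype.val (Subgroup.mem_centralizer_singleton_iff.mp hx)))
  have hlin := fz_linear hZ hab hodd H hHa hHcard hHfix
  obtain ⟨k₀, hk₀, hk₀1⟩ : ∃ k ∈ H, k ≠ 1 := by
    refine (Subgroup.bot_or_exists_ne_one H).resolve_left fun hb => ?_
    rw [hb, Subgroup.card_bot] at hHh
    omega
  -- the trivial character and the Steinberg character
  have hfun : indFun AA (fun _ => (1 : ℂ)) = fun g => (zasFix Ω g : ℂ) :=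
    funext fun g => indFun_stab_one_eq_fix a (fun c => MulAction.exists_smul_eq G a c) g
  let o : IrrCharacter G := ⟨fun _ => 1, isIrrCharacter_one⟩
  let St : IrrCharacter G := ⟨_, fz_steinberg hZ hab hodd H hHa hHcard hHfix⟩
  have hfix1 : zasFix Ω (1 : G) = h + 1 := by simp [zasFix, hh]
  have hoSt : (o : G → ℂ) ≠ St := by
    intro e'
    have h1 : (1 : ℂ) = (zasFix Ω (1 : G) : ℂ) - 1 := congrFun e' 1
    rw [hfix1] at h1
    push_cast at h1
    have h2 : ((h : ℕ) : ℂ) = ((1 : ℕ) : ℂ) := by push_cast; linear_combination -h1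
    have := Nat.cast_injective h2
    omega
  let one : IrrCharacter AA := ⟨fun _ => 1, isIrrCharacter_one⟩
  have hone : one ∈ irrTrivialOn K := mem_irrTrivialOn.2 fun _ _ => rfl
  have hind1 : ∀ ψ : IrrCharacter G, classInner (ψ : G → ℂ) (indFun AA (one : AA → ℂ)) =
      classInner (ψ : G → ℂ) (o : G → ℂ) + classInner (ψ : G → ℂ) (St : G → ℂ) := by
    intro ψ
    rw [← classInner_add_right]
    congr 1
    show indFun AA (fun _ => (1 : ℂ)) = _
    rw [hfun]
    funext g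
    simp [o, St]
  -- the characters induced from the other linear characters
  set Lin' := (irrTrivialOn K).erase one with hLin'
  have hmu : ∀ η ∈ Lin', IsIrrCharacter G (indFun AA (η : AA → ℂ)) ∧
      ∀ u ∈ H, u ≠ 1 → indFun AA (η : AA → ℂ) u = 1 := by
    intro η hη
    obtain ⟨hne, hη⟩ := Finset.mem_erase.1 hη
    have h1 := hlin η hη
    exact Cfsg.Agent.S0881.result hZ hab hodd hlt' H hHa hHcard hHfix _ ⟨η.2.isCharacter, h1⟩
      (fun u hu => by rw [mem_irrTrivialOn.1 hη u ((hKmem u).2 hu), h1]) (fun e' => hne (Subtype.ext e'))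
  let μf : IrrCharacter AA → IrrCharacter G := fun η =>
    if hη : IsIrrCharacter G (indFun AA (η : AA → ℂ)) then ⟨_, hη⟩ else o
  have hμf : ∀ η ∈ Lin', (μf η : G → ℂ) = indFun AA (η : AA → ℂ) := fun η hη => by
    simp only [μf, dif_pos (hmu η hη).1]
  set Mu := Lin'.image μf with hMu
  have hidxA : (AA).index = h + 1 := by
    rw [MulAction.index_stabilizer_of_transitive G a, Nat.card_eq_fintype_card, hh]
  have hMu' : ∀ μ ∈ Mu, (μ : G → ℂ) 1 = (h : ℂ) + 1 ∧ (∀ k ∈ H, k ≠ 1 → (μ : G → ℂ) k = 1) ∧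
      ∀ y : G, (∀ c : Ω, y • c ≠ c) → (μ : G → ℂ) y = 0 := by
    intro μ hμ
    obtain ⟨η, hη, rfl⟩ := Finset.mem_image.1 hμ
    rw [hμf η hη]
    refine ⟨?_, (hmu η hη).2, fun y hy => ?_⟩
    · rw [indFun_apply_one, hidxA, hlin η (Finset.mem_of_mem_erase hη)]; simp
    · show _ * ∑ x : G, extendByZero AA (η : AA → ℂ) (x⁻¹ * y * x) = 0
      rw [Finset.sum_eq_zero fun x _ => extendByZero_of_notMem _ _ fun h' => hy (x • a) ?_, mul_zero]
      have h'' : (x⁻¹ * y * x) • a = a := h'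
      rwa [mul_smul, mul_smul, inv_smul_eq_iff] at h''
  have hMuo : o ∉ Mu := fun hμ => by
    have h1 := (hMu' o hμ).1
    have h2 : ((h : ℕ) : ℂ) = ((0 : ℕ) : ℂ) := by
      change (1 : ℂ) = _ at h1
      push_cast; linear_combination -h1
    have := Nat.cast_injective h2
    omega
  have hMuSt : St ∉ Mu := fun hμ => by
    have h1 := (hMu' St hμ).1
    change (zasFix Ω (1 : G) : ℂ) - 1 = _ at h1
    rw [hfix1] at h1
    push_cast at h1
    exact one_ne_zero (show (1 : ℂ) = 0 by linear_combination -h1)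
  -- multiplicities
  have hT0 : ∀ ψ : IrrCharacter G, ψ ≠ o → ψ ≠ St → ψ ∉ Mu →
      ∀ η ∈ irrTrivialOn K, classInner (ψ : G → ℂ) (indFun AA (η : AA → ℂ)) = 0 := by
    intro ψ h1 h2 h3 η hη
    by_cases hη1 : η = one
    · rw [hη1, hind1, classInner_irr_ne ψ.2 o.2 fun e' => h1 (Subtype.ext e'),
        classInner_irr_ne ψ.2 St.2 fun e' => h2 (Subtype.ext e'), add_zero]
    · have hη' : η ∈ Lin' := Finset.mem_erase.2 ⟨hη1, hη⟩
      rw [← hμf η hη']
      refine classInner_irr_ne ψ.2 (μf η).2 fun e' => h3 ?_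
      rw [show ψ = μf η from Subtype.ext e']
      exact Finset.mem_image_of_mem _ hη'
  haveI : Fintype K := Fintype.ofFinite K
  have hKsum : ∀ f : G → ℂ, IsClassFunction G f →
      (∑ k : K, f ((k : AA) : G) = (h : ℂ) * ∑ η ∈ irrTrivialOn K, classInner f (indFun AA (η : AA → ℂ))) ∧
        ((∀ η ∈ irrTrivialOn K, classInner f (indFun AA (η : AA → ℂ)) = 0) →
          ∀ x : AA, (x : G) ∉ H → f x = 0) := by
    intro f hf
    have hres : IsClassFunction AA (fun x : AA => f x) := fun x y => by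
      show f ((y : G) * x * (y : G)⁻¹) = f x
      exact hf _ _
    obtain ⟨h1, h2⟩ := kernel_expansion hCK hlin hres
    refine ⟨?_, fun h0 x hx => h2 (fun η hη => ?_) x fun hx' => hx ((hKmem x).1 hx')⟩
    · rw [h1, hKcard]
      congr 1
      exact Finset.sum_congr rfl fun η _ => (classInner_indFun_right AA _ hf).symm
    · rw [← classInner_indFun_right AA _ hf]; exact h0 η hη
  have hKconst : ∀ (f : G → ℂ) (c : ℂ), (∀ k ∈ H, k ≠ 1 → f k = c) →
      ∑ k : K, f ((k : AA) : G) = f 1 + ((h : ℂ) - 1) * c := by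
    intro f c hc
    rw [← Finset.add_sum_erase _ _ (Finset.mem_univ (1 : K)),
      Finset.sum_congr rfl (g := fun _ => c) fun k hk => ?_, Finset.sum_const,
      Finset.card_erase_of_mem (Finset.mem_univ _), Finset.card_univ, ← Nat.card_eq_fintype_card, hKcard,
      nsmul_eq_mul, Nat.cast_sub (by omega), Nat.cast_one]
    · rfl
    · exact hc _ ((hKmem _).1 k.2) fun e' => Finset.ne_of_mem_erase hk (Subtype.ext (Subtype.ext e'))
  have hfib : ∀ μ ∈ Mu, (Lin'.filter fun η => μf η = μ).card = 2 := by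
    intro μ hμ
    have h1 := (hKsum _ μ.2.isClassFunction).1
    rw [hKconst _ 1 (hMu' μ hμ).2.1, (hMu' μ hμ).1, ← Finset.add_sum_erase _ _ hone, hind1,
      classInner_irr_ne μ.2 o.2 (fun e' => hMuo (Subtype.ext e' ▸ hμ)),
      classInner_irr_ne μ.2 St.2 (fun e' => hMuSt (Subtype.ext e' ▸ hμ)), add_zero, zero_add,
      Finset.sum_congr rfl (g := fun η => if μf η = μ then (1 : ℂ) else 0) fun η hη => by
        rw [← hμf η hη, classInner_irr μ.2 (μf η).2]
        exact if_congr ⟨fun e' => (Subtype.ext e').symm, fun e' => by rw [e']⟩ rfl rfl,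
      Finset.sum_boole] at h1
    have h2 : ((h * (Lin'.filter fun η => μf η = μ).card : ℕ) : ℂ) = ((h * 2 : ℕ) : ℂ) := by
      push_cast
      linear_combination -h1
    exact Nat.eq_of_mul_eq_mul_left (show 0 < h by omega) (Nat.cast_injective h2)
  have hMucard : 2 * Mu.card + 1 = e := by
    have h1 := Finset.card_eq_sum_card_image μf Lin'
    rw [← hMu, Finset.sum_congr rfl hfib, Finset.sum_const, smul_eq_mul, hLin',
      Finset.card_erase_of_mem hone, card_irrTrivialOn hlin, hKidx] at h1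
    have : 0 < e := hKidx ▸ Nat.pos_of_ne_zero Subgroup.index_ne_zero_of_finite
    omega
  -- the exceptional characters
  set S := (irrNontrivialOn_finite K).toFinset with hS
  have hSmem : ∀ {χ : AA → ℂ}, χ ∈ S → χ ∈ irrNontrivialOn K := fun hχ => by
    rwa [hS, Set.Finite.mem_toFinset] at hχ
  have hsgn : ∀ χ ∈ S, ∃ Φ : IrrCharacter G, σ χ = Φ ∨ σ χ = -(Φ : G → ℂ) := by
    intro χ hχ
    have hz := mem_zspan_self (hSmem hχ)
    obtain ⟨ε, Φ, hε, hΦ⟩ := exists_signed_irr_of_norm_one (hσ.2.2.2 χ hz)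
      (by rw [hσ.2.2.1 χ hz χ hz, classInner_irr_self (hSmem hχ).1])
    refine ⟨Φ, ?_⟩
    rcases hε with rfl | rfl <;> simp [hΦ]
  haveI : Nonempty (IrrCharacter G) := ⟨o⟩
  choose! Φ hΦ using hsgn
  set E := S.image Φ with hE
  have hΦinj : Set.InjOn Φ S := by
    intro χ hχ ξ hξ e'
    by_contra hne
    have h0 := hσ.2.2.1 χ (mem_zspan_self (hSmem hχ)) ξ (mem_zspan_self (hSmem hξ))
    rw [classInner_irr_ne (hSmem hχ).1 (hSmem hξ).1 hne] at h0
    rcases hΦ χ hχ with h1 | h1 <;> rcases hΦ ξ hξ with h2 | h2 <;>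
      simp [h1, h2, e', classInner_neg_left, classInner_neg_right, classInner_irr_self (Φ ξ).2] at h0
  have hEnc : ∀ ψ : IrrCharacter G,
      ψ ∈ E ↔ ¬ ∀ x ∈ H, ∀ y ∈ H, x ≠ 1 → y ≠ 1 → (ψ : G → ℂ) x = (ψ : G → ℂ) y := by
    intro ψ
    rw [← hexc ψ ψ.2, hE, Finset.mem_image]
    constructor
    · rintro ⟨χ, hχ, rfl⟩
      refine ⟨χ, hSmem hχ, ?_⟩
      rcases hΦ χ hχ with h1 | h1
      · exact Or.inl h1.symm
      · exact Or.inr (by rw [h1, neg_neg])
    · rintro ⟨χ, hχ, h'⟩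
      have hχS : χ ∈ S := by rwa [hS, Set.Finite.mem_toFinset]
      refine ⟨χ, hχS, Subtype.ext ?_⟩
      obtain ⟨d, hd0, hd⟩ := ψ.2.exists_degree
      obtain ⟨d', hd0', hd'⟩ := (Φ χ).2.exists_degree
      rcases h' with h1 | h1 <;> rcases hΦ χ hχS with h2 | h2
      · rw [h1, h2]
      · exfalso
        have h3 := congrFun h1 1
        rw [h2, Pi.neg_apply, hd, hd', eq_neg_iff_add_eq_zero, ← Nat.cast_add, Nat.cast_eq_zero] at h3
        omega
      · exfalso
        have h3 := congrFun h1 1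
        rw [h2, Pi.neg_apply, hd, hd', eq_neg_iff_add_eq_zero, ← Nat.cast_add, Nat.cast_eq_zero] at h3
        omega
      · rw [h1, h2, neg_neg]
  have hEo : o ∉ E := fun hψ => (hEnc o).1 hψ fun _ _ _ _ _ _ => rfl
  have hESt : St ∉ E := fun hψ => (hEnc St).1 hψ fun x hx y hy hx1 hy1 => by
    show (zasFix Ω x : ℂ) - 1 = (zasFix Ω y : ℂ) - 1
    rw [(fz_fix hZ hab hodd H hHa hHcard hHfix x hx1 (hHa hx)).1 hx,
      (fz_fix hZ hab hodd H hHa hHcard hHfix y hy1 (hHa hy)).1 hy]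
  have hEMu : ∀ μ ∈ Mu, μ ∉ E := fun μ hμ hψ => (hEnc μ).1 hψ fun x hx y hy hx1 hy1 => by
    rw [(hMu' μ hμ).2.1 x hx hx1, (hMu' μ hμ).2.1 y hy hy1]
  -- the remaining characters
  set R := Finset.univ.filter fun ψ : IrrCharacter G => ψ ≠ o ∧ ψ ≠ St ∧ ψ ∉ Mu ∧ ψ ∉ E with hR
  have hRfacts : ∀ ψ ∈ R, ∃ c : ℤ, c ≤ -1 ∧ (ψ : G → ℂ) 1 = -((h : ℂ) - 1) * c ∧
      ∀ k ∈ H, k ≠ 1 → (ψ : G → ℂ) k = c := by
    intro ψ hψ
    obtain ⟨h1, h2, h3, h4⟩ := (Finset.mem_filter.1 hψ).2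
    have hc := not_not.1 fun h' => h4 ((hEnc ψ).2 h')
    have h5 := (hKsum _ ψ.2.isClassFunction).1
    rw [Finset.sum_eq_zero (hT0 ψ h1 h2 h3), mul_zero,
      hKconst _ _ (fun k hk hk1 => hc k hk k₀ hk₀ hk1 hk₀1)] at h5
    obtain ⟨d, hd0, hd⟩ := ψ.2.exists_degree
    have hq : (ψ : G → ℂ) k₀ = ((-(d : ℚ) / ((h : ℚ) - 1) : ℚ) : ℂ) := by
      have hne : (h : ℂ) - 1 ≠ 0 := sub_ne_zero.2 (by exact_mod_cast (show h ≠ 1 by omega))
      push_cast
      rw [eq_div_iff hne, ← hd]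
      linear_combination h5
    obtain ⟨c, hc'⟩ := exists_int_of_isIntegral_rat (hq ▸ ψ.2.isCharacter.isIntegral k₀)
    have hk₀c : (ψ : G → ℂ) k₀ = c := by rw [hq, hc', Rat.cast_intCast]
    refine ⟨c, ?_, ?_, fun k hk hk1 => (hc k hk k₀ hk₀ hk1 hk₀1).trans hk₀c⟩
    · have h6 : ((d : ℤ) : ℂ) = ((-((h : ℤ) - 1) * c : ℤ) : ℂ) := by
        push_cast
        rw [← hk₀c, ← hd]
        linear_combination h5
      have h7 := Int.cast_injective h6
      have h8 : (0 : ℤ) < (d : ℤ) := by exact_mod_cast hd0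
      by_contra h9
      push Not at h9
      nlinarith [show (1 : ℤ) ≤ (h : ℤ) - 1 by omega, show (0 : ℤ) ≤ c by omega]
    · rw [← hk₀c]; linear_combination h5
  have hEfacts : ∀ χ ∈ irrNontrivialOn K, σ χ 1 = χ 1 * (1 - ((h : ℂ) - 1) * m / e) ∧
      (IsIrrCharacter G (σ χ) ∨ IsIrrCharacter G (-σ χ)) ∧
      (∀ x : AA, (x : G) ∉ H → σ χ x = 0) ∧ ∑ g, σ χ g = 0 := by
    intro χ hχ
    have hχS : χ ∈ S := by rwa [hS, Set.Finite.mem_toFinset]
    have hΦE : Φ χ ∈ E := Finset.mem_image_of_mem _ hχS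
    have hne1 : Φ χ ≠ o := fun e' => hEo (e' ▸ hΦE)
    have h0 := hT0 (Φ χ) hne1 (fun e' => hESt (e' ▸ hΦE)) (fun hμ => hEMu _ hμ hΦE)
    obtain ⟨h1, h2⟩ := hKsum _ (Φ χ).2.isClassFunction
    rw [Finset.sum_eq_zero h0, mul_zero] at h1
    have hsum0 : ∑ g, (Φ χ : G → ℂ) g = 0 := by
      have h3 := classInner_irr_ne (Φ χ).2 o.2 fun e' => hne1 (Subtype.ext e')
      change classInner (Φ χ : G → ℂ) (fun _ => (1 : ℂ)) = 0 at h3
      rw [classInner_one_right, mul_eq_zero] at h3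
      exact h3.resolve_left (inv_ne_zero card_cast_ne_zero)
    obtain ⟨hσK, hσA, hσG⟩ : ∑ k : K, σ χ ((k : AA) : G) = 0 ∧ (∀ x : AA, (x : G) ∉ H → σ χ x = 0) ∧
        ∑ g, σ χ g = 0 := by
      rcases hΦ χ hχS with e' | e' <;> rw [e']
      · exact ⟨h1, h2 h0, hsum0⟩
      · exact ⟨by simp [Finset.sum_neg_distrib, h1], fun x hx => by simp [h2 h0 x hx],
          by simp [Finset.sum_neg_distrib, hsum0]⟩
    refine ⟨?_, ?_, hσA, hσG⟩
    · have hχK : ∑ k : K, χ k = 0 := by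
        rw [(kernel_expansion hCK hlin hχ.1.isClassFunction).1, Finset.sum_eq_zero fun η hη => ?_, mul_zero]
        refine classInner_irr_ne hχ.1 η.2 fun e' => ?_
        obtain ⟨k, hk, hne⟩ := hχ.2
        exact hne (by rw [e']; exact mem_irrTrivialOn.1 hη k hk)
      have h4 : ∑ k : K, (σ χ ((k : AA) : G) - χ k) = 0 := by rw [Finset.sum_sub_distrib, hσK, hχK, sub_zero]
      rw [← Finset.add_sum_erase _ _ (Finset.mem_univ (1 : K)),
        Finset.sum_congr rfl (g := fun _ => (m : ℂ) * χ 1 / e) fun (k : K) hk =>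
          hm χ hχ (k : AA) ((hKmem _).1 k.2) fun e' => Finset.ne_of_mem_erase hk (Subtype.ext e'),
        Finset.sum_const, Finset.card_erase_of_mem (Finset.mem_univ _), Finset.card_univ,
        ← Nat.card_eq_fintype_card, hKcard, nsmul_eq_mul, Nat.cast_sub (by omega), Nat.cast_one,
        OneMemClass.coe_one, OneMemClass.coe_one] at h4
      linear_combination h4
    · rcases hΦ χ hχS with e' | e'
      · exact Or.inl (e' ▸ (Φ χ).2)
      · exact Or.inr (by rw [e', neg_neg]; exact (Φ χ).2)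
  refine ⟨Mu, R, hMucard, hMu', hRfacts, hEfacts, fun F hF => ?_⟩
  have hEsum : ∑ ψ ∈ E, F ψ = ∑ χ ∈ S, F (σ χ) := by
    rw [hE, Finset.sum_image hΦinj]
    refine Finset.sum_congr rfl fun χ hχ => ?_
    rcases hΦ χ hχ with e' | e' <;> simp [e', hF]
  rw [← hEsum]
  have hnot : Finset.univ.filter (fun ψ : IrrCharacter G => ¬(ψ ≠ o ∧ ψ ≠ St ∧ ψ ∉ Mu ∧ ψ ∉ E)) =
      insert o (insert St (Mu ∪ E)) := by
    ext ψ
    simp only [Finset.mem_filter, Finset.mem_univ, true_and, Finset.mem_insert, Finset.mem_union]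
    tauto
  rw [← Finset.sum_filter_add_sum_filter_not Finset.univ
      (fun ψ : IrrCharacter G => ψ ≠ o ∧ ψ ≠ St ∧ ψ ∉ Mu ∧ ψ ∉ E), ← hR, hnot,
    Finset.sum_insert ?_, Finset.sum_insert ?_,
    Finset.sum_union (Finset.disjoint_left.2 fun μ hμ hE' => hEMu μ hμ hE')]
  · show _ + (F (fun _ => 1) + (F (fun g => (zasFix Ω g : ℂ) - 1) + _)) = _
    ring
  · simp [hMuSt, hESt]
  · simp [hMuo, hEo, Subtype.ext_iff, hoSt]

end Decomp

end Cfsg.Lib.Char
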