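import Mathlib
import Cfsg.Agent.Lib.Char.FeitZassenhausDecomp
import Cfsg.Agent.S0883

/-!
# Feit's theorem on coherence in simple Zassenhaus groups

A simple Zassenhaus group of degree `h + 1` with two-point stabilizers of odd order `e`, where
`h - 1 > 2e` and the kernel is not abelian, does not have coherent characters over the kernel.
-/

set_option autoImplicit false
set_option linter.unusedSectionVars false
set_option linter.style.haveILetI false

namespace Cfsg.Lib.Char

open Cfsg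
open scoped ComplexConjugate

universe u v

/-- Expansion of a term of the class formula. -/
theorem feit_term_expand {x u t m : ℂ} (ht : t ≠ 0) :
    (x + m * t) * (x + m * t) * (u + m * t) / t =
      x * x * u / t + m * (2 * (x * u) + x * x) + m ^ 2 * (2 * (t * x) + t * u) + m ^ 3 * (t * t) := by
  field_simp
  ring

/-- A class formula without a negative count. -/
theorem class_sum_rat_nonneg {G : Type u} [Group G] [Fintype G] (a b c : G) :
    ∃ q : ℚ, 0 ≤ q ∧
      ∑ χ : IrrCharacter G, (χ : G → ℂ) a * (χ : G → ℂ) b * conj ((χ : G → ℂ) c) / (χ : G → ℂ) 1 = q := by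
  classical
  obtain ⟨N, hN⟩ : ∃ N : ℕ, (N : ℂ) = ((classFinset a).card : ℂ) * (classFinset b).card / (Nat.card G : ℂ) *
      ∑ χ : IrrCharacter G, (χ : G → ℂ) a * (χ : G → ℂ) b * conj ((χ : G → ℂ) c) / (χ : G → ℂ) 1 :=
    ⟨_, card_class_product a b c⟩
  refine ⟨(N : ℚ) * Nat.card G / ((classFinset a).card * (classFinset b).card), by positivity, ?_⟩
  have hne : ∀ x : G, ((classFinset x).card : ℂ) ≠ 0 := fun x =>
    Nat.cast_ne_zero.mpr (Finset.card_ne_zero.mpr ⟨x, mem_classFinset.2 (IsConj.refl x)⟩)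
  have hG := card_cast_ne_zero (G := G)
  push_cast
  rw [hN]
  field_simp [hne a, hne b]

/-- A class formula without solutions. -/
theorem class_sum_eq_zero {G : Type u} [Group G] [Fintype G] {a b c : G}
    (hno : ∀ p q : G, IsConj a p → IsConj b q → p * q ≠ c) :
    ∑ χ : IrrCharacter G, (χ : G → ℂ) a * (χ : G → ℂ) b * conj ((χ : G → ℂ) c) / (χ : G → ℂ) 1 = 0 := by
  classical
  have h := card_class_product a b c
  rw [Finset.filter_false_of_mem (fun p hp => by
    rw [Finset.mem_product, mem_classFinset, mem_classFinset] at hp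
    exact hno p.1 p.2 hp.1 hp.2), Finset.card_empty, Nat.cast_zero, eq_comm, mul_eq_zero] at h
  have hne : ∀ x : G, ((classFinset x).card : ℂ) ≠ 0 := fun x =>
    Nat.cast_ne_zero.mpr (Finset.card_ne_zero.mpr ⟨x, mem_classFinset.2 (IsConj.refl x)⟩)
  exact h.resolve_left (div_ne_zero (mul_ne_zero (hne a) (hne b)) card_cast_ne_zero)

/-- The contribution to the indicator sum of one irreducible character. -/
theorem indicator_re_le {G : Type u} [Group G] [Fintype G] {χ : G → ℂ} (hχ : IsIrrCharacter G χ) :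
    (χ 1 * ∑ s, χ (s * s)).re ≤ (χ 1).re * (Nat.card G : ℝ) := by
  obtain ⟨d, -, hd⟩ := hχ.exists_degree
  rcases indicator_cases hχ with ⟨-, h⟩ | ⟨-, h | ⟨h, -⟩⟩ <;> rw [h, hd]
  · simp only [mul_zero, Complex.zero_re, Complex.natCast_re]
    positivity
  · simp
  · simp only [Complex.mul_re, Complex.natCast_re, Complex.natCast_im, Complex.neg_re, zero_mul, sub_zero]
    have : (0 : ℝ) ≤ (d : ℝ) * (Nat.card G : ℝ) := by positivity
    linarith

section Main

variable {G : Type u} {Ω : Type v} [Group G] [Fintype G] [MulAction G Ω] [Fintype Ω] [IsSimpleGroup G]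
  (hZ : IsZassenhausGroup G Ω) {a b : Ω} (hab : a ≠ b)
  (hodd : Odd (Nat.card ↥(MulAction.stabilizer G a ⊓ MulAction.stabilizer G b : Subgroup G)))
  (H : Subgroup G) (hHa : H ≤ MulAction.stabilizer G a) (hHcard : Nat.card H + 1 = Fintype.card Ω)
  (hHfix : ∀ u ∈ H, u ≠ 1 → ∀ c : Ω, u • c = c → c = a)

local notation "DD" => (MulAction.stabilizer G a ⊓ MulAction.stabilizer G b : Subgroup G)
local notation "AA" => (MulAction.stabilizer G a : Subgroup G)

include hZ hab hodd hHa hHcard hHfix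

/-- A central element of order `p` of a nilpotent kernel; all involutions of the kernel are central. -/
theorem fz_central (hnil : Group.IsNilpotent H) :
    (∀ t ∈ H, orderOf t = 2 → ∀ w ∈ H, t * w = w * t) ∧
      (H ≠ ⊥ → ∃ k ∈ H, k ≠ 1 ∧ ∀ w ∈ H, k * w = w * k) := by
  classical
  haveI := hnil
  refine ⟨fun t ht ht2 => ?_, fun hne => ?_⟩
  · haveI := Fact.mk Nat.prime_two
    have h2Z : 2 ∣ Nat.card (Subgroup.center H) := by
      let P : Sylow 2 H := default
      have hP : (P : Subgroup H) ≠ ⊥ := P.ne_bot_of_dvd_card (ht2 ▸ Subgroup.orderOf_dvd_natCard _ ht)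
      haveI : (P : Subgroup H).Normal := Sylow.normal_of_normalizerCondition
        Group.normalizerCondition_of_isNilpotent P
      have hne := Cfsg.Lib.Solv.inf_center_ne_bot_of_isNilpotent hP
      obtain ⟨n, hn⟩ := (P.2.to_le (inf_le_left : (P : Subgroup H) ⊓ Subgroup.center H ≤ P)).exists_card_eq
      refine Dvd.dvd.trans ?_ (Subgroup.card_dvd_of_le
        (inf_le_right : (P : Subgroup H) ⊓ Subgroup.center H ≤ _))
      rw [hn]
      refine dvd_pow_self 2 fun h0 => hne ?_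
      rw [h0, pow_zero] at hn
      exact Subgroup.card_eq_one.mp hn
    obtain ⟨z, hz⟩ := exists_prime_orderOf_dvd_card' 2 h2Z
    have hz2 : orderOf ((z : H) : G) = 2 := by rw [Subgroup.orderOf_coe, Subgroup.orderOf_coe, hz]
    obtain ⟨s, hs, hsa, hsb⟩ := (Cfsg.Agent.S0740.result hZ hab).1
    obtain ⟨g, hg⟩ := isConj_iff.1
      ((zas_invol_conj hZ hab hodd hz2 hs hsa hsb).trans (zas_invol_conj hZ hab hodd ht2 hs hsa hsb).symm)
    have ht1 : t ≠ 1 := fun e' => by rw [e', orderOf_one] at ht2; omega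
    have hga : g • a = a := by
      refine hHfix t ht ht1 (g • a) ?_
      rw [← hg, mul_smul, mul_smul, inv_smul_smul, show ((z : H) : G) • a = a from hHa (z : H).2]
    intro w hw
    have hgN : g ∈ Subgroup.normalizer (H : Set G) :=
      (Cfsg.Agent.S0878.result hZ a H hHa hHcard hHfix).2.symm ▸ hga
    have hw' : g⁻¹ * w * g ∈ H := by
      have h1 := (Subgroup.mem_normalizer_iff.mp (inv_mem hgN) w).mp hw
      rwa [inv_inv] at h1
    have h2 : ((z : H) : G) * (g⁻¹ * w * g) = (g⁻¹ * w * g) * ((z : H) : G) :=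
      congrArg Subtype.val (Subgroup.mem_center_iff.mp z.2 ⟨_, hw'⟩).symm
    rw [← hg]
    calc g * ((z : H) : G) * g⁻¹ * w = g * (((z : H) : G) * (g⁻¹ * w * g)) * g⁻¹ := by group
      _ = w * (g * ((z : H) : G) * g⁻¹) := by rw [h2]; group
  · haveI : Nontrivial H := (Subgroup.nontrivial_iff_ne_bot H).mpr hne
    have h1 := Cfsg.Lib.Solv.inf_center_ne_bot_of_isNilpotent (G := H) (N := ⊤) top_ne_bot
    rw [top_inf_eq] at h1
    obtain ⟨z, hz, hz1⟩ := (Subgroup.bot_or_exists_ne_one _).resolve_left h1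
    exact ⟨z, z.2, fun e' => hz1 (Subtype.ext e'),
      fun w hw => congrArg Subtype.val (Subgroup.mem_center_iff.mp hz ⟨w, hw⟩).symm⟩

set_option maxHeartbeats 4000000 in
open Classical in
/-- The characters over a non-abelian kernel are not coherent when `h - 1 > 2e`. -/
theorem fz_noncoherent [(H.subgroupOf AA).Normal] [Fintype AA] {h e : ℕ} (hh : Fintype.card Ω = h + 1)
    (he : Nat.card DD = e) (hlt : 2 * e < h - 1) (hna : ¬ ∀ x ∈ H, ∀ y ∈ H, x * y = y * x) :
    ¬ IsCoherent (irrNontrivialOn (H.subgroupOf AA)) {1}ᶜ (fun α => indFun AA α) := by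
  rintro ⟨⟨α₀, hα₀, hα₀ne⟩, σ, hσ, hσα⟩
  haveI := hZ.1
  obtain ⟨hA1, hG⟩ := zas_card_group hZ hab
  rw [hh, Nat.add_sub_cancel, he] at hA1 hG
  have hHh : Nat.card H = h := by omega
  have he3 : 3 ≤ e := he ▸ zas_three_le_D hZ hab hodd
  obtain ⟨hTI, hN⟩ := Cfsg.Agent.S0878.result hZ a H hHa hHcard hHfix
  have hC : ∀ k ∈ H, k ≠ 1 → Subgroup.centralizer ({k} : Set G) ≤ H :=
    fun k hk hk1 => zas_centralizer_le hZ hab H hHa hHcard hHfix hk hk1
  set K : Subgroup AA := H.subgroupOf AA with hKdef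
  have hKmem : ∀ x : AA, x ∈ K ↔ (x : G) ∈ H := fun x => Subgroup.mem_subgroupOf
  have hKcard : Nat.card K = h := by
    rw [hKdef, Nat.card_congr (Subgroup.subgroupOfEquivOfLe hHa).toEquiv, hHh]
  have hKidx : K.index = e := by
    have := K.card_mul_index
    rw [hKcard, hA1] at this
    exact Nat.eq_of_mul_eq_mul_left (show 0 < h by omega) this
  have hCK : ∀ k ∈ K, k ≠ 1 → Subgroup.centralizer ({k} : Set AA) ≤ K := fun k hk hk1 x hx =>
    hC k hk (fun h' => hk1 (Subtype.ext h')) (Subgroup.mem_centralizer_singleton_iff.mpr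
      (congrArg Subtype.val (Subgroup.mem_centralizer_singleton_iff.mp hx)))
  have hltA : H < AA := lt_of_le_of_ne hHa fun e' => by
    have h1 : Nat.card H = h * e := by rw [e', hA1]
    rw [hHh] at h1
    have h2 : h * 3 ≤ h * e := Nat.mul_le_mul_left h he3
    omega
  have hK2 : K ≠ ⊤ := fun h' => hltA.not_ge (Subgroup.subgroupOf_eq_top.1 h')
  have hnilH : Group.IsNilpotent H := by
    haveI := frobKernel_isNilpotent hK2 hCK
    exact Group.nilpotent_of_mulEquiv (Subgroup.subgroupOfEquivOfLe hHa)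
  have hHne : H ≠ ⊥ := fun hb => by rw [hb, Subgroup.card_bot] at hHh; omega
  -- two characters, the exceptional constant
  have htwo : ∃ χ ∈ irrNontrivialOn K, ∃ ξ ∈ irrNontrivialOn K, χ ≠ ξ := by
    by_contra hno
    push Not at hno
    obtain ⟨hz, hz1⟩ := mem_zspanOn_one.1 hα₀
    by_cases hS : (irrNontrivialOn K).Nonempty
    · obtain ⟨χ, hχ⟩ := hS
      have : irrNontrivialOn K = {χ} := Set.eq_singleton_iff_unique_mem.2 ⟨hχ, fun x hx => (hno χ hχ x hx).symm⟩
      rw [this] at hz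
      obtain ⟨z, hz'⟩ := Submodule.mem_span_singleton.1 hz
      rw [← hz', Pi.smul_apply, zsmul_eq_mul, mul_eq_zero, Int.cast_eq_zero] at hz1
      rcases hz1 with hz1 | hz1
      · exact hα₀ne (by rw [← hz', hz1, zero_smul])
      · exact hχ.1.apply_one_ne_zero hz1
    · rw [Set.not_nonempty_iff_eq_empty.1 hS] at hz
      exact hα₀ne (by simpa [zspan] using hz)
  obtain ⟨⟨m, hm⟩, hexc⟩ := exceptional_data H AA hN hTI hltA hC hσ hσα htwo
  rw [← hKdef, hKidx] at hm
  obtain ⟨Mu, R, hMucard, hMu, hR, hE, hsum⟩ :=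
    fz_decomp hZ hab hodd H hHa hHcard hHfix hh he hlt hσ hm hexc
  -- degrees
  obtain ⟨t, ht⟩ := exists_kernel_degree hCK
  set S := (irrNontrivialOn_finite K).toFinset with hSdef
  have hSmem : ∀ {χ : AA → ℂ}, χ ∈ S → χ ∈ irrNontrivialOn K := fun hχ => by
    rwa [hSdef, Set.Finite.mem_toFinset] at hχ
  have hdeg : ∀ χ ∈ S, χ 1 = (e : ℂ) * (t χ : ℂ) := fun χ hχ => by
    rw [(ht χ (hSmem hχ)).1, hKidx, Nat.cast_mul]
  have ht0 : ∀ χ ∈ S, (t χ : ℂ) ≠ 0 := fun χ hχ => Nat.cast_ne_zero.2 (ht χ (hSmem hχ)).2.1.ne'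
  obtain ⟨n, hn⟩ : ∃ n : ℕ, ∑ χ ∈ S, t χ ^ 2 = n := ⟨_, rfl⟩
  have hne : n * e + 1 = h := by
    have h1 := sum_sq_irrBetween (⊥ : Subgroup AA) (bot_le (a := K)) S
      (by rw [hSdef, Set.Finite.coe_toFinset, irrBetween_bot]) t fun χ hχ => (ht χ (hSmem hχ)).1
    rw [Subgroup.relIndex_bot_left, hKcard, hKidx, hn] at h1
    rw [← h1, mul_comm]
  have hn3 : 3 ≤ n := by
    by_contra hh'
    push Not at hh'
    have : n * e ≤ 2 * e := Nat.mul_le_mul_right _ (by omega)
    omega
  have hneC : (h : ℂ) = (n : ℂ) * e + 1 := by exact_mod_cast hne.symm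
  have heC : (e : ℂ) ≠ 0 := Nat.cast_ne_zero.2 (by omega)
  have hnC : (n : ℂ) ≠ 0 := Nat.cast_ne_zero.2 (by omega)
  have hh1C : (h : ℂ) - 1 ≠ 0 := by rw [hneC, add_sub_cancel_right]; exact mul_ne_zero hnC heC
  have hn' : ∑ χ ∈ S, (t χ : ℂ) * t χ = n := by
    rw [← hn]; push_cast; exact Finset.sum_congr rfl fun χ _ => by ring
  -- values on the kernel
  have hval : ∀ χ ∈ S, ∀ (k : G) (hk : k ∈ H), k ≠ 1 → σ χ k = χ ⟨k, hHa hk⟩ + (m : ℂ) * t χ := by
    intro χ hχ k hk hk1
    have h1 := hm χ (hSmem hχ) ⟨k, hHa hk⟩ hk fun e' => hk1 (congrArg Subtype.val e')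
    rw [hdeg χ hχ, ← mul_assoc, mul_comm (m : ℂ) (e : ℂ), mul_assoc, mul_div_cancel_left₀ _ heC] at h1
    linear_combination h1
  have hdeg1 : ∀ χ ∈ S, σ χ 1 = (e : ℂ) * t χ * (1 - (m : ℂ) * n) := by
    intro χ hχ
    rw [(hE χ (hSmem hχ)).1, hdeg χ hχ, hneC, add_sub_cancel_right]
    field_simp
  have hconjS : ∀ χ ∈ S, ∀ x : AA, conj (χ x) = χ x⁻¹ :=
    fun χ hχ x => ((hSmem hχ).1.isCharacter.apply_inv x).symm
  have hlin := fz_linear hZ hab hodd H hHa hHcard hHfix
  have hcol1 : ∀ x ∈ K, x ≠ 1 → ∑ χ ∈ S, (t χ : ℂ) * χ x = -1 ∧ ∑ χ ∈ S, (t χ : ℂ) * conj (χ x) = -1 := by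
    intro x hx hx1
    have h1 := kernel_column_one hlin hx hx1
    rw [← hSdef, hKidx, Finset.sum_congr rfl (g := fun χ => (e : ℂ) * ((t χ : ℂ) * conj (χ x)))
      fun χ hχ => by rw [hdeg χ hχ, mul_assoc], ← Finset.mul_sum] at h1
    have h2 : ∑ χ ∈ S, (t χ : ℂ) * conj (χ x) = -1 :=
      mul_left_cancel₀ heC (by rw [h1]; ring)
    refine ⟨?_, h2⟩
    have h3 := congrArg (fun z : ℂ => conj z) h2
    simpa [map_sum] using h3
  have hcent : ∀ (k : G) (hk : k ∈ H), k ≠ 1 →
      Nat.card (Subgroup.centralizer ({(⟨k, hHa hk⟩ : AA)} : Set AA)) =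
        Nat.card (Subgroup.centralizer ({k} : Set G)) := by
    intro k hk hk1
    exact Nat.card_congr
      ⟨fun x => ⟨x.1.1, Subgroup.mem_centralizer_singleton_iff.2
          (congrArg Subtype.val (Subgroup.mem_centralizer_singleton_iff.1 x.2))⟩,
        fun x => ⟨⟨x.1, hHa (hC k hk hk1 x.2)⟩, Subgroup.mem_centralizer_singleton_iff.2
          (Subtype.ext (Subgroup.mem_centralizer_singleton_iff.1 x.2))⟩, fun _ => rfl, fun _ => rfl⟩
  have hfixH : ∀ k ∈ H, k ≠ 1 → (zasFix Ω k : ℂ) - 1 = 0 := fun k hk hk1 => by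
    rw [(fz_fix hZ hab hodd H hHa hHcard hHfix k hk1 (hHa hk)).1 hk]; simp
  choose! c hc using hR
  obtain ⟨k₀, hk₀, hk₀1, hk₀c⟩ := (fz_central hZ hab hodd H hHa hHcard hHfix hnilH).2 hHne
  -- the squares of the values of the remaining characters
  have hsq : (∑ ψ ∈ R, (c ψ : ℂ) * c ψ) = (Mu.card : ℂ) + 2 * m - n * m ^ 2 := by
    set k₁ : AA := ⟨k₀, hHa hk₀⟩ with hk₁
    have hk₁1 : k₁ ≠ 1 := fun e' => hk₀1 (congrArg Subtype.val e')
    have h1 := column_orthogonality (G := G) k₀ k₀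
    rw [if_pos (IsConj.refl _), hsum (fun f => f k₀ * conj (f k₀)) (fun f => by simp)] at h1
    beta_reduce at h1
    rw [map_one, mul_one,
      hfixH k₀ hk₀ hk₀1, map_zero, mul_zero, add_zero,
      Finset.sum_congr rfl (g := fun _ => (1 : ℂ)) fun μ hμ => by
        rw [(hMu μ hμ).2.1 k₀ hk₀ hk₀1, map_one, mul_one],
      Finset.sum_const, nsmul_eq_mul, mul_one,
      Finset.sum_congr rfl (g := fun ψ : IrrCharacter G => (c ψ : ℂ) * c ψ) (s₁ := R) fun ψ hψ => by
        rw [(hc ψ hψ).2.2 k₀ hk₀ hk₀1, map_intCast],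
      
      Finset.sum_congr rfl (g := fun χ => χ k₁ * conj (χ k₁) + (m : ℂ) * ((t χ : ℂ) * χ k₁) +
          (m : ℂ) * ((t χ : ℂ) * conj (χ k₁)) + (m : ℂ) ^ 2 * ((t χ : ℂ) * t χ)) (s₁ := S) fun χ hχ => by
        rw [hval χ hχ k₀ hk₀ hk₀1, map_add, map_mul, map_intCast, map_natCast]; ring,
      Finset.sum_add_distrib, Finset.sum_add_distrib, Finset.sum_add_distrib, ← Finset.mul_sum,
      ← Finset.mul_sum, ← Finset.mul_sum, (hcol1 k₁ hk₀ hk₁1).1, (hcol1 k₁ hk₀ hk₁1).2, hn',
      kernel_column hlin hk₀ hk₀, if_pos (IsConj.refl _), hcent k₀ hk₀ hk₀1, hKidx] at h1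
    have h2 : (2 * Mu.card + 1 : ℂ) = e := by exact_mod_cast hMucard
    linear_combination h1 - h2
  have hsqZ : (∑ ψ ∈ R, c ψ * c ψ) = (Mu.card : ℤ) + 2 * m - n * m ^ 2 := by exact_mod_cast hsq
  -- parity of the kernel
  rcases Nat.even_or_odd h with hev | hev
  · -- an involution and an element which is not one
    haveI := Fact.mk Nat.prime_two
    obtain ⟨t₀, ht₀⟩ := exists_prime_orderOf_dvd_card' (G := H) 2 (hHh.symm ▸ hev.two_dvd)
    rw [← Subgroup.orderOf_coe] at ht₀
    have ht₀1 : (t₀ : G) ≠ 1 := fun e' => by rw [e', orderOf_one] at ht₀; omega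
    obtain ⟨k, hk, hksq⟩ : ∃ k ∈ H, k * k ≠ 1 := by
      by_contra hno
      push Not at hno
      refine hna fun x hx y hy => ?_
      have hxi : x⁻¹ = x := inv_eq_of_mul_eq_one_right (hno x hx)
      have hyi : y⁻¹ = y := inv_eq_of_mul_eq_one_right (hno y hy)
      calc x * y = (x * y)⁻¹ := (inv_eq_of_mul_eq_one_right (hno _ (mul_mem hx hy))).symm
        _ = y * x := by rw [mul_inv_rev, hxi, hyi]
    have hk1 : k ≠ 1 := fun e' => hksq (by rw [e', one_mul])
    have htt : (t₀ : G) * t₀ = 1 := by rw [← pow_two, ← ht₀, pow_orderOf_eq_one]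
    have hord : ∀ p : G, IsConj (t₀ : G) p → orderOf p = 2 := fun p hp => by
      obtain ⟨g, rfl⟩ := isConj_iff.1 hp
      rw [← MulAut.conj_apply, MulEquiv.orderOf_eq, ht₀]
    have hno : ∀ p q : G, IsConj (t₀ : G) p → IsConj (t₀ : G) q → p * q ≠ k := by
      intro p q hp hq hpq
      refine hksq ?_
      have := Cfsg.Agent.S0883.result hZ hab h e hh he (he ▸ hodd) hlt H hHa hHcard hHfix k hk hk1 p q
        (hord p hp) (hord q hq) hpq
      rw [← pow_two, ← this, pow_orderOf_eq_one]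
    set k₁ : AA := ⟨k, hHa hk⟩ with hk₁
    set t₁ : AA := ⟨t₀, hHa t₀.2⟩ with ht₁
    have hk₁1 : k₁ ≠ 1 := fun e' => hk1 (congrArg Subtype.val e')
    have ht₁1 : t₁ ≠ 1 := fun e' => ht₀1 (congrArg Subtype.val e')
    have htti : t₁⁻¹ = t₁ := inv_eq_of_mul_eq_one_right (Subtype.ext htt)
    have hnotconj : ¬ IsConj t₁ k₁ := fun hc' => by
      have := hord k ((AA).subtype.map_isConj hc')
      exact hksq (by rw [← pow_two, ← this, pow_orderOf_eq_one])
    have hct : Nat.card (Subgroup.centralizer ({(t₀ : G)} : Set G)) = h := by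
      rw [← hHh]
      refine Nat.card_congr (Equiv.subtypeEquivRight fun x => ⟨fun hx => hC _ t₀.2 ht₀1 hx, fun hx => ?_⟩)
      exact Subgroup.mem_centralizer_singleton_iff.2
        ((fz_central hZ hab hodd H hHa hHcard hHfix hnilH).1 _ t₀.2 ht₀ x hx).symm
    have s1 : ∑ χ ∈ S, χ t₁ * χ t₁ * conj (χ k₁) / (t χ : ℂ) = -(e : ℂ) * e := by
      have h1 := kernel_class_zero hlin (a := t₁) (b := t₁) (c := k₁) t₀.2 t₀.2 hk fun p q hp hq hpq =>
        hno p q ((AA).subtype.map_isConj hp) ((AA).subtype.map_isConj hq) (congrArg Subtype.val hpq)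
      rw [← hSdef, hKidx, Finset.sum_congr rfl (g := fun χ => χ t₁ * χ t₁ * conj (χ k₁) / (t χ : ℂ) / (e : ℂ))
        fun χ hχ => by rw [hdeg χ hχ, mul_comm (e : ℂ), ← div_div], ← Finset.sum_div, div_eq_iff heC] at h1
      exact h1
    have s2 : ∑ χ ∈ S, χ t₁ * conj (χ k₁) = -(e : ℂ) := by
      rw [hSdef, kernel_column hlin t₀.2 hk, if_neg hnotconj, hKidx, zero_sub]
    have s3 : ∑ χ ∈ S, χ t₁ * χ t₁ = (h : ℂ) - e := by
      rw [Finset.sum_congr rfl (g := fun χ => χ t₁ * conj (χ t₁)) fun χ hχ => by rw [hconjS χ hχ, htti],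
        hSdef, kernel_column hlin t₀.2 t₀.2, if_pos (IsConj.refl _), hcent _ t₀.2 ht₀1, hct, hKidx]
    have hmn : (1 : ℂ) - m * n ≠ 0 := by
      obtain ⟨χ, hχ, -⟩ := htwo
      have hχS : χ ∈ S := by rwa [hSdef, Set.Finite.mem_toFinset]
      intro h0
      have h1 := hdeg1 χ hχS
      rw [h0, mul_zero] at h1
      rcases (hE χ hχ).2.1 with h2 | h2
      · exact h2.apply_one_ne_zero h1
      · exact h2.apply_one_ne_zero (by rw [Pi.neg_apply, h1, neg_zero])
    have h1 := class_sum_eq_zero hno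
    rw [hsum (fun f => f (t₀ : G) * f (t₀ : G) * conj (f k) / f 1) (fun f => by simp [neg_div, div_neg])] at h1
    beta_reduce at h1
    rw [map_one, mul_one, mul_one, div_one, hfixH _ t₀.2 ht₀1, zero_mul, zero_mul, zero_div, add_zero,
      Finset.sum_congr rfl (g := fun _ => 1 / ((h : ℂ) + 1)) fun μ hμ => by
        rw [(hMu μ hμ).2.1 _ t₀.2 ht₀1, (hMu μ hμ).2.1 _ hk hk1, (hMu μ hμ).1, map_one, mul_one, mul_one],
      Finset.sum_const, nsmul_eq_mul, ← mul_div_assoc, mul_one, 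
      Finset.sum_congr rfl (g := fun χ => (χ t₁ * χ t₁ * conj (χ k₁) / (t χ : ℂ) +
          (m : ℂ) * (2 * (χ t₁ * conj (χ k₁)) + χ t₁ * χ t₁) +
          (m : ℂ) ^ 2 * (2 * ((t χ : ℂ) * χ t₁) + (t χ : ℂ) * conj (χ k₁)) +
          (m : ℂ) ^ 3 * ((t χ : ℂ) * t χ)) / ((e : ℂ) * (1 - m * n))) (s₁ := S) fun χ hχ => by
        rw [← feit_term_expand (ht0 χ hχ), hval χ hχ _ t₀.2 ht₀1, hval χ hχ _ hk hk1, hdeg1 χ hχ, map_add,
          map_mul, map_intCast, map_natCast, mul_comm (e : ℂ) (t χ : ℂ), mul_assoc (t χ : ℂ), div_div],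
      Finset.sum_congr rfl (g := fun ψ : IrrCharacter G => -((c ψ : ℂ) * c ψ) / ((h : ℂ) - 1)) (s₁ := R)
        fun ψ hψ => by
          rw [(hc ψ hψ).2.2 _ t₀.2 ht₀1, (hc ψ hψ).2.2 _ hk hk1, (hc ψ hψ).2.1, map_intCast]
          have : (c ψ : ℂ) ≠ 0 := Int.cast_ne_zero.2 (by have := (hc ψ hψ).1; omega)
          field_simp,
      ← Finset.sum_div, ← Finset.sum_div, Finset.sum_neg_distrib, hsq, Finset.sum_add_distrib,
      Finset.sum_add_distrib, Finset.sum_add_distrib, ← Finset.mul_sum, ← Finset.mul_sum, ← Finset.mul_sum,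
      Finset.sum_add_distrib, Finset.sum_add_distrib, ← Finset.mul_sum, ← Finset.mul_sum, s1, s2, s3,
      (hcol1 t₁ t₀.2 ht₁1).1, (hcol1 k₁ hk hk₁1).2, hn', hneC, add_sub_cancel_right] at h1
    have hp : (n : ℂ) * e + 2 ≠ 0 := by exact_mod_cast (show n * e + 2 ≠ 0 by omega)
    have h2 : (2 : ℂ) * (Mu.card : ℂ) = (e : ℂ) - 1 := by
      have : (2 * Mu.card + 1 : ℂ) = e := by exact_mod_cast hMucard
      linear_combination this
    have key := feit_even_algebra heC hnC hmn hp h2 (by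
      rw [← h1, show (n : ℂ) * e + 1 + 1 = (n : ℂ) * e + 2 by ring]
      ring)
    refine feit_even_arith (e := (e : ℤ)) (n := (n : ℤ)) (m := m) (by exact_mod_cast he3) (by exact_mod_cast hn3)
      ?_ (by exact_mod_cast key)
    have : (0 : ℤ) ≤ ∑ ψ ∈ R, c ψ * c ψ := Finset.sum_nonneg fun ψ _ => mul_self_nonneg _
    have : (2 : ℤ) * Mu.card + 1 = e := by exact_mod_cast hMucard
    linarith
  · -- odd order
    have hheodd : Odd (h * e) := hev.mul (he ▸ hodd)
    have hAodd : Odd (Nat.card AA) := hA1.symm ▸ hheodd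
    obtain ⟨-, hinv⟩ := (zas_invol_count hZ hab hodd hh he).2 (Nat.not_even_iff_odd.2 hev)
    have hsquare : (Finset.univ.filter fun s : G => s * s = 1).card = e * h + 1 := by
      rw [← hinv, ← Finset.card_insert_of_notMem (a := (1 : G)) (by simp)]
      congr 1
      ext s
      simp only [Finset.mem_filter, Finset.mem_univ, true_and, Finset.mem_insert]
      constructor
      · intro hs
        by_cases hs1 : s = 1
        · exact Or.inl hs1
        · exact Or.inr (orderOf_eq_prime (by rw [pow_two, hs]) hs1)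
      · rintro (rfl | hs)
        · exact mul_one 1
        · rw [← pow_two, ← hs, pow_orderOf_eq_one]
    have hFS : ∑ ψ : IrrCharacter G, (ψ : G → ℂ) 1 * ∑ s, (ψ : G → ℂ) (s * s) =
        (Nat.card G : ℂ) * ((e * h + 1 : ℕ) : ℂ) := by
      simp only [Finset.mul_sum]
      rw [Finset.sum_comm, Finset.sum_congr rfl fun s _ => sum_degree_mul (G := G) (s * s), Finset.sum_ite,
        Finset.sum_const_zero, add_zero, Finset.sum_const, nsmul_eq_mul, hsquare, mul_comm]
    have hexc0 : ∀ χ ∈ S, σ χ 1 * ∑ s, σ χ (s * s) = 0 := by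
      intro χ hχ
      have hχ' := hSmem hχ
      obtain ⟨x, hxK, hxim⟩ : ∃ x : AA, x ∈ K ∧ (χ x).im ≠ 0 := by
        by_contra hno
        push Not at hno
        obtain ⟨k, hk, hne'⟩ := hχ'.2
        refine hne' ?_
        have h1 := real_irr_eq_one hAodd ⟨χ, hχ'.1⟩ fun x => ?_
        · change χ = fun _ => 1 at h1
          rw [h1]
        · by_cases hx : x ∈ K
          · exact hno x hx
          · show (χ x).im = 0
            rw [(frobKernel_degree hCK hχ'.1 hχ'.2).2 x hx, Complex.zero_im]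
      have hx1 : (x : G) ≠ 1 := fun e' => hxim (by
        rw [show x = 1 from Subtype.ext e', hdeg χ hχ]; simp)
      have him : (σ χ x).im ≠ 0 := by
        rw [hval χ hχ x hxK hx1]
        simpa using hxim
      rcases (hE χ hχ').2.1 with h2 | h2
      · rcases indicator_cases h2 with ⟨-, h3⟩ | ⟨h3, -⟩
        · rw [h3, mul_zero]
        · exact absurd (h3 x) him
      · rcases indicator_cases h2 with ⟨-, h3⟩ | ⟨h3, -⟩
        · simp only [Pi.neg_apply, Finset.sum_neg_distrib, neg_eq_zero] at h3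
          rw [h3, mul_zero]
        · exact absurd (by simpa using h3 x) him
    have hm0 : m = 0 := by
      have h1 := hFS
      rw [hsum (fun f => f 1 * ∑ s, f (s * s)) (fun f => by simp [Finset.sum_neg_distrib])] at h1
      beta_reduce at h1
      rw [
        Finset.sum_eq_zero hexc0, add_zero, one_mul, Finset.sum_const, Finset.card_univ, nsmul_eq_mul,
        mul_one, ← Nat.card_eq_fintype_card] at h1
      have h2 := congrArg Complex.re h1
      rw [← Nat.cast_mul, Complex.natCast_re, Complex.add_re, Complex.add_re, Complex.add_re, Complex.natCast_re,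
        Complex.re_sum, Complex.re_sum] at h2
      have b1 := indicator_re_le (fz_steinberg hZ hab hodd H hHa hHcard hHfix)
      have hfix1 : zasFix Ω (1 : G) = h + 1 := by simp [zasFix, hh]
      simp only [hfix1, Nat.cast_add, Nat.cast_one, add_sub_cancel_right, Complex.natCast_re] at b1 h2
      have b2 : ∑ μ ∈ Mu, ((μ : G → ℂ) 1 * ∑ s, (μ : G → ℂ) (s * s)).re ≤
          (Mu.card : ℝ) * ((h + 1) * Nat.card G) := by
        refine (Finset.sum_le_sum (g := fun _ => ((h : ℝ) + 1) * Nat.card G) fun μ hμ =>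
          (indicator_re_le μ.2).trans_eq ?_).trans_eq (by rw [Finset.sum_const, nsmul_eq_mul])
        rw [(hMu μ hμ).1]; simp
      have b3 : ∑ ψ ∈ R, ((ψ : G → ℂ) 1 * ∑ s, (ψ : G → ℂ) (s * s)).re ≤
          ((h : ℝ) - 1) * (∑ ψ ∈ R, c ψ * c ψ : ℤ) * Nat.card G := by
        push_cast
        rw [Finset.mul_sum, Finset.sum_mul]
        refine Finset.sum_le_sum fun ψ hψ => (indicator_re_le ψ.2).trans ?_
        rw [(hc ψ hψ).2.1]
        simp only [Complex.mul_re, Complex.neg_re, Complex.sub_re, Complex.natCast_re, Complex.one_re,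
          Complex.intCast_re, Complex.intCast_im, mul_zero, sub_zero]
        have hc' : (c ψ : ℝ) ≤ -1 := by exact_mod_cast (hc ψ hψ).1
        have hh' : (0 : ℝ) ≤ (h : ℝ) - 1 := by
          have : (1 : ℝ) ≤ h := by exact_mod_cast (show 1 ≤ h by omega)
          linarith
        refine mul_le_mul_of_nonneg_right ?_ (Nat.cast_nonneg _)
        rw [neg_mul, ← mul_neg]
        exact mul_le_mul_of_nonneg_left (by nlinarith) hh'
      have hGpos : (0 : ℝ) < Nat.card G := Nat.cast_pos.2 Nat.card_pos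
      have h3 : ((e * h + 1 : ℕ) : ℝ) * Nat.card G ≤
          (1 + h + (Mu.card : ℝ) * (h + 1) + ((h : ℝ) - 1) * (∑ ψ ∈ R, c ψ * c ψ : ℤ)) * Nat.card G := by
        push_cast at h2 b3 ⊢
        linarith
      have h4 := le_of_mul_le_mul_right h3 hGpos
      rw [hsqZ] at h4
      have h5 : ((e : ℤ) * h + 1 : ℤ) ≤ 1 + h + (Mu.card : ℤ) * (h + 1) +
          ((h : ℤ) - 1) * ((Mu.card : ℤ) + 2 * m - n * m ^ 2) := by
        refine (Int.cast_le (R := ℝ)).1 ?_
        push_cast at h4 ⊢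
        linarith
      have h6 : (2 : ℤ) * Mu.card + 1 = e := by exact_mod_cast hMucard
      have h7 : 0 ≤ ((h : ℤ) - 1) * (m * (2 - n * m)) := by
        rw [← h6] at h5
        linarith
      have h8 : 0 ≤ m * (2 - n * m) := nonneg_of_mul_nonneg_right h7 (by omega)
      by_contra hm0
      rcases lt_or_gt_of_ne hm0 with hm' | hm'
      · nlinarith [mul_pos (show (0 : ℤ) < n by omega) (mul_pos (neg_pos.2 hm') (neg_pos.2 hm'))]
      · nlinarith [mul_le_mul (show (3 : ℤ) ≤ n by omega) (show (1 : ℤ) ≤ m by omega) zero_le_one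
          (show (0 : ℤ) ≤ n by omega)]
    subst hm0
    simp only [Int.cast_zero, zero_mul, add_zero, sub_zero, mul_one] at hval hdeg1 hsq
    -- values at an element without fixed points
    obtain ⟨ξ, hξ', -⟩ := htwo
    have hξ : ξ ∈ S := by rwa [hSdef, Set.Finite.mem_toFinset]
    have hprop : ∀ χ ∈ S, ∀ y : G, (∀ d : Ω, y • d ≠ d) → (t ξ : ℂ) * σ χ y = (t χ : ℂ) * σ ξ y := by
      intro χ hχ y hy
      have h1 := mem_zspan_self (hSmem hχ)
      have h2 := mem_zspan_self hξ'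
      have h3 : ((t ξ : ℤ) • χ + (-(t χ : ℤ)) • ξ) ∈ zspanOn (irrNontrivialOn K) ({1}ᶜ : Set AA) :=
        mem_zspanOn_one.2 ⟨zspan_add (zspan_zsmul h1 _) (zspan_zsmul h2 _), by
          simp [hdeg χ hχ, hdeg ξ hξ]; ring⟩
      have h4 := congrFun (hσα _ h3) y
      rw [hσ.1 _ (zspan_zsmul h1 _) _ (zspan_zsmul h2 _), hσ.2.1 _ h1, hσ.2.1 _ h2] at h4
      have h5 : indFun AA ((t ξ : ℤ) • χ + (-(t χ : ℤ)) • ξ) y = 0 := by
        show _ * ∑ x : G, extendByZero AA _ (x⁻¹ * y * x) = 0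
        rw [Finset.sum_eq_zero fun x _ => extendByZero_of_notMem _ _ fun h' => hy (x • a) ?_, mul_zero]
        have h'' : (x⁻¹ * y * x) • a = a := h'
        rwa [mul_smul, mul_smul, inv_smul_eq_iff] at h''
      change ((t ξ : ℤ) • σ χ + (-(t χ : ℤ)) • σ ξ) y = indFun AA _ y at h4
      rw [h5] at h4
      simp only [Pi.add_apply, zsmul_eq_mul, Pi.mul_apply, Pi.intCast_apply, Pi.natCast_apply, Pi.neg_apply, Int.cast_neg, Int.cast_natCast] at h4
      linear_combination h4
    have htξ := ht0 ξ hξ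
    have hs : ∀ y : G, (∀ d : Ω, y • d ≠ d) → ∃ s : ℤ, (s = 0 ∨ s = 1) ∧ σ ξ y = (t ξ : ℂ) * s := by
      intro y hy
      obtain ⟨s, hs⟩ : ∃ s : ℂ, σ ξ y = (t ξ : ℂ) * s := ⟨σ ξ y / t ξ, (mul_div_cancel₀ _ htξ).symm⟩
      have hsχ : ∀ χ ∈ S, σ χ y = (t χ : ℂ) * s := fun χ hχ =>
        mul_left_cancel₀ htξ (by rw [hprop χ hχ y hy, hs]; ring)
      have hint : IsIntegral ℤ s := by
        have hi : ∀ χ ∈ S, IsIntegral ℤ (σ χ y) := fun χ hχ =>
          (hσ.2.2.2 χ (mem_zspan_self (hSmem hχ))).isIntegral y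
        obtain ⟨d, hd⟩ := (ht ξ hξ').2.2
        rw [hKcard] at hd
        have h1 : IsIntegral ℤ ((h : ℂ) * s) := by
          rw [show (h : ℂ) * s = (d : ℂ) * σ ξ y by rw [hs, hd]; push_cast; ring]
          have := (isIntegral_algebraMap (R := ℤ) (A := ℂ) (x := (d : ℤ))).mul (hi ξ hξ)
          simpa using this
        have h2 : IsIntegral ℤ ((n : ℂ) * s) := by
          rw [← hn', Finset.sum_mul]
          refine IsIntegral.sum _ fun χ hχ => ?_
          rw [mul_assoc, ← hsχ χ hχ]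
          have := (isIntegral_algebraMap (R := ℤ) (A := ℂ) (x := (t χ : ℤ))).mul (hi χ hχ)
          simpa using this
        have h3 : s = (h : ℂ) * s - (e : ℂ) * ((n : ℂ) * s) := by rw [hneC]; ring
        rw [h3]
        have := (isIntegral_algebraMap (R := ℤ) (A := ℂ) (x := (e : ℤ))).mul h2
        exact h1.sub (by simpa using this)
      set k₁ : AA := ⟨k₀, hHa hk₀⟩ with hk₁
      have hk₁1 : k₁ ≠ 1 := fun e' => hk₀1 (congrArg Subtype.val e')
      have hky : ¬ IsConj k₀ y := fun hc' => by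
        obtain ⟨g, rfl⟩ := isConj_iff.1 hc'
        exact hy (g • a) (by rw [mul_smul, mul_smul, inv_smul_smul, show k₀ • a = a from hHa hk₀])
      have hfy : (zasFix Ω y : ℂ) - 1 = -1 := by
        have : zasFix Ω y = 0 := by
          rw [zasFix, Finset.card_eq_zero, Finset.filter_eq_empty_iff]; exact fun d _ => hy d
        simp [this]
      have hcy : ∑ ψ ∈ R, (c ψ : ℂ) * conj ((ψ : G → ℂ) y) = conj s - 1 := by
        have h1 := column_orthogonality (G := G) k₀ y
        rw [if_neg hky, hsum (fun f => f k₀ * conj (f y)) (fun f => by simp)] at h1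
        beta_reduce at h1
        rw [map_one, mul_one,
          hfixH k₀ hk₀ hk₀1, zero_mul, add_zero,
          Finset.sum_eq_zero (s := Mu) fun μ hμ => by rw [(hMu μ hμ).2.2 y hy, map_zero, mul_zero],
          add_zero, 
          Finset.sum_congr rfl (g := fun χ => ((t χ : ℂ) * χ k₁) * conj s) (s₁ := S) fun χ hχ => by
            rw [hval χ hχ k₀ hk₀ hk₀1, hsχ χ hχ, map_mul, map_natCast]; ring,
          ← Finset.sum_mul, (hcol1 k₁ hk₀ hk₁1).1,
          Finset.sum_congr rfl (g := fun ψ : IrrCharacter G => (c ψ : ℂ) * conj ((ψ : G → ℂ) y))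
            (s₁ := R) fun ψ hψ => by rw [(hc ψ hψ).2.2 k₀ hk₀ hk₀1]] at h1
        linear_combination h1
      have hX : ∀ l : G, ∀ hl : l ∈ H, l ≠ 1 → ∀ q : ℂ,
          (∑ χ ∈ S, χ k₁ * χ ⟨l, hHa hl⟩ = q) →
          ∑ ψ : IrrCharacter G, (ψ : G → ℂ) k₀ * (ψ : G → ℂ) l * conj ((ψ : G → ℂ) y) / (ψ : G → ℂ) 1 =
            1 + q * conj s / e + (1 - conj s) / ((h : ℂ) - 1) := by
        intro l hl hl1 q hq
        rw [hsum (fun f => f k₀ * f l * conj (f y) / f 1) (fun f => by simp [neg_div, div_neg])]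
        beta_reduce
        rw [map_one,
          mul_one, mul_one, div_one, hfixH k₀ hk₀ hk₀1, zero_mul, zero_mul, zero_div, add_zero,
          Finset.sum_eq_zero (s := Mu) fun μ hμ => by rw [(hMu μ hμ).2.2 y hy, map_zero, mul_zero, zero_div],
          add_zero, 
          Finset.sum_congr rfl (g := fun χ => (χ k₁ * χ ⟨l, hHa hl⟩) * (conj s / (e : ℂ))) (s₁ := S)
            fun χ hχ => by
              rw [hval χ hχ k₀ hk₀ hk₀1, hval χ hχ l hl hl1, hsχ χ hχ, hdeg1 χ hχ, map_mul, map_natCast]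
              have := ht0 χ hχ
              field_simp
              rw [hk₁]
              ring,
          ← Finset.sum_mul, hq,
          Finset.sum_congr rfl (g := fun ψ : IrrCharacter G =>
            -((c ψ : ℂ) * conj ((ψ : G → ℂ) y)) / ((h : ℂ) - 1)) (s₁ := R) fun ψ hψ => by
              rw [(hc ψ hψ).2.2 k₀ hk₀ hk₀1, (hc ψ hψ).2.2 l hl hl1, (hc ψ hψ).2.1]
              have : (c ψ : ℂ) ≠ 0 := Int.cast_ne_zero.2 (by have := (hc ψ hψ).1; omega)
              field_simp,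
          ← Finset.sum_div, Finset.sum_neg_distrib, hcy]
        ring
      have hkinv : k₀⁻¹ ≠ 1 := inv_ne_one.2 hk₀1
      have hq1 : ∑ χ ∈ S, χ k₁ * χ k₁ = -(e : ℂ) := by
        rw [Finset.sum_congr rfl (g := fun χ => χ k₁ * conj (χ k₁⁻¹)) fun χ hχ => by
          rw [hconjS χ hχ, inv_inv], hSdef, kernel_column hlin hk₀ (inv_mem (show k₁ ∈ K from hk₀)),
          if_neg fun hc' => hk₁1 (eq_one_of_isConj_inv hAodd hc'), hKidx, zero_sub]
      have hq2 : ∑ χ ∈ S, χ k₁ * χ ⟨k₀⁻¹, hHa (inv_mem hk₀)⟩ = (h : ℂ) - e := by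
        rw [Finset.sum_congr rfl (g := fun χ => χ k₁ * conj (χ k₁)) fun χ hχ => by rw [hconjS χ hχ]; rfl,
          hSdef, kernel_column hlin hk₀ hk₀, if_pos (IsConj.refl _), hcent _ hk₀ hk₀1, hKidx,
          show Nat.card (Subgroup.centralizer ({k₀} : Set G)) = h from ?_]
        rw [← hHh]
        exact Nat.card_congr (Equiv.subtypeEquivRight fun x =>
          ⟨fun hx => hC _ hk₀ hk₀1 hx, fun hx => Subgroup.mem_centralizer_singleton_iff.2 (hk₀c x hx).symm⟩)
      obtain ⟨q₁, hq₁0, hq₁⟩ := class_sum_rat_nonneg k₀ k₀ y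
      obtain ⟨q₂, hq₂0, hq₂⟩ := class_sum_rat_nonneg k₀ k₀⁻¹ y
      rw [hX k₀ hk₀ hk₀1 _ hq1] at hq₁
      rw [hX k₀⁻¹ (inv_mem hk₀) hkinv _ hq2] at hq₂
      have hhC : (h : ℂ) ≠ 0 := Nat.cast_ne_zero.2 (by omega)
      have hsq₁ : conj s = ((1 - q₁ * ((h : ℚ) - 1) / h : ℚ) : ℂ) := by
        push_cast
        field_simp at hq₁ ⊢
        linear_combination -hq₁
      have hsr : s = ((1 - q₁ * ((h : ℚ) - 1) / h : ℚ) : ℂ) := by
        rw [← Complex.conj_conj s, hsq₁, map_ratCast]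
      obtain ⟨z, hz⟩ := exists_int_of_isIntegral_rat (hsr ▸ hint)
      refine ⟨z, ?_, by rw [hs, hsr, hz, Rat.cast_intCast]⟩
      have hhQ : (1 : ℚ) < h := by exact_mod_cast (show 1 < h by omega)
      have hz1 : z ≤ 1 := by
        have : (z : ℚ) ≤ 1 := by
          rw [← hz]
          have : 0 ≤ q₁ * ((h : ℚ) - 1) / h := by
            have : (0 : ℚ) ≤ (h : ℚ) - 1 := by linarith
            positivity
          linarith
        exact_mod_cast this
      have hz0 : 0 ≤ z := by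
        have h1 : ((1 + ((h : ℚ) - e) * z / e + (1 - z) / ((h : ℚ) - 1) : ℚ) : ℂ) = (q₂ : ℂ) := by
          rw [← hq₂, hsq₁, hz]; push_cast; ring
        have h2 : (0 : ℚ) ≤ 1 + ((h : ℚ) - e) * z / e + (1 - z) / ((h : ℚ) - 1) :=
          le_of_le_of_eq hq₂0 (Rat.cast_injective h1).symm
        by_contra hneg
        push Not at hneg
        have hzq : (z : ℚ) ≤ -1 := by exact_mod_cast (show z ≤ -1 by omega)
        have heq' : (3 : ℚ) ≤ e := by exact_mod_cast he3
        have hhe : (2 : ℚ) * e + 2 ≤ h := by exact_mod_cast (show 2 * e + 2 ≤ h by omega)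
        have h3 : (0 : ℚ) ≤ ((h : ℚ) - 1) * e + ((h : ℚ) - e) * z * ((h : ℚ) - 1) + (1 - z) * e := by
          have e1 : (e : ℚ) ≠ 0 := by positivity
          have e2 : (h : ℚ) - 1 ≠ 0 := by linarith
          have := mul_nonneg h2 (mul_nonneg (show (0 : ℚ) ≤ e by positivity) (show (0 : ℚ) ≤ (h : ℚ) - 1 by linarith))
          field_simp at this
          linarith
        nlinarith [mul_le_mul_of_nonneg_left hzq
          (show (0 : ℚ) ≤ ((h : ℚ) - e) * ((h : ℚ) - 1) - e by nlinarith)]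
      omega
    -- counting
    set Y := Finset.univ.filter fun g : G => ∀ d : Ω, g • d ≠ d with hY
    haveI : MulAction.IsPretransitive G Ω := by
      haveI := hZ.2.1
      exact MulAction.isPretransitive_of_is_two_pretransitive
    have hcount : ∀ F : G → ℂ, (∀ x y : G, F (x * y * x⁻¹) = F y) →
        (∀ x : AA, (x : G) ∉ H → F x = 0) →
        ∑ g, F g + (h : ℂ) * F 1 = ∑ g ∈ Y, F g + ((h : ℂ) + 1) * ∑ x : AA, F x := by
      intro F hF hF0
      have h1 := sum_extendByZero_stab a F hF fun d => MulAction.exists_smul_eq G a d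
      rw [hh, Nat.cast_add, Nat.cast_one] at h1
      rw [← h1]
      have hfix1 : zasFix Ω (1 : G) = h + 1 := by simp [zasFix, hh]
      have hpt : ∀ g : G, F g + (if g = 1 then (h : ℂ) * F 1 else 0) =
          (if g ∈ Y then F g else 0) + F g * (zasFix Ω g : ℂ) := by
        intro g
        by_cases hg1 : g = 1
        · subst hg1
          rw [if_pos rfl, if_neg (fun hy : (1 : G) ∈ Y => (Finset.mem_filter.1 hy).2 a (one_smul G a)), hfix1]
          push_cast; ring
        rw [if_neg hg1, add_zero]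
        by_cases hgY : g ∈ Y
        · rw [if_pos hgY, show zasFix Ω g = 0 from ?_, Nat.cast_zero, mul_zero, add_zero]
          rw [zasFix, Finset.card_eq_zero, Finset.filter_eq_empty_iff]
          exact fun d _ => (Finset.mem_filter.1 hgY).2 d
        · rw [if_neg hgY, zero_add]
          obtain ⟨d, hd⟩ : ∃ d : Ω, g • d = d := by
            by_contra hno
            push Not at hno
            exact hgY (Finset.mem_filter.2 ⟨Finset.mem_univ _, hno⟩)
          obtain ⟨x, hx⟩ := MulAction.exists_smul_eq G d a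
          have hga : (x * g * x⁻¹) • a = a := by rw [mul_smul, mul_smul, inv_smul_eq_iff.2 hx.symm, hd, hx]
          have hg1' : x * g * x⁻¹ ≠ 1 := fun e' => hg1 (by rwa [mul_inv_eq_one, mul_eq_left] at e')
          obtain ⟨f1, f2⟩ := fz_fix hZ hab hodd H hHa hHcard hHfix _ hg1' hga
          by_cases hgH : x * g * x⁻¹ ∈ H
          · rw [← zasFix_conj g x, f1 hgH, Nat.cast_one, mul_one]
          · rw [← hF x g, hF0 ⟨_, hga⟩ hgH, zero_mul]
      have h2 := Finset.sum_congr (s₁ := (Finset.univ : Finset G)) rfl fun g _ => hpt g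
      rw [Finset.sum_add_distrib, Finset.sum_add_distrib, Finset.sum_ite_eq', if_pos (Finset.mem_univ _),
        Finset.sum_ite_mem, Finset.univ_inter] at h2
      exact h2
    obtain ⟨hdegξ, -, hξA, hξG⟩ := hE ξ hξ'
    have hres : ∀ x : AA, σ ξ x = ξ x := by
      intro x
      by_cases hx : (x : G) ∈ H
      · by_cases hx1 : (x : G) = 1
        · rw [show x = 1 from Subtype.ext hx1, OneMemClass.coe_one, hdeg1 ξ hξ, hdeg ξ hξ]
        · exact hval ξ hξ x hx hx1
      · rw [hξA x hx, (frobKernel_degree hCK hξ'.1 hξ'.2).2 x fun h' => hx ((hKmem x).1 h')]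
    have hcl : ∀ x y : G, σ ξ (x * y * x⁻¹) = σ ξ y :=
      fun x y => (hσ.2.2.2 ξ (mem_zspan_self hξ')).isClassFunction y x
    choose! s hs01 hsv using hs
    have hY' : ∀ {y : G}, y ∈ Y → ∀ d : Ω, y • d ≠ d := fun hy => (Finset.mem_filter.1 hy).2
    have hA0 : ∑ x : AA, ξ x = 0 := by
      have h1 : classInner ξ (fun _ : AA => (1 : ℂ)) = 0 :=
        classInner_irr_ne hξ'.1 isIrrCharacter_one fun e' => by
          obtain ⟨k, -, hne'⟩ := hξ'.2
          exact hne' (by rw [e'])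
      rw [classInner_one_right, mul_eq_zero] at h1
      exact h1.resolve_left (inv_ne_zero card_cast_ne_zero)
    have e1 := hcount (σ ξ) hcl hξA
    rw [hξG, zero_add, hdeg1 ξ hξ, Finset.sum_congr rfl fun x _ => hres x, hA0, mul_zero, add_zero,
      Finset.sum_congr rfl (s₁ := Y) fun y hy => hsv y (hY' hy), ← Finset.mul_sum] at e1
    have e2 := hcount (fun g => σ ξ g * conj (σ ξ g)) (fun x y => by simp only [hcl])
      (fun x hx => by simp only [hξA x hx, zero_mul])
    have hG1 : ∑ g : G, σ ξ g * conj (σ ξ g) = (Nat.card G : ℂ) := by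
      have h1 := hσ.2.2.1 ξ (mem_zspan_self hξ') ξ (mem_zspan_self hξ')
      rw [classInner_irr_self hξ'.1] at h1
      simp only [classInner] at h1
      field_simp [card_cast_ne_zero (G := G)] at h1
      linear_combination h1
    have hA2 : ∑ x : AA, σ ξ x * conj (σ ξ x) = (Nat.card AA : ℂ) := by
      have h1 := classInner_irr_self hξ'.1
      simp only [classInner] at h1
      rw [inv_mul_eq_iff_eq_mul₀ card_cast_ne_zero, mul_one] at h1
      rw [← h1]
      exact Finset.sum_congr rfl fun x _ => by rw [hres x]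
    simp only [hG1, hA2, hdeg1 ξ hξ, map_mul, map_natCast] at e2
    rw [Finset.sum_congr rfl (s₁ := Y) (g := fun y => (t ξ : ℂ) * t ξ * (s y : ℂ)) fun y hy => ?_,
      ← Finset.mul_sum] at e2
    · rw [hG, hA1] at e2
      push_cast at e2
      have e1' : (∑ y ∈ Y, (s y : ℂ)) = (h : ℂ) * e :=
        mul_left_cancel₀ htξ (by linear_combination -e1)
      rw [e1'] at e2
      have e3 : ((t ξ : ℂ) * t ξ * h * e) * e = ((t ξ : ℂ) * t ξ * h * e) * 1 := by linear_combination e2
      have hh0 : (h : ℂ) ≠ 0 := Nat.cast_ne_zero.2 (by omega)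
      have e4 : (e : ℂ) = ((1 : ℕ) : ℂ) := by
        rw [Nat.cast_one]
        exact mul_left_cancel₀ (mul_ne_zero (mul_ne_zero (mul_ne_zero htξ htξ) hh0) heC) e3
      have := Nat.cast_injective e4
      omega
    · rw [hsv y (hY' hy), map_mul, map_natCast, map_intCast]
      rcases hs01 y (hY' hy) with h' | h' <;> rw [h'] <;> push_cast <;> ring

end Main

end Cfsg.Lib.Char
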