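import Cfsg.Agent.Lib.Char.Basic
import Mathlib.Data.Matrix.Basis
import Mathlib.LinearAlgebra.Matrix.ToLin
import Mathlib.LinearAlgebra.Trace

/-!
# The exterior square of a character
-/

set_option autoImplicit false
set_option linter.unusedSectionVars false

namespace Cfsg.Lib.Char

open Cfsg Module Matrix

universe u

variable {G : Type u} [Group G]

/-- The congruence action of a representation on square matrices. -/
noncomputable def congrRep {n : ℕ} (ρ : Representation ℂ G (Fin n → ℂ)) :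
    Representation ℂ G (Matrix (Fin n) (Fin n) ℂ) where
  toFun g :=
    { toFun := fun A => LinearMap.toMatrix' (ρ g) * A * (LinearMap.toMatrix' (ρ g))ᵀ
      map_add' := fun A B => by rw [Matrix.mul_add, Matrix.add_mul]
      map_smul' := fun c A => by simp }
  map_one' := by
    refine LinearMap.ext fun A => ?_
    show LinearMap.toMatrix' (ρ 1) * A * (LinearMap.toMatrix' (ρ 1))ᵀ = A
    rw [map_one, show LinearMap.toMatrix' (1 : (Fin n → ℂ) →ₗ[ℂ] (Fin n → ℂ)) = 1 from
      LinearMap.toMatrix'_one]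
    simp
  map_mul' g h := by
    refine LinearMap.ext fun A => ?_
    show LinearMap.toMatrix' (ρ (g * h)) * A * (LinearMap.toMatrix' (ρ (g * h)))ᵀ =
      LinearMap.toMatrix' (ρ g) * (LinearMap.toMatrix' (ρ h) * A * (LinearMap.toMatrix' (ρ h))ᵀ) *
        (LinearMap.toMatrix' (ρ g))ᵀ
    rw [map_mul, show LinearMap.toMatrix' (ρ g * ρ h) =
      LinearMap.toMatrix' (ρ g) * LinearMap.toMatrix' (ρ h) from LinearMap.toMatrix'_mul _ _,
      Matrix.transpose_mul]
    simp only [Matrix.mul_assoc]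

theorem congrRep_apply {n : ℕ} (ρ : Representation ℂ G (Fin n → ℂ)) (g : G)
    (A : Matrix (Fin n) (Fin n) ℂ) : congrRep ρ g A =
      LinearMap.toMatrix' (ρ g) * A * (LinearMap.toMatrix' (ρ g))ᵀ := rfl

theorem congrRep_transpose {n : ℕ} (ρ : Representation ℂ G (Fin n → ℂ)) (g : G)
    (A : Matrix (Fin n) (Fin n) ℂ) : congrRep ρ g Aᵀ = (congrRep ρ g A)ᵀ := by
  simp [congrRep_apply, Matrix.transpose_mul, Matrix.mul_assoc]

/-- The exterior square of a character is a character. -/
theorem isCharacter_altSquare {χ : G → ℂ} (hχ : IsCharacter G χ) :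
    IsCharacter G (fun g => (χ g * χ g - χ (g * g)) / 2) := by
  classical
  obtain ⟨n, ρ, rfl⟩ := hχ
  set T : Matrix (Fin n) (Fin n) ℂ →ₗ[ℂ] Matrix (Fin n) (Fin n) ℂ :=
    (Matrix.transposeLinearEquiv (Fin n) (Fin n) ℂ ℂ).toLinearMap with hT
  let W : Submodule ℂ (Matrix (Fin n) (Fin n) ℂ) := LinearMap.ker (LinearMap.id + T)
  have hTapp : ∀ A, T A = Aᵀ := fun A => rfl
  have hWmem : ∀ A, A ∈ W ↔ A + Aᵀ = 0 := fun A => Iff.rfl
  let S : Subrepresentation (congrRep ρ) :=
    { toSubmodule := W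
      apply_mem_toSubmodule := fun g A hA => by
        rw [hWmem] at hA ⊢
        rw [← congrRep_transpose, ← map_add, hA, map_zero] }
  let P0 : Matrix (Fin n) (Fin n) ℂ →ₗ[ℂ] Matrix (Fin n) (Fin n) ℂ :=
    (2 : ℂ)⁻¹ • (LinearMap.id - T)
  have hP0 : ∀ A, P0 A = (2 : ℂ)⁻¹ • (A - Aᵀ) := fun A => rfl
  let P : Matrix (Fin n) (Fin n) ℂ →ₗ[ℂ] W := LinearMap.codRestrict W P0 fun A => by
    rw [hWmem, hP0, Matrix.transpose_smul, Matrix.transpose_sub, Matrix.transpose_transpose,
      ← smul_add]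
    simp
  have h := isCharacter_character S.toRepresentation
  suffices hfun : S.toRepresentation.character =
      fun g => (ρ.character g * ρ.character g - ρ.character (g * g)) / 2 by
    rw [← hfun]; exact h
  funext g
  show LinearMap.trace ℂ W (S.toRepresentation g) = _
  have h1 : S.toRepresentation g = P ∘ₗ (congrRep ρ g ∘ₗ W.subtype) := by
    refine LinearMap.ext fun A => Subtype.ext ?_
    show congrRep ρ g A.1 = P0 (congrRep ρ g A.1)
    have hA : congrRep ρ g A.1 + (congrRep ρ g A.1)ᵀ = 0 := by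
      rw [← congrRep_transpose, ← map_add, (hWmem _).mp A.2, map_zero]
    rw [hP0, eq_neg_of_add_eq_zero_right hA, sub_neg_eq_add, ← two_smul ℂ (congrRep ρ g A.1),
      smul_smul]
    norm_num
  have h2 : (congrRep ρ g ∘ₗ W.subtype) ∘ₗ P = congrRep ρ g ∘ₗ P0 := rfl
  rw [h1, LinearMap.trace_comp_comm', h2]
  have hch : ∀ x, ρ.character x = (LinearMap.toMatrix' (ρ x)).trace := fun x => by
    rw [Representation.character, LinearMap.trace_eq_matrix_trace ℂ (Pi.basisFun ℂ (Fin n))]
    rfl
  have hmul : LinearMap.toMatrix' (ρ (g * g)) =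
      LinearMap.toMatrix' (ρ g) * LinearMap.toMatrix' (ρ g) := by
    rw [map_mul]; exact LinearMap.toMatrix'_mul _ _
  rw [hch g, hch (g * g), hmul, LinearMap.trace_eq_matrix_trace ℂ (Matrix.stdBasis ℂ (Fin n) (Fin n))]
  set M := LinearMap.toMatrix' (ρ g) with hM
  have hentry : ∀ i j : Fin n, (congrRep ρ g ∘ₗ P0) (Matrix.single i j (1 : ℂ)) i j =
      (M i i * M j j - M i j * M j i) / 2 := by
    intro i j
    rw [LinearMap.comp_apply, hP0, congrRep_apply, ← hM, Matrix.transpose_single]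
    simp [Matrix.mul_apply, Matrix.single_apply, ite_and, Finset.sum_ite_eq,
      mul_comm, mul_left_comm, mul_sub, Finset.sum_sub_distrib]
    ring
  simp only [Matrix.trace, Matrix.diag, LinearMap.toMatrix_apply, Fintype.sum_prod_type,
    Matrix.stdBasis_eq_single, Matrix.mul_apply]
  rw [Finset.sum_mul_sum, ← Finset.sum_sub_distrib, Finset.sum_div]
  refine Finset.sum_congr rfl fun i _ => ?_
  rw [← Finset.sum_sub_distrib, Finset.sum_div]
  refine Finset.sum_congr rfl fun j _ => ?_
  rw [← hentry i j]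
  rfl

end Cfsg.Lib.Char
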