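import Cfsg.Agent.Lib.Char.Induced
import Cfsg.Agent.Lib.Char.Constituents
import Mathlib.GroupTheory.SpecificGroups.Cyclic

/-!
# Artin's induction theorem
-/

set_option autoImplicit false
set_option linter.unusedSectionVars false
set_option linter.style.haveILetI false

namespace Cfsg.Lib.Char

open Cfsg

universe u

variable {G : Type u} [Group G]

open Classical in
/-- `|A|` at the generators of `A`, zero elsewhere. -/
noncomputable def genFun (A : Type u) [Group A] : A → ℂ :=
  fun a => if Subgroup.zpowers a = ⊤ then (Nat.card A : ℂ) else 0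

theorem isClassFunction_genFun : IsClassFunction G (genFun G) := by
  intro g h
  have e : Subgroup.zpowers (h * g * h⁻¹) = ⊤ ↔ Subgroup.zpowers g = ⊤ := by
    rw [show h * g * h⁻¹ = (MulAut.conj h).toMonoidHom g from rfl, ← MonoidHom.map_zpowers]
    constructor
    · intro H
      rw [← Subgroup.map_top_of_surjective (MulAut.conj h).toMonoidHom (MulAut.conj h).surjective] at H
      exact Subgroup.map_injective (MulAut.conj h).injective H
    · intro H
      rw [H, Subgroup.map_top_of_surjective _ (MulAut.conj h).surjective]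
  classical
  simp only [genFun, e]

theorem sum_indFun_genFun [Fintype G] [Fintype (Subgroup G)] (g : G) :
    ∑ B : Subgroup G, indFun B (genFun B) g = Nat.card G := by
  classical
  simp only [indFun, Finset.mul_sum]
  rw [Finset.sum_comm, Nat.card_eq_fintype_card, ← Finset.card_univ, ← nsmul_one,
    ← Finset.sum_const]
  refine Finset.sum_congr rfl fun x _ => ?_
  set y := x⁻¹ * g * x
  rw [Finset.sum_eq_single (Subgroup.zpowers y)]
  · rw [extendByZero_of_mem _ _ (Subgroup.mem_zpowers y), genFun, if_pos, inv_mul_cancel₀]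
    · exact Nat.cast_ne_zero.mpr Nat.card_pos.ne'
    · rw [eq_top_iff]
      rintro ⟨z, n, rfl⟩ -
      exact ⟨n, Subtype.ext (by simp)⟩
  · intro B _ hB
    by_cases hy : y ∈ B
    · rw [extendByZero_of_mem _ _ hy, genFun, if_neg, mul_zero]
      intro h
      refine hB (le_antisymm (fun z hz => ?_) (Subgroup.zpowers_le.mpr hy))
      obtain ⟨n, hn⟩ := Subgroup.mem_zpowers_iff.mp
        (show (⟨z, hz⟩ : B) ∈ Subgroup.zpowers (⟨y, hy⟩ : B) by rw [h]; exact Subgroup.mem_top _)
      exact ⟨n, by simpa using congrArg Subtype.val hn⟩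
    · rw [extendByZero_of_notMem _ _ hy, mul_zero]
  · simp

theorem isGeneralizedCharacter_genFun : ∀ (n : ℕ) {G : Type u} [Group G] [Finite G],
    Nat.card G = n → IsGeneralizedCharacter G (genFun G) := by
  intro n
  induction n using Nat.strong_induction_on with
  | _ n ih =>
  intro G _ _ hn
  subst hn
  classical
  haveI := Fintype.ofFinite G
  haveI := Fintype.ofFinite (Subgroup G)
  have htop : indFun (⊤ : Subgroup G) (genFun (⊤ : Subgroup G)) = genFun G := by
    funext g
    have h1 : ∀ x : G, extendByZero (⊤ : Subgroup G) (genFun (⊤ : Subgroup G)) (x⁻¹ * g * x) =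
        genFun G g := by
      intro x
      rw [extendByZero_of_mem _ _ (Subgroup.mem_top _),
        ← isClassFunction_genFun (G := G) g x⁻¹, inv_inv]
      have e : Subgroup.zpowers (⟨x⁻¹ * g * x, Subgroup.mem_top _⟩ : (⊤ : Subgroup G)) = ⊤ ↔
          Subgroup.zpowers (x⁻¹ * g * x) = ⊤ := by
        rw [Subgroup.eq_top_iff', Subgroup.eq_top_iff']
        simp only [Subgroup.mem_zpowers_iff]
        exact ⟨fun h z => (h ⟨z, Subgroup.mem_top z⟩).imp fun n hn => by
            simpa using congrArg Subtype.val hn,
          fun h z => (h z).imp fun n hn => Subtype.ext (by simpa using hn)⟩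
      simp only [genFun, e, Subgroup.card_top]
    simp only [indFun, h1, Finset.sum_const, Finset.card_univ, nsmul_eq_mul, Subgroup.card_top,
      ← Nat.card_eq_fintype_card]
    rw [inv_mul_cancel_left₀ card_cast_ne_zero]
  have e : genFun G = (Nat.card G : ℤ) • (fun _ : G => (1 : ℂ)) -
      ∑ B ∈ Finset.univ.erase (⊤ : Subgroup G), indFun B (genFun B) := by
    funext g
    have h := sum_indFun_genFun g
    rw [← Finset.add_sum_erase _ _ (Finset.mem_univ (⊤ : Subgroup G)), htop] at h
    simp only [Pi.sub_apply, Pi.mul_apply, Pi.natCast_apply, Finset.sum_apply, zsmul_eq_mul, mul_one,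
      Int.cast_natCast]
    exact eq_sub_of_add_eq h
  rw [e]
  refine (isCharacter_one.isGeneralized.zsmul _).sub
    (IsGeneralizedCharacter.sum _ _ fun B hB => ?_)
  haveI := Fintype.ofFinite B
  refine isGeneralizedCharacter_indFun B (ih _ ?_ rfl)
  rw [← B.card_mul_index]
  refine lt_mul_of_one_lt_right Nat.card_pos ?_
  have h0 : B.index ≠ 0 := Subgroup.index_ne_zero_of_finite
  have h1 : B.index ≠ 1 := fun e => (Finset.mem_erase.mp hB).1 (Subgroup.index_eq_one.mp e)
  omega

/-- Artin's induction theorem. -/
theorem artin_list [Fintype G] {χ : G → ℂ} (hχ : IsCharacter G χ) :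
    ∃ l : List ((A : Subgroup G) × ((A →* ℂˣ) × ℤ)), (∀ t ∈ l, IsCyclic t.1) ∧
      (Nat.card G : ℂ) • χ =
        (l.map fun t => (t.2.2 : ℂ) • indFun t.1 (fun a => (t.2.1 a : ℂ))).sum := by
  classical
  haveI := Fintype.ofFinite (Subgroup G)
  let T : AddSubgroup (G → ℂ) := AddSubgroup.closure
    {f | ∃ A : Subgroup G, IsCyclic A ∧ ∃ lam : A →* ℂˣ, f = indFun A fun a => (lam a : ℂ)}
  have hmem : (Nat.card G : ℂ) • χ ∈ T := by
    have e : (Nat.card G : ℂ) • χ =
        ∑ B : Subgroup G, indFun B (fun b => genFun B b * χ b) := by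
      funext g
      rw [Finset.sum_apply]
      simp only [indFun_mul _ (genFun _) hχ.isClassFunction]
      rw [← Finset.sum_mul, sum_indFun_genFun, Pi.smul_apply, smul_eq_mul]
    rw [e]
    refine AddSubgroup.sum_mem _ fun B _ => ?_
    by_cases hB : IsCyclic B
    · haveI := hB
      haveI := Fintype.ofFinite B
      have hc : ∀ a b : B, a * b = b * a := fun a b =>
        (inferInstance : IsMulCommutative B).is_comm.comm a b
      obtain ⟨c, d, hc', hd', e'⟩ := (isGeneralizedCharacter_genFun _ rfl (G := B)).mul
        ((hχ.comp B.subtype).isGeneralized)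
      have key : ∀ c : B → ℂ, IsCharacter B c → indFun B c ∈ T := by
        intro c hc'
        obtain ⟨s, hs⟩ := exists_multiset_linear hc hc'
        rw [funext hs]
        clear hs
        induction s using Multiset.induction with
        | empty =>
          simp only [Multiset.map_zero, Multiset.sum_zero]
          rw [show (fun _ : B => (0 : ℂ)) = 0 from rfl, indFun_zero]
          exact AddSubgroup.zero_mem _
        | cons a t ih =>
          simp only [Multiset.map_cons, Multiset.sum_cons]
          rw [show (fun g : B => (a g : ℂ) + (t.map fun φ : B →* ℂˣ => (φ g : ℂ)).sum) =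
            (fun g : B => (a g : ℂ)) + fun g : B => (t.map fun φ : B →* ℂˣ => (φ g : ℂ)).sum from rfl,
            indFun_add]
          exact AddSubgroup.add_mem _ (AddSubgroup.subset_closure ⟨B, hB, a, rfl⟩) ih
      change indFun B (genFun B * fun b : B => χ b) ∈ T
      simp only [Subgroup.coe_subtype] at e'
      rw [e', indFun_sub]
      exact AddSubgroup.sub_mem _ (key c hc') (key d hd')
    · rw [show (fun b : B => genFun B b * χ b) = 0 from funext fun b => by
        simp only [genFun]
        rw [if_neg, zero_mul]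
        · rfl
        · intro h
          exact hB ⟨b, fun x => Subgroup.mem_zpowers_iff.mp (h ▸ Subgroup.mem_top x)⟩, indFun_zero]
      exact AddSubgroup.zero_mem _
  generalize (Nat.card G : ℂ) • χ = F at hmem ⊢
  induction hmem using AddSubgroup.closure_induction with
  | zero => exact ⟨[], by simp, by simp⟩
  | mem a ha =>
    obtain ⟨E, hE, lam, rfl⟩ := ha
    exact ⟨[⟨E, lam, 1⟩], by simpa using hE, by simp⟩
  | add a b _ _ ha hb =>
    obtain ⟨l, hl, rfl⟩ := ha
    obtain ⟨l', hl', rfl⟩ := hb
    exact ⟨l ++ l', fun t ht => (List.mem_append.mp ht).elim (hl t) (hl' t), by simp⟩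
  | neg a _ ha =>
    obtain ⟨l, hl, rfl⟩ := ha
    refine ⟨l.map fun t => ⟨t.1, t.2.1, -t.2.2⟩, fun t ht => ?_, ?_⟩
    · obtain ⟨s, hs, rfl⟩ := List.mem_map.mp ht
      exact hl s hs
    · rw [List.map_map, List.sum_neg, List.map_map]
      refine congrArg List.sum (List.map_congr_left fun t _ => ?_)
      simp

end Cfsg.Lib.Char
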