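import Mathlib.FieldTheory.Finite.Basic
import Mathlib.RingTheory.Int.Basic
import Mathlib.GroupTheory.Archimedean

/-!
# Banaschewski's lemma on rings of integer-valued functions
-/

set_option autoImplicit false
set_option linter.style.haveILetI false

namespace Cfsg.Lib.Char

variable {S : Type*}

/-- A ring of integer-valued functions contains a constant prime to `p` unless all its members
are divisible by `p` at some point. -/
theorem banaschewski_local [Finite S] (R : AddSubgroup (S → ℤ))
    (hmul : ∀ f ∈ R, ∀ g ∈ R, f * g ∈ R) {p : ℕ} (hp : p.Prime)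
    (h : ∀ x : S, ∃ f ∈ R, ¬ (p : ℤ) ∣ f x) :
    ∃ m : ℤ, ¬ (p : ℤ) ∣ m ∧ (fun _ => m) ∈ R := by
  classical
  haveI := Fact.mk hp
  haveI := Fintype.ofFinite S
  choose f hfR hfx using h
  have hpow : ∀ g ∈ R, ∀ n : ℕ, g ^ (n + 1) ∈ R := by
    intro g hg n
    induction n with
    | zero => simpa using hg
    | succ n ih => rw [pow_succ]; exact hmul _ ih _ hg
  obtain ⟨e, he⟩ : ∃ e, p - 1 = e + 1 := ⟨p - 2, by have := hp.two_le; omega⟩
  set A := ∏ x : S, ((1 : S → ℤ) - f x ^ (p - 1)) with hA
  have hA1 : (1 : S → ℤ) - A ∈ R := by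
    rw [hA]
    refine Finset.prod_induction _ (fun a => (1 : S → ℤ) - a ∈ R) (fun a b ha hb => ?_) (by simp)
      fun x _ => ?_
    · rw [show (1 : S → ℤ) - a * b = (1 - a) + (1 - b) - (1 - a) * (1 - b) by ring]
      exact R.sub_mem (R.add_mem ha hb) (hmul _ ha _ hb)
    · rw [sub_sub_cancel, he]
      exact hpow _ (hfR x) e
  set F := (1 : S → ℤ) - A with hF
  have hFp : ∀ y, ¬ (p : ℤ) ∣ F y := by
    intro y hy
    have hAy : (p : ℤ) ∣ A y := by
      rw [hA, Finset.prod_apply]
      refine dvd_trans ?_ (Finset.dvd_prod_of_mem _ (Finset.mem_univ y))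
      have h0 : ((f y y : ℤ) : ZMod p) ≠ 0 := fun h =>
        hfx y ((ZMod.intCast_zmod_eq_zero_iff_dvd _ p).mp h)
      rw [← ZMod.intCast_zmod_eq_zero_iff_dvd]
      simp [ZMod.pow_card_sub_one_eq_one h0]
    have h1 : (p : ℤ) ∣ 1 := by
      have := dvd_add hy hAy
      simpa [hF] using this
    exact hp.not_dvd_one (Int.natCast_dvd_natCast.mp (by simpa using h1))
  set V := Finset.univ.image F with hV
  refine ⟨∏ v ∈ V, v, fun hd => ?_, ?_⟩
  · obtain ⟨v, hv, hdv⟩ := (Nat.prime_iff_prime_int.mp hp).exists_mem_finset_dvd hd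
    obtain ⟨y, -, rfl⟩ := Finset.mem_image.mp hv
    exact hFp y hdv
  · have key : ∀ W : Finset ℤ,
        (∏ v ∈ W, ((fun _ => v) - F)) - (fun _ => ∏ v ∈ W, v) ∈ R := by
      intro W
      induction W using Finset.induction_on with
      | empty =>
        convert R.zero_mem using 1
        funext y; simp
      | insert v W hv ih =>
        rw [Finset.prod_insert hv]
        simp only [Finset.prod_insert hv]
        set h := (∏ u ∈ W, ((fun _ : S => u) - F))
        set c := ∏ u ∈ W, u
        have e : ((fun _ : S => v) - F) * h - (fun _ => v * c) =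
            v • (h - fun _ => c) - F * (h - fun _ => c) - c • F := by
          funext y; simp; ring
        rw [e]
        exact R.sub_mem (R.sub_mem (R.zsmul_mem ih v) (hmul _ hA1 _ ih)) (R.zsmul_mem hA1 c)
    have h2 := key V
    have h0 : (∏ v ∈ V, ((fun _ : S => v) - F)) = 0 := by
      funext y
      rw [Finset.prod_apply]
      exact Finset.prod_eq_zero (Finset.mem_image_of_mem F (Finset.mem_univ y)) (by simp)
    rw [h0, zero_sub] at h2
    exact R.neg_mem_iff.mp h2

/-- If an additive subgroup of `ℤ` has, for each prime, a member not divisible by it, it is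
everything. -/
theorem one_mem_of_forall_prime (I : AddSubgroup ℤ)
    (h : ∀ p : ℕ, p.Prime → ∃ m ∈ I, ¬ (p : ℤ) ∣ m) : (1 : ℤ) ∈ I := by
  obtain ⟨d, hd⟩ := Int.subgroup_cyclic I
  rw [hd, AddSubgroup.mem_closure_singleton]
  by_cases h1 : d.natAbs = 1
  · rcases Int.natAbs_eq d with e | e
    · rw [h1] at e
      exact ⟨1, by rw [e]; simp⟩
    · rw [h1] at e
      exact ⟨-1, by rw [e]; simp⟩
  · exfalso
    obtain ⟨p, hp, hpd⟩ := Nat.exists_prime_and_dvd h1
    obtain ⟨m, hm, hpm⟩ := h p hp
    rw [hd, AddSubgroup.mem_closure_singleton] at hm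
    obtain ⟨n, rfl⟩ := hm
    apply hpm
    rw [smul_eq_mul]
    exact dvd_mul_of_dvd_right (Int.natCast_dvd.mpr hpd) n

end Cfsg.Lib.Char
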