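import Cfsg.Agent.Lib.Char.ScalarRestriction
import Cfsg.Agent.Lib.Core.PSolvable
import Cfsg.Agent.Lib.PGroup.Basic

/-!
# Berger's theorem on quasiprimitive characters of solvable groups
-/

set_option autoImplicit false
set_option linter.unusedSectionVars false
set_option linter.style.haveILetI false

namespace Cfsg.Lib.Char

open Cfsg Module
open scoped ComplexConjugate

universe u

variable {G : Type u} [Group G]

theorem exists_chief_above [Finite G] [Group.IsSolvable G] {L N : Subgroup G} [L.Normal]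
    (hN : N.Normal) (hlt : L < N) :
    ∃ (M : Subgroup G) (p : ℕ), p.Prime ∧ M.Normal ∧ L < M ∧ M ≤ N ∧
      (∀ a ∈ M, ∀ b ∈ M, a * b * a⁻¹ * b⁻¹ ∈ L) ∧ (∀ x ∈ M, x ^ p ∈ L) ∧
      IsPGroup p (M.map (QuotientGroup.mk' L)) ∧
      ∀ M' : Subgroup G, M'.Normal → L ≤ M' → M' ≤ M → M' = L ∨ M' = M := by
  set π := QuotientGroup.mk' L with hπ
  have hsurj : Function.Surjective π := QuotientGroup.mk'_surjective L
  have hker : π.ker = L := QuotientGroup.ker_mk' L
  have hNbar : (N.map π).Normal := hN.map π hsurj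
  have hne : N.map π ≠ ⊥ := by
    rw [Ne, Subgroup.map_eq_bot_iff, hker]
    exact not_le_of_gt hlt
  obtain ⟨Mb, hMb, hMbN⟩ := Cfsg.Lib.Core.exists_isMinNormal hNbar hne
  obtain ⟨hab, p, hp, hpow, hpg⟩ := Cfsg.Lib.Core.minimal_solvable_elementary hMb inferInstance
  have hmap : (Mb.comap π).map π = Mb := Subgroup.map_comap_eq_self_of_surjective hsurj Mb
  refine ⟨Mb.comap π, p, hp, hMb.1.comap π, ?_, ?_, ?_, ?_, hmap.symm ▸ hpg, ?_⟩
  · refine lt_of_le_of_ne (fun x hx => ?_) fun h => hMb.2.1 ?_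
    · rw [Subgroup.mem_comap, show π x = 1 from (QuotientGroup.eq_one_iff x).mpr hx]
      exact one_mem _
    · rw [← hmap, ← h, Subgroup.map_eq_bot_iff, hker]
  · intro x hx
    obtain ⟨n, hn, hnx⟩ := hMbN hx
    have h1 : n⁻¹ * x ∈ L := QuotientGroup.eq.mp hnx
    have h2 := N.mul_mem hn (hlt.le h1)
    rwa [mul_inv_cancel_left] at h2
  · intro a ha b hb
    rw [← QuotientGroup.eq_one_iff]
    show π (a * b * a⁻¹ * b⁻¹) = 1
    have hc : π a * π b = π b * π a :=
      congrArg Subtype.val (hab.is_comm.comm ⟨π a, ha⟩ ⟨π b, hb⟩)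
    rw [map_mul, map_mul, map_mul, map_inv, map_inv, hc, mul_inv_cancel_right, mul_inv_cancel]
  · intro x hx
    rw [← QuotientGroup.eq_one_iff]
    show π (x ^ p) = 1
    rw [map_pow]
    exact hpow _ hx
  · intro M' hM' hLM' hM'M
    rcases hMb.2.2 (M'.map π) (hM'.map π hsurj) (Subgroup.map_le_iff_le_comap.mpr hM'M) with h | h
    · left
      rw [Subgroup.map_eq_bot_iff, hker] at h
      exact le_antisymm h hLM'
    · right
      rw [← h, Subgroup.comap_map_eq, hker, sup_eq_left.mpr hLM']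

theorem exists_fixed_mod [Finite G] {L M T : Subgroup G} [L.Normal] [M.Normal] {p : ℕ}
    [Fact p.Prime] (hM : IsPGroup p (M.map (QuotientGroup.mk' L)))
    (hT : IsPGroup p (T.map (QuotientGroup.mk' L))) (hlt : L < M) :
    ∃ m ∈ M, m ∉ L ∧ ∀ t ∈ T, t * m * t⁻¹ * m⁻¹ ∈ L := by
  set π := QuotientGroup.mk' L with hπ
  haveI hMn : (M.map π).Normal := Subgroup.Normal.map inferInstance π (QuotientGroup.mk'_surjective L)
  have hP : IsPGroup p (M.map π ⊔ T.map π : Subgroup (G ⧸ L)) := hM.to_sup_of_normal_left hT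
  set P : Subgroup (G ⧸ L) := M.map π ⊔ T.map π with hPdef
  haveI : ((M.map π).subgroupOf P).Normal := hMn.subgroupOf P
  have hne : (M.map π).subgroupOf P ≠ ⊥ := by
    intro h
    rw [Subgroup.subgroupOf_eq_bot, disjoint_iff, inf_eq_left.mpr (le_sup_left : M.map π ≤ P),
      Subgroup.map_eq_bot_iff, QuotientGroup.ker_mk'] at h
    exact not_le_of_gt hlt h
  obtain ⟨z, hzM, hzZ, hzo⟩ := Cfsg.Lib.PGroup.exists_mem_center_orderOf_eq hP hne
  obtain ⟨m, hm, hmz⟩ := Subgroup.mem_subgroupOf.mp hzM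
  refine ⟨m, hm, fun hmL => ?_, fun t ht => ?_⟩
  · have : z = 1 := Subtype.ext (by rw [← hmz]; exact (QuotientGroup.eq_one_iff m).mpr hmL)
    rw [this, orderOf_one] at hzo
    exact (Fact.out : p.Prime).one_lt.ne hzo
  · rw [← QuotientGroup.eq_one_iff]
    show π (t * m * t⁻¹ * m⁻¹) = 1
    have hc := congrArg Subtype.val
      (Subgroup.mem_center_iff.mp hzZ ⟨π t, Subgroup.mem_sup_right ⟨t, ht, rfl⟩⟩)
    simp only [Subgroup.coe_mul] at hc
    rw [map_mul, map_mul, map_mul, map_inv, map_inv, hmz, hc, mul_inv_cancel_right, mul_inv_cancel]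

theorem isSolvable_detOne [Fintype G] [Group.IsSolvable G] {N : Subgroup G} [N.Normal] {m : ℕ}
    (σ : Representation ℂ N (Fin m → ℂ)) [σ.IsIrreducible] : Group.IsSolvable (detOne σ) := by
  have : Group.IsSolvable (detProj σ).ker := Group.isSolvable_of_comm fun a b => by
    apply Subtype.ext
    apply Subtype.ext
    obtain ⟨c, hc⟩ := exists_scalar_of_extProj_eq_one σ (e := ((a : detOne σ) : extGroup σ)) a.2
    show ((a : detOne σ) : extGroup σ) * ((b : detOne σ) : extGroup σ) =
      ((b : detOne σ) : extGroup σ) * ((a : detOne σ) : extGroup σ)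
    rw [hc]
    exact extScalar_comm σ c _
  exact Group.isSolvable_of_ker_le_range (detProj σ).ker.subtype (detProj σ)
    (by rw [Subgroup.range_subtype])

section Steps

variable [Fintype G]

theorem classInner_eq_conj_mul {K : Type u} [Group K] [Fintype K] (a b c : K → ℂ) :
    classInner (fun x => a x * b x) c = classInner a (fun x => c x * conj (b x)) := by
  simp only [classInner, map_mul, Complex.conj_conj]
  congr 1
  exact Finset.sum_congr rfl fun x _ => by ring

theorem classInner_res_eq_one (K : Subgroup G) [Fintype K] {ψ : K → ℂ} {χ : G → ℂ}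
    (hχ : IsIrrCharacter G χ) (h : indFun K ψ = χ) :
    classInner (fun k : K => χ k) ψ = 1 := by
  have h1 := classInner_irr_self hχ
  conv_lhs at h1 => arg 1; rw [← h]
  rw [classInner_indFun K ψ hχ.isClassFunction, ← classInner_conj_symm] at h1
  have h2 := congrArg conj h1
  rwa [Complex.conj_conj, map_one] at h2

/-- The step where the core acts non-linearly. -/
theorem berger_step_core [Group.IsSolvable G] {L K : Subgroup G} [L.Normal] [Fintype K]
    (hLK : L ≤ K) (hK : K ≠ ⊤) {χ : G → ℂ} (hχ : IsIrrCharacter G χ) (hqp : IsHomogeneousChar χ)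
    {ψ : K → ℂ} (hψ : IsCharacter K ψ) (hind : indFun K ψ = χ) {m : ℕ}
    (σ : Representation ℂ L (Fin m → ℂ)) [σ.IsIrreducible] {e : ℕ}
    (hres : (fun n : L => χ n) = (e : ℂ) • σ.character)
    (ih : ∀ {D : Type u} [Group D] [Fintype D] [Group.IsSolvable D] (f : D → ℂ),
      IsIrrCharacter D f → f 1 = (e : ℂ) → IsHomogeneousChar f →
      ∀ (H : Subgroup D), H ≠ ⊤ → ∀ π : H → ℂ, IsCharacter H π → indFun H π ≠ f) : False := by
  classical
  haveI := finite_detOne σ
  haveI := Fintype.ofFinite (detOne σ)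
  haveI := isSolvable_detOne σ
  haveI := Fintype.ofFinite L
  haveI := extGroup_nontrivial σ
  obtain ⟨Φ, hΦ, hformula, hsc, hhom⟩ := exists_triple σ hχ hqp hres
  haveI := hΦ
  haveI : Nontrivial (Fin e → ℂ) := ((isIrreducible_iff_submodule Φ).mp hΦ).1
  have hqpD : IsHomogeneousChar (fun x => Φ.character (MonoidHom.id (detOne σ) x)) :=
    isHomogeneousChar_comp Φ (L.comap (detProj σ)) hsc (fun N' hN' hle => hhom N' hN' hle)
      (MonoidHom.id _) fun g => ⟨g, 1, one_mem _, by simp⟩
  set H₀ : Subgroup (detOne σ) := K.comap (detProj σ) with hH₀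
  haveI := Fintype.ofFinite H₀
  have hinv : ∀ (g : G) (n : L), σ.character (MulAut.conjNormal g n) = σ.character n := by
    intro g n
    have he : (e : ℂ) ≠ 0 := by
      intro h0
      refine hχ.apply_one_ne_zero ?_
      rw [show χ 1 = χ ((1 : L) : G) from rfl, congrFun hres 1]
      simp [h0]
    have h1 := congrFun hres (MulAut.conjNormal g n)
    have h2 := congrFun hres n
    simp only [Pi.smul_apply, smul_eq_mul, MulAut.conjNormal_apply] at h1 h2
    rw [hχ.isClassFunction] at h1
    exact mul_left_cancel₀ he (h1.symm.trans h2)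
  have hsurj := detProj_surjective σ hinv
  have hH₀ne : H₀ ≠ ⊤ := by
    intro h
    apply hK
    rw [eq_top_iff]
    intro g _
    obtain ⟨x, rfl⟩ := hsurj g
    have hx : x ∈ H₀ := h ▸ Subgroup.mem_top x
    exact hx
  have hψirr := isIrrCharacter_of_indFun K hψ (hind ▸ hχ)
  let pr : H₀ →* K := (detProj σ).subgroupComap K
  have hpr : Function.Surjective pr := fun k => by
    obtain ⟨x, hx⟩ := hsurj k
    exact ⟨⟨x, by rw [hH₀, Subgroup.mem_comap, hx]; exact k.2⟩, Subtype.ext hx⟩
  have hψ' := hψirr.comp_surjective pr hpr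
  have hf : ∀ n : L, ∃ k : H₀, detProj σ (H₀.subtype k) = n := fun n => by
    obtain ⟨x, hx⟩ := hsurj n
    exact ⟨⟨x, by rw [hH₀, Subgroup.mem_comap, hx]; exact hLK n.2⟩, hx⟩
  let Φ₀ : Representation ℂ H₀ (Fin e → ℂ) := Φ.comp H₀.subtype
  have hone : classInner (fun x : H₀ => Φ₀.character x * (detRep σ).character (H₀.subtype x))
      (fun x => ψ (pr x)) = 1 := by
    rw [← classInner_res_eq_one K hχ hind,
      ← classInner_comp_surjective pr hpr (fun k : K => χ k) ψ]
    congr 1
    funext x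
    exact (hformula (H₀.subtype x)).symm
  obtain ⟨β, hβ, hβψ⟩ : ∃ β : IrrCharacter H₀, classInner Φ₀.character (β : H₀ → ℂ) ≠ 0 ∧
      classInner (fun x : H₀ => (β : H₀ → ℂ) x * (detRep σ).character (H₀.subtype x))
        (fun x => ψ (pr x)) ≠ 0 := by
    by_contra hcon
    push Not at hcon
    apply one_ne_zero (α := ℂ)
    rw [← hone]
    have hexp := eq_sum_classInner (f := Φ₀.character) (isCharacter_character Φ₀).isClassFunction
    have h1 : (fun x : H₀ => Φ₀.character x * (detRep σ).character (H₀.subtype x)) =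
        ∑ φ : IrrCharacter H₀, classInner Φ₀.character (φ : H₀ → ℂ) •
          fun x : H₀ => (φ : H₀ → ℂ) x * (detRep σ).character (H₀.subtype x) := by
      funext x
      rw [Finset.sum_apply]
      conv_lhs => rw [hexp, Finset.sum_apply, Finset.sum_mul]
      exact Finset.sum_congr rfl fun φ _ => by simp [mul_assoc]
    rw [h1, classInner_sum_left]
    refine Finset.sum_eq_zero fun φ _ => ?_
    rw [classInner_smul_left]
    by_cases h0 : classInner Φ₀.character (φ : H₀ → ℂ) = 0
    · rw [h0, zero_mul]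
    · rw [hcon φ h0, mul_zero]
  obtain ⟨⟨βc, r, τ, hτ, rfl⟩, rfl⟩ : ∃ β₀ : IrrCharacter H₀, β₀ = β := ⟨β, rfl⟩
  haveI := hτ
  haveI := ((isIrreducible_iff_submodule τ).mp hτ).1
  have hirrP : IsIrrCharacter H₀
      fun x : H₀ => τ.character x * (detRep σ).character (H₀.subtype x) := by
    refine isIrrCharacter_of_norm_one ((isCharacter_character τ).mul
      ((isCharacter_character (detRep σ)).comp H₀.subtype)) ?_
    refine (classInner_mul_detRep σ H₀.subtype hf τ.character τ.character fun x z hz => ?_).trans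
      (classInner_irr_self (isIrrCharacter_character τ))
    obtain ⟨c, hc⟩ := hsc (H₀.subtype z) hz
    have hc' := scalar_of_constituent Φ₀ τ hβ (z := z) hc
    exact mul_conj_scalar_eq τ τ hc' hc' x
  have heq : (fun x : H₀ => τ.character x * (detRep σ).character (H₀.subtype x)) =
      fun x => ψ (pr x) := by
    by_contra hne
    exact hβψ (classInner_irr_ne hirrP hψ' hne)
  have hdeg : indFun H₀ τ.character 1 = (e : ℂ) := by
    have h1 := congrFun heq 1
    simp only [map_one, Representation.char_one, Module.finrank_fin_fun] at h1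
    have h2 := indFun_apply_one K ψ
    rw [hind, ← h1, show χ 1 = χ ((1 : L) : G) from rfl, congrFun hres 1, Pi.smul_apply,
      smul_eq_mul, Representation.char_one, Module.finrank_fin_fun] at h2
    rw [indFun_apply_one, Representation.char_one, Module.finrank_fin_fun]
    have hidx : H₀.index = K.index := Subgroup.index_comap_of_surjective K hsurj
    have hm : (m : ℂ) ≠ 0 := by
      have := irreducible_finrank_pos σ
      rw [Module.finrank_fin_fun] at this
      exact Nat.cast_ne_zero.mpr this.ne'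
    rw [hidx]
    exact mul_right_cancel₀ hm (by rw [mul_assoc]; exact h2.symm)
  have hne : classInner (indFun H₀ τ.character) Φ.character ≠ 0 := by
    rw [classInner_indFun H₀ _ (isCharacter_character Φ).isClassFunction, ← classInner_conj_symm]
    exact fun e' => hβ ((map_eq_zero _).mp e')
  have hIndEq : indFun H₀ τ.character = Φ.character :=
    eq_of_constituent_of_degree (isCharacter_indFun H₀ (isCharacter_character τ))
      (isIrrCharacter_character Φ) hne
      (by rw [hdeg, Representation.char_one, Module.finrank_fin_fun])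
  exact ih Φ.character (isIrrCharacter_character Φ)
    (by rw [Representation.char_one, Module.finrank_fin_fun]) hqpD H₀ hH₀ne τ.character
    (isCharacter_character τ) hIndEq

theorem berger_geometry [Group.IsSolvable G] {K L M : Subgroup G} [L.Normal] [M.Normal]
    (hK : IsCoatom K) (hL : L = K.normalCore) (hLM : L < M)
    (hab : ∀ a ∈ M, ∀ b ∈ M, a * b * a⁻¹ * b⁻¹ ∈ L) :
    K ⊔ M = ⊤ ∧ M ⊓ K = L ∧ K.index = (L.subgroupOf M).index := by
  have hLK : L ≤ K := hL ▸ K.normalCore_le
  have hMK : ¬ M ≤ K := fun h => not_le_of_gt hLM (hL ▸ (Subgroup.normal_le_normalCore.mpr h))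
  have hsup : K ⊔ M = ⊤ := by
    refine hK.2 _ (lt_of_le_of_ne le_sup_left fun h => hMK ?_)
    rw [h]; exact le_sup_right
  have hinf : M ⊓ K = L := by
    refine le_antisymm ?_ (le_inf hLM.le hLK)
    rw [hL]
    haveI : (M ⊓ K).Normal := by
      refine ⟨fun a ha g => ?_⟩
      have hg : g ∈ K ⊔ M := hsup ▸ Subgroup.mem_top g
      obtain ⟨k, hk, y, hy, rfl⟩ := Subgroup.mem_sup_of_normal_right.mp hg
      have h1 : y * a * y⁻¹ ∈ M ⊓ K := by
        refine Subgroup.mem_inf.mpr ⟨mul_mem (mul_mem hy ha.1) (inv_mem hy), ?_⟩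
        have h2 : y * a * y⁻¹ = (y * a * y⁻¹ * a⁻¹) * a := by group
        rw [h2]
        exact mul_mem (hLK (hab y hy a ha.1)) ha.2
      rw [show k * y * a * (k * y)⁻¹ = k * (y * a * y⁻¹) * k⁻¹ by group]
      exact Subgroup.mem_inf.mpr ⟨Subgroup.Normal.conj_mem inferInstance _ h1.1 k,
        mul_mem (mul_mem hk h1.2) (inv_mem hk)⟩
    exact Subgroup.normal_le_normalCore.mpr inf_le_right
  refine ⟨hsup, hinf, ?_⟩
  have h1 : (L.subgroupOf M).index = K.relIndex M := by
    rw [← hinf, inf_comm]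
    exact Subgroup.inf_relIndex_right K M
  have h4 := Subgroup.relIndex_mul_index (inf_le_left : K ⊓ M ≤ K)
  have h5 := Subgroup.relIndex_mul_index (inf_le_right : K ⊓ M ≤ M)
  have h6 : (K ⊓ M).relIndex K = M.index := by
    rw [Subgroup.inf_relIndex_left, ← Subgroup.relIndex_sup_right K M, hsup,
      Subgroup.relIndex_top_right]
  rw [h6, ← h5, Subgroup.inf_relIndex_right, mul_comm] at h4
  rw [h1]
  exact Nat.eq_of_mul_eq_mul_right
    (Nat.pos_of_ne_zero (Subgroup.index_ne_zero_of_finite (H := M))) h4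

theorem le_of_commutator_mem [Group.IsSolvable G] {K L M T : Subgroup G} [L.Normal] [M.Normal]
    (hsup : K ⊔ M = ⊤) (hL : L = K.normalCore) (hLT : L ≤ T) (hTK : T ≤ K)
    (hnorm : ∀ k ∈ K, ∀ t ∈ T, k * t * k⁻¹ ∈ T)
    (hcomm : ∀ t ∈ T, ∀ y ∈ M, t * y * t⁻¹ * y⁻¹ ∈ L) : T ≤ L := by
  haveI : T.Normal := by
    refine ⟨fun t ht g => ?_⟩
    have hg : g ∈ K ⊔ M := hsup ▸ Subgroup.mem_top g
    obtain ⟨k, hk, y, hy, rfl⟩ := Subgroup.mem_sup_of_normal_right.mp hg
    have h1 : y * t * y⁻¹ ∈ T := by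
      rw [show y * t * y⁻¹ = (t * y * t⁻¹ * y⁻¹)⁻¹ * t by group]
      exact mul_mem (inv_mem (hLT (hcomm t ht y hy))) ht
    rw [show k * y * t * (k * y)⁻¹ = k * (y * t * y⁻¹) * k⁻¹ by group]
    exact hnorm k hk _ h1
  rw [hL]
  exact Subgroup.normal_le_normalCore.mpr hTK

theorem berger_commutator_subgroup {L M : Subgroup G} [L.Normal] [M.Normal]
    (T : Set G) (hab : ∀ a ∈ M, ∀ b ∈ M, a * b * a⁻¹ * b⁻¹ ∈ L) :
    ∃ F : Subgroup G, ∀ y, y ∈ F ↔ y ∈ M ∧ ∀ t ∈ T, t * y * t⁻¹ * y⁻¹ ∈ L := by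
  refine ⟨{ carrier := {y | y ∈ M ∧ ∀ t ∈ T, t * y * t⁻¹ * y⁻¹ ∈ L}
            one_mem' := ⟨one_mem M, fun t _ => by simp⟩
            mul_mem' := ?_
            inv_mem' := ?_ }, fun y => Iff.rfl⟩
  · rintro a b ⟨ha, ha'⟩ ⟨hb, hb'⟩
    refine ⟨mul_mem ha hb, fun t ht => ?_⟩
    rw [show t * (a * b) * t⁻¹ * (a * b)⁻¹ =
      (t * a * t⁻¹ * a⁻¹) * (a * (t * b * t⁻¹ * b⁻¹) * a⁻¹) by group]
    exact mul_mem (ha' t ht) (Subgroup.Normal.conj_mem inferInstance _ (hb' t ht) a)
  · rintro a ⟨ha, ha'⟩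
    refine ⟨inv_mem ha, fun t ht => ?_⟩
    rw [show t * a⁻¹ * t⁻¹ * a⁻¹⁻¹ = a⁻¹ * (t * a * t⁻¹ * a⁻¹)⁻¹ * a⁻¹⁻¹ by group]
    exact Subgroup.Normal.conj_mem inferInstance _ (inv_mem (ha' t ht)) a⁻¹

/-- The step where the core acts by scalars. -/
theorem berger_step_chief [Group.IsSolvable G] {L K : Subgroup G} [Fintype K] (hK : IsCoatom K)
    (hL : L = K.normalCore) {χ : G → ℂ} (hχ : IsIrrCharacter G χ) (hqp : IsHomogeneousChar χ)
    {ψ : K → ℂ} (hψ : IsCharacter K ψ) (hind : indFun K ψ = χ) {d : ℕ} (hd : χ 1 = d)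
    (hscal : ∀ l ∈ L, ‖χ l‖ = (χ 1).re)
    (ih : ∀ e < d, ∀ {D : Type u} [Group D] [Fintype D] [Group.IsSolvable D] (f : D → ℂ),
      IsIrrCharacter D f → f 1 = (e : ℂ) → IsHomogeneousChar f →
      ∀ (H : Subgroup D), H ≠ ⊤ → ∀ π : H → ℂ, IsCharacter H π → indFun H π ≠ f) : False := by
  classical
  haveI : L.Normal := hL ▸ K.normalCore_normal
  have hLK : L ≤ K := hL ▸ K.normalCore_le
  have hLtop : L < ⊤ := lt_of_le_of_lt hLK hK.1.lt_top
  obtain ⟨M, p, hp, hMn, hLM, -, hab, hpow, hMp, hchief⟩ :=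
    exists_chief_above (N := (⊤ : Subgroup G)) inferInstance hLtop
  haveI := hMn
  haveI := Fintype.ofFinite M
  obtain ⟨hsup, hinf, hidx⟩ := berger_geometry hK hL hLM hab
  obtain ⟨θ, e, hθ, hres⟩ := hqp M hMn
  have he : (e : ℂ) ≠ 0 := by
    intro h0
    refine hχ.apply_one_ne_zero ?_
    rw [show χ 1 = χ ((1 : M) : G) from rfl, congrFun hres 1]
    simp [h0]
  obtain ⟨m, σ, hσ, rfl⟩ := hθ
  haveI := hσ
  haveI := extGroup_nontrivial σ
  have hσ1 : σ.character 1 = (m : ℂ) := by rw [Representation.char_one, Module.finrank_fin_fun]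
  have hχ1 : χ 1 = (e : ℂ) * m := by
    rw [← hσ1, show χ 1 = χ ((1 : M) : G) from rfl, congrFun hres 1]
    rfl
  have hscalσ : ∀ l : M, (l : G) ∈ L → ‖σ.character l‖ = (m : ℝ) := by
    intro l hl
    have h1 := hscal _ hl
    rw [congrFun hres l, hχ1, Pi.smul_apply, smul_eq_mul, norm_mul, Complex.norm_natCast] at h1
    simp only [Complex.mul_re, Complex.natCast_re, Complex.natCast_im, mul_zero, sub_zero] at h1
    exact mul_left_cancel₀ (by exact_mod_cast fun h0 : (e : ℂ) = 0 => he h0) h1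
  have hmpos : 0 < m := by
    have := irreducible_finrank_pos σ
    rwa [Module.finrank_fin_fun] at this
  -- the degree over the chief factor
  set L' : Subgroup M := L.subgroupOf M with hL'
  haveI : L'.Normal := Subgroup.Normal.subgroupOf inferInstance M
  haveI := Fintype.ofFinite L'
  have hdvd : m ∣ L'.index :=
    degree_dvd_index_of_scalar L' (isIrrCharacter_character σ)
      (fun l hl => by
        rw [hscalσ l (Subgroup.mem_subgroupOf.mp hl), hσ1, Complex.natCast_re]) hσ1
  obtain ⟨k, hk⟩ : ∃ k : ℕ, L'.index = p ^ k := by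
    haveI := Fact.mk hp
    have hP : IsPGroup p (M ⧸ L') := by
      intro q
      obtain ⟨y, rfl⟩ := QuotientGroup.mk_surjective q
      refine ⟨1, ?_⟩
      rw [← QuotientGroup.mk_pow, QuotientGroup.eq_one_iff, Subgroup.mem_subgroupOf, pow_one]
      exact hpow _ y.2
    rw [Subgroup.index_eq_card]
    exact IsPGroup.iff_card.mp hP
  have hsq : m * m ≤ L'.index := by
    have h1 := classInner_irr_self (isIrrCharacter_character σ)
    rw [classInner, inv_mul_eq_one₀ card_cast_ne_zero] at h1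
    have h2 := congrArg Complex.re h1
    rw [Complex.re_sum, Complex.natCast_re] at h2
    simp only [Complex.mul_conj, Complex.ofReal_re] at h2
    have h3 : (Nat.card L' : ℝ) * (m * m : ℕ) ≤ (Nat.card M : ℝ) := by
      rw [h2]
      refine le_trans (le_of_eq ?_) (Finset.sum_le_sum_of_subset_of_nonneg
        (Finset.subset_univ (Finset.univ.filter fun y : M => y ∈ L'))
        fun y _ _ => Complex.normSq_nonneg _)
      rw [Finset.sum_congr rfl (g := fun _ => ((m * m : ℕ) : ℝ)) fun y hy => ?_, Finset.sum_const,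
        nsmul_eq_mul, ← Fintype.card_subtype, ← Nat.card_eq_fintype_card]
      rw [Complex.normSq_eq_norm_sq,
        hscalσ y (Subgroup.mem_subgroupOf.mp (Finset.mem_filter.mp hy).2), Nat.cast_mul, pow_two]
    rw [← L'.card_mul_index, ← Nat.cast_mul, Nat.cast_le] at h3
    exact Nat.le_of_mul_le_mul_left h3 Nat.card_pos
  have hm1 : m ≠ 1 := by
    intro h1
    obtain ⟨y, hyM, hyL⟩ := SetLike.exists_of_lt hLM
    have hzero : χ y = 0 := by
      rw [← hind]
      simp only [indFun]
      rw [Finset.sum_eq_zero fun x _ => ?_, mul_zero]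
      refine extendByZero_of_notMem _ _ fun hx => hyL ?_
      have hxM : x⁻¹ * y * x ∈ M := by
        have := hMn.conj_mem y hyM x⁻¹
        rwa [inv_inv] at this
      have hxL : x⁻¹ * y * x ∈ L := hinf ▸ Subgroup.mem_inf.mpr ⟨hxM, hx⟩
      have := Subgroup.Normal.conj_mem (inferInstance : L.Normal) _ hxL x
      rwa [show x * (x⁻¹ * y * x) * x⁻¹ = y by group] at this
    rw [show χ y = χ ((⟨y, hyM⟩ : M) : G) from rfl, congrFun hres, Pi.smul_apply, smul_eq_mul] at hzero
    have h2 := (mul_eq_zero.mp hzero).resolve_left he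
    obtain ⟨c, hc⟩ : ∃ c : ℂ, σ ⟨y, hyM⟩ = c • LinearMap.id := by
      subst h1
      exact ⟨σ ⟨y, hyM⟩ (fun _ => 1) 0, LinearMap.ext fun v => funext fun i => by
        rw [Fin.fin_one_eq_zero i]
        conv_lhs => rw [show v = v 0 • (fun _ => (1 : ℂ) : Fin 1 → ℂ) from funext fun j => by
          simp [Fin.fin_one_eq_zero j]]
        simp [mul_comm]⟩
    have h3 := (norm_character_eq_iff σ ⟨y, hyM⟩).mpr ⟨c, hc⟩
    rw [h2, norm_zero, Module.finrank_fin_fun, h1, Nat.cast_one] at h3
    exact zero_ne_one h3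
  have hpm : p ∣ m := by
    obtain ⟨j, -, hj⟩ := (Nat.dvd_prime_pow hp).mp (hk ▸ hdvd)
    rcases Nat.eq_zero_or_pos j with h0 | h0
    · exact absurd (by rw [hj, h0, pow_zero]) hm1
    · exact hj ▸ dvd_pow_self p h0.ne'
  -- the multiplicity representation
  haveI := finite_detOne σ
  haveI := Fintype.ofFinite (detOne σ)
  haveI := isSolvable_detOne σ
  obtain ⟨Φ, hΦ, hformula, hsc, hhom⟩ := exists_triple σ hχ hqp hres
  haveI := hΦ
  have hinv : ∀ (g : G) (n : M), σ.character (MulAut.conjNormal g n) = σ.character n := by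
    intro g n
    have h1 := congrFun hres (MulAut.conjNormal g n)
    have h2 := congrFun hres n
    simp only [Pi.smul_apply, smul_eq_mul, MulAut.conjNormal_apply] at h1 h2
    rw [hχ.isClassFunction] at h1
    exact mul_left_cancel₀ he (h1.symm.trans h2)
  have hsurj := detProj_surjective σ hinv
  set H : Subgroup (detOne σ) := K.comap (detProj σ) with hH
  haveI := Fintype.ofFinite H
  have hgen : ∀ g : detOne σ, ∃ h : H, ∃ z ∈ M.comap (detProj σ), g = H.subtype h * z := by
    intro g
    have hg : detProj σ g ∈ K ⊔ M := hsup ▸ Subgroup.mem_top _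
    obtain ⟨a, ha, y, hy, hay⟩ := Subgroup.mem_sup_of_normal_right.mp hg
    obtain ⟨x, hx⟩ := hsurj a
    refine ⟨⟨x, by rw [hH, Subgroup.mem_comap, hx]; exact ha⟩, x⁻¹ * g, ?_, by simp⟩
    rw [Subgroup.mem_comap, map_mul, map_inv, hx, ← hay, inv_mul_cancel_left]
    exact hy
  let Φ₀ : Representation ℂ H (Fin e → ℂ) := Φ.comp H.subtype
  haveI hΦ₀ : Φ₀.IsIrreducible :=
    isIrreducible_comp_of_scalar Φ H.subtype (M.comap (detProj σ)) hgen hsc
  have hqpH : IsHomogeneousChar Φ₀.character :=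
    isHomogeneousChar_comp Φ (M.comap (detProj σ)) hsc (fun N' hN' hle => hhom N' hN' hle)
      H.subtype hgen
  let pr : H →* K := (detProj σ).subgroupComap K
  have hpr : Function.Surjective pr := fun a => by
    obtain ⟨x, hx⟩ := hsurj a
    exact ⟨⟨x, by rw [hH, Subgroup.mem_comap, hx]; exact a.2⟩, Subtype.ext hx⟩
  let R : Representation ℂ H (Fin m → ℂ) := (detRep σ).comp H.subtype
  have hψc : IsCharacter H fun x : H => ψ (pr x) := hψ.comp pr
  have hRc : IsCharacter H fun x : H => conj (R.character x) := (isCharacter_character R).conjFn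
  have hprodc : IsCharacter H fun x : H => ψ (pr x) * conj (R.character x) := hψc.mul hRc
  have hne : classInner (fun x : H => ψ (pr x) * conj (R.character x)) Φ₀.character ≠ 0 := by
    intro h0
    apply one_ne_zero (α := ℂ)
    rw [← classInner_res_eq_one K hχ hind,
      ← classInner_comp_surjective pr hpr (fun k : K => χ k) ψ,
      show (fun x : H => χ ((pr x : K) : G)) = fun x : H => Φ₀.character x * R.character x from
        funext fun x => hformula (H.subtype x),
      classInner_eq_conj_mul, ← classInner_conj_symm, h0, map_zero]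
  obtain ⟨a, ha⟩ := hψ.exists_degree
  have hem : (e : ℝ) * m = (K.index : ℝ) * a := by
    have h2 := indFun_apply_one K ψ
    rw [hind, hχ1, ha] at h2
    have h3 := congrArg Complex.re h2
    simpa using h3
  have hle : (e : ℝ) ≤ (a : ℝ) * m := by
    have h1 := degree_le_of_constituent (isIrrCharacter_character Φ₀) hprodc hne
    simp only [map_one, ha, Representation.char_one, Module.finrank_fin_fun, Complex.conj_natCast,
      ← Nat.cast_mul, Complex.natCast_re] at h1
    exact_mod_cast h1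
  have hge : (a : ℝ) * m ≤ e := by
    have h1 : ((m * m : ℕ) : ℝ) ≤ (K.index : ℝ) := Nat.cast_le.mpr (hidx ▸ hsq)
    rw [Nat.cast_mul] at h1
    have hm0 : (0 : ℝ) < m := Nat.cast_pos.mpr hmpos
    have h2 := mul_le_mul_of_nonneg_right h1 (Nat.cast_nonneg a : (0 : ℝ) ≤ a)
    rw [← hem] at h2
    nlinarith
  have hea : e = a * m := by exact_mod_cast le_antisymm hle hge
  have hprod : (fun x : H => ψ (pr x) * conj (R.character x)) = Φ₀.character :=
    eq_of_constituent_of_degree hprodc (isIrrCharacter_character Φ₀) hne (by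
      simp only [map_one, ha, Representation.char_one, Module.finrank_fin_fun,
        Complex.conj_natCast, hea, Nat.cast_mul])
  have ha0 : a ≠ 0 := fun h0 => he (by rw [hea, h0, zero_mul, Nat.cast_zero])
  have hed : e < d := by
    have h1 : (d : ℂ) = ((e * m : ℕ) : ℂ) := by rw [← hd, hχ1, Nat.cast_mul]
    rw [Nat.cast_injective h1]
    exact lt_mul_of_one_lt_right
      (Nat.pos_of_ne_zero fun h0 => he (by rw [h0, Nat.cast_zero])) (by omega)
  -- the lifts act irreducibly
  have hRirr : IsIrrCharacter H R.character := by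
    obtain ⟨δ, hδ⟩ := exists_constituent (isCharacter_character R) (by
      rw [Representation.char_one, Module.finrank_fin_fun]
      exact Nat.cast_ne_zero.mpr hmpos.ne')
    have hrest := isCharacter_sub_constituent (isCharacter_character R) δ.2 hδ
    have hsum : (fun x : H => ψ (pr x) * conj ((δ : H → ℂ) x)) +
        (fun x : H => ψ (pr x) * conj ((R.character - (δ : H → ℂ)) x)) = Φ₀.character := by
      rw [← hprod]
      funext x
      simp only [Pi.add_apply, Pi.sub_apply, map_sub]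
      ring
    have hirrsum := hsum ▸ isIrrCharacter_character Φ₀
    have hψ1 : ψ (pr 1) ≠ 0 := by rw [map_one, ha]; exact Nat.cast_ne_zero.mpr ha0
    rcases eq_zero_or_eq_zero_of_irr_add (hψc.mul δ.2.isCharacter.conjFn)
      (hψc.mul hrest.conjFn) hirrsum with h0 | h0
    · exfalso
      exact δ.2.apply_one_ne_zero ((map_eq_zero _).mp
        ((mul_eq_zero.mp (congrFun h0 1)).resolve_left hψ1))
    · have h1 := hrest.eq_zero_of_degree ((map_eq_zero _).mp
        ((mul_eq_zero.mp (congrFun h0 1)).resolve_left hψ1))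
      rw [sub_eq_zero.mp h1]
      exact δ.2
  -- a chief factor inside `K`
  have hLK' : L.subgroupOf K < ⊤ := by
    refine lt_of_le_of_ne le_top fun h => ?_
    have hKL : K ≤ L := Subgroup.subgroupOf_eq_top.mp h
    have hMtop : M = ⊤ := eq_top_iff.mpr (hsup ▸ sup_le (hKL.trans hLM.le) le_rfl)
    have h1 : IsIrrCharacter M fun y : M => χ y :=
      hχ.comp_surjective M.subtype fun g => ⟨⟨g, hMtop ▸ Subgroup.mem_top g⟩, rfl⟩
    have h2 := classInner_irr_self h1
    rw [hres, classInner_smul_left, classInner_smul_right,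
      classInner_irr_self (isIrrCharacter_character σ), mul_one, Complex.conj_natCast] at h2
    norm_cast at h2
    rw [hea] at h2
    have h3 := Nat.eq_one_of_mul_eq_one_left (Nat.eq_one_of_mul_eq_one_left h2)
    exact hm1 h3
  haveI : (L.subgroupOf K).Normal := Subgroup.Normal.subgroupOf inferInstance K
  obtain ⟨T, q, hq, hTn, hLT, -, hTab, hTpow, -, -⟩ :=
    exists_chief_above (G := K) (N := (⊤ : Subgroup K)) inferInstance hLK'
  haveI := hTn
  let T' : Subgroup G := T.map K.subtype
  have hLT' : L ≤ T' := fun l hl => ⟨⟨l, hLK hl⟩, hLT.le (Subgroup.mem_subgroupOf.mpr hl), rfl⟩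
  have hT'not : ¬ T' ≤ L := fun h => not_le_of_gt hLT fun t ht =>
    Subgroup.mem_subgroupOf.mpr (h ⟨t, ht, rfl⟩)
  have hcomm_false : (∀ t ∈ T', ∀ y ∈ M, t * y * t⁻¹ * y⁻¹ ∈ L) → False := fun hc =>
    hT'not (le_of_commutator_mem hsup hL hLT' (Subgroup.map_subtype_le T) (fun a ha t ht => by
      obtain ⟨t₀, ht₀, rfl⟩ := ht
      exact ⟨⟨a, ha⟩ * t₀ * ⟨a, ha⟩⁻¹, hTn.conj_mem _ ht₀ _, rfl⟩) hc)
  have hqp' : q ≠ p := by
    rintro rfl
    haveI := Fact.mk hq
    have hT'p : IsPGroup q (T'.map (QuotientGroup.mk' L)) := by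
      rintro ⟨_, _, ⟨t, ht, rfl⟩, rfl⟩
      refine ⟨1, Subtype.ext ?_⟩
      rw [pow_one, SubmonoidClass.coe_pow, ← map_pow]
      exact (QuotientGroup.eq_one_iff _).mpr
        (by simpa using Subgroup.mem_subgroupOf.mp (hTpow t ht))
    obtain ⟨y, hyM, hyL, hy⟩ := exists_fixed_mod hMp hT'p hLM
    obtain ⟨F, hF⟩ := berger_commutator_subgroup (L := L) (M := M) (T' : Set G) hab
    have hLF : L ≤ F := fun l hl => (hF l).mpr ⟨hLM.le hl, fun t _ =>
      mul_mem (Subgroup.Normal.conj_mem inferInstance l hl t) (inv_mem hl)⟩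
    have hFn : F.Normal := by
      refine ⟨fun z hz g => ?_⟩
      obtain ⟨hzM, hz'⟩ := (hF z).mp hz
      have hg : g ∈ K ⊔ M := hsup ▸ Subgroup.mem_top g
      obtain ⟨b, hb, w, hw, rfl⟩ := Subgroup.mem_sup_of_normal_right.mp hg
      have h1 : w * z * w⁻¹ ∈ F := by
        rw [show w * z * w⁻¹ = (w * z * w⁻¹ * z⁻¹) * z by group]
        exact mul_mem (hLF (hab w hw z hzM)) hz
      rw [show b * w * z * (b * w)⁻¹ = b * (w * z * w⁻¹) * b⁻¹ by group]
      obtain ⟨huM, hu⟩ := (hF _).mp h1
      refine (hF _).mpr ⟨hMn.conj_mem _ huM b, fun t ht => ?_⟩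
      obtain ⟨t₀, ht₀, rfl⟩ := ht
      have ht' : b⁻¹ * (t₀ : G) * b⁻¹⁻¹ ∈ T' :=
        ⟨⟨b, hb⟩⁻¹ * t₀ * ⟨b, hb⟩⁻¹⁻¹, hTn.conj_mem _ ht₀ _, rfl⟩
      have h2 := Subgroup.Normal.conj_mem (inferInstance : L.Normal) _ (hu _ ht') b
      convert h2 using 1
      simp only [Subgroup.coe_subtype]
      group
    rcases hchief F hFn hLF (fun z hz => ((hF z).mp hz).1) with h | h
    · exact hyL (h ▸ (hF y).mpr ⟨hyM, hy⟩)
    · exact hcomm_false fun t ht z hz => ((hF z).mp (h.symm ▸ hz)).2 t ht
  -- Clifford theory inside `H`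
  let That : Subgroup H := T.comap pr
  haveI : That.Normal := hTn.comap pr
  haveI := Fintype.ofFinite That
  obtain ⟨η₀, hη₀⟩ := exists_irr_constituent_res That hRirr
  by_cases hI : inertia That (η₀ : That → ℂ) = ⊤
  · apply hcomm_false
    have hLscal : ∀ x : H, detProj σ (H.subtype x) ∈ L → ∃ c : ℂ, R x = c • 1 := by
      intro x hx
      obtain ⟨c, -, hc⟩ := exists_scalar_detRep σ (x := H.subtype x) (hLM.le hx)
      obtain ⟨c', hc'⟩ := (norm_character_eq_iff σ ⟨_, hLM.le hx⟩).mp (by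
        rw [hscalσ _ hx, Module.finrank_fin_fun])
      refine ⟨c * c', ?_⟩
      show detRep σ (H.subtype x) = _
      rw [hc, hc', smul_smul]
      rfl
    have hcommops : ∀ x y : That, R x * R y = R y * R x := by
      intro x y
      set u : H := (y : H) * x * (y : H)⁻¹ * (x : H)⁻¹ with hu
      obtain ⟨γ, hγ⟩ := hLscal u (by
        have h1 := Subgroup.mem_subgroupOf.mp (hTab _ y.2 _ x.2)
        simp only [hu, map_mul, map_inv]
        exact h1)
      obtain ⟨α, hα⟩ := hLscal ((x : H) ^ q) (by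
        have h1 := Subgroup.mem_subgroupOf.mp (hTpow _ x.2)
        simp only [map_pow]
        exact h1)
      have hyx : R ((y : H) * x * (y : H)⁻¹) = γ • R x := by
        rw [show (y : H) * x * (y : H)⁻¹ = u * x by rw [hu]; group, map_mul, hγ, smul_mul_assoc,
          one_mul]
      have hpow2 : R (((y : H) * x * (y : H)⁻¹) ^ q) = R ((x : H) ^ q) := by
        rw [conj_pow, map_mul, map_mul, hα, mul_smul_comm, mul_one, smul_mul_assoc, ← map_mul,
          mul_inv_cancel, map_one]
      rw [map_pow, hyx, smul_pow, ← map_pow, hα, smul_smul] at hpow2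
      have hα0 : α ≠ 0 := by
        intro h0
        have h1 : R ((x : H) ^ q)⁻¹ * R ((x : H) ^ q) = 1 := by
          rw [← map_mul, inv_mul_cancel, map_one]
        rw [hα, h0, zero_smul, mul_zero] at h1
        exact zero_ne_one h1
      have hγq : γ ^ q = 1 :=
        (mul_eq_right₀ hα0).mp (smul_one_injective (W := Fin m → ℂ) hpow2)
      have hγm : γ ^ m = 1 := by
        have h1 := det_detRep σ (H.subtype u)
        rw [show detRep σ (H.subtype u) = R u from rfl, hγ, LinearMap.det_smul, map_one, mul_one,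
          Module.finrank_fin_fun] at h1
        exact h1
      have hcop : Nat.Coprime q m := by
        refine hq.coprime_iff_not_dvd.mpr fun h => hqp' ?_
        obtain ⟨j, -, hj⟩ := (Nat.dvd_prime_pow hp).mp (hk ▸ hdvd)
        exact (Nat.prime_dvd_prime_iff_eq hq hp).mp (hq.dvd_of_dvd_pow (hj ▸ h))
      have hγ1 : γ = 1 := by
        have := pow_gcd_eq_one.mpr ⟨hγq, hγm⟩
        rwa [hcop.gcd_eq_one, pow_one] at this
      rw [hγ1, one_smul, map_mul, map_mul] at hyx
      calc R x * R y = R y * R x * R ((y : H)⁻¹) * R y := by rw [hyx]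
        _ = R y * R x := by
          rw [mul_assoc, ← map_mul R (y : H)⁻¹, inv_mul_cancel, map_one, mul_one]
    obtain ⟨r, η, hη, hηeq⟩ := η₀.2
    haveI := hη
    have hη₀' : classInner (fun x : That => R.character x) η.character ≠ 0 := hηeq ▸ hη₀
    have hinj : ∃ f : Representation.IntertwiningMap η (R.comp That.subtype),
        Function.Injective f := by
      rw [show (fun x : That => R.character x) = Representation.character
        (R.comp That.subtype : Representation ℂ That (Fin m → ℂ)) from rfl,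
        classInner_character] at hη₀'
      have : Nontrivial (Representation.IntertwiningMap η (R.comp That.subtype)) :=
        Module.nontrivial_of_finrank_pos (R := ℂ)
          (Nat.pos_of_ne_zero fun h0 => hη₀' (by rw [h0, Nat.cast_zero]))
      obtain ⟨f, hf⟩ := exists_ne (0 : Representation.IntertwiningMap η (R.comp That.subtype))
      exact ⟨f, (Representation.IsIrreducible.injective_or_eq_zero f).resolve_right hf⟩
    obtain ⟨f, hf⟩ := hinj
    have hr1 : finrank ℂ (Fin r → ℂ) = 1 := degree_one_of_comm_image η fun x y =>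
      LinearMap.ext fun v => hf (by
        have hit : ∀ (z : That) w, f (η z w) = R (z : H) (f w) := fun z w =>
          LinearMap.congr_fun (f.isIntertwining' z) w
        rw [Module.End.mul_apply, Module.End.mul_apply, hit, hit, hit, hit]
        exact LinearMap.congr_fun (hcommops x y) (f v))
    have hcl := clifford_invariant That hRirr η₀.2
      (fun z => (hI ▸ Subgroup.mem_top z : z ∈ inertia That (η₀ : That → ℂ))) hη₀
    have hscalR : ∀ x : That, ∃ c : ℂ, R x = c • LinearMap.id := by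
      intro x
      refine (norm_character_eq_iff R (x : H)).mp ?_
      have h1 := congrFun hcl x
      have h2 := congrFun hcl 1
      simp only [OneMemClass.coe_one, Pi.smul_apply, smul_eq_mul, ← hηeq] at h1 h2
      rw [Representation.char_one, Representation.char_one, hr1, Nat.cast_one, mul_one] at h2
      obtain ⟨c, hc⟩ : ∃ c : ℂ, η x = c • LinearMap.id := by
        obtain ⟨c, hc⟩ := exists_smul_of_comm η (η x) fun z => LinearMap.ext fun v => hf (by
          have hit : ∀ (z : That) w, f (η z w) = R (z : H) (f w) := fun z w =>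
            LinearMap.congr_fun (f.isIntertwining' z) w
          rw [Module.End.mul_apply, Module.End.mul_apply, hit, hit, hit, hit]
          exact LinearMap.congr_fun (hcommops x z) (f v))
        exact ⟨c, hc⟩
      have h3 := (norm_character_eq_iff η x).mpr ⟨c, hc⟩
      rw [hr1, Nat.cast_one] at h3
      rw [h1, norm_mul, ← h2, h3, mul_one, Complex.norm_natCast]
    intro t ht y hy
    obtain ⟨t₀, ht₀, rfl⟩ := ht
    obtain ⟨x, hx⟩ := hpr t₀
    have hxT : x ∈ That := by rw [Subgroup.mem_comap, hx]; exact ht₀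
    obtain ⟨c, hc⟩ := hscalR ⟨x, hxT⟩
    have hop : detRep σ (H.subtype x) = c • LinearMap.id := hc
    have hc0 : c ≠ 0 := by
      intro h0
      have h1 : detRep σ (H.subtype x)⁻¹ * detRep σ (H.subtype x) = 1 := by
        rw [← map_mul, inv_mul_cancel, map_one]
      rw [hop, h0, zero_smul, mul_zero] at h1
      exact zero_ne_one h1
    have h1 := detRep_mul_comm σ (H.subtype x) ⟨y, hy⟩
    rw [hop, show (LinearMap.id : (Fin m → ℂ) →ₗ[ℂ] Fin m → ℂ) = 1 from rfl, smul_mul_assoc,
      mul_smul_comm, one_mul, mul_one] at h1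
    have h2 := smul_right_injective _ hc0 h1
    have hpt : detProj σ (H.subtype x) = (t₀ : G) := congrArg Subtype.val hx
    have hker : σ (MulAut.conjNormal (detProj σ (H.subtype x)) ⟨y, hy⟩ * (⟨y, hy⟩ : M)⁻¹) = 1 := by
      rw [map_mul, ← h2, ← map_mul, mul_inv_cancel, map_one]
    have hval : (t₀ : G) * y * (t₀ : G)⁻¹ * y⁻¹ =
        ((MulAut.conjNormal (detProj σ (H.subtype x)) ⟨y, hy⟩ * (⟨y, hy⟩ : M)⁻¹ : M) : G) := by
      rw [Subgroup.coe_mul, MulAut.conjNormal_apply, hpt]; rfl
    rw [Subgroup.coe_subtype, hval]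
    -- the kernel of `σ` lies in `L`
    let Y : Subgroup G :=
      { carrier := {z | ∃ hz : z ∈ M, ∃ c : ℂ, σ ⟨z, hz⟩ = c • 1}
        one_mem' := ⟨one_mem M, 1, by rw [one_smul]; exact map_one σ⟩
        mul_mem' := fun {z w} ⟨hz, c, hc⟩ ⟨hw, c', hc'⟩ => ⟨mul_mem hz hw, c * c', by
          rw [show (⟨z * w, mul_mem hz hw⟩ : M) = ⟨z, hz⟩ * ⟨w, hw⟩ from rfl, map_mul, hc, hc',
            smul_mul_smul_comm, one_mul]⟩
        inv_mem' := fun {z} ⟨hz, c, hc⟩ => ⟨inv_mem hz, c⁻¹, by
          have h4 : σ (⟨z, hz⟩ : M)⁻¹ * σ ⟨z, hz⟩ = 1 := by rw [← map_mul, inv_mul_cancel, map_one]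
          rw [hc, mul_smul_comm, mul_one] at h4
          have hcz : c ≠ 0 := fun h0 => by rw [h0, zero_smul] at h4; exact zero_ne_one h4
          rw [show (⟨z⁻¹, inv_mem hz⟩ : M) = (⟨z, hz⟩ : M)⁻¹ from rfl, ← inv_smul_smul₀ hcz
            (σ (⟨z, hz⟩ : M)⁻¹), h4]⟩ }
    have hYn : Y.Normal := by
      refine ⟨fun z ⟨hz, c, hc⟩ g => ⟨hMn.conj_mem z hz g, ?_⟩⟩
      have h4 := (norm_character_eq_iff σ ⟨z, hz⟩).mpr ⟨c, hc⟩
      rw [← hinv g ⟨z, hz⟩] at h4
      obtain ⟨c', hc'⟩ := (norm_character_eq_iff σ _).mp h4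
      exact ⟨c', hc'⟩
    have hLY : L ≤ Y := fun l hl => ⟨hLM.le hl, by
      obtain ⟨c', hc'⟩ := (norm_character_eq_iff σ ⟨l, hLM.le hl⟩).mp (by
        rw [hscalσ _ hl, Module.finrank_fin_fun])
      exact ⟨c', hc'⟩⟩
    rcases hchief Y hYn hLY (fun z ⟨hz, _⟩ => hz) with h | h
    · refine h ▸ ⟨(MulAut.conjNormal (detProj σ (H.subtype x)) ⟨y, hy⟩ * (⟨y, hy⟩ : M)⁻¹ : M).2,
        1, ?_⟩
      rw [one_smul]
      exact hker
    · exfalso
      apply hm1
      have hall : ∀ z : M, ∃ c : ℂ, σ z = c • 1 := fun z => by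
        obtain ⟨_, c, hc⟩ := (h.symm ▸ z.2 : (z : G) ∈ Y)
        exact ⟨c, hc⟩
      have h5 := degree_one_of_comm_image σ fun u w => by
        obtain ⟨c, hc⟩ := hall u
        obtain ⟨c', hc'⟩ := hall w
        rw [hc, hc', smul_mul_smul_comm, smul_mul_smul_comm, mul_comm c]
      rwa [Module.finrank_fin_fun] at h5
  · -- the lifts induce from a proper subgroup
    set H₁ := inertia That (η₀ : That → ℂ) with hH₁
    haveI := Fintype.ofFinite H₁
    obtain ⟨δ, hδ, -, hδind, -⟩ := clifford_exists That η₀.2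
      (le_inertia That η₀.2.isClassFunction) hH₁ hRirr hη₀
    have hconj : indFun H₁ (fun x => conj (δ x)) = fun g => conj (indFun H₁ δ g) := by
      funext g
      simp only [indFun, map_mul, map_sum, map_inv₀, Complex.conj_natCast]
      congr 1
      refine Finset.sum_congr rfl fun x _ => ?_
      by_cases hx : x⁻¹ * g * x ∈ H₁
      · rw [extendByZero_of_mem _ _ hx, extendByZero_of_mem _ _ hx]
      · rw [extendByZero_of_notMem _ _ hx, extendByZero_of_notMem _ _ hx, map_zero]
    refine ih e hed Φ₀.character (isIrrCharacter_character Φ₀)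
      (by rw [Representation.char_one, Module.finrank_fin_fun]) hqpH H₁ hI
      (fun x : H₁ => conj (δ x) * ψ (pr x)) (hδ.isCharacter.conjFn.mul (hψc.comp H₁.subtype)) ?_
    rw [indFun_mul H₁ (fun x => conj (δ x)) (χ := fun x : H => ψ (pr x)) hψc.isClassFunction,
      hconj, hδind, ← hprod]
    funext x
    exact mul_comm _ _

/-- Berger's theorem. -/
theorem berger : ∀ (d : ℕ) {G : Type u} [Group G] [Fintype G] [Group.IsSolvable G] (χ : G → ℂ),
    IsIrrCharacter G χ → χ 1 = (d : ℂ) → IsHomogeneousChar χ →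
    ∀ (K : Subgroup G), K ≠ ⊤ → ∀ ψ : K → ℂ, IsCharacter K ψ → indFun K ψ ≠ χ := by
  intro d
  induction d using Nat.strong_induction_on with
  | _ d ih =>
  intro G _ _ _ χ hχ hd hqp K₀ hK₀ ψ₀ hψ₀ hind₀
  classical
  obtain ⟨K, hK, hK₀K⟩ := (eq_top_or_exists_le_coatom K₀).resolve_left hK₀
  haveI := Fintype.ofFinite K
  set ψ : K → ℂ := indFun (K₀.subgroupOf K)
    (fun x => ψ₀ ⟨(x : K), Subgroup.mem_subgroupOf.mp x.2⟩) with hψdef
  have hψ : IsCharacter K ψ :=
    isCharacter_indFun _ (hψ₀.comp (Subgroup.subgroupOfEquivOfLe hK₀K).toMonoidHom)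
  have hind : indFun K ψ = χ := by rw [hψdef, indFun_trans K₀ K hK₀K, hind₀]
  haveI : K.normalCore.Normal := K.normalCore_normal
  obtain ⟨φ, e, hφ, hres⟩ := hqp K.normalCore inferInstance
  obtain ⟨m, σ, hσ, rfl⟩ := hφ
  haveI := hσ
  have hd' : d = e * m := by
    have h1 := congrFun hres 1
    rw [OneMemClass.coe_one, hd, Pi.smul_apply, Representation.char_one, Module.finrank_fin_fun,
      smul_eq_mul] at h1
    exact_mod_cast h1
  by_cases hm : 2 ≤ m
  · have he0 : e ≠ 0 := by
      intro h0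
      refine hχ.apply_one_ne_zero ?_
      rw [hd, hd', h0, zero_mul, Nat.cast_zero]
    have hed : e < d := hd' ▸ lt_mul_of_one_lt_right (Nat.pos_of_ne_zero he0) hm
    exact berger_step_core K.normalCore_le hK.1 hχ hqp hψ hind σ hres
      (fun {D} _ _ _ f hf hf1 hq H hH π hπ => ih e hed f hf hf1 hq H hH π hπ)
  · have hm1 : m = 1 := by
      have := irreducible_finrank_pos σ
      rw [Module.finrank_fin_fun] at this
      omega
    subst hm1
    refine berger_step_chief hK rfl hχ hqp hψ hind hd ?_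
      (fun e he {D} _ _ _ f hf hf1 hq H hH π hπ => ih e he f hf hf1 hq H hH π hπ)
    intro l hl
    have hsc : ∃ c : ℂ, σ ⟨l, hl⟩ = c • LinearMap.id := by
      refine exists_smul_of_comm σ _ fun z => ?_
      refine LinearMap.ext fun v => funext fun i => ?_
      have hone : ∀ (A : Module.End ℂ (Fin 1 → ℂ)) (w : Fin 1 → ℂ),
          A w = w 0 • A (fun _ => 1) := fun A w => by
        rw [← map_smul]
        congr 1
        funext j
        simp [Fin.fin_one_eq_zero j]
      rw [Module.End.mul_apply, Module.End.mul_apply, hone (σ ⟨l, hl⟩) (σ z v),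
        hone (σ z) (σ ⟨l, hl⟩ v), Fin.fin_one_eq_zero i, hone (σ z) v, hone (σ ⟨l, hl⟩) v]
      simp only [Pi.smul_apply, smul_eq_mul]
      ring
    have h1 := (norm_character_eq_iff σ ⟨l, hl⟩).mpr hsc
    rw [show χ l = χ ((⟨l, hl⟩ : K.normalCore) : G) from rfl, congrFun hres, Pi.smul_apply,
      smul_eq_mul, norm_mul, Complex.norm_natCast, h1, hd, hd', Module.finrank_fin_fun]
    simp

end Steps

end Cfsg.Lib.Char
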