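import Cfsg.Agent.Lib.Char.LinearExt
import Cfsg.Agent.Lib.Char.Gallagher
import Cfsg.Agent.Lib.Coprime.Generation
import Cfsg.Agent.Lib.Thompson.FixedPointFree

/-!
# Camina pairs

If `(G, N)` is a Camina pair and a prime divides both `|G : N|` and `|N|`, it divides `|N : N'|`;
two such primes cannot occur, which yields Camina's trichotomy.
-/

set_option autoImplicit false
set_option linter.unusedSectionVars false
set_option linter.style.haveILetI false

namespace Cfsg.Lib.Char.CaminaPair

open Cfsg Subgroup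
open scoped ComplexConjugate

universe u

variable {G : Type u} [Group G] [Finite G]

/-- Every element outside `N` is conjugate to all elements of its coset. -/
def IsCamina (N : Subgroup G) : Prop :=
  ∀ g : G, g ∉ N → ∀ n ∈ N, ∃ x : G, x * g * x⁻¹ = g * n

theorem IsCamina.map {H : Type u} [Group H] {N : Subgroup G} (h : IsCamina N) (f : G →* H)
    (hf : Function.Surjective f) : IsCamina (N.map f) := by
  intro a ha m hm
  obtain ⟨g, rfl⟩ := hf a
  obtain ⟨n, hn, rfl⟩ := hm
  obtain ⟨x, hx⟩ := h g (fun hg => ha ⟨g, hg, rfl⟩) n hn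
  exact ⟨f x, by rw [← map_inv, ← map_mul, ← map_mul, hx, map_mul]⟩

variable {p : ℕ} [hp : Fact p.Prime]

/-- An element of `N` commuting with a `p`-element outside `N` is a `p`-element. -/
theorem pow_eq_one_of_commute {N : Subgroup G} (hcam : IsCamina N) {g n : G} (hg : g ∉ N) {a : ℕ}
    (hga : g ^ p ^ a = 1) (hn : n ∈ N) (hgn : Commute g n) : n ^ p ^ a = 1 := by
  obtain ⟨x, hx⟩ := hcam g hg n hn
  have h1 : (g * n) ^ p ^ a = 1 := by rw [← hx, conj_pow, hga, mul_one, mul_inv_cancel]
  rw [hgn.mul_pow, hga, one_mul] at h1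
  exact h1

/-- The centraliser of an element outside `N` has the order of the centraliser of its image. -/
theorem card_centralizer {N : Subgroup G} [N.Normal] (hcam : IsCamina N) {g : G} (hg : g ∉ N) :
    Nat.card (centralizer ({g} : Set G)) = Nat.card (centralizer ({(g : G ⧸ N)} : Set (G ⧸ N))) := by
  set C := centralizer ({g} : Set G) with hC
  set D := (centralizer ({(g : G ⧸ N)} : Set (G ⧸ N))).comap (QuotientGroup.mk' N) with hD
  have hdef : ∀ x : D, (g⁻¹ * ((x : G) * g * (x : G)⁻¹)) ∈ N := by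
    intro x
    have h1 := mem_centralizer_singleton_iff.1 (show ((x : G) : G ⧸ N) ∈ _ from x.2)
    rw [← QuotientGroup.eq, QuotientGroup.mk_mul, QuotientGroup.mk_mul, h1, QuotientGroup.mk_inv,
      mul_inv_cancel_right]
  have hCD : C ≤ D := by
    intro x hx
    show (x : G ⧸ N) ∈ centralizer _
    rw [mem_centralizer_singleton_iff, ← QuotientGroup.mk_mul, ← QuotientGroup.mk_mul,
      mem_centralizer_singleton_iff.1 hx]
  let φ : D → N := fun x => ⟨_, hdef x⟩
  have hfib : ∀ x y : D, φ x = φ y ↔ (x : G)⁻¹ * y ∈ C := by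
    intro x y
    rw [hC, mem_centralizer_singleton_iff, Subtype.ext_iff]
    show g⁻¹ * _ = g⁻¹ * _ ↔ _
    rw [mul_right_inj, eq_mul_inv_iff_mul_eq, mul_assoc ((x : G)⁻¹) (y : G) g, inv_mul_eq_iff_eq_mul]
    constructor
    · intro h
      rw [← h]
      group
    · intro h
      rw [h]
      group
  let f : D ⧸ C.subgroupOf D → N := Quotient.lift φ (fun x y hxy =>
    (hfib x y).2 (show (x⁻¹ * y : D) ∈ C.subgroupOf D from QuotientGroup.leftRel_apply.1 hxy))
  have hf : Function.Bijective f := by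
    constructor
    · intro a b hab
      obtain ⟨x, rfl⟩ := QuotientGroup.mk_surjective a
      obtain ⟨y, rfl⟩ := QuotientGroup.mk_surjective b
      exact QuotientGroup.eq.2 ((hfib x y).1 hab)
    · intro n
      obtain ⟨x, hx⟩ := hcam g hg n n.2
      have hxD : x ∈ D := by
        show (x : G ⧸ N) ∈ centralizer _
        rw [mem_centralizer_singleton_iff]
        have e := congrArg (fun z : G => (z : G ⧸ N)) (mul_inv_eq_iff_eq_mul.1 hx)
        simp only [QuotientGroup.mk_mul, (QuotientGroup.eq_one_iff (n : G)).2 n.2, mul_one] at e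
        exact e
      exact ⟨((⟨x, hxD⟩ : D) : D ⧸ C.subgroupOf D), Subtype.ext (by
        show g⁻¹ * (x * g * x⁻¹) = n
        rw [hx, inv_mul_cancel_left])⟩
  have h1 : Nat.card D = Nat.card N * Nat.card C := by
    rw [Subgroup.card_eq_card_quotient_mul_card_subgroup (C.subgroupOf D),
      Nat.card_congr (Equiv.ofBijective f hf), Nat.card_congr (subgroupOfEquivOfLe hCD).toEquiv]
  have h2 : Nat.card D = Nat.card N * Nat.card (centralizer ({(g : G ⧸ N)} : Set (G ⧸ N))) := by
    have hND : N ≤ D := fun x hx => by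
      show (x : G ⧸ N) ∈ centralizer _
      rw [(QuotientGroup.eq_one_iff x).2 hx]
      exact one_mem _
    rw [← D.relIndex_bot_left, ← relIndex_mul_relIndex ⊥ N D bot_le hND, relIndex_bot_left]
    congr 1
    conv_lhs => rw [← QuotientGroup.ker_mk' N, ← MonoidHom.comap_bot, hD, relIndex_comap,
      map_comap_eq_self_of_surjective (QuotientGroup.mk'_surjective N), relIndex_bot_left]
  exact Nat.eq_of_mul_eq_mul_left Nat.card_pos (h1.symm.trans h2)

/-- If `p ∤ |N| ≠ 1`, then `G ⧸ N` has no two independent commuting elements of order `p`. -/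
theorem no_rank_two_coprime {N : Subgroup G} [N.Normal] (hcam : IsCamina N) (hN : N ≠ ⊥)
    (hpN : ¬ p ∣ Nat.card N) (u v : G ⧸ N) (hu : orderOf u = p) (hv : orderOf v = p)
    (huv : Commute u v) : u ∈ zpowers v := by
  by_contra hnot
  let ψ := MonoidHom.noncommCoprod (zpowersHom (G ⧸ N) v) (zpowersHom (G ⧸ N) u)
    (fun i j => huv.symm.zpow_zpow i.toAdd j.toAdd)
  set Mb := ψ.range with hMb
  have hMpow : ∀ b ∈ Mb, b ^ p = 1 := by
    rintro _ ⟨⟨i, j⟩, rfl⟩
    show (v ^ i.toAdd * u ^ j.toAdd) ^ p = 1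
    have e : ∀ (x : G ⧸ N) (k : ℤ), orderOf x = p → (x ^ k) ^ p = 1 := fun x k hx => by
      rw [← zpow_natCast, ← zpow_mul, mul_comm, zpow_mul, zpow_natCast, ← hx, pow_orderOf_eq_one, one_zpow]
    rw [(huv.symm.zpow_zpow _ _).mul_pow, e v _ hv, e u _ hu, one_mul]
  have hMcomm : ∀ a ∈ Mb, ∀ b ∈ Mb, Commute a b := by
    rintro _ ⟨x, rfl⟩ _ ⟨y, rfl⟩
    exact (Commute.all x y).map ψ
  have hvM : v ∈ Mb := ⟨(Multiplicative.ofAdd 1, 1), by
    show v ^ (1 : ℤ) * u ^ (0 : ℤ) = v
    simp⟩
  have huM : u ∈ Mb := ⟨(1, Multiplicative.ofAdd 1), by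
    show v ^ (0 : ℤ) * u ^ (1 : ℤ) = u
    simp⟩
  have hMp : IsPGroup p Mb := fun b => ⟨1, Subtype.ext (by simpa using hMpow b b.2)⟩
  -- lift to a Sylow subgroup of the preimage
  set M := Mb.comap (QuotientGroup.mk' N)
  obtain ⟨S⟩ : Nonempty (Sylow p M) := inferInstance
  set A := (S : Subgroup M).map M.subtype with hA
  have hAp : IsPGroup p A := S.2.map _
  have hAN : A ⊓ N = ⊥ := by
    refine inf_eq_bot_of_coprime ?_
    obtain ⟨k, hk⟩ := IsPGroup.iff_card.1 hAp
    rw [hk]
    exact Nat.Coprime.pow_left _ ((hp.out.coprime_iff_not_dvd).2 hpN)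
  let π : A →* G ⧸ N := (QuotientGroup.mk' N).comp A.subtype
  have hπ : Function.Injective π := by
    rw [← MonoidHom.ker_eq_bot_iff, eq_bot_iff]
    intro a ha
    have : (a : G) ∈ A ⊓ N := ⟨a.2, (QuotientGroup.eq_one_iff _).1 ha⟩
    rw [hAN, mem_bot] at this
    exact mem_bot.2 (Subtype.ext this)
  have hπM : ∀ a : A, π a ∈ Mb := by
    rintro ⟨_, a, ha, rfl⟩
    exact a.2
  let πM : A →* Mb := π.codRestrict Mb hπM
  have hsurj : Function.Surjective πM := by
    have hinj : Function.Injective πM := fun a b h => hπ (congrArg Subtype.val h)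
    refine ((Nat.bijective_iff_injective_and_card πM).2 ⟨hinj, ?_⟩).2
    obtain ⟨k, hk⟩ := IsPGroup.iff_card.1 hMp
    have hMcard : Nat.card M = Nat.card N * p ^ k := by
      have hNM : N ≤ M := fun x hx => by
        show (x : G ⧸ N) ∈ Mb
        rw [(QuotientGroup.eq_one_iff x).2 hx]
        exact one_mem _
      rw [← M.relIndex_bot_left, ← relIndex_mul_relIndex ⊥ N M bot_le hNM, relIndex_bot_left]
      congr 1
      conv_lhs => rw [← QuotientGroup.ker_mk' N, ← MonoidHom.comap_bot, relIndex_comap,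
        map_comap_eq_self_of_surjective (QuotientGroup.mk'_surjective N), relIndex_bot_left, hk]
    rw [hA, ← Nat.card_congr (equivMapOfInjective _ _ M.subtype_injective).toEquiv, hk,
      S.card_eq_multiplicity, hMcard,
      Nat.factorization_mul Nat.card_pos.ne' (pow_ne_zero _ hp.out.ne_zero)]
    simp [hp.out.factorization, Nat.factorization_eq_zero_of_not_dvd hpN]
  haveI : IsMulCommutative A :=
    ⟨⟨fun a b => hπ (by rw [map_mul, map_mul]; exact (hMcomm _ (hπM a) _ (hπM b)).eq)⟩⟩
  have hnc : ¬ IsCyclic A := by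
    intro hc
    haveI := isCyclic_of_surjective πM hsurj
    obtain ⟨⟨w, hw⟩, hgen⟩ := IsCyclic.exists_generator (α := Mb)
    have hcard : Nat.card Mb ≤ p := by
      rw [← orderOf_eq_card_of_forall_mem_zpowers hgen]
      exact Nat.le_of_dvd hp.out.pos (orderOf_dvd_of_pow_eq_one (Subtype.ext (by simpa using hMpow w hw)))
    have heq : zpowers v = Mb :=
      eq_of_le_of_card_ge (zpowers_le.2 hvM) (by rw [Nat.card_zpowers, hv]; exact hcard)
    exact hnot (heq ▸ huM)
  have hAG : A ≤ normalizer (N : Set G) := by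
    rw [normalizer_eq_top_iff.2 inferInstance]
    exact le_top
  have hcop : (Nat.card A).Coprime (Nat.card N) := by
    obtain ⟨k, hk⟩ := IsPGroup.iff_card.1 hAp
    rw [hk]
    exact Nat.Coprime.pow_left _ ((hp.out.coprime_iff_not_dvd).2 hpN)
  refine hN (le_bot_iff.1 ((Cfsg.Lib.Coprime.le_iSup_centralizer_of_not_isCyclic hnc hAG hcop).trans
    (iSup_le ?_)))
  rintro ⟨a, ha, ha1⟩ n ⟨hn, hna⟩
  obtain ⟨k, hk⟩ := hAp ⟨a, ha⟩
  have haN : a ∉ N := fun h => ha1 (by
    have : a ∈ A ⊓ N := ⟨ha, h⟩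
    rwa [hAN, mem_bot] at this)
  have h1 := pow_eq_one_of_commute hcam haN (a := k) (by simpa using congrArg Subtype.val hk) hn
    (mem_centralizer_singleton_iff.1 hna).symm
  have hd : orderOf (⟨n, hn⟩ : N) ∣ Nat.gcd (p ^ k) (Nat.card N) :=
    Nat.dvd_gcd (orderOf_dvd_of_pow_eq_one (Subtype.ext (by simpa using h1))) (orderOf_dvd_natCard _)
  rw [Nat.Coprime.gcd_eq_one (Nat.Coprime.pow_left _ ((hp.out.coprime_iff_not_dvd).2 hpN)),
    Nat.dvd_one, orderOf_eq_one_iff] at hd
  exact mem_bot.2 (congrArg Subtype.val hd)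

/-- Maximal cyclic `p`-subgroups are full in their centralisers when there is no rank two. -/
theorem exists_max_element {Q : Type u} [Group Q] [Finite Q] (hdvd : p ∣ Nat.card Q)
    (h2 : ∀ u v : Q, orderOf u = p → orderOf v = p → Commute u v → u ∈ zpowers v) :
    ∃ (g : Q) (a : ℕ), 0 < a ∧ orderOf g = p ^ a ∧
      ∀ S : Subgroup Q, IsPGroup p S → S ≤ centralizer ({g} : Set Q) → Nat.card S ≤ p ^ a := by
  classical
  haveI := Fintype.ofFinite Q
  obtain ⟨g₀, hg₀⟩ := exists_prime_orderOf_dvd_card' (G := Q) p hdvd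
  obtain ⟨g, hg, hmax⟩ := Finset.exists_max_image (Finset.univ.filter fun x : Q => ∃ k, orderOf x = p ^ k)
    orderOf ⟨g₀, by simpa using ⟨1, by rw [pow_one]; exact hg₀⟩⟩
  obtain ⟨a, ha⟩ := (Finset.mem_filter.1 hg).2
  have hle : ∀ x : Q, (∃ k, orderOf x = p ^ k) → orderOf x ≤ p ^ a := fun x hx =>
    ha ▸ hmax x (Finset.mem_filter.2 ⟨Finset.mem_univ _, hx⟩)
  have ha0 : 0 < a := by
    by_contra h
    have := hle g₀ ⟨1, by rw [pow_one]; exact hg₀⟩
    rw [hg₀, show a = 0 by omega, pow_zero] at this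
    have := hp.out.one_lt
    omega
  refine ⟨g, a, ha0, ha, fun S hS hSC => ?_⟩
  suffices hsub : S ≤ zpowers g by
    rw [← ha, ← Nat.card_zpowers]
    exact Nat.le_of_dvd Nat.card_pos (card_dvd_of_le hsub)
  have key : ∀ (k : ℕ) (s : Q), Commute s g → s ^ p ^ k = 1 → s ∈ zpowers g := by
    intro k
    induction k with
    | zero =>
      intro s _ h
      rw [pow_zero, pow_one] at h
      rw [h]
      exact one_mem _
    | succ k ih =>
      intro s hsg h
      have hsp : s ^ p ∈ zpowers g := ih _ (hsg.pow_left p) (by rw [← pow_mul, ← pow_succ']; exact h)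
      obtain ⟨i, hi⟩ := mem_powers_iff_mem_zpowers.2 hsp
      change g ^ i = s ^ p at hi
      have hpi : p ∣ i := by
        by_contra hpi
        obtain ⟨m, hm⟩ := exists_pow_eq_self_of_coprime (x := g) (n := i) (by
          rw [ha]; exact Nat.Coprime.pow_right _ ((hp.out.coprime_iff_not_dvd).2 hpi).symm)
        rw [hi, ← pow_mul] at hm
        obtain ⟨l, -, hl⟩ := (Nat.dvd_prime_pow hp.out).1 (orderOf_dvd_of_pow_eq_one h)
        have hl0 : l ≠ 0 := by
          rintro rfl
          rw [pow_zero, orderOf_eq_one_iff] at hl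
          rw [hl, one_pow] at hm
          rw [← hm, orderOf_one] at ha
          have := Nat.one_lt_pow ha0.ne' hp.out.one_lt
          omega
        have h3 : orderOf g ∣ orderOf (s ^ p) := by
          rw [← hm, pow_mul]
          exact orderOf_pow_dvd m
        rw [orderOf_pow' _ hp.out.ne_zero, Nat.gcd_eq_right (hl ▸ dvd_pow_self p hl0), ha] at h3
        have h4 := hle s ⟨l, hl⟩
        have h5 : orderOf s / p < orderOf s := Nat.div_lt_self (orderOf_pos s) hp.out.one_lt
        have h6 := Nat.le_of_dvd (Nat.div_pos (Nat.le_of_dvd (orderOf_pos s) (hl ▸ dvd_pow_self p hl0))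
          hp.out.pos) h3
        omega
      obtain ⟨t, rfl⟩ := hpi
      set s' := s * (g ^ t)⁻¹ with hs'
      have hc : Commute s (g ^ t)⁻¹ := (hsg.pow_right t).inv_right
      have hs'p : s' ^ p = 1 := by
        rw [hs', hc.mul_pow, inv_pow, ← pow_mul, mul_comm t, hi, mul_inv_cancel]
      have hmem : s' ∈ zpowers g := by
        by_cases h1 : s' = 1
        · rw [h1]; exact one_mem _
        have hv : orderOf (g ^ p ^ (a - 1)) = p := by
          rw [orderOf_pow' _ (pow_ne_zero _ hp.out.ne_zero), ha,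
            Nat.gcd_eq_right (pow_dvd_pow p (Nat.sub_le a 1)), Nat.pow_div (Nat.sub_le a 1) hp.out.pos,
            show a - (a - 1) = 1 by omega, pow_one]
        have hcg : Commute s' g := hsg.mul_left ((Commute.pow_self g t).inv_left)
        have := h2 s' _ (orderOf_eq_prime hs'p h1) hv (hcg.pow_right _)
        exact zpowers_le.2 (npow_mem_zpowers g _) this
      have : s = s' * g ^ t := by rw [hs', inv_mul_cancel_right]
      rw [this]
      exact mul_mem hmem (npow_mem_zpowers g t)
  intro s hs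
  obtain ⟨k, hk⟩ := hS ⟨s, hs⟩
  exact key k s (mem_centralizer_singleton_iff.1 (hSC hs)) (by simpa using congrArg Subtype.val hk)

/-- A Camina kernel is not a nontrivial `p`-group times a nontrivial `p'`-group when `p ∣ |G : N|`. -/
theorem nilpotent_case {N P₁ Q₀ : Subgroup G} [N.Normal] [P₁.Normal] [Q₀.Normal] (hcam : IsCamina N)
    (hPN : P₁ ≤ N) (hP : IsPGroup p P₁) (hP1 : P₁ ≠ ⊥) (hQ1 : Q₀ ≠ ⊥) (hQp : ¬ p ∣ Nat.card Q₀)
    (hN : N = P₁ ⊔ Q₀) (hdvd : p ∣ N.index) : False := by
  set π := QuotientGroup.mk' P₁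
  haveI : (N.map π).Normal := Normal.map inferInstance π (QuotientGroup.mk'_surjective P₁)
  have hNQ : N.map π = Q₀.map π := by
    rw [hN, Subgroup.map_sup, (Subgroup.map_eq_bot_iff P₁).2 (QuotientGroup.ker_mk' P₁).ge, bot_sup_eq]
  have hne : N.map π ≠ ⊥ := by
    rw [hNQ, Ne, Subgroup.map_eq_bot_iff, QuotientGroup.ker_mk']
    intro hle
    refine hQ1 ((eq_bot_iff_card _).2 ?_)
    obtain ⟨k, hk⟩ := IsPGroup.iff_card.1 hP
    have h1 := card_dvd_of_le hle
    rw [hk] at h1
    have h2 := Nat.dvd_gcd (dvd_refl _) h1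
    rwa [Nat.Coprime.gcd_eq_one (Nat.Coprime.pow_right _ ((hp.out.coprime_iff_not_dvd).2 hQp).symm),
      Nat.dvd_one] at h2
  have hpN : ¬ p ∣ Nat.card (N.map π) := by
    rw [hNQ]
    exact fun h => hQp (h.trans (Subgroup.card_map_dvd Q₀ π))
  let e := QuotientGroup.quotientQuotientEquivQuotient P₁ N hPN
  have h2 : ∀ u v : G ⧸ N, orderOf u = p → orderOf v = p → Commute u v → u ∈ zpowers v := by
    intro u v hu hv huv
    have h := no_rank_two_coprime (hcam.map π (QuotientGroup.mk'_surjective P₁)) hne hpN (e.symm u) (e.symm v)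
      (by rw [MulEquiv.orderOf_eq]; exact hu) (by rw [MulEquiv.orderOf_eq]; exact hv) (huv.map e.symm)
    obtain ⟨i, hi⟩ := mem_zpowers_iff.1 h
    exact mem_zpowers_iff.2 ⟨i, e.symm.injective (by rw [map_zpow, hi])⟩
  obtain ⟨gb, a, ha0, hga, hbound⟩ := exists_max_element (Q := G ⧸ N)
    (by rwa [← index_eq_card]) h2
  -- a lift which is a `p`-element
  obtain ⟨g, k, hgk, hgmk⟩ : ∃ (g : G) (k : ℕ), g ^ p ^ k = 1 ∧ (g : G ⧸ N) = gb := by
    obtain ⟨g₀, rfl⟩ := QuotientGroup.mk_surjective gb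
    have hn0 : orderOf g₀ ≠ 0 := (orderOf_pos g₀).ne'
    obtain ⟨e', m, hm, hnm⟩ := Nat.exists_eq_pow_mul_and_not_dvd hn0 p hp.out.ne_one
    have hcop : m.Coprime (orderOf (g₀ : G ⧸ N)) := by
      rw [hga]; exact Nat.Coprime.pow_right _ ((hp.out.coprime_iff_not_dvd).2 hm).symm
    obtain ⟨c, hc⟩ := exists_pow_eq_self_of_coprime hcop
    refine ⟨(g₀ ^ m) ^ c, e', ?_, by rw [QuotientGroup.mk_pow, QuotientGroup.mk_pow, hc]⟩
    rw [← pow_mul, ← pow_mul, show m * (c * p ^ e') = (p ^ e' * m) * c by ring, ← hnm, pow_mul,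
      pow_orderOf_eq_one, one_pow]
  subst hgmk
  have hgN : g ∉ N := fun h => by
    rw [(QuotientGroup.eq_one_iff g).2 h, orderOf_one] at hga
    have := Nat.one_lt_pow ha0.ne' hp.out.one_lt
    omega
  have hgp : IsPGroup p (zpowers g) := fun ⟨x, hx⟩ => by
    obtain ⟨i, rfl⟩ := mem_zpowers_iff.1 hx
    exact ⟨k, Subtype.ext (by
      simp only [SubmonoidClass.coe_pow, OneMemClass.coe_one]
      rw [← zpow_natCast, ← zpow_mul, mul_comm, zpow_mul, zpow_natCast, hgk, one_zpow])⟩
  -- a fixed point of `g` in `P₁`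
  set H := zpowers g ⊔ P₁ with hH
  have hHp : IsPGroup p H := hgp.to_sup_of_normal_right hP
  have hne' : P₁.subgroupOf H ≠ ⊥ := by
    rw [Ne, subgroupOf_eq_bot, disjoint_iff, inf_eq_left.2 (le_sup_right : P₁ ≤ H)]
    exact hP1
  obtain ⟨z, hzP, hzc, hzo⟩ := Cfsg.Lib.PGroup.exists_mem_center_orderOf_eq hHp hne'
  have hz1 : (z : G) ≠ 1 := fun h => by
    rw [show z = 1 from Subtype.ext h, orderOf_one] at hzo
    exact hp.out.one_lt.ne hzo
  have hzg : Commute g (z : G) :=
    congrArg Subtype.val (mem_center_iff.1 hzc ⟨g, mem_sup_left (mem_zpowers g)⟩)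
  set T := zpowers g ⊔ zpowers (z : G) with hT
  have hTC : T ≤ centralizer ({g} : Set G) :=
    sup_le (zpowers_le.2 (mem_centralizer_singleton_iff.2 rfl))
      (zpowers_le.2 (mem_centralizer_singleton_iff.2 hzg.symm.eq))
  have hTp : IsPGroup p T := hHp.to_le (sup_le le_sup_left (zpowers_le.2 (show (z : G) ∈ H from z.2)))
  obtain ⟨c, hc⟩ := IsPGroup.iff_card.1 hTp
  have hdvdC : p ^ c ∣ Nat.card (centralizer ({(g : G ⧸ N)} : Set (G ⧸ N))) := by
    rw [← card_centralizer hcam hgN, ← hc]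
    exact card_dvd_of_le hTC
  obtain ⟨S₀, hS₀⟩ := Sylow.exists_subgroup_card_pow_prime p hdvdC
  have hcard : Nat.card T ≤ p ^ a := by
    have hS : Nat.card (S₀.map (centralizer ({(g : G ⧸ N)} : Set (G ⧸ N))).subtype) = p ^ c :=
      (Nat.card_congr (equivMapOfInjective _ _ Subtype.val_injective).toEquiv).symm.trans hS₀
    have := hbound _ (IsPGroup.of_card hS) (map_subtype_le _)
    rw [hS] at this
    rw [hc]
    exact this
  have hgo : p ^ a ∣ orderOf g := hga ▸ orderOf_map_dvd (QuotientGroup.mk' N) g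
  have heq : zpowers g = T := eq_of_le_of_card_ge le_sup_left (by
    rw [Nat.card_zpowers]
    exact hcard.trans (Nat.le_of_dvd (orderOf_pos g) hgo))
  have hord : orderOf g ∣ p ^ a := by
    have h1 : orderOf g ≤ p ^ a := by rw [← Nat.card_zpowers, heq]; exact hcard
    exact (Nat.le_antisymm h1 (Nat.le_of_dvd (orderOf_pos g) hgo)).dvd
  have hzT : (z : G) ∈ zpowers g := by rw [heq]; exact mem_sup_right (mem_zpowers _)
  obtain ⟨i, hi⟩ := mem_zpowers_iff.1 hzT
  apply hz1
  have h1 : (g : G ⧸ N) ^ i = 1 := by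
    rw [← QuotientGroup.mk_zpow, hi]
    exact (QuotientGroup.eq_one_iff _).2 (hPN hzP)
  rw [← orderOf_dvd_iff_zpow_eq_one, hga] at h1
  rw [← hi]
  exact orderOf_dvd_iff_zpow_eq_one.1 ((Int.natCast_dvd_natCast.2 hord).trans h1)

/-- The subgroup generated by the elements of `N` of order prime to `p`. -/
def residual (p : ℕ) (N : Subgroup G) : Subgroup G :=
  closure {n : G | n ∈ N ∧ ¬ p ∣ orderOf n}

theorem residual_le (N : Subgroup G) : residual p N ≤ N := (closure_le _).2 fun _ h => h.1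

theorem residual_normal (N : Subgroup G) [hN : N.Normal] : (residual p N).Normal := by
  refine ⟨fun x hx g => ?_⟩
  have h : (residual p N).map (MulAut.conj g).toMonoidHom ≤ residual p N := by
    rw [residual, MonoidHom.map_closure, closure_le]
    rintro _ ⟨n, ⟨hn, hno⟩, rfl⟩
    refine subset_closure ⟨hN.conj_mem n hn g, ?_⟩
    have e : orderOf ((MulAut.conj g).toMonoidHom n) = orderOf n := (MulAut.conj g).orderOf_eq n
    rw [e]
    exact hno
  exact h ⟨x, hx, rfl⟩

theorem pow_mem_residual {N : Subgroup G} {n : G} (hn : n ∈ N) :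
    ∃ k, n ^ p ^ k ∈ residual p N := by
  obtain ⟨e, m, hm, hnm⟩ := Nat.exists_eq_pow_mul_and_not_dvd (orderOf_pos n).ne' p hp.out.ne_one
  refine ⟨e, subset_closure ⟨pow_mem hn _, fun h => hm (h.trans (orderOf_dvd_of_pow_eq_one ?_))⟩⟩
  rw [← pow_mul, ← hnm, pow_orderOf_eq_one]

/-- A nonprincipal character of degree prime to `p` with determinant order prime to `p` is not fixed by
a Sylow `p`-subgroup, `p ∣ |G : N|`. -/
theorem not_fixed [Fintype G] {N : Subgroup G} [N.Normal] [Fintype N] (hcam : IsCamina N)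
    (hdvd : p ∣ N.index) (S : Sylow p G) (σθ : N → ℂ) (hθ : IsIrrCharacter N σθ) (hθ1 : σθ ≠ fun _ => 1)
    (hdeg : ∀ d : ℕ, σθ 1 = d → ¬ p ∣ d)
    (hlin : ∀ f : N →* ℂˣ, (∃ k, f ^ p ^ k = 1) → f = 1)
    (hfix : ∀ s ∈ (S : Subgroup G), conjTwist N σθ s = σθ) : False := by
  classical
  obtain ⟨d, σ, hσ, rfl⟩ := hθ
  have hθ : IsIrrCharacter N σ.character := ⟨d, σ, hσ, rfl⟩
  have hd : ¬ p ∣ d := hdeg d (by simp)
  set H := N ⊔ (S : Subgroup G) with hH
  have hHI : H ≤ inertia N σ.character :=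
    sup_le (le_inertia N hθ.isClassFunction) fun s hs => hfix s hs
  obtain ⟨c, hc⟩ : ∃ c, N.relIndex H = p ^ c := by
    rw [hH, sup_comm, relIndex_sup_right]
    obtain ⟨c, hc⟩ := S.2.index (N.subgroupOf (S : Subgroup G))
    exact ⟨c, hc⟩
  have hHidx : ¬ p ∣ H.index := fun h =>
    S.not_dvd_index (h.trans (index_dvd_of_le le_sup_right))
  have hidx : N.index = p ^ c * H.index := by rw [← relIndex_mul_index (le_sup_left : N ≤ H), hc]
  have hc0 : c ≠ 0 := by
    rintro rfl
    rw [hidx, pow_zero, one_mul] at hdvd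
    exact hHidx hdvd
  set N' := N.subgroupOf H with hN'
  let ε : N' ≃* N := subgroupOfEquivOfLe le_sup_left
  let σ' : Representation ℂ N' (Fin d → ℂ) := σ.comp ε.toMonoidHom
  haveI : σ'.IsIrreducible := by
    rw [isIrreducible_iff_submodule] at hσ ⊢
    refine ⟨hσ.1, fun q hq => hσ.2 q fun n x hx => ?_⟩
    have := hq (ε.symm n) x hx
    simpa [σ'] using this
  have hinv : ∀ (h : H) (n : N'), σ'.character (MulAut.conjNormal h n) = σ'.character n := fun h n =>
    (mem_inertia_iff N).1 (hHI h.2) (ε n)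
  have hcopd : Nat.Coprime N'.index (Module.finrank ℂ (Fin d → ℂ)) := by
    rw [Module.finrank_fin_fun]
    show Nat.Coprime (N.relIndex H) d
    rw [hc]
    exact Nat.Coprime.pow_left _ ((hp.out.coprime_iff_not_dvd).2 hd)
  have hord : ¬ p ∣ orderOf (detHom σ') := by
    intro hp'
    obtain ⟨e, m, hm, hem⟩ := Nat.exists_eq_pow_mul_and_not_dvd (orderOf_pos (detHom σ')).ne' p hp.out.ne_one
    have h1 : (detHom σ' ^ m).comp ε.symm.toMonoidHom = 1 := hlin _ ⟨e, MonoidHom.ext fun n => by
      simp only [MonoidHom.pow_apply, MonoidHom.comp_apply, MonoidHom.one_apply]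
      rw [← pow_mul, mul_comm m, ← hem, ← MonoidHom.pow_apply, pow_orderOf_eq_one]
      rfl⟩
    have h2 : detHom σ' ^ m = 1 := MonoidHom.ext fun n => by
      have := DFunLike.congr_fun h1 (ε n)
      simpa using this
    exact hm (hp'.trans (orderOf_dvd_of_pow_eq_one h2))
  have hdinv : ∀ (h : H) (n : N'), detHom σ' (MulAut.conjNormal h n) = detHom σ' n := by
    intro h n
    let τ : Representation ℂ N' (Fin d → ℂ) := σ'.comp (MulAut.conjNormal h : MulAut N').toMonoidHom
    obtain ⟨φ⟩ := nonempty_equiv_of_character_eq σ' τ (funext fun n => (hinv h n).symm)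
    exact Units.ext (det_eq_of_equiv φ n)
  obtain ⟨μ, hμ, -⟩ := exists_linear_extension_coprime (detHom σ') hdinv (by
    show Nat.Coprime (N.relIndex H) _
    rw [hc]
    exact Nat.Coprime.pow_left _ ((hp.out.coprime_iff_not_dvd).2 hord))
  obtain ⟨ρ, hρ⟩ := exists_extension_of_det σ' hinv hcopd μ hμ
  have hψ : IsCharacter H ρ.character := isCharacter_character ρ
  -- an irreducible character of `G` over `θ`
  obtain ⟨χ, hχc⟩ := exists_constituent (isCharacter_indFun N hθ.isCharacter)
    (show indFun N σ.character 1 ≠ 0 by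
      have h1 : indFun N σ.character 1 = _ := indFun_normal_apply N σ.character 1
      rw [h1, Finset.sum_congr rfl (g := fun _ => σ.character 1) fun x _ => congrArg σ.character (Subtype.ext (by simp)),
        Finset.sum_const, nsmul_eq_mul]
      exact mul_ne_zero (inv_ne_zero (Nat.cast_ne_zero.2 Nat.card_pos.ne'))
        (mul_ne_zero (Nat.cast_ne_zero.2 Fintype.card_ne_zero) hθ.apply_one_ne_zero))
  obtain ⟨χ, hχ⟩ := χ
  have hres : classInner (fun n : N => χ n) σ.character ≠ 0 := by
    intro h0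
    apply hχc
    rw [classInner_indFun N _ hχ.isClassFunction, ← classInner_conj_symm, h0, map_zero]
  have hvan : ∀ g : G, g ∉ N → χ g = 0 := by
    intro g hg
    have h0 : classInner (fun n : N => χ n) (fun _ => 1) = 0 := by
      by_contra h
      obtain ⟨x, hx⟩ := (mem_twistOrbit N).1
        (mem_twistOrbit_of_constituent N hχ hθ isIrrCharacter_one hres h)
      refine hθ1 ?_
      have h2 := congrArg (fun f => conjTwist N f x⁻¹) hx
      simp only [conjTwist_conjTwist, mul_inv_cancel, conjTwist_one] at h2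
      rw [h2]
      rfl
    have hsum := sum_coset_char N hχ g
    rw [h0, mul_zero, zero_mul, zero_div] at hsum
    have hterm : ∀ n : N, χ ((n : G) * g) = χ g := by
      intro n
      obtain ⟨x, hx⟩ := hcam g hg (g⁻¹ * n * g) (Normal.conj_mem' inferInstance _ n.2 g)
      rw [show (n : G) * g = x * g * x⁻¹ by rw [hx]; group]
      exact hχ.isClassFunction g x
    rw [Finset.sum_congr rfl fun n _ => hterm n, Finset.sum_const, Finset.card_univ, nsmul_eq_mul,
      mul_eq_zero] at hsum
    exact hsum.resolve_left (Nat.cast_ne_zero.2 Fintype.card_ne_zero)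
  obtain ⟨e, he⟩ := (hχ.isCharacter.comp N.subtype).exists_nat_classInner hθ.isCharacter
  change classInner (fun n : N => χ n) σ.character = e at he
  -- the index of `N` in `H` divides the multiplicity
  obtain ⟨k, hk⟩ := (hχ.isCharacter.comp H.subtype).exists_nat_classInner hψ
  have hek : e = p ^ c * k := by
    have hkey : classInner (fun h : H => χ h) ρ.character * (Nat.card H : ℂ) = (Nat.card N : ℂ) * e := by
      rw [← he, classInner, classInner, ← mul_assoc, mul_inv_cancel₀ (Nat.cast_ne_zero.2 Nat.card_pos.ne'),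
        one_mul, mul_comm _ (Nat.card H : ℂ), ← mul_assoc,
        mul_inv_cancel₀ (Nat.cast_ne_zero.2 Nat.card_pos.ne'), one_mul]
      refine (Finset.sum_of_injOn (fun n : N => (⟨n, (le_sup_left : N ≤ H) n.2⟩ : H)) ?_ ?_ ?_ ?_).symm
      · intro a _ b _ hab
        exact Subtype.ext (congrArg (fun x : H => (x : G)) hab)
      · intro a _; simp
      · intro h _ hh
        rw [hvan h fun hN2 => hh ⟨⟨h, hN2⟩, by simp, rfl⟩, zero_mul]
      · intro n _
        have := congrArg (fun f => LinearMap.trace ℂ (Fin d → ℂ) f) (hρ (ε.symm n))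
        simp only [σ', MonoidHom.comp_apply, MulEquiv.coe_toMonoidHom, MulEquiv.apply_symm_apply] at this
        show χ n * conj (σ.character n) = χ n * conj (ρ.character _)
        congr 2
        exact this.symm
    change classInner (fun h : H => χ h) ρ.character = k at hk
    rw [hk] at hkey
    have hHN : Nat.card H = Nat.card N * p ^ c := by
      rw [← H.relIndex_bot_left, ← relIndex_mul_relIndex ⊥ N H bot_le le_sup_left, relIndex_bot_left, hc]
    rw [hHN] at hkey
    have h' : ((Nat.card N * (p ^ c * k) : ℕ) : ℂ) = ((Nat.card N * e : ℕ) : ℂ) := by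
      push_cast at hkey ⊢
      rw [← hkey]
      ring
    exact (Nat.eq_of_mul_eq_mul_left Nat.card_pos (Nat.cast_injective h')).symm
  -- Clifford
  have hnorm : (N.index : ℂ) = (e : ℂ) * e * (twistOrbit N σ.character).card := by
    have h1 := classInner_irr_self hχ
    rw [classInner] at h1
    have h2 : ∑ g : G, χ g * conj (χ g) = ∑ n : N, χ n * conj (χ n) := by
      refine (Finset.sum_of_injOn (fun n : N => (n : G)) (fun a _ b _ h => Subtype.ext h)
        (fun a _ => by simp) ?_ fun n _ => rfl).symm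
      intro g _ hg
      rw [hvan g fun hN2 => hg ⟨⟨g, hN2⟩, by simp, rfl⟩, zero_mul]
    have h3 : classInner (fun n : N => χ n) (fun n : N => χ n) =
        (e : ℂ) * e * (twistOrbit N σ.character).card := by
      rw [clifford_res N hχ hθ hres, he, classInner_smul_left, classInner_smul_right, classInner_sum_left]
      rw [Finset.sum_congr rfl (g := fun _ => (1 : ℂ)), Finset.sum_const, nsmul_eq_mul, mul_one,
        Complex.conj_natCast, mul_assoc]
      intro φ hφ
      rw [classInner_sum_right, Finset.sum_eq_single φ]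
      · exact classInner_irr_self (isIrrCharacter_of_mem_twistOrbit N hθ hφ)
      · exact fun φ' hφ' hne => classInner_irr_ne (isIrrCharacter_of_mem_twistOrbit N hθ hφ)
          (isIrrCharacter_of_mem_twistOrbit N hθ hφ') (Ne.symm hne)
      · exact fun h => absurd hφ h
    rw [← h3, classInner, ← h2]
    have hG : Nat.card G = N.index * Nat.card N := by rw [mul_comm]; exact N.card_mul_index.symm
    have hN0 : (Nat.card N : ℂ) ≠ 0 := Nat.cast_ne_zero.2 Nat.card_pos.ne'
    have hi0 : (N.index : ℂ) ≠ 0 := Nat.cast_ne_zero.2 Subgroup.index_ne_zero_of_finite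
    rw [hG, Nat.cast_mul] at h1
    rw [inv_mul_eq_iff_eq_mul₀ (mul_ne_zero hi0 hN0), mul_one] at h1
    rw [h1]
    field_simp
  have hnat : N.index = e * e * (twistOrbit N σ.character).card := by exact_mod_cast hnorm
  apply hHidx
  have hcc : p ^ c * (p ^ c * (k * k * (twistOrbit N σ.character).card)) = p ^ c * H.index := by
    rw [← hidx, hnat, hek]
    ring
  rw [← Nat.eq_of_mul_eq_mul_left (pow_pos hp.out.pos c) hcc]
  exact dvd_mul_of_dvd_left (dvd_pow_self p hc0) _

/-- A prime dividing `|G : N|` and `|N|` divides `|N : N'|`. -/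
theorem residual_ne {N : Subgroup G} [N.Normal] (hcam : IsCamina N) (hdvd : p ∣ N.index)
    (hpN : p ∣ Nat.card N) : residual p N ≠ N := by
  intro hres
  classical
  haveI := Fintype.ofFinite G
  haveI := Fintype.ofFinite N
  have hlin : ∀ f : N →* ℂˣ, (∃ k, f ^ p ^ k = 1) → f = 1 := by
    rintro f ⟨k, hk⟩
    have hle : residual p N ≤ f.ker.map N.subtype := by
      refine (closure_le _).2 fun n hn => ⟨⟨n, hn.1⟩, ?_, rfl⟩
      rw [SetLike.mem_coe, MonoidHom.mem_ker, ← orderOf_eq_one_iff]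
      have h1 : orderOf (f ⟨n, hn.1⟩) ∣ p ^ k :=
        orderOf_dvd_of_pow_eq_one (by rw [← MonoidHom.pow_apply, hk, MonoidHom.one_apply])
      have h2 : orderOf (f ⟨n, hn.1⟩) ∣ orderOf n :=
        (orderOf_map_dvd f ⟨n, hn.1⟩).trans (dvd_of_eq (Subgroup.orderOf_mk n hn.1))
      have h3 := Nat.dvd_gcd h1 h2
      rwa [Nat.Coprime.gcd_eq_one (Nat.Coprime.pow_left _ ((hp.out.coprime_iff_not_dvd).2 hn.2)),
        Nat.dvd_one] at h3
    refine MonoidHom.ext fun n => ?_
    obtain ⟨m, hm, hmn⟩ := hle (hres.symm ▸ n.2 : (n : G) ∈ residual p N)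
    rw [show n = m from (Subtype.ext hmn).symm]
    exact hm
  obtain ⟨S⟩ : Nonempty (Sylow p G) := inferInstance
  let deg : IrrCharacter N → ℕ := fun θ => θ.2.exists_degree.choose
  have hdeg : ∀ θ : IrrCharacter N, (θ : N → ℂ) 1 = deg θ := fun θ => θ.2.exists_degree.choose_spec.2
  let Θ := {θ : IrrCharacter N // ¬ p ∣ deg θ}
  let X := Σ θ : Θ, Fin (deg θ.1 ^ 2)
  let tw : G → IrrCharacter N → IrrCharacter N := fun g θ =>
    ⟨conjTwist N θ.1 g⁻¹, isIrrCharacter_conjTwist N θ.2 g⁻¹⟩
  have htwdeg : ∀ g θ, deg (tw g θ) = deg θ := fun g θ => by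
    have h1 := hdeg (tw g θ)
    rw [show ((tw g θ : IrrCharacter N) : N → ℂ) 1 = (θ : N → ℂ) 1 from conjTwist_apply_one N _ _, hdeg] at h1
    exact_mod_cast h1.symm
  letI : MulAction (S : Subgroup G) X :=
    { smul := fun s x => ⟨⟨tw (s : G) x.1.1, by rw [htwdeg]; exact x.1.2⟩,
        Fin.cast (by rw [htwdeg]) x.2⟩
      one_smul := fun x => by
        obtain ⟨θ, i⟩ := x
        refine Sigma.ext (Subtype.ext (Subtype.ext ?_)) ?_
        · show conjTwist N θ.1.1 ((1 : (S : Subgroup G)) : G)⁻¹ = θ.1.1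
          rw [OneMemClass.coe_one, inv_one, conjTwist_one]
        · exact (Fin.heq_ext_iff (by rw [htwdeg])).2 rfl
      mul_smul := fun a b x => by
        obtain ⟨θ, i⟩ := x
        refine Sigma.ext (Subtype.ext (Subtype.ext ?_)) ?_
        · show conjTwist N θ.1.1 ((a * b : (S : Subgroup G)) : G)⁻¹ =
            conjTwist N (conjTwist N θ.1.1 ((b : G))⁻¹) ((a : G))⁻¹
          rw [conjTwist_conjTwist, Subgroup.coe_mul, mul_inv_rev]
        · exact (Fin.heq_ext_iff (congrArg (fun d => d ^ 2) (((htwdeg _ _)).trans ((htwdeg _ _).trans (htwdeg _ _)).symm))).2 rfl }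
  haveI : Finite X := inferInstance
  have hmod := S.2.card_modEq_card_fixedPoints X
  let one : IrrCharacter N := ⟨fun _ => 1, isIrrCharacter_one⟩
  have hone : deg one = 1 := by
    have h1 : (1 : ℂ) = deg one := hdeg one
    exact_mod_cast h1.symm
  have hfixone : ∀ x ∈ MulAction.fixedPoints (S : Subgroup G) X, x.1.1 = one := by
    intro x hx
    by_contra hne
    refine not_fixed hcam hdvd S x.1.1.1 x.1.1.2 (fun h => hne (Subtype.ext h)) ?_ hlin ?_
    · intro d hd
      have h1 : deg x.1.1 = d := by exact_mod_cast (hdeg x.1.1).symm.trans hd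
      exact h1 ▸ x.1.2
    · intro s hs
      have := congrArg (fun y : X => (y.1.1 : N → ℂ)) (hx ⟨s⁻¹, inv_mem hs⟩)
      change conjTwist N x.1.1.1 (s⁻¹)⁻¹ = x.1.1.1 at this
      rwa [inv_inv] at this
  have hone' : ¬ p ∣ deg one := by rw [hone]; exact hp.out.not_dvd_one
  have hcardfix : Nat.card (MulAction.fixedPoints (S : Subgroup G) X) = 1 := by
    rw [Nat.card_eq_one_iff_unique]
    constructor
    · refine ⟨fun ⟨⟨⟨θ, hθ⟩, i⟩, hx⟩ ⟨⟨⟨θ', hθ'⟩, j⟩, hy⟩ => ?_⟩
      obtain rfl : θ = one := hfixone _ hx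
      obtain rfl : θ' = one := hfixone _ hy
      haveI : Subsingleton (Fin (deg one ^ 2)) := by rw [hone, one_pow]; infer_instance
      exact Subtype.ext (Sigma.ext rfl (heq_of_eq (Subsingleton.elim _ _)))
    · refine ⟨⟨⟨⟨one, hone'⟩, ⟨0, by rw [hone]; norm_num⟩⟩, fun s => ?_⟩⟩
      refine Sigma.ext (Subtype.ext (Subtype.ext ?_)) ((Fin.heq_ext_iff ?_).2 rfl)
      · funext n
        rfl
      · show deg (tw (s : G) one) ^ 2 = deg one ^ 2
        rw [htwdeg]
  rw [hcardfix] at hmod
  -- the total is `|N|` modulo `p`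
  have hX : Nat.card X = ∑ θ : Θ, deg θ.1 ^ 2 := by
    rw [Nat.card_sigma]
    simp
  have htot : ∑ θ : IrrCharacter N, deg θ ^ 2 = Nat.card N := by
    have h := sum_sq_degree (G := N)
    simp only [hdeg] at h
    exact_mod_cast h
  have hsplit : p ∣ Nat.card X := by
    rw [hX, ← Nat.dvd_add_left (c := ∑ θ ∈ Finset.univ.filter (fun θ : IrrCharacter N => p ∣ deg θ), deg θ ^ 2)
      (Finset.dvd_sum fun θ hθ => dvd_pow (Finset.mem_filter.1 hθ).2 two_ne_zero),
      ← Finset.sum_subtype (Finset.univ.filter fun θ : IrrCharacter N => ¬ p ∣ deg θ)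
        (fun θ => by simp) (fun θ => deg θ ^ 2),
      add_comm, Finset.sum_filter_add_sum_filter_not, htot]
    exact hpN
  have : p ∣ 1 := (Nat.ModEq.dvd_iff hmod dvd_rfl).1 hsplit
  exact hp.out.not_dvd_one this

/-- Camina's trichotomy. -/
theorem trichotomy {N : Subgroup G} [N.Normal] (hN2 : N ≠ ⊤) (hcam : IsCamina N) :
    (∀ x ∈ N, x ≠ 1 → centralizer ({x} : Set G) ≤ N) ∨ (∃ p, p.Prime ∧ IsPGroup p N) ∨
      IsPrimePow N.index := by
  by_contra hcon
  push Not at hcon
  obtain ⟨hF, hNp, hidx⟩ := hcon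
  obtain ⟨x, hxN, hx1, hxc⟩ := hF
  obtain ⟨c, hc, hcN⟩ := SetLike.not_le_iff_exists.1 hxc
  -- a prime `q` dividing both `|G : N|` and `|N|`
  obtain ⟨q, hq, hqi, hqN⟩ : ∃ q, q.Prime ∧ q ∣ N.index ∧ q ∣ Nat.card N := by
    by_contra hnone
    push Not at hnone
    have hcop : N.index.Coprime (Nat.card N) := Nat.coprime_of_dvd fun k hk h1 h2 => hnone k hk h1 h2
    obtain ⟨q, hq, hqi⟩ := Nat.exists_prime_and_dvd (n := orderOf (c : G ⧸ N))
      (fun h => hcN ((QuotientGroup.eq_one_iff c).1 (orderOf_eq_one_iff.1 h)))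
    haveI : Fact q.Prime := ⟨hq⟩
    obtain ⟨e, m, hm, hem⟩ := Nat.exists_eq_pow_mul_and_not_dvd (orderOf_pos c).ne' q hq.ne_one
    have hgN : c ^ m ∉ N := fun h => hm (hqi.trans (orderOf_dvd_of_pow_eq_one (by
      rw [← QuotientGroup.mk_pow]; exact (QuotientGroup.eq_one_iff _).2 h)))
    have h1 := pow_eq_one_of_commute hcam hgN (a := e) (n := x)
      (by rw [← pow_mul, mul_comm m, ← hem, pow_orderOf_eq_one]) hxN
      ((show Commute c x from mem_centralizer_singleton_iff.1 hc).pow_left m)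
    refine hx1 ?_
    have h2 : orderOf x ∣ Nat.gcd (q ^ e) (Nat.card N) := Nat.dvd_gcd (orderOf_dvd_of_pow_eq_one h1)
      ((dvd_of_eq (Subgroup.orderOf_mk x hxN).symm).trans (orderOf_dvd_natCard _))
    have hqi' : q ∣ N.index := by
      rw [index_eq_card]
      exact hqi.trans (orderOf_dvd_natCard _)
    rw [Nat.Coprime.gcd_eq_one (Nat.Coprime.pow_left _ ((hq.coprime_iff_not_dvd).2 fun h => hnone q hq hqi' h)),
      Nat.dvd_one, orderOf_eq_one_iff] at h2
    exact h2
  haveI : Fact q.Prime := ⟨hq⟩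
  -- some other prime `r` dividing `|N|` has a proper residual
  obtain ⟨r, hr, hrq, hrres⟩ : ∃ r, r.Prime ∧ r ≠ q ∧ residual r N ≠ N := by
    obtain ⟨r, hr, hri, hrq⟩ : ∃ r, r.Prime ∧ r ∣ N.index ∧ r ≠ q := by
      by_contra hall
      push Not at hall
      have hidx1 : N.index ≠ 1 := fun h => hN2 (index_eq_one.1 h)
      exact hidx ((isPrimePow_iff_unique_prime_dvd).2 ⟨q, ⟨hq, hqi⟩, fun r hr => hall r hr.1 hr.2⟩)
    by_cases hrN : r ∣ Nat.card N
    · haveI : Fact r.Prime := ⟨hr⟩
      exact ⟨r, hr, hrq, residual_ne hcam hri hrN⟩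
    · -- then `N` is nilpotent
      haveI : Fact r.Prime := ⟨hr⟩
      obtain ⟨gb, hgb⟩ := exists_prime_orderOf_dvd_card' (G := G ⧸ N) r (by rwa [← index_eq_card])
      obtain ⟨g₀, rfl⟩ := QuotientGroup.mk_surjective gb
      set g := g₀ ^ Nat.card N with hg
      have hgN : g ∉ N := fun h => by
        have h1 := orderOf_dvd_of_pow_eq_one (x := (g₀ : G ⧸ N)) (n := Nat.card N)
          (by rw [← QuotientGroup.mk_pow]; exact (QuotientGroup.eq_one_iff _).2 h)
        rw [hgb] at h1
        exact hrN h1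
      have hgr : g ^ r = 1 := by
        have h1 : g₀ ^ r ∈ N := (QuotientGroup.eq_one_iff _).1 (by
          rw [QuotientGroup.mk_pow, ← hgb, pow_orderOf_eq_one])
        rw [hg, ← pow_mul, mul_comm, pow_mul]
        exact congrArg Subtype.val (pow_card_eq_one' (x := (⟨_, h1⟩ : N)))
      have hnil : Group.IsNilpotent N := by
        refine Cfsg.Lib.Thompson.isNilpotent_of_fpf hr (MulAut.conjNormal g : MulAut N) ?_ ?_
        · intro n hn
          have hn' : g * (n : G) * g⁻¹ = n := congrArg Subtype.val hn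
          have h1 := pow_eq_one_of_commute hcam hgN (a := 1) (by rw [pow_one]; exact hgr) n.2
            (mul_inv_eq_iff_eq_mul.1 hn')
          rw [pow_one] at h1
          have h2 : orderOf n ∣ Nat.gcd r (Nat.card N) :=
            Nat.dvd_gcd (orderOf_dvd_of_pow_eq_one (Subtype.ext (by simpa using h1))) (orderOf_dvd_natCard _)
          rw [Nat.Coprime.gcd_eq_one ((hr.coprime_iff_not_dvd).2 hrN), Nat.dvd_one, orderOf_eq_one_iff] at h2
          exact h2
        · funext n
          have h1 : ((MulAut.conjNormal g : MulAut N) ^ r) n = n := by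
            rw [← map_pow, hgr, map_one, MulAut.one_apply]
          have hit : ∀ (k : ℕ) (n : N), ((MulAut.conjNormal g : MulAut N) : N → N)^[k] n =
              ((MulAut.conjNormal g : MulAut N) ^ k) n := fun k => by
            induction k with
            | zero => intro n; rw [pow_zero, MulAut.one_apply]; rfl
            | succ k ih => intro n; rw [Function.iterate_succ_apply', ih, pow_succ', MulAut.mul_apply]
          rw [id_eq]
          exact (hit r n).trans h1
      -- a second prime of `N`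
      obtain ⟨t, ht, htN, htq⟩ : ∃ t, t.Prime ∧ t ∣ Nat.card N ∧ t ≠ q := by
        by_contra hall
        push Not at hall
        exact hNp q hq (IsPGroup.of_card (Nat.eq_prime_pow_of_unique_prime_dvd Nat.card_pos.ne'
          fun {d} hd hdd => hall d hd hdd))
      haveI : Fact t.Prime := ⟨ht⟩
      refine ⟨t, ht, htq, fun hres => ?_⟩
      obtain ⟨T, K, hKn, hK⟩ : Cfsg.HasNormalPComplement t N :=
        haveI := hnil
        Cfsg.Lib.Thompson.hasNormalPComplement_of_isNilpotent
      have hKT : ∀ n : N, ¬ t ∣ orderOf n → n ∈ K := by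
        intro n hn
        have h1 : orderOf (n : N ⧸ K) ∣ Nat.card (T : Subgroup N) := by
          rw [← hK.symm.index_eq_card, index_eq_card]
          exact orderOf_dvd_natCard _
        obtain ⟨a, ha⟩ := IsPGroup.iff_card.1 T.2
        rw [ha] at h1
        have h2 : orderOf (n : N ⧸ K) ∣ _ := Nat.dvd_gcd h1 (orderOf_map_dvd (QuotientGroup.mk' K) n)
        rw [Nat.Coprime.gcd_eq_one (Nat.Coprime.pow_left _ ((ht.coprime_iff_not_dvd).2 hn)),
          Nat.dvd_one, orderOf_eq_one_iff] at h2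
        exact (QuotientGroup.eq_one_iff n).1 h2
      have hle : residual t N ≤ K.map N.subtype := (closure_le _).2 fun n hn =>
        ⟨⟨n, hn.1⟩, hKT _ (by rw [Subgroup.orderOf_mk]; exact hn.2), rfl⟩
      rw [hres] at hle
      have htop : K = ⊤ := eq_top_iff.2 fun n _ => by
        obtain ⟨m, hm, hmn⟩ := hle n.2
        rwa [← Subtype.ext hmn]
      have := hK.card_mul
      rw [htop, card_top] at this
      have h1 : Nat.card (T : Subgroup N) = 1 :=
        Nat.eq_of_mul_eq_mul_left (Nat.card_pos (α := N)) (by rw [this, mul_one])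
      exact (T.ne_bot_of_dvd_card htN) ((eq_bot_iff_card _).2 h1)
  haveI : Fact r.Prime := ⟨hr⟩
  have hqres := residual_ne hcam hqi hqN
  haveI := residual_normal (p := q) N
  haveI := residual_normal (p := r) N
  set K := residual q N ⊓ residual r N with hK
  set π := QuotientGroup.mk' K
  have hπ := QuotientGroup.mk'_surjective K
  have hker : ∀ H : Subgroup G, K ≤ H → (H.map π).comap π = H := fun H h => by
    rw [comap_map_eq, QuotientGroup.ker_mk', sup_eq_left.2 h]
  haveI : (N.map π).Normal := Normal.map inferInstance π hπ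
  haveI : ((residual r N).map π).Normal := Normal.map inferInstance π hπ
  haveI : ((residual q N).map π).Normal := Normal.map inferInstance π hπ
  have hsup : N = residual r N ⊔ residual q N := by
    refine le_antisymm (fun n hn => ?_) (sup_le (residual_le N) (residual_le N))
    obtain ⟨k, hk⟩ := pow_mem_residual (p := q) hn
    obtain ⟨l, hl⟩ := pow_mem_residual (p := r) hn
    obtain ⟨u, v, huv⟩ := Nat.isCoprime_iff_coprime.2
      (Nat.Coprime.pow k l ((Nat.coprime_primes hq hr).2 hrq.symm))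
    rw [← zpow_one n, ← huv, zpow_add, mul_comm u, mul_comm v, zpow_mul, zpow_mul, zpow_natCast, zpow_natCast]
    exact mul_mem (mem_sup_right (zpow_mem hk u)) (mem_sup_left (zpow_mem hl v))
  have hquot : ∀ (p' : ℕ) [Fact p'.Prime] (A B : Subgroup G) [A.Normal] [B.Normal],
      (∀ n ∈ A, ∃ k, n ^ p' ^ k ∈ B) → A ⊓ B ≤ K → IsPGroup p' (A.map π) := by
    rintro p' _ A B _ _ hAB hKle ⟨_, n, hn, rfl⟩
    obtain ⟨k, hk⟩ := hAB n hn
    refine ⟨k, Subtype.ext ?_⟩
    show π n ^ p' ^ k = 1
    rw [← map_pow]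
    exact (QuotientGroup.eq_one_iff _).2 (hKle ⟨pow_mem hn _, hk⟩)
  have hP : IsPGroup q ((residual r N).map π) :=
    hquot q _ (residual q N) (fun n hn => pow_mem_residual (residual_le N hn)) (by rw [hK, inf_comm])
  have hR : IsPGroup r ((residual q N).map π) :=
    hquot r _ (residual r N) (fun n hn => pow_mem_residual (residual_le N hn)) le_rfl
  refine nilpotent_case (p := q) (N := N.map π) (P₁ := (residual r N).map π) (Q₀ := (residual q N).map π)
    (hcam.map π hπ) (map_mono (residual_le N)) hP ?_ ?_ ?_ (by rw [← Subgroup.map_sup, ← hsup]) ?_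
  · rw [Ne, Subgroup.map_eq_bot_iff, QuotientGroup.ker_mk']
    intro h
    exact hqres (le_antisymm (residual_le N) (hsup.le.trans (sup_le (h.trans inf_le_left) le_rfl)))
  · rw [Ne, Subgroup.map_eq_bot_iff, QuotientGroup.ker_mk']
    intro h
    exact hrres (le_antisymm (residual_le N) (hsup.le.trans (sup_le le_rfl (h.trans inf_le_right))))
  · intro h
    obtain ⟨k, hk⟩ := IsPGroup.iff_card.1 hR
    rw [hk] at h
    exact hrq.symm ((Nat.prime_dvd_prime_iff_eq hq hr).1 (hq.dvd_of_dvd_pow h))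
  · rwa [← hker N (inf_le_left.trans (residual_le N)), index_comap_of_surjective _ hπ] at hqi

end Cfsg.Lib.Char.CaminaPair
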