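import Cfsg.Agent.Lib.Block.CycEstimate
import Cfsg.Agent.Lib.Block.LocalRing
import Cfsg.Agent.Lib.Block.RegInt
import Cfsg.Agent.Lib.Block.CentralDefect
import Cfsg.Agent.Lib.Char.Ito
import Mathlib.GroupTheory.Complement
import Mathlib.GroupTheory.GroupAction.CardCommute
import Mathlib.GroupTheory.NoncommPiCoprod

/-!
# A weight criterion for bounding the class number of `X = V ⋊ G` (Knörr)

`V` is an abelian normal Sylow `p`-subgroup with complement `G`, `v ∈ V` and `H = C_G(v)`. If an
algebraic-integral combination `ψ` of irreducible characters of `H` has `ψ 1 = 1`, lies in the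
ideal at all other elements and satisfies `|ψ h|² |C_V(h)| ≤ |V|`, then `k(X) ≤ |V|`.
-/

set_option autoImplicit false
set_option linter.unusedSectionVars false

namespace Cfsg.Lib.Char

open Cfsg
open scoped ComplexConjugate

/-- The cyclotomic integers of `cycField N` inside `ℂ`. -/
noncomputable def cycInt (N : ℕ) : Subring ℂ :=
  (cycField N).toSubfield.toSubring ⊓ (integralClosure ℤ ℂ).toSubring

theorem mem_cycInt {N : ℕ} {z : ℂ} : z ∈ cycInt N ↔ z ∈ cycField N ∧ IsIntegral ℤ z := Iff.rfl

theorem char_mem_cycInt {H : Type*} [Group H] [Finite H] {N : ℕ} [NeZero N]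
    (hN : Nat.card H ∣ N) {χ : H → ℂ} (hχ : IsCharacter H χ) (h : H) : χ h ∈ cycInt N :=
  mem_cycInt.2 ⟨char_mem_cycField hN hχ h, hχ.isIntegral h⟩

theorem root_mem_cycInt {N : ℕ} [NeZero N] {z : ℂ} (hz : z ^ N = 1) : z ∈ cycInt N :=
  mem_cycInt.2 ⟨mem_cycField hz, IsIntegral.of_pow (Nat.pos_of_ne_zero (NeZero.ne N))
    (by rw [hz]; exact isIntegral_one)⟩

/-- Parseval's identity. -/
theorem classInner_self_eq_sum {H : Type*} [Group H] [Fintype H] {f : H → ℂ}
    (hf : IsClassFunction H f) :
    classInner f f = ∑ l : IrrCharacter H, classInner f (l : H → ℂ) * conj (classInner f (l : H → ℂ)) := by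
  conv_lhs => rw [eq_sum_classInner hf]
  rw [classInner_sum_left]
  refine Finset.sum_congr rfl fun l _ => ?_
  rw [classInner_smul_left, ← classInner_conj_symm (l : H → ℂ), Complex.conj_conj,
    ← eq_sum_classInner hf]

theorem card_conjClasses_le_of_weight {X : Type*} [Group X] [Finite X] {p : ℕ} [Fact p.Prime]
    {M : Ideal AlgInt} (hM : IsPModular p M) {V : Subgroup X} [V.Normal] (hVp : IsPGroup p V)
    (hidx : ¬ p ∣ V.index) (hab : ∀ a ∈ V, ∀ b ∈ V, a * b = b * a) {G H : Subgroup X}
    (hGV : Subgroup.IsComplement' V G) {v : X} (hv : v ∈ V)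
    (hH : H = G ⊓ Subgroup.centralizer ({v} : Set X))
    {N : ℕ} [NeZero N] (hN : Nat.card X ∣ N) (ψ : H → ℂ) (c : IrrCharacter H → ℂ)
    (hc : ∀ l, c l ∈ cycInt N)
    (hψ : ψ = ∑ l, c l • (l : H → ℂ)) (h1 : ψ 1 = 1)
    (hM0 : ∀ h : H, h ≠ 1 → MemLocalIdeal M (ψ h)) (w : H → ℕ)
    (hw : ∀ h, ψ h * conj (ψ h) = w h)
    (hle : ∀ h : H, w h * Nat.card ↥(V ⊓ Subgroup.centralizer ({(h : X)} : Set X)) ≤ Nat.card V) :
    Nat.card (ConjClasses X) ≤ Nat.card V := by
  classical
  haveI := Fintype.ofFinite X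
  haveI : Fintype H := Fintype.ofFinite H
  haveI : NeZero (Nat.card X) := ⟨Nat.card_pos.ne'⟩
  obtain ⟨k, hk⟩ := hVp ⟨v, hv⟩
  have hvk : v ^ p ^ k = 1 := congrArg Subtype.val hk
  have hHG : ∀ h : H, (h : X) ∈ G := fun h => (hH.le h.2).1
  have hHv : ∀ h : H, Commute v (h : X) := fun h =>
    (Subgroup.mem_centralizer_singleton_iff.1 (hH.le h.2).2).symm
  have hHcard : ¬ p ∣ Nat.card H := by
    intro hd
    have : Nat.card G = V.index := hGV.symm.index_eq_card.symm
    exact hidx (this ▸ hd.trans (Subgroup.card_dvd_of_le fun x hx => hHG ⟨x, hx⟩))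
  have hHN : Nat.card H ∣ N := H.card_subgroup_dvd_card.trans hN
  -- decomposition of the restriction to `⟨v⟩ × H`
  let φ : Subgroup.zpowers v × H →* X :=
    MonoidHom.noncommCoprod (Subgroup.zpowers v).subtype H.subtype (by
      rintro ⟨a, j, rfl⟩ h
      exact (hHv h).zpow_left j)
  let f : IrrCharacter X → H → ℂ := fun χ h => (χ : X → ℂ) (v * h)
  have hfclass : ∀ χ, IsClassFunction H (f χ) := by
    intro χ a b
    show (χ : X → ℂ) (v * ((b * a * b⁻¹ : H) : X)) = (χ : X → ℂ) (v * (a : X))
    rw [← χ.2.isClassFunction (v * (a : X)) (b : X)]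
    congr 1
    push_cast
    rw [← mul_assoc (b : X) v, ← (hHv b).eq]
    group
  have hψclass : IsClassFunction H ψ := by
    intro a b
    rw [hψ]
    simp only [Finset.sum_apply, Pi.smul_apply]
    exact Finset.sum_congr rfl fun l _ => by rw [l.2.isClassFunction a b]
  have hgclass : ∀ χ, IsClassFunction H (fun h => f χ h * ψ h) := fun χ a b => by
    simp only [hfclass χ a b, hψclass a b]
  have hint : ∀ (χ : IrrCharacter X) (l : IrrCharacter H),
      classInner (fun h => f χ h * ψ h) (l : H → ℂ) ∈ cycInt N := by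
    intro χ l
    haveI : Fintype (Subgroup.zpowers v × H) := Fintype.ofFinite _
    obtain ⟨s, hs⟩ := (χ.2.isCharacter.comp φ).exists_multiset
    let z : Subgroup.zpowers v × H := (⟨v, Subgroup.mem_zpowers v⟩, 1)
    have hz : z ∈ Subgroup.center (Subgroup.zpowers v × H) := by
      rw [Subgroup.mem_center_iff]
      rintro ⟨⟨a, j, rfl⟩, h⟩
      refine Prod.ext (Subtype.ext ?_) (by simp [z])
      show v ^ j * v = v * v ^ j
      exact ((Commute.refl v).zpow_left j).eq
    have hzN : orderOf z ∣ N := by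
      refine (orderOf_dvd_of_pow_eq_one ?_).trans hN
      refine Prod.ext (Subtype.ext ?_) (by simp [z])
      simp [z]
    choose e he hez using fun κ : IrrCharacter (Subgroup.zpowers v × H) =>
      Cfsg.Lib.Block.exists_central_scalar κ hz
    have heN : ∀ κ, e κ ∈ cycInt N := fun κ => root_mem_cycInt (by
      obtain ⟨d, hd⟩ := hzN
      rw [hd, pow_mul, he, one_pow])
    have hf : ∀ h : H, f χ h =
        (s.map fun κ : IrrCharacter (Subgroup.zpowers v × H) =>
          e κ * (κ : Subgroup.zpowers v × H → ℂ) (1, h)).sum := by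
      intro h
      have h0 : ((χ : X → ℂ) ∘ φ) (z * (1, h)) =
          (s.map fun κ : IrrCharacter (Subgroup.zpowers v × H) =>
            (κ : Subgroup.zpowers v × H → ℂ) (z * (1, h))).sum := by
        have := congrFun hs (z * (1, h))
        simp only [Pi.multiset_sum_apply, Multiset.map_map] at this ⊢
        exact this
      simp only [hez] at h0
      rw [← h0]
      simp [f, φ, z]
    rw [hψ]
    have e1 : (fun h => f χ h * (∑ l', c l' • (l' : H → ℂ)) h) =
        ∑ l', c l' • (fun h => f χ h * (l' : H → ℂ) h) := by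
      funext h
      simp only [Finset.sum_apply, Pi.smul_apply, smul_eq_mul, Finset.mul_sum]
      exact Finset.sum_congr rfl fun _ _ => by ring
    rw [e1, classInner_sum_left]
    refine sum_mem fun l' _ => ?_
    rw [classInner_smul_left]
    refine mul_mem (hc l') ?_
    have e2 : (fun h => f χ h * (l' : H → ℂ) h) = fun h =>
        (s.map fun κ : IrrCharacter (Subgroup.zpowers v × H) =>
          e κ * ((κ : Subgroup.zpowers v × H → ℂ) (1, h) * (l' : H → ℂ) h)).sum := by
      funext h
      rw [hf, ← Multiset.sum_map_mul_right]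
      simp only [mul_assoc]
    rw [e2]
    clear e2 hs hf
    induction s using Multiset.induction with
    | empty => simp [classInner, zero_mem]
    | cons κ t ih =>
      simp only [Multiset.map_cons, Multiset.sum_cons]
      rw [show (fun h : H => e κ * ((κ : Subgroup.zpowers v × H → ℂ) (1, h) * (l' : H → ℂ) h) +
          (t.map fun κ : IrrCharacter (Subgroup.zpowers v × H) =>
            e κ * ((κ : Subgroup.zpowers v × H → ℂ) (1, h) * (l' : H → ℂ) h)).sum) =
          e κ • (fun h : H => (κ : Subgroup.zpowers v × H → ℂ) (1, h) * (l' : H → ℂ) h) +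
          (fun h => (t.map fun κ : IrrCharacter (Subgroup.zpowers v × H) =>
            e κ * ((κ : Subgroup.zpowers v × H → ℂ) (1, h) * (l' : H → ℂ) h)).sum) from rfl,
        classInner_add_left, classInner_smul_left]
      refine add_mem (mul_mem (heN κ) ?_) ih
      obtain ⟨n, hn⟩ := ((κ.2.isCharacter.comp (MonoidHom.inr _ H)).mul l'.2.isCharacter).exists_nat_classInner
        l.2.isCharacter
      have : classInner (fun h : H => (κ : Subgroup.zpowers v × H → ℂ) (1, h) * (l' : H → ℂ) h)
          (l : H → ℂ) = n := hn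
      rw [this]
      exact natCast_mem _ n
  -- none of these numbers vanishes
  have hne : ∀ (χ : IrrCharacter X) (l : IrrCharacter H),
      classInner (fun h => f χ h * ψ h) (l : H → ℂ) ≠ 0 := by
    intro χ l h0
    rw [classInner, mul_eq_zero, or_iff_right (inv_ne_zero card_cast_ne_zero),
      ← Finset.add_sum_erase _ _ (Finset.mem_univ (1 : H))] at h0
    have h2 : MemLocalIdeal M (∑ h ∈ Finset.univ.erase (1 : H), f χ h * ψ h * conj ((l : H → ℂ) h)) := by
      refine Cfsg.Lib.Block.memLocalIdeal_sum hM _ _ fun h hh => ?_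
      refine Cfsg.Lib.Block.memLocalIdeal_mul_right hM ?_ ?_
      · exact Cfsg.Lib.Block.memLocalIdeal_mul_left hM
          (Cfsg.Lib.Block.isIntegral_mem_locRing hM (χ.2.isCharacter.isIntegral _))
          (hM0 h (Finset.mem_erase.1 hh).1)
      · rw [← l.2.isCharacter.apply_inv]
        exact Cfsg.Lib.Block.isIntegral_mem_locRing hM (l.2.isCharacter.isIntegral _)
    rw [eq_neg_of_add_eq_zero_right h0] at h2
    have h3 := Cfsg.Lib.Block.memLocalIdeal_neg hM h2
    rw [neg_neg] at h3
    obtain ⟨n, μ, hμ, hval⟩ := exists_sum_roots χ.2.isCharacter v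
    have e1 : (χ : X → ℂ) v = ∑ i, μ i := by simpa using hval 1
    have hn : (χ : X → ℂ) 1 = (n : ℂ) := by simpa using hval 0
    obtain ⟨d, -, hd⟩ := l.2.exists_degree
    simp only [f, OneMemClass.coe_one, mul_one, h1, hd, Complex.conj_natCast] at h3
    have h4 : MemLocalIdeal M (∑ i, (μ i - 1)) :=
      Cfsg.Lib.Block.memLocalIdeal_sum hM _ _ fun i _ =>
        Cfsg.Lib.Block.memLocalIdeal_sub_one_of_pow_prime_pow hM (k := k)
          (orderOf_dvd_iff_pow_eq_one.1 ((orderOf_dvd_of_pow_eq_one (hμ i)).trans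
            (orderOf_dvd_of_pow_eq_one hvk)))
    rw [Finset.sum_sub_distrib, ← e1] at h4
    simp only [Finset.sum_const, Finset.card_univ, Fintype.card_fin, nsmul_eq_mul, mul_one] at h4
    have h5 := Cfsg.Lib.Block.memLocalIdeal_sub hM h3
      (Cfsg.Lib.Block.memLocalIdeal_mul_right hM h4
        (Cfsg.Lib.Block.natCast_mem_locRing hM d))
    rw [← sub_mul, sub_sub_cancel, ← Nat.cast_mul,
      Cfsg.Lib.Block.memLocalIdeal_natCast_iff hM] at h5
    rcases (Fact.out : p.Prime).dvd_mul.1 h5 with h6 | h6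
    · exact hidx (h6.trans (degree_dvd_index_of_comm V hab χ.2 hn))
    · refine hHcard (h6.trans ?_)
      rw [Nat.card_eq_fintype_card]
      simpa [Nat.card_eq_fintype_card] using degree_dvd_card l.2 hd
  -- the total
  set q := ∑ h : H, w h * Nat.card (Subgroup.centralizer ({v * (h : X)} : Set X)) with hq
  let z : IrrCharacter X × IrrCharacter H × H → cycField N := fun i =>
    ⟨classInner (fun h => f i.1 h * ψ h) (i.2.1 : H → ℂ), (mem_cycInt.1 (hint _ _)).1⟩
  have htot : ∑ i, (z i : ℂ) * conj (z i : ℂ) = (q : ℂ) := by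
    rw [Fintype.sum_prod_type]
    have e1 : ∀ χ : IrrCharacter X, ∑ i : IrrCharacter H × H, (z (χ, i) : ℂ) * conj (z (χ, i) : ℂ) =
        ∑ h : H, (w h : ℂ) * ((χ : X → ℂ) (v * h) * conj ((χ : X → ℂ) (v * h))) := by
      intro χ
      rw [Fintype.sum_prod_type]
      simp only [z, Finset.sum_const, Finset.card_univ, nsmul_eq_mul]
      rw [← Finset.mul_sum, ← classInner_self_eq_sum (hgclass χ), classInner, Nat.card_eq_fintype_card,
        ← mul_assoc, mul_inv_cancel₀ (Nat.cast_ne_zero.2 Fintype.card_ne_zero), one_mul]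
      refine Finset.sum_congr rfl fun h _ => ?_
      simp only [f, map_mul, ← hw h]
      ring
    rw [Finset.sum_congr rfl fun χ _ => e1 χ, Finset.sum_comm, hq, Nat.cast_sum]
    refine Finset.sum_congr rfl fun h _ => ?_
    rw [← Finset.mul_sum, column_orthogonality, if_pos (IsConj.refl _), Nat.cast_mul]
  have hcount := Cfsg.Lib.Block.card_le_of_sum_sq Finset.univ z
    (fun i _ => (mem_cycInt.1 (hint i.1 i.2.1)).2)
    (fun i _ hi => hne i.1 i.2.1 (congrArg Subtype.val hi)) htot
  -- the centraliser of `v * h`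
  have hcentle : ∀ h : H, Nat.card (Subgroup.centralizer ({v * (h : X)} : Set X)) ≤
      Nat.card ↥(V ⊓ Subgroup.centralizer ({(h : X)} : Set X)) *
        Nat.card {b : H // Commute h b} := by
    intro h
    obtain ⟨j, hj⟩ : ∃ j : ℕ, (v * (h : X)) ^ j = h := by
      have hcop : (p ^ k).Coprime (Nat.card H) :=
        ((Fact.out : p.Prime).coprime_iff_not_dvd.2 hHcard).pow_left k
      obtain ⟨j, hj0, hj1⟩ := Nat.chineseRemainder hcop 0 1
      refine ⟨j, ?_⟩
      rw [(hHv h).mul_pow]
      have e1 : v ^ j = 1 := by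
        rw [← Nat.mod_add_div j (p ^ k), pow_add, pow_mul, hvk, one_pow, hj0, Nat.zero_mod,
          pow_zero, one_mul]
      have e2 : (h : H) ^ j = h := by
        conv_rhs => rw [← pow_one h]
        rw [pow_eq_pow_iff_modEq]
        exact Nat.ModEq.of_dvd (orderOf_dvd_natCard h) hj1
      rw [e1, one_mul, ← Subgroup.coe_pow, e2]
    rw [← Nat.card_prod]
    have key : ∀ x : Subgroup.centralizer ({v * (h : X)} : Set X),
        ∃ a ∈ V ⊓ Subgroup.centralizer ({(h : X)} : Set X), ∃ b : H, Commute h b ∧ a * b = (x : X) := by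
      rintro ⟨x, hx⟩
      have hx' : Commute x (v * (h : X)) := Subgroup.mem_centralizer_singleton_iff.1 hx
      have hxh : Commute x (h : X) := hj ▸ hx'.pow_right j
      have hxv : Commute x v := by
        have := hx'.mul_right hxh.inv_right
        rwa [mul_inv_cancel_right] at this
      obtain ⟨⟨⟨u, hu⟩, ⟨g, hg⟩⟩, hxe, -⟩ := hGV.existsUnique x
      have hxe' : u * g = x := hxe
      have hgv : Commute g v := by
        have e : g = u⁻¹ * x := by rw [← hxe']; group
        rw [e]
        exact Commute.mul_left (Commute.inv_left (hab u hu v hv)) hxv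
      have hgH : g ∈ H := by
        rw [hH]; exact ⟨hg, Subgroup.mem_centralizer_singleton_iff.2 hgv.eq⟩
      have h' : ((h : X) * u * (h : X)⁻¹) * ((h : X) * g * (h : X)⁻¹) = u * g := by
        rw [hxe']
        calc ((h : X) * u * (h : X)⁻¹) * ((h : X) * g * (h : X)⁻¹) = (h : X) * (u * g) * (h : X)⁻¹ := by
              group
          _ = x := by rw [hxe', ← hxh.eq, mul_inv_cancel_right]
      have h'' := @hGV.1 (⟨_, Subgroup.Normal.conj_mem ‹V.Normal› u hu h⟩,
        ⟨_, mul_mem (mul_mem (hHG h) hg) (inv_mem (hHG h))⟩) (⟨u, hu⟩, ⟨g, hg⟩) h'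
      simp only [Prod.mk.injEq, Subtype.mk.injEq] at h''
      exact ⟨u, ⟨hu, Subgroup.mem_centralizer_singleton_iff.2
        (mul_inv_eq_iff_eq_mul.1 h''.1).symm⟩, ⟨g, hgH⟩,
        Subtype.ext (mul_inv_eq_iff_eq_mul.1 h''.2), hxe'⟩
    choose a ha b hb hab' using key
    refine Nat.card_le_card_of_injective (fun x => ((⟨a x, ha x⟩ : ↥(V ⊓ _)), ⟨b x, hb x⟩)) ?_
    intro x y hxy
    simp only [Prod.mk.injEq, Subtype.mk.injEq] at hxy
    exact Subtype.ext (by rw [← hab' x, ← hab' y, hxy.1, hxy.2])
  have hqle : q ≤ Nat.card V * (Nat.card (ConjClasses H) * Nat.card H) := by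
    rw [← card_comm_eq_card_conjClasses_mul_card H,
      Nat.card_congr (Equiv.subtypeProdEquivSigmaSubtype fun a b : H => Commute a b),
      Nat.card_sigma, Finset.mul_sum, hq]
    refine Finset.sum_le_sum fun h _ => ?_
    calc w h * Nat.card (Subgroup.centralizer ({v * (h : X)} : Set X))
        ≤ w h * (Nat.card ↥(V ⊓ Subgroup.centralizer ({(h : X)} : Set X)) *
            Nat.card {b : H // Commute h b}) := Nat.mul_le_mul_left _ (hcentle h)
      _ ≤ Nat.card V * Nat.card {b : H // Commute h b} := by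
        rw [← mul_assoc]; exact Nat.mul_le_mul_right _ (hle h)
  rw [Finset.card_univ, Fintype.card_prod, Fintype.card_prod,
    ← Nat.card_eq_fintype_card (α := IrrCharacter X), ← Nat.card_eq_fintype_card (α := IrrCharacter H),
    ← Nat.card_eq_fintype_card (α := H), card_irr_eq_card_conjClasses,
    card_irr_eq_card_conjClasses] at hcount
  haveI : Nonempty (ConjClasses H) := ⟨ConjClasses.mk 1⟩
  haveI : Finite (ConjClasses H) := Quotient.finite _
  exact Nat.le_of_mul_le_mul_right (hcount.trans hqle) (Nat.mul_pos Nat.card_pos Nat.card_pos)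

end Cfsg.Lib.Char
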