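import Cfsg.Agent.Lib.Char.Clifford2
import Cfsg.Agent.Lib.Char.Gallagher
import Cfsg.Agent.Lib.Char.AbelianInertia
import Cfsg.Agent.Lib.Char.GlaubermanP

/-!
# Clifford and Gallagher correspondences between subgroups of an ambient group

All groups are subgroups of one ambient group, containing a subgroup `Q` and normalizing it.
-/

set_option autoImplicit false
set_option linter.unusedSectionVars false

namespace Cfsg.Lib.Char

open Cfsg
open scoped ComplexConjugate

universe u

variable {G : Type u} [Group G] [Finite G]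

/-- Local finiteness of subgroups. -/
@[reducible] noncomputable def subFintype (H : Subgroup G) : Fintype H := Fintype.ofFinite H

attribute [local instance] subFintype

/-- Restriction along an inclusion of subgroups. -/
def resOn {A B : Subgroup G} (h : A ≤ B) (f : B → ℂ) : A → ℂ :=
  fun a => f (Subgroup.inclusion h a)

theorem resOn_isCharacter {A B : Subgroup G} (h : A ≤ B) {f : B → ℂ} (hf : IsCharacter B f) :
    IsCharacter A (resOn h f) :=
  hf.comp (Subgroup.inclusion h)

/-- `f` has `θ` as a constituent on `Q`. -/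
def IsOver {Q X : Subgroup G} (h : Q ≤ X) (θ : Q → ℂ) (f : X → ℂ) : Prop :=
  classInner (resOn h f) θ ≠ 0

variable {Q X : Subgroup G}

/-- `θ` read on `Q.subgroupOf X`. -/
def thetaIn (hQX : Q ≤ X) (θ : Q → ℂ) : Q.subgroupOf X → ℂ :=
  fun n => θ (Subgroup.subgroupOfEquivOfLe hQX n)

theorem thetaIn_isIrr (hQX : Q ≤ X) {θ : Q → ℂ} (hθ : IsIrrCharacter Q θ) :
    IsIrrCharacter (Q.subgroupOf X) (thetaIn hQX θ) :=
  isIrrCharacter_comp_equiv _ hθ

theorem classInner_thetaIn (hQX : Q ≤ X) [Fintype (Q.subgroupOf X)] (θ : Q → ℂ) (f : X → ℂ) :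
    classInner (fun n : Q.subgroupOf X => f n) (thetaIn hQX θ) = classInner (resOn hQX f) θ := by
  rw [← classInner_comp_equiv (Subgroup.subgroupOfEquivOfLe hQX) (resOn hQX f) θ]
  rfl

theorem mem_invStab_iff {θ : Q → ℂ} {x : G} :
    x ∈ invStab Q θ ↔
      ∃ hx : x ∈ Subgroup.normalizer (Q : Set G), ∀ g, θ (twistEquiv Q hx g) = θ g := Iff.rfl

theorem invStab_le_normalizer (θ : Q → ℂ) : invStab Q θ ≤ Subgroup.normalizer (Q : Set G) :=
  fun _ hx => hx.1

theorem le_invStab {θ : Q → ℂ} (hθ : IsClassFunction Q θ) : Q ≤ invStab Q θ := fun q hq =>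
  ⟨Subgroup.le_normalizer hq, fun g => by
    rw [show twistEquiv Q (Subgroup.le_normalizer hq) g = ⟨q, hq⟩ * g * ⟨q, hq⟩⁻¹ from
      Subtype.ext rfl]
    exact hθ g ⟨q, hq⟩⟩

theorem inertia_thetaIn (hQX : Q ≤ X) (hXN : X ≤ Subgroup.normalizer (Q : Set G))
    [(Q.subgroupOf X).Normal] (θ : Q → ℂ) :
    inertia (Q.subgroupOf X) (thetaIn hQX θ) = (X ⊓ invStab Q θ).subgroupOf X := by
  ext g
  rw [mem_inertia_iff, Subgroup.mem_subgroupOf, Subgroup.mem_inf, mem_invStab_iff]
  constructor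
  · intro h
    refine ⟨g.2, hXN g.2, fun q => ?_⟩
    refine Eq.trans ?_ ((h ((Subgroup.subgroupOfEquivOfLe hQX).symm q)).trans ?_)
    · exact congrArg θ (Subtype.ext rfl)
    · exact congrArg θ ((Subgroup.subgroupOfEquivOfLe hQX).apply_symm_apply q)
  · rintro ⟨-, hx, h⟩ n
    refine Eq.trans ?_ (h (Subgroup.subgroupOfEquivOfLe hQX n))
    exact congrArg θ (Subtype.ext rfl)

/-! ## The Clifford correspondence -/

section Clifford

variable {T : Subgroup G} {θ : Q → ℂ} (hθ : IsIrrCharacter Q θ) (hQT : Q ≤ T) (hTX : T ≤ X)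
  (hXN : X ≤ Subgroup.normalizer (Q : Set G)) (hT : T = X ⊓ invStab Q θ)

include hθ hQT hTX hXN hT

theorem clifford_on_exists_down {χ : X → ℂ} (hχ : IsIrrCharacter X χ)
    (hc : IsOver (hQT.trans hTX) θ χ) :
    ∃ ψ : T → ℂ, IsIrrCharacter T ψ ∧ IsOver hQT θ ψ ∧ classInner (resOn hTX χ) ψ ≠ 0 := by
  have hQX := hQT.trans hTX
  haveI := Subgroup.normal_subgroupOf_of_le_normalizer hXN
  have hT' : T.subgroupOf X = inertia (Q.subgroupOf X) (thetaIn hQX θ) := by
    rw [inertia_thetaIn hQX hXN θ, ← hT]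
  have hHT : Q.subgroupOf X ≤ T.subgroupOf X := fun x hx => hQT hx
  obtain ⟨ψ', hψ', hψc, hind, -⟩ := clifford_exists (Q.subgroupOf X) (thetaIn_isIrr hQX hθ) hHT hT'
    hχ (by rw [classInner_thetaIn hQX θ χ]; exact hc)
  refine ⟨fun t => ψ' ((Subgroup.subgroupOfEquivOfLe hTX).symm t),
    isIrrCharacter_comp_equiv _ hψ', ?_, ?_⟩
  · intro h0
    refine hψc ?_
    rw [← h0, ← classInner_comp_equiv (Subgroup.subgroupOfEquivOfLe hQX)]
    rfl
  · intro h0
    have h1 := classInner_irr_self hχ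
    conv at h1 => arg 1; arg 1; rw [← hind]
    rw [classInner_indFun _ ψ' hχ.isClassFunction, ← classInner_conj_symm] at h1
    rw [show classInner (fun t : T.subgroupOf X => χ t) ψ' = classInner (resOn hTX χ)
      (fun t => ψ' ((Subgroup.subgroupOfEquivOfLe hTX).symm t)) by
        rw [← classInner_comp_equiv (Subgroup.subgroupOfEquivOfLe hTX)]
        simp only [MulEquiv.symm_apply_apply]
        rfl, h0, map_zero] at h1
    exact zero_ne_one h1

/-- The induced character, with all that is needed about it. -/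
theorem clifford_on_induce {ψ : T → ℂ} (hψ : IsIrrCharacter T ψ) (hc : IsOver hQT θ ψ) :
    ∃ χ : X → ℂ, IsIrrCharacter X χ ∧ IsOver (hQT.trans hTX) θ χ ∧
      classInner (resOn hTX χ) ψ ≠ 0 ∧
      classInner (resOn (hQT.trans hTX) χ) θ = classInner (resOn hQT ψ) θ ∧
      χ 1 = (T.relIndex X : ℂ) * ψ 1 ∧
      ∀ χ' : X → ℂ, IsIrrCharacter X χ' → classInner (resOn hTX χ') ψ ≠ 0 → χ' = χ := by
  have hQX := hQT.trans hTX
  haveI := Subgroup.normal_subgroupOf_of_le_normalizer hXN
  have hT' : T.subgroupOf X = inertia (Q.subgroupOf X) (thetaIn hQX θ) := by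
    rw [inertia_thetaIn hQX hXN θ, ← hT]
  have hHT : Q.subgroupOf X ≤ T.subgroupOf X := fun x hx => hQT hx
  let ψ' : T.subgroupOf X → ℂ := fun t => ψ (Subgroup.subgroupOfEquivOfLe hTX t)
  have hψ' : IsIrrCharacter (T.subgroupOf X) ψ' := isIrrCharacter_comp_equiv _ hψ
  have hψc : classInner (fun h : Q.subgroupOf X => ψ' ⟨h, hHT h.2⟩) (thetaIn hQX θ) =
      classInner (resOn hQT ψ) θ := by
    rw [← classInner_comp_equiv (Subgroup.subgroupOfEquivOfLe hQX) (resOn hQT ψ) θ]
    rfl
  obtain ⟨hirr, hmult⟩ := clifford_induce (Q.subgroupOf X) (thetaIn_isIrr hQX hθ) hHT hT' hψ'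
    (by rw [hψc]; exact hc)
  rw [hψc, classInner_thetaIn hQX θ] at hmult
  have hres : ∀ f : X → ℂ, classInner (fun t : T.subgroupOf X => f t) ψ' =
      classInner (resOn hTX f) ψ := fun f => by
    rw [← classInner_comp_equiv (Subgroup.subgroupOfEquivOfLe hTX) (resOn hTX f) ψ]
    rfl
  refine ⟨indFun (T.subgroupOf X) ψ', hirr, ?_, ?_, hmult, ?_, fun χ' hχ' h => ?_⟩
  · rw [IsOver, hmult]; exact hc
  · intro h0
    have h1 := classInner_irr_self hirr
    rw [classInner_indFun _ ψ' hirr.isClassFunction, ← classInner_conj_symm, hres, h0,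
      map_zero] at h1
    exact zero_ne_one h1
  · rw [indFun_apply_one, show ψ' 1 = ψ 1 from congrArg ψ (map_one _)]
    rfl
  · by_contra hne
    have h1 := classInner_irr_ne hirr hχ' (Ne.symm hne)
    rw [classInner_indFun _ ψ' hχ'.isClassFunction, ← classInner_conj_symm, hres] at h1
    exact h ((map_eq_zero _).mp h1)

/-- Multiplicities of characters over `θ` of intermediate subgroups are unchanged. -/
theorem clifford_on_mult {χ : X → ℂ} (hχ : IsIrrCharacter X χ) {ψ : T → ℂ}
    (hψ : IsIrrCharacter T ψ) (hc : IsOver hQT θ ψ) (hm : classInner (resOn hTX χ) ψ ≠ 0)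
    {D : Subgroup G} (hQD : Q ≤ D) (hDT : D ≤ T) {η : D → ℂ} (hη : IsIrrCharacter D η)
    (hηc : IsOver hQD θ η) :
    classInner (resOn (hDT.trans hTX) χ) η = classInner (resOn hDT ψ) η := by
  obtain ⟨χ₀, -, -, -, hmult, -, huniq⟩ := clifford_on_induce hθ hQT hTX hXN hT hψ hc
  rw [← huniq χ hχ hm] at hmult
  set R : T → ℂ := resOn hTX χ - ψ with hR
  have hRc : IsCharacter T R :=
    isCharacter_sub_constituent (resOn_isCharacter hTX hχ.isCharacter) hψ hm
  have e : resOn (hDT.trans hTX) χ = resOn hDT ψ + resOn hDT R := by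
    funext d
    simp only [hR, resOn, Pi.add_apply, Pi.sub_apply]
    rw [add_sub_cancel]
    rfl
  rw [e, classInner_add_left, add_eq_left]
  by_contra hne
  have hRD := resOn_isCharacter hDT hRc
  have h1 := classInner_res_le_of_constituent (Q.subgroupOf D) hRD hη hne
    (thetaIn_isIrr hQD hθ).isCharacter
  rw [classInner_thetaIn hQD θ, classInner_thetaIn hQD θ] at h1
  have h2 : classInner (resOn hQD (resOn hDT R)) θ = 0 := by
    rw [show resOn hQD (resOn hDT R) = resOn (hQT.trans hTX) χ - resOn hQT ψ from rfl,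
      classInner_sub_left, hmult, sub_self]
  rw [h2, Complex.zero_re] at h1
  obtain ⟨n, hn⟩ := (resOn_isCharacter hQD hη.isCharacter).exists_nat_classInner hθ.isCharacter
  rw [hn, Complex.natCast_re] at h1
  exact hηc (by rw [hn, show n = 0 by exact_mod_cast le_antisymm h1 (Nat.cast_nonneg n),
    Nat.cast_zero])

theorem clifford_on_unique_down {χ : X → ℂ} (hχ : IsIrrCharacter X χ) {ψ ψ' : T → ℂ}
    (hψ : IsIrrCharacter T ψ) (hc : IsOver hQT θ ψ) (hm : classInner (resOn hTX χ) ψ ≠ 0)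
    (hψ' : IsIrrCharacter T ψ') (hc' : IsOver hQT θ ψ')
    (hm' : classInner (resOn hTX χ) ψ' ≠ 0) : ψ' = ψ := by
  by_contra hne
  have h := clifford_on_mult hθ hQT hTX hXN hT hχ hψ hc hm hQT le_rfl hψ' hc'
  refine hm' (h.trans ?_)
  exact classInner_irr_ne hψ hψ' (Ne.symm hne)

end Clifford

/-! ## Gallagher's correspondence -/

/-- `f` is constant on `Q`. -/
def IsTrivOn (hQX : Q ≤ X) (f : X → ℂ) : Prop :=
  ∀ q : Q, f (Subgroup.inclusion hQX q) = f 1

section Gallagher

variable {θ : Q → ℂ} (hθ : IsIrrCharacter Q θ) (hQX : Q ≤ X)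
  (hXinv : X ≤ invStab Q θ) {θh : X → ℂ} (hext : IsCharacter X θh)
  (hres : resOn hQX θh = θ)

include hθ hQX hXinv hext hres

/-- Gallagher's correspondence. -/
theorem gallagher_on :
    Set.BijOn (fun β : X → ℂ => β * θh) {β | IsIrrCharacter X β ∧ IsTrivOn hQX β}
      {ψ | IsIrrCharacter X ψ ∧ IsOver hQX θ ψ} := by
  haveI hn : (Q.subgroupOf X).Normal :=
    Subgroup.normal_subgroupOf_of_le_normalizer (hXinv.trans (invStab_le_normalizer θ))
  have hinv : ∀ g, conjTwist (Q.subgroupOf X) (thetaIn hQX θ) g = thetaIn hQX θ := fun g => by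
    rw [← mem_inertia, inertia_thetaIn hQX (hXinv.trans (invStab_le_normalizer θ)) θ,
      Subgroup.mem_subgroupOf, inf_eq_left.mpr hXinv]
    exact g.2
  have h1irr : IsIrrCharacter (Q.subgroupOf X) (fun _ => (1 : ℂ)) := isIrrCharacter_one
  have hb := gallagher_bijOn (Q.subgroupOf X) (φ := fun _ => (1 : ℂ)) h1irr
    (fun g => rfl) hinv (by
      rw [show ((fun _ => (1 : ℂ)) * thetaIn hQX θ : Q.subgroupOf X → ℂ) = thetaIn hQX θ from
        funext fun n => one_mul _]
      exact thetaIn_isIrr hQX hθ) hext (fun n => by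
      rw [show thetaIn hQX θ n = θ (Subgroup.subgroupOfEquivOfLe hQX n) from rfl, ← hres]
      rfl)
  rw [show ((fun _ => (1 : ℂ)) * thetaIn hQX θ : Q.subgroupOf X → ℂ) = thetaIn hQX θ from
    funext fun n => one_mul _] at hb
  have hleft : {β : X → ℂ | IsIrrCharacter X β ∧
      classInner (indFun (Q.subgroupOf X) (fun _ => (1 : ℂ))) β ≠ 0} =
      {β | IsIrrCharacter X β ∧ IsTrivOn hQX β} := by
    ext β
    refine and_congr_right fun hβ => ⟨fun h q => ?_, fun h => ?_⟩
    · exact apply_eq_of_constituent (isCharacter_indFun _ h1irr.isCharacter) hβ h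
        (indFun_one_apply (Q.subgroupOf X) ((Subgroup.subgroupOfEquivOfLe hQX).symm q))
    · rw [classInner_indFun _ _ hβ.isClassFunction, ← classInner_conj_symm]
      refine (map_ne_zero _).mpr ?_
      rw [classInner_one_right, show (fun n : Q.subgroupOf X => β n) = fun _ => β 1 from
        funext fun n => h (Subgroup.subgroupOfEquivOfLe hQX n), Finset.sum_const, nsmul_eq_mul,
        Finset.card_univ, ← Nat.card_eq_fintype_card, ← mul_assoc,
        inv_mul_cancel₀ card_cast_ne_zero, one_mul]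
      exact hβ.apply_one_ne_zero
  have hright : {ψ : X → ℂ | IsIrrCharacter X ψ ∧
      classInner (indFun (Q.subgroupOf X) (thetaIn hQX θ)) ψ ≠ 0} =
      {ψ | IsIrrCharacter X ψ ∧ IsOver hQX θ ψ} := by
    ext ψ
    refine and_congr_right fun hψ => ?_
    rw [classInner_indFun _ _ hψ.isClassFunction, ← classInner_conj_symm, IsOver,
      ← classInner_thetaIn hQX θ ψ]
    exact not_congr (map_eq_zero _)
  rwa [hleft, hright] at hb

/-- Multiplicities in restrictions commute with multiplication by the extension. -/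
theorem gallagher_on_mult {T : Subgroup G} (hXT : X ≤ T) {θt : T → ℂ}
    (hθt : resOn hXT θt = θh) {β : T → ℂ} (hβ : IsCharacter T β)
    (hβQ : IsTrivOn (hQX.trans hXT) β) {η : X → ℂ} (hη : IsIrrCharacter X η)
    (hηQ : IsTrivOn hQX η) :
    classInner (resOn hXT (β * θt)) (η * θh) = classInner (resOn hXT β) η := by
  classical
  have hb := gallagher_on hθ hQX hXinv hext hres
  have hβr := resOn_isCharacter hXT hβ
  choose m hm using fun ζ : IrrCharacter X => hβr.exists_nat_classInner ζ.2.isCharacter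
  have hexp : resOn hXT β = ∑ ζ : IrrCharacter X, (m ζ : ℂ) • (ζ : X → ℂ) := by
    conv_lhs => rw [eq_sum_classInner hβr.isClassFunction]
    simp only [hm]
  rw [show resOn hXT (β * θt) = resOn hXT β * resOn hXT θt from rfl, hθt, hexp, Finset.sum_mul,
    classInner_sum_left, classInner_sum_left]
  refine Finset.sum_congr rfl fun ζ _ => ?_
  rw [smul_mul_assoc, classInner_smul_left, classInner_smul_left]
  rcases eq_or_ne (m ζ : ℂ) 0 with h | h
  · rw [h, zero_mul, zero_mul]
  · have hζ : IsTrivOn hQX (ζ : X → ℂ) := fun q =>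
      apply_eq_of_constituent hβr ζ.2 (by rw [hm]; exact h) (hβQ q)
    have hirr := (hb.mapsTo ⟨ζ.2, hζ⟩).1
    have hirr' := (hb.mapsTo ⟨hη, hηQ⟩).1
    congr 1
    by_cases he : (ζ : X → ℂ) = η
    · rw [he, classInner_irr_self hη, classInner_irr_self hirr']
    · rw [classInner_irr_ne ζ.2 hη he, classInner_irr_ne hirr hirr' fun e =>
        he (hb.injOn ⟨ζ.2, hζ⟩ ⟨hη, hηQ⟩ e)]

end Gallagher

end Cfsg.Lib.Char
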