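import Cfsg.Agent.Lib.Char.DegreePSubTwoQuotient

/-!
# Recognition of the central quotient
-/

set_option autoImplicit false
set_option linter.unusedSectionVars false
set_option linter.style.haveILetI false
set_option maxHeartbeats 1000000

namespace Cfsg.Agent.DegreePSubTwo

open Cfsg Cfsg.Lib.Char
open scoped ComplexConjugate

universe u

noncomputable local instance (priority := high) fintypeSubgroupDegreePSubTwoRecognition {A : Type u}
    [Group A] [Fintype A] (H : Subgroup A) : Fintype H := Fintype.ofFinite H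

variable {p : ℕ} [Fact p.Prime] {G : Type u} [Group G] [Fintype G]
  {ζ : G → ℂ} {P : Subgroup G} {k : P ≃ ZMod p} (hS : Setting p ζ P k)

include hS

theorem Setting.singular_not_center {g : G} (hg : p ∣ orderOf g) :
    g ∉ Subgroup.center G ∧ g * g ∉ Subgroup.center G := by
  have hpp : p.Prime := Fact.out
  refine ⟨fun h => hS.not_dvd_center (hg.trans (Subgroup.orderOf_dvd_natCard _ h)), fun h => ?_⟩
  refine hS.not_dvd_center (dvd_trans ?_ (Subgroup.orderOf_dvd_natCard _ h))
  rw [← sq, orderOf_pow' g two_ne_zero]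
  obtain ⟨d, hd⟩ := hg
  have hg2 : Nat.gcd (orderOf g) 2 ∣ d := by
    refine Nat.Coprime.dvd_of_dvd_mul_left ?_ (by rw [← hd]; exact Nat.gcd_dvd_left _ _)
    exact ((Nat.coprime_primes hpp Nat.prime_two).2 (by have := hS.five; omega)).symm.coprime_dvd_left
      (Nat.gcd_dvd_right _ _)
  obtain ⟨e, he⟩ := hg2
  have hpos : 0 < Nat.gcd (orderOf g) 2 := Nat.gcd_pos_of_pos_right _ two_pos
  generalize hGe : Nat.gcd (orderOf g) 2 = G2 at he hpos
  rw [hd, he, show p * (G2 * e) = G2 * (p * e) by ring, Nat.mul_div_cancel_left _ hpos]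
  exact dvd_mul_right _ _

open Classical in
/-- The count of elements squaring into the center. -/
theorem Setting.count :
    2 * Nat.card G = p * (Nat.card (Subgroup.center G) * (p - 2) ^ 2 +
      (Finset.univ.filter fun g : G => g ∉ Subgroup.center G ∧ g * g ∈ Subgroup.center G).card) := by
  haveI : NeZero p := ⟨(Fact.out : p.Prime).ne_zero⟩
  have hp0 : (p : ℂ) ≠ 0 := Nat.cast_ne_zero.2 (Fact.out : p.Prime).ne_zero
  set F : G → ℂ := fun g => if p ∣ orderOf g then ζ g else 0 with hF
  have hcl := hS.irr.isCharacter.isClassFunction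
  have hFc : IsClassFunction G F := fun g x => by
    have ho : orderOf (x * g * x⁻¹) = orderOf g := by
      rw [show x * g * x⁻¹ = MulAut.conj x g from rfl, MulEquiv.orderOf_eq]
    simp only [hF, ho, hcl g x]
  have hFy : ∀ y : P, F y * conj (ζ y) =
      2 + ZMod.stdAddChar (2 * k y) + ZMod.stdAddChar ((-2) * k y) - if y = 1 then 4 else 0 := by
    intro y
    by_cases hy : y = 1
    · subst hy
      simp [hF, hS.k_one, (Fact.out : p.Prime).ne_one]
      norm_num
    · have ho := hS.orderOf_mem y.2 fun h => hy (Subtype.ext h)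
      simp only [hF, ho, dvd_refl, if_true, if_neg hy, sub_zero, hS.val y hy, map_neg, map_add,
        ← AddChar.map_neg_eq_conj, neg_neg, neg_mul, two_mul, neg_add, AddChar.map_add_eq_mul]
      have h1 : (ZMod.stdAddChar (k y) : ℂ) * ZMod.stdAddChar (-k y) = 1 := by
        rw [← AddChar.map_add_eq_mul, add_neg_cancel, AddChar.map_zero_eq_one]
      linear_combination 2 * h1
  have hsum : ∀ x : ZMod p, x ≠ 0 → ∑ y : P, (ZMod.stdAddChar (x * k y) : ℂ) = 0 := fun x hx => by
    rw [Equiv.sum_comp k (fun z => (ZMod.stdAddChar (x * z) : ℂ)),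
      DihedralNormalizer.sum_stdAddChar, if_neg hx]
  have hinner : classInner F ζ = ((p : ℂ) - 2) / p := by
    rw [hS.classInner_singular hFc hcl (fun g hg => by simp [hF, hg]) (fun y z => ?_)]
    · have h2 : (2 : ZMod p) ≠ 0 := fun h => by
        rw [show (2 : ZMod p) = ((2 : ℕ) : ZMod p) by norm_num, ZMod.natCast_eq_zero_iff] at h
        have := Nat.le_of_dvd (by norm_num) h
        have := hS.five
        omega
      rw [Finset.sum_congr rfl fun y _ => hFy y, Finset.sum_sub_distrib, Finset.sum_add_distrib,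
        Finset.sum_add_distrib, hsum 2 h2,
        hsum (-2) (neg_ne_zero.2 h2), Finset.sum_ite_eq', if_pos (Finset.mem_univ _),
        Finset.sum_const, Finset.card_univ, nsmul_eq_mul, ← Nat.card_eq_fintype_card, hS.card]
      field_simp
      ring
    · by_cases hy : y = 1
      · subst hy
        simp only [hF, OneMemClass.coe_one, one_mul, orderOf_one]
        rw [if_neg fun h => hS.not_dvd_center (h.trans (Subgroup.orderOf_dvd_natCard _ z.2)),
          if_neg fun h => (Fact.out : p.Prime).ne_one (Nat.dvd_one.1 h), zero_mul, zero_mul]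
      · have ho := hS.orderOf_mem y.2 fun h => hy (Subtype.ext h)
        have hoz : p ∣ orderOf ((y : G) * z) := by
          by_contra h
          exact hy (Subtype.ext (hS.regular_cent y.2 z.2 h))
        simp only [hF, hoz, ho, dvd_refl, if_true,
          show (y : G) * z = (z : G) * y from Subgroup.mem_center_iff.1 z.2 y, hS.scalar z.2, map_mul]
        have h1 : eta p ζ z * conj (eta p ζ z) = 1 := by
          rw [Complex.mul_conj, Complex.normSq_eq_norm_sq, hS.eta_norm z.2]; simp
        have hoz' : p ∣ orderOf ((z : G) * y) := by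
          rw [← Subgroup.mem_center_iff.1 z.2 y]; exact hoz
        simp only [if_pos hoz']
        linear_combination ζ y * conj (ζ y) * h1
  -- the regular part of the norm
  have hR : ∀ g : G, (ζ g - F g) * conj (ζ g) =
      (if g ∈ Subgroup.center G then (((p - 2 : ℕ) : ℂ) ^ 2) else 0) +
        (if g ∉ Subgroup.center G ∧ g * g ∈ Subgroup.center G then 1 else 0) := by
    intro g
    by_cases hg : p ∣ orderOf g
    · obtain ⟨h1, h2⟩ := hS.singular_not_center hg
      simp [hF, hg, h1, h2]
    · simp only [hF, if_neg hg, sub_zero]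
      have hmc : ζ g * conj (ζ g) = ((‖ζ g‖ : ℝ) : ℂ) ^ 2 := by
        rw [Complex.mul_conj, Complex.normSq_eq_norm_sq]; push_cast; rfl
      by_cases hgc : g ∈ Subgroup.center G
      · rw [hmc, hS.apply_center hgc, norm_mul, hS.eta_norm hgc, one_mul, Complex.norm_natCast]
        simp [hgc]
      · rcases hS.regular_value hg hgc with ⟨h1, h2⟩ | ⟨h1, h2⟩
        · simp [hgc, h1, h2]
        · rw [hmc, h2]; simp [hgc, h1]
  have hone := classInner_irr_self hS.irr
  rw [show ζ = F + (ζ - F) by rw [add_sub_cancel]] at hone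
  rw [classInner_add_left, show F + (ζ - F) = ζ by rw [add_sub_cancel], hinner] at hone
  simp only [classInner, Pi.sub_apply] at hone
  rw [Finset.sum_congr rfl fun g _ => hR g, Finset.sum_add_distrib, ← Finset.sum_filter,
    ← Finset.sum_filter, Finset.sum_const, Finset.sum_const, nsmul_eq_mul, nsmul_eq_mul,
    mul_one] at hone
  have hZ : (Finset.univ.filter fun g : G => g ∈ Subgroup.center G).card =
      Nat.card (Subgroup.center G) := by
    rw [← Fintype.card_subtype, ← Nat.card_eq_fintype_card]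
  rw [hZ] at hone
  have hG : (Nat.card G : ℂ) ≠ 0 := card_cast_ne_zero
  have h : ((2 * Nat.card G : ℕ) : ℂ) = ((p * (Nat.card (Subgroup.center G) * (p - 2) ^ 2 +
      (Finset.univ.filter fun g : G =>
        g ∉ Subgroup.center G ∧ g * g ∈ Subgroup.center G).card) : ℕ) : ℂ) := by
    push_cast
    field_simp at hone
    linear_combination -hone
  exact_mod_cast h

/-- The central quotient is `PSL(2, 2^a)`. -/
theorem Setting.recognition :
    ∃ (a : ℕ) (F : Type) (_ : Field F) (_ : Fintype F), p = 2 ^ a + 1 ∧ Fintype.card F = 2 ^ a ∧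
      Nonempty (G ⧸ Subgroup.center G ≃* Matrix.ProjectiveSpecialLinearGroup (Fin 2) F) := by
  classical
  have hpp : p.Prime := Fact.out
  have h5 := hS.five
  haveI : Fact (Nat.Prime 2) := ⟨Nat.prime_two⟩
  set Z := Subgroup.center G with hZdef
  set q := QuotientGroup.mk' Z with hq
  haveI : Fintype (G ⧸ Z) := Fintype.ofFinite _
  -- lifts of involutions
  have hlift : ∀ t : G ⧸ Z, orderOf t = 2 →
      ∃ (i : G) (l : ℕ), orderOf i = 2 ^ l ∧ i ∉ Z ∧ (QuotientGroup.mk i : G ⧸ Z) = t := by
    intro t ht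
    obtain ⟨g, rfl⟩ := QuotientGroup.mk_surjective t
    obtain ⟨a, b, hb, hab⟩ := Nat.exists_eq_two_pow_mul_odd (orderOf_pos g).ne'
    have hib : (QuotientGroup.mk (g ^ b) : G ⧸ Z) = QuotientGroup.mk g := by
      rw [QuotientGroup.mk_pow, ← pow_mod_orderOf, ht, Nat.odd_iff.1 hb, pow_one]
    refine ⟨g ^ b, a, ?_, fun h => ?_, hib⟩
    · rw [orderOf_pow' g hb.pos.ne', hab, Nat.gcd_eq_right (dvd_mul_left _ _),
        Nat.mul_div_cancel _ hb.pos]
    · rw [← hib, (QuotientGroup.eq_one_iff _).2 h, orderOf_one] at ht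
      norm_num at ht
  have hexp : ∀ t : G ⧸ Z, orderOf t = 2 → ∀ c ∈ Subgroup.centralizer ({t} : Set (G ⧸ Z)),
      c ^ 2 = 1 := by
    intro t ht c hc
    obtain ⟨i, l, hi, hiZ, rfl⟩ := hlift t ht
    obtain ⟨g, rfl⟩ := QuotientGroup.mk_surjective c
    rw [sq, ← QuotientGroup.mk_mul, QuotientGroup.eq_one_iff]
    exact hS.cent_mod hi hiZ (Subgroup.mem_centralizer_singleton_iff.1 hc)
  have hab : ∀ {H : Subgroup (G ⧸ Z)}, (∀ c ∈ H, c ^ 2 = 1) → IsMulCommutative H := by
    intro H hH
    refine ⟨⟨fun a b => Subtype.ext ?_⟩⟩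
    have h1 : ∀ c ∈ H, c⁻¹ = c := fun c hc => inv_eq_of_mul_eq_one_right (by rw [← sq, hH c hc])
    show (a : G ⧸ Z) * b = b * a
    rw [← h1 _ (mul_mem a.2 b.2), mul_inv_rev, h1 _ a.2, h1 _ b.2]
  -- the Sylow 2-subgroup
  obtain ⟨S⟩ : Nonempty (Sylow 2 G) := inferInstance
  set T : Sylow 2 (G ⧸ Z) := S.mapSurjective (QuotientGroup.mk'_surjective Z) with hT
  set s := Nat.card (T : Subgroup (G ⧸ Z)) with hs
  have hSord : ∀ x : (S : Subgroup G), ∃ l : ℕ, orderOf (x : G) = 2 ^ l := fun x => by
    obtain ⟨l, hl⟩ := IsPGroup.iff_orderOf.1 S.2 x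
    exact ⟨l, by rw [← hl, Subgroup.orderOf_coe]⟩
  have hTexp : ∀ c ∈ (T : Subgroup (G ⧸ Z)), c ^ 2 = 1 := by
    intro c hc
    rw [hT, Sylow.coe_mapSurjective] at hc
    obtain ⟨x, hx, rfl⟩ := Subgroup.mem_map.1 hc
    obtain ⟨l, hl⟩ := hSord ⟨x, hx⟩
    rw [sq, ← map_mul, QuotientGroup.mk'_apply, QuotientGroup.eq_one_iff]
    exact (hS.two_value l x hl).1
  -- the order of the Sylow subgroup divides `p - 1`
  have hsdvd : s ∣ p - 1 := by
    set W := Finset.univ.filter fun x : (S : Subgroup G) => (x : G) ∈ Z with hW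
    obtain ⟨n, hn⟩ := (hS.irr.isCharacter.comp (S : Subgroup G).subtype).exists_nat_classInner
      (isCharacter_one (G := (S : Subgroup G)))
    rw [classInner_one_right, inv_mul_eq_iff_eq_mul₀ card_cast_ne_zero] at hn
    have hval : ∀ x : (S : Subgroup G), ζ (x : G) =
        -1 + (if x ∈ W then ((p : ℂ) - 1) else 0) := by
      intro x
      obtain ⟨l, hl⟩ := hSord x
      by_cases hx : (x : G) ∈ Z
      · rw [hS.apply_center hx, hS.eta_two_elem hx hl.dvd, hS.sub_two_cast,
          if_pos (by simp [hW, hx])]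
        ring
      · rw [(hS.two_value l x hl).2 hx, if_neg (by simp [hW, hx]), add_zero]
    simp only [Subgroup.coe_subtype] at hn
    rw [Finset.sum_congr rfl fun x _ => hval x, Finset.sum_add_distrib, Finset.sum_ite_mem,
      Finset.univ_inter, Finset.sum_const, Finset.sum_const, Finset.card_univ,
      ← Nat.card_eq_fintype_card, nsmul_eq_mul, nsmul_eq_mul] at hn
    have hn' : ((W.card * (p - 1) : ℕ) : ℂ) = ((Nat.card (S : Subgroup G) * (n + 1) : ℕ) : ℂ) := by
      push_cast [Nat.cast_sub hpp.one_le]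
      linear_combination hn
    have hn'' := (Nat.cast_inj (R := ℂ)).1 hn'
    have hST : Nat.card (S : Subgroup G) = s * W.card := by
      have hres := Subgroup.index_mul_card (Z.subgroupOf (S : Subgroup G))
      have hWc : Nat.card (Z.subgroupOf (S : Subgroup G)) = W.card := by
        rw [hW, ← Fintype.card_subtype, ← Nat.card_eq_fintype_card]
        exact Nat.card_congr (Equiv.subtypeEquivRight fun x => Subgroup.mem_subgroupOf)
      rw [hWc] at hres
      have hker : (q.domRestrict (S : Subgroup G)).ker = Z.subgroupOf (S : Subgroup G) := by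
        rw [MonoidHom.ker_domRestrict, hq, QuotientGroup.ker_mk']
      rw [← hres, hs, hT, Sylow.coe_mapSurjective, ← MonoidHom.domRestrict_range, ← Subgroup.index_ker,
        hker]
    rw [hST, mul_assoc, mul_left_comm] at hn''
    have hWpos : 0 < W.card := Finset.card_pos.2 ⟨1, by simp [hW, one_mem]⟩
    exact ⟨n + 1, Nat.eq_of_mul_eq_mul_left hWpos hn''⟩
  -- counting
  set I : Set (G ⧸ Z) := {t | orderOf t = 2} with hI
  have hJ : (Finset.univ.filter fun g : G => g ∉ Z ∧ g * g ∈ Z).card =
      Nat.card Z * Nat.card I := by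
    rw [← Nat.card_prod, ← Nat.card_congr (QuotientGroup.preimageMkEquivSubgroupProdSet Z I),
      ← Fintype.card_subtype, ← Nat.card_eq_fintype_card]
    refine Nat.card_congr (Equiv.subtypeEquivRight fun g => ?_)
    simp only [hI, Set.mem_preimage, Set.mem_setOf_eq, orderOf_eq_prime_iff, sq,
      ← QuotientGroup.mk_mul, QuotientGroup.eq_one_iff, ne_eq]
    exact and_comm
  have hN : Nat.card G = Nat.card Z * Nat.card (G ⧸ Z) := by
    rw [mul_comm, ← Subgroup.card_eq_card_quotient_mul_card_subgroup]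
  have hcount : 2 * Nat.card (G ⧸ Z) = p * ((p - 2) ^ 2 + Nat.card I) := by
    have h := hS.count
    rw [hJ, hN] at h
    refine Nat.eq_of_mul_eq_mul_left (Nat.card_pos (α := Z)) ?_
    linear_combination h
  have hI0 : Nat.card I ≠ 0 := by
    intro h0
    rw [h0, add_zero] at hcount
    have hodd : Odd (p * (p - 2) ^ 2) :=
      (hpp.odd_of_ne_two (by omega)).mul ((Nat.Odd.sub_even (by omega)
        (hpp.odd_of_ne_two (by omega)) even_two).pow)
    exact (Nat.not_even_iff_odd.2 hodd) (hcount ▸ even_two_mul _)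
  obtain ⟨t₀, ht₀⟩ : ∃ t : G ⧸ Z, orderOf t = 2 := by
    obtain ⟨⟨⟨t, ht⟩⟩, -⟩ := Nat.card_ne_zero.1 hI0
    exact ⟨t, ht⟩
  have hle : Nat.card (G ⧸ Z) ≤ Nat.card I * s := by
    set C := Subgroup.centralizer ({t₀} : Set (G ⧸ Z))
    have hCp : IsPGroup 2 C := fun c => ⟨1, Subtype.ext (by simpa using hexp t₀ ht₀ c c.2)⟩
    obtain ⟨R, hR⟩ := hCp.exists_le_sylow
    have hCs : Nat.card C ≤ s := by
      refine (Subgroup.card_le_of_le hR).trans (le_of_eq ?_)
      rw [hs, R.card_eq_multiplicity, T.card_eq_multiplicity]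
    rw [← Subgroup.index_mul_card C]
    refine Nat.mul_le_mul ?_ hCs
    rw [← card_classFinset, Nat.card_eq_fintype_card, ← Set.toFinset_card]
    refine Finset.card_le_card fun x hx => ?_
    rw [Set.mem_toFinset]
    show orderOf x = 2
    obtain ⟨c, hc⟩ := isConj_iff.1 (mem_classFinset.1 hx)
    rw [← hc, show c * t₀ * c⁻¹ = MulAut.conj c t₀ from rfl, MulEquiv.orderOf_eq, ht₀]
  have hseq : s = p - 1 := by
    have hgt : p < 2 * s := by
      by_contra hcon
      push Not at hcon
      have hpos : 0 < p * (p - 2) ^ 2 := Nat.mul_pos hpp.pos (pow_pos (by omega) 2)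
      have h1 : 2 * Nat.card (G ⧸ Z) ≤ p * Nat.card I := by
        calc 2 * Nat.card (G ⧸ Z) ≤ 2 * (Nat.card I * s) := Nat.mul_le_mul_left 2 hle
          _ = Nat.card I * (2 * s) := by ring
          _ ≤ Nat.card I * p := Nat.mul_le_mul_left _ hcon
          _ = p * Nat.card I := mul_comm _ _
      rw [hcount, mul_add] at h1
      omega
    obtain ⟨c, hc⟩ := hsdvd
    rcases c with _ | _ | c
    · omega
    · omega
    · exfalso
      have : s * 2 ≤ s * (c + 1 + 1) := Nat.mul_le_mul_left s (by omega)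
      omega
  -- a Sylow 2-subgroup is not normal
  have hnn : ¬ (T : Subgroup (G ⧸ Z)).Normal := by
    intro hnT
    obtain ⟨y, hy⟩ := exists_prime_orderOf_dvd_card' (G := P) p (by rw [hS.card])
    set u : G ⧸ Z := q (y : G) with hu
    have hyP : (y : G) ≠ 1 := fun h => by
      rw [Subtype.ext h (a2 := (1 : P)), orderOf_one] at hy
      exact hpp.ne_one hy.symm
    have hu1 : u ≠ 1 := fun h => by
      have h' : (y : G) ∈ P ⊓ Subgroup.center G :=
        Subgroup.mem_inf.2 ⟨y.2, (QuotientGroup.eq_one_iff _).1 h⟩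
      rw [hS.inf_center, Subgroup.mem_bot] at h'
      exact hyP h'
    have hup : u ^ p = 1 := by
      have hyp : (y : G) ^ p = 1 := by
        rw [← hy, ← Subgroup.orderOf_coe]; exact pow_orderOf_eq_one _
      rw [hu, ← map_pow, hyp, map_one]
    set U := Subgroup.zpowers u
    have hUp : IsPGroup p U := IsPGroup.of_card (n := 1) (by
      rw [Nat.card_zpowers, orderOf_eq_prime hup hu1, pow_one])
    haveI := hnT
    letI : MulAction U (T : Subgroup (G ⧸ Z)) :=
      MulAction.compHom _ ((MulAut.conjNormal (H := (T : Subgroup (G ⧸ Z)))).comp U.subtype)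
    have hfix : MulAction.fixedPoints U (T : Subgroup (G ⧸ Z)) = {1} := by
      refine Set.eq_singleton_iff_unique_mem.2 ⟨fun w => ?_, fun x hx => ?_⟩
      · show MulAut.conjNormal (w : G ⧸ Z) (1 : (T : Subgroup (G ⧸ Z))) = 1
        exact map_one _
      · by_contra hx1
        have hx2 : orderOf (x : G ⧸ Z) = 2 :=
          orderOf_eq_prime (hTexp _ x.2) fun h => hx1 (Subtype.ext h)
        have h := hx ⟨u, Subgroup.mem_zpowers u⟩
        have h' : u * (x : G ⧸ Z) * u⁻¹ = x := by
          have e := congrArg Subtype.val (show MulAut.conjNormal u x = x from h)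
          rwa [MulAut.conjNormal_apply] at e
        have hu2 := hexp _ hx2 u (Subgroup.mem_centralizer_singleton_iff.2
          (mul_inv_eq_iff_eq_mul.1 h'))
        have := Nat.dvd_gcd (orderOf_dvd_of_pow_eq_one hu2) (orderOf_dvd_of_pow_eq_one hup)
        rw [(Nat.coprime_primes Nat.prime_two hpp).2 (by omega), Nat.dvd_one,
          orderOf_eq_one_iff] at this
        exact hu1 this
    have hmod := hUp.card_modEq_card_fixedPoints (T : Subgroup (G ⧸ Z))
    rw [hfix, Nat.card_coe_set_eq ({1} : Set (T : Subgroup (G ⧸ Z))), Set.ncard_singleton, ← hs, hseq] at hmod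
    have := (Nat.modEq_iff_dvd' (by omega : 1 ≤ p - 1)).1 hmod.symm
    have := Nat.le_of_dvd (by omega) this
    omega
  have hnc : ¬ IsCyclic (T : Subgroup (G ⧸ Z)) := by
    intro hc
    obtain ⟨g, hg⟩ := hc.exists_ofOrder_eq_natCard
    have h2 : g ^ 2 = 1 := Subtype.ext (hTexp g g.2)
    have h := orderOf_dvd_of_pow_eq_one h2
    rw [hg, ← hs, hseq] at h
    have := Nat.le_of_dvd two_pos h
    omega
  obtain ⟨F, iF, iFt, hF, he⟩ := S1230.result T hnc hnn fun t ht => ⟨hab (hexp t ht), hexp t ht⟩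
  obtain ⟨a, ha⟩ := T.2.exists_card_eq
  exact ⟨a, F, iF, iFt, by rw [← ha, ← hs, hseq]; omega, hF.trans ha, he⟩

end Cfsg.Agent.DegreePSubTwo
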