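import Cfsg.Agent.Lib.Block.DegreePSubTwo
import Cfsg.Agent.Lib.Char.DegreePSubTwoRecognition
import Cfsg.Agent.Lib.Char.Extension
import Cfsg.Agent.Lib.Linear.SLPerfect
import Cfsg.Agent.Lib.Spec.SLTwo
import Cfsg.Agent.S0262
import Mathlib.GroupTheory.Transfer

/-!
# Splitting off the center
-/

set_option autoImplicit false
set_option linter.unusedSectionVars false
set_option linter.style.haveILetI false
set_option maxHeartbeats 1000000

namespace Cfsg.Agent.DegreePSubTwo

open Cfsg Cfsg.Lib.Char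
open scoped ComplexConjugate

universe u

noncomputable local instance (priority := high) fintypeSubgroupDegreePSubTwoSplit {A : Type u}
    [Group A] [Fintype A] (H : Subgroup A) : Fintype H := Fintype.ofFinite H

/-- A central element of the derived subgroup is trivial when all Sylow subgroups are abelian. -/
theorem center_inf_commutator_eq_bot {G : Type u} [Group G] [Finite G]
    (hab : ∀ (r : ℕ), r.Prime → ∀ R : Sylow r G, IsMulCommutative (R : Subgroup G)) :
    Subgroup.center G ⊓ commutator G = ⊥ := by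
  rw [Subgroup.eq_bot_iff_forall]
  intro z hz
  obtain ⟨hzc, hzd⟩ := Subgroup.mem_inf.1 hz
  by_contra hz1
  obtain ⟨r, hr, hrz⟩ := Nat.exists_prime_and_dvd (mt orderOf_eq_one_iff.1 hz1)
  haveI := Fact.mk hr
  set w := z ^ (orderOf z / r) with hw
  have hwo : orderOf w = r := orderOf_pow_orderOf_div (orderOf_pos z).ne' hrz
  have hwc : w ∈ Subgroup.center G := pow_mem hzc _
  have hwd : w ∈ commutator G := pow_mem hzd _
  obtain ⟨R, hR⟩ := IsPGroup.exists_le_sylow (p := r) (G := G)
    (IsPGroup.of_card (n := 1) (by rw [Nat.card_zpowers, hwo, pow_one]) :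
      IsPGroup r (Subgroup.zpowers w))
  letI : CommGroup (R : Subgroup G) :=
    { (inferInstance : Group (R : Subgroup G)) with mul_comm := fun a b => (hab r hr R).is_comm.comm a b }
  have hwR : w ∈ (R : Subgroup G) := hR (Subgroup.mem_zpowers w)
  have key : ∀ (k : ℕ) (g₀ : G), g₀⁻¹ * w ^ k * g₀ ∈ (R : Subgroup G) →
      g₀⁻¹ * w ^ k * g₀ = w ^ k := fun k g₀ _ => by
    rw [Subgroup.mem_center_iff.1 (pow_mem hwc k) g₀⁻¹, inv_mul_cancel_right]
  have h1 : MonoidHom.transfer (MonoidHom.id (R : Subgroup G)) w = 1 :=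
    MonoidHom.mem_ker.1 (Abelianization.commutator_subset_ker _ hwd)
  rw [MonoidHom.transfer_eq_pow (MonoidHom.id (R : Subgroup G)) w key] at h1
  have h2 : w ^ (R : Subgroup G).index = 1 := congrArg Subtype.val h1
  have hd := orderOf_dvd_of_pow_eq_one h2
  rw [hwo] at hd
  exact R.not_dvd_index hd

variable {p : ℕ} [Fact p.Prime] {G : Type u} [Group G] [Fintype G]

/-- The structure of a group with a faithful irreducible character of degree `p - 2`. -/
theorem main (h5 : 5 < p) (P : Sylow p G) (hP : Nat.card P = p) (hnn : ¬ (P : Subgroup G).Normal)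
    {ζ : G → ℂ} (hζ : IsIrrCharacter G ζ) (hfaith : ∀ g : G, ζ g = ζ 1 → g = 1)
    (hdeg : ζ 1 = ((p - 2 : ℕ) : ℂ)) :
    ∃ (a : ℕ) (F : Type) (_ : Field F) (_ : Fintype F), p = 2 ^ a + 1 ∧ Fintype.card F = 2 ^ a ∧
      Nonempty (G ≃* Matrix.SpecialLinearGroup (Fin 2) F × Subgroup.center G) := by
  classical
  have hpp : p.Prime := Fact.out
  have hfac : (Nat.card G).factorization p = 1 := by
    have h := P.card_eq_multiplicity
    rw [hP] at h
    exact (Nat.pow_right_injective hpp.two_le (show p ^ (Nat.card G).factorization p = p ^ 1 by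
      rw [← h, pow_one]))
  obtain ⟨hcent, hidx, k, hk, hval⟩ :=
    Cfsg.Lib.Block.structure_degree_p_sub_two h5 hP hfac hnn hζ hfaith hdeg
  obtain ⟨d, ρ, hirr, hρ⟩ := hζ
  have hζc : IsIrrCharacter G ζ := ⟨d, ρ, hirr, hρ⟩
  have hd : d = p - 2 := by
    have h := hdeg
    rw [← hρ, ρ.char_one, Module.finrank_fin_fun] at h
    exact_mod_cast h
  -- the determinant twist
  set δ := detHom ρ with hδ
  have hδnorm : ∀ g, ‖(δ g : ℂ)‖ = 1 := fun g =>
    Complex.norm_eq_one_of_pow_eq_one (n := orderOf g)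
      (by rw [← Units.val_pow_eq_pow_val, ← map_pow, pow_orderOf_eq_one, map_one, Units.val_one])
      (orderOf_pos g).ne'
  have hδP : ∀ y ∈ (P : Subgroup G), δ y = 1 := by
    intro y hy
    have hnle : ¬ (Subgroup.normalizer ((P : Subgroup G) : Set G)) ≤
        Subgroup.centralizer ((P : Subgroup G) : Set G) := fun h => by
      rw [← Subgroup.relIndex_eq_one, hidx] at h
      omega
    obtain ⟨w, hw, hwC⟩ := SetLike.not_le_iff_exists.1 hnle
    have h1 : δ y⁻¹ = δ y := by
      rw [← Cfsg.Lib.Block.inverts_of_relIndex_two hP hidx hw hwC hy, map_mul, map_mul, map_inv,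
        mul_comm (δ w), mul_inv_cancel_right]
    have h2 : δ y ^ 2 = 1 := by
      rw [sq]
      nth_rewrite 1 [← h1]
      rw [map_inv, inv_mul_cancel]
    have h3 : δ y ^ p = 1 := by
      have e : y ^ p = 1 := by
        have := congrArg Subtype.val (pow_card_eq_one' (x := (⟨y, hy⟩ : (P : Subgroup G))))
        rwa [hP, SubmonoidClass.coe_pow] at this
      rw [← map_pow, e, map_one]
    have := pow_gcd_eq_one.2 ⟨h2, h3⟩
    rwa [(Nat.coprime_primes Nat.prime_two hpp).2 (by omega), pow_one] at this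
  -- the scalars
  have heta : ∀ z ∈ Subgroup.center G,
      (δ z : ℂ) = (ζ z / ((p - 2 : ℕ) : ℂ)) ^ (p - 2) ∧
        (ζ z / ((p - 2 : ℕ) : ℂ)) ^ orderOf z = 1 := by
    intro z hz
    obtain ⟨c, hc1, hc⟩ := Cfsg.Lib.Block.exists_central_scalar (⟨ζ, hζc⟩ : IrrCharacter G) hz
    have h := hc 1
    simp only [mul_one] at h
    have hn0 : ((p - 2 : ℕ) : ℂ) ≠ 0 := Nat.cast_ne_zero.2 (by omega)
    rw [hdeg] at h
    have heq : ζ z / ((p - 2 : ℕ) : ℂ) = c := by
      rw [h, mul_div_assoc, div_self hn0, mul_one]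
    rw [heq]
    refine ⟨?_, hc1⟩
    obtain ⟨μ, hμ, hsum, -, -, -, hscal⟩ := character_eq_sum_roots ρ z
    have hμn : ∀ i, ‖μ i‖ = 1 := fun i =>
      Complex.norm_eq_one_of_pow_eq_one (hμ i) (orderOf_pos z).ne'
    have hnorm : ‖ζ z‖ = ((p - 2 : ℕ) : ℝ) := by
      rw [h, norm_mul, Complex.norm_eq_one_of_pow_eq_one hc1 (orderOf_pos z).ne', one_mul,
        Complex.norm_natCast]
    have hall := fun i => Cfsg.Lib.Block.eq_avg_of_norm_sum hμn
      ((Module.finrank_fin_fun ℂ).trans hd) (by rw [← hsum, hρ]; exact hnorm) i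
    have hz' := hscal _ hall
    rw [detHom_apply, hz', LinearMap.det_smul, LinearMap.det_id, mul_one,
      show (∑ j, μ j) / ((p - 2 : ℕ) : ℂ) = c by rw [← hsum, hρ, heq], Module.finrank_fin_fun, hd]
  have hfacp : ∀ z ∈ Subgroup.center G, ¬ p ∣ orderOf z := by
    intro z hz hpz
    set w := z ^ (orderOf z / p) with hw
    have hwo : orderOf w = p := orderOf_pow_orderOf_div (orderOf_pos z).ne' hpz
    have hwc : w ∈ Subgroup.center G := pow_mem hz _
    obtain ⟨R, hR⟩ := IsPGroup.exists_le_sylow (p := p) (G := G)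
      (IsPGroup.of_card (n := 1) (by rw [Nat.card_zpowers, hwo, pow_one]) :
        IsPGroup p (Subgroup.zpowers w))
    obtain ⟨x, hx⟩ := MulAction.exists_smul_eq G R P
    have hwP : w ∈ (P : Subgroup G) := by
      rw [← hx, Sylow.coe_subgroup_smul, Subgroup.mem_pointwise_smul_iff_inv_smul_mem]
      have e : (MulAut.conj x)⁻¹ • w = w := by
        show (MulAut.conj x)⁻¹ w = w
        rw [MulAut.conj_inv_apply, Subgroup.mem_center_iff.1 hwc x⁻¹, inv_mul_cancel_right]
      rw [e]
      exact hR (Subgroup.mem_zpowers w)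
    have hw1 : w ≠ 1 := fun h => by rw [h, orderOf_one] at hwo; exact hpp.ne_one hwo.symm
    refine hnn ⟨fun v hv g => ?_⟩
    have hv' : v ∈ Subgroup.zpowers w :=
      (Cfsg.Lib.Block.zpowers_eq_of_mem hP hwP hw1).symm ▸ hv
    rwa [Subgroup.mem_center_iff.1 (Subgroup.zpowers_le.2 hwc hv') g, mul_inv_cancel_right]
  -- the exponent
  have hTcop : Nat.Coprime (p - 2) (twoPart p G) := by
    refine Nat.Coprime.pow_right _ (Nat.coprime_two_right.2 ?_)
    exact Nat.Odd.sub_even (by omega) (hpp.odd_of_ne_two (by omega)) even_two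
  haveI : NeZero (twoPart p G) := ⟨pow_ne_zero _ two_ne_zero⟩
  obtain ⟨l, hl⟩ : ∃ l : ℕ, twoPart p G ∣ (p - 2) * l + 1 := by
    refine ⟨(-((ZMod.unitOfCoprime _ hTcop)⁻¹ : (ZMod (twoPart p G))ˣ) : ZMod (twoPart p G)).val, ?_⟩
    rw [← ZMod.natCast_eq_zero_iff]
    push_cast
    rw [ZMod.natCast_zmod_val, mul_neg, ← ZMod.coe_unitOfCoprime (p - 2) hTcop, Units.mul_inv,
      neg_add_cancel]
  set ζ' : G → ℂ := fun g => (δ g : ℂ) ^ l * ζ g with hζ'
  have hn' : ∀ g, ‖ζ' g‖ = ‖ζ g‖ := fun g => by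
    simp only [hζ', norm_mul, norm_pow, hδnorm, one_pow, one_mul]
  have hirr' : IsIrrCharacter G ζ' := by
    have hlc : IsCharacter G fun g => ((δ ^ l) g : ℂ) := (isIrrCharacter_linear _).isCharacter
    have hc' : IsCharacter G ζ' := by
      have h := hlc.mul hζc.isCharacter
      refine (show ζ' = _ from funext fun g => ?_) ▸ h
      simp [hζ']
    refine isIrrCharacter_of_norm_one hc' ?_
    rw [← classInner_irr_self hζc]
    simp only [classInner]
    congr 1
    refine Finset.sum_congr rfl fun g _ => ?_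
    rw [Complex.mul_conj, Complex.mul_conj, Complex.normSq_eq_norm_sq, Complex.normSq_eq_norm_sq,
      hn']
  have hS : Setting p ζ' (P : Subgroup G) k := by
    refine ⟨h5, hP, hfac, hcent, hidx, hk, hirr', ?_, fun y hy => ?_, fun g hg => ?_, fun z hz => ?_⟩
    · simp [hζ', hdeg]
    · simp only [hζ', hδP _ y.2, Units.val_one, one_pow, one_mul]
      exact hval y hy
    · exact Cfsg.Lib.Block.mem_center_of_norm_eq hζc hfaith hdeg (hn' g ▸ hg)
    · obtain ⟨e1, e2⟩ := heta z hz
      set η := ζ z / ((p - 2 : ℕ) : ℂ) with hη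
      have hη' : eta p ζ' z = η ^ ((p - 2) * l + 1) := by
        simp only [eta, hζ', e1, mul_div_assoc, ← hη]
        rw [← pow_mul, ← pow_succ]
      rw [hη', ← pow_mul]
      obtain ⟨c, hc⟩ := hl
      have hzd : orderOf z ∣ twoPart p G * oddPart p G := by
        have hd' := orderOf_dvd_natCard z
        have hcard : Nat.card G = p * (twoPart p G * oddPart p G) := by
          have hdp : p ∣ Nat.card G := by
            have h := Subgroup.card_subgroup_dvd_card (P : Subgroup G)
            rwa [show Nat.card (P : Subgroup G) = p from hP] at h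
          have h2 : twoPart p G ∣ Nat.card G / p := Nat.ordProj_dvd _ _
          rw [oddPart, Nat.mul_div_cancel' h2, Nat.mul_div_cancel' hdp]
        rw [hcard] at hd'
        exact ((hpp.coprime_iff_not_dvd).2 (hfacp z hz)).symm.dvd_of_dvd_mul_left hd'
      obtain ⟨e, he⟩ := hzd
      rw [hc, show twoPart p G * c * oddPart p G = twoPart p G * oddPart p G * c by ring, he,
        pow_mul, pow_mul, e2, one_pow, one_pow]
  obtain ⟨a, F, iF, iFt, hpa, hF, ⟨e⟩⟩ := hS.recognition
  refine ⟨a, F, iF, iFt, hpa, hF, ?_⟩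
  have ha2 : 2 ≤ a := by
    by_contra h
    push Not at h
    interval_cases a <;> omega
  haveI : Fact (Nat.Prime 2) := ⟨Nat.prime_two⟩
  haveI : CharP F 2 := by
    obtain ⟨q, hq⟩ := CharP.exists F
    haveI := Fact.mk (CharP.char_is_prime F q)
    obtain ⟨n, -, hn⟩ := FiniteField.card F q
    rw [hF] at hn
    have hq2 : q = 2 := ((Nat.prime_dvd_prime_iff_eq (CharP.char_is_prime F q) Nat.prime_two).1
      ((CharP.char_is_prime F q).dvd_of_dvd_pow (hn ▸ dvd_pow_self q n.ne_zero)))
    exact hq2 ▸ hq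
  set e' : G ⧸ Subgroup.center G ≃* Matrix.SpecialLinearGroup (Fin 2) F :=
    e.trans Cfsg.Lib.Spec.pslEquivOfCharTwo
  set φ : G →* Matrix.SpecialLinearGroup (Fin 2) F :=
    e'.toMonoidHom.comp (QuotientGroup.mk' (Subgroup.center G)) with hφ
  have hφsurj : Function.Surjective φ := e'.surjective.comp (QuotientGroup.mk'_surjective _)
  have hφker : ∀ g, φ g = 1 ↔ g ∈ Subgroup.center G := fun g => by
    rw [hφ, MonoidHom.comp_apply, MulEquiv.coe_toMonoidHom, e'.map_eq_one_iff,
      QuotientGroup.mk'_apply, QuotientGroup.eq_one_iff]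
  -- the Sylow subgroups are abelian
  have hab : ∀ (r : ℕ), r.Prime → ∀ R : Sylow r G, IsMulCommutative (R : Subgroup G) := by
    intro r hr R
    haveI := Fact.mk hr
    by_cases hrp : r = p
    · subst hrp
      have hc : Nat.card (R : Subgroup G) = r := by
        rw [R.card_eq_multiplicity, hfac, pow_one]
      haveI := isCyclic_of_prime_card hc
      exact IsCyclic.isMulCommutative
    by_cases hr2 : r = 2
    · subst hr2
      have hval2 : ∀ g ∈ (R : Subgroup G), g ∉ Subgroup.center G → ζ g ≠ 0 := by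
        intro g hg hgc h0
        obtain ⟨j, hj⟩ := IsPGroup.iff_orderOf.1 R.2 ⟨g, hg⟩
        rw [Subgroup.orderOf_mk] at hj
        have h1 := (hS.two_value j g hj).2 hgc
        simp [hζ', h0] at h1
      refine ⟨⟨fun x y => Subtype.ext ?_⟩⟩
      show (x : G) * y = y * x
      obtain ⟨j, hj⟩ := IsPGroup.iff_orderOf.1 R.2 x
      have hxx : (x : G) * x ∈ Subgroup.center G :=
        (hS.two_value j x (by rw [Subgroup.orderOf_coe]; exact hj)).1
      set z : G := x * y * (x : G)⁻¹ * (y : G)⁻¹ with hz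
      have hzc : z ∈ Subgroup.center G := by
        have hsq : ∀ u ∈ (R : Subgroup G), φ u * φ u = 1 := fun u hu => by
          obtain ⟨j', hj'⟩ := IsPGroup.iff_orderOf.1 R.2 ⟨u, hu⟩
          rw [← map_mul, hφker]
          exact (hS.two_value j' u (by rw [← hj', Subgroup.orderOf_mk])).1
        rw [← hφker, hz, map_mul, map_mul, map_mul, map_inv, map_inv,
          inv_eq_of_mul_eq_one_right (hsq _ x.2), inv_eq_of_mul_eq_one_right (hsq _ y.2)]
        have h := hsq _ (mul_mem x.2 y.2)
        rw [map_mul] at h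
        simpa [mul_assoc] using h
      by_cases hz1 : z = 1
      · rw [hz, mul_inv_eq_one, mul_inv_eq_iff_eq_mul] at hz1
        exact hz1
      exfalso
      have hy : (y : G) ∉ Subgroup.center G := fun hy => hz1 (by
        rw [hz, Subgroup.mem_center_iff.1 hy (x : G), mul_inv_cancel_right, mul_inv_cancel])
      obtain ⟨c, -, hc⟩ := Cfsg.Lib.Block.exists_central_scalar (⟨ζ, hζc⟩ : IrrCharacter G) hzc
      have h1 : c * ζ y = ζ y := by
        rw [← hc (y : G)]
        show ζ (z * y) = ζ y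
        rw [hz, inv_mul_cancel_right]
        exact hζc.isCharacter.isClassFunction (y : G) x
      have hc1 : c = 1 := (mul_eq_right₀ (hval2 _ y.2 hy)).1 h1
      refine hz1 (hfaith z ?_)
      have h2 := hc 1
      simp only [mul_one] at h2
      rw [h2, hc1, one_mul]
    · have hcyc := S0262.result (F := F) 2 r hr2 hr2 (R.mapSurjective hφsurj)
      obtain ⟨c, hc⟩ := hcyc.exists_generator
      obtain ⟨g, hg, hgc⟩ := Subgroup.mem_map.1 (show (c : Matrix.SpecialLinearGroup (Fin 2) F) ∈
        (R : Subgroup G).map φ from c.2)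
      refine ⟨⟨fun x y => Subtype.ext ?_⟩⟩
      have hdec : ∀ u ∈ (R : Subgroup G), ∃ (m : ℤ) (z : G), z ∈ Subgroup.center G ∧ u = g ^ m * z := by
        intro u hu
        obtain ⟨m, hm⟩ := Subgroup.mem_zpowers_iff.1
          (hc ⟨φ u, Subgroup.mem_map_of_mem φ hu⟩)
        refine ⟨m, (g ^ m)⁻¹ * u, ?_, by rw [mul_inv_cancel_left]⟩
        rw [← hφker, map_mul, map_inv, map_zpow, hgc]
        have h' := congrArg Subtype.val hm
        rw [SubgroupClass.coe_zpow] at h'
        rw [h', inv_mul_cancel]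
      obtain ⟨m, z, hz, hx⟩ := hdec x x.2
      obtain ⟨m', z', hz', hy⟩ := hdec y y.2
      show (x : G) * y = y * x
      rw [hx, hy]
      have c1 : ∀ v : G, Commute v z := fun v => Subgroup.mem_center_iff.1 hz v
      have c2 : ∀ v : G, Commute v z' := fun v => Subgroup.mem_center_iff.1 hz' v
      exact ((Commute.zpow_zpow_self g m m').mul_right (c2 _)).mul_left
        ((c1 _).symm.mul_right (c2 _))
  have hbot := center_inf_commutator_eq_bot hab
  -- the direct product
  have hperf : commutator (Matrix.SpecialLinearGroup (Fin 2) F) = ⊤ := by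
    refine Cfsg.Lib.Linear.commutator_SL_eq_top' (Or.inr ?_)
    rw [hF]
    calc 4 = 2 ^ 2 := by norm_num
      _ ≤ 2 ^ a := Nat.pow_le_pow_right two_pos ha2
  set ψ : commutator G × Subgroup.center G →* G :=
    { toFun := fun x => (x.1 : G) * x.2
      map_one' := by simp
      map_mul' := fun x y => by
        have hc : (y.1 : G) * x.2 = x.2 * y.1 := Subgroup.mem_center_iff.1 x.2.2 _
        simp only [Prod.fst_mul, Prod.snd_mul, Subgroup.coe_mul]
        rw [mul_assoc, ← mul_assoc (y.1 : G), hc]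
        simp only [mul_assoc] } with hψ
  have hmapc : (commutator G).map φ = ⊤ := by
    rw [commutator_def, Subgroup.map_commutator, Subgroup.map_top_of_surjective φ hφsurj,
      ← commutator_def, hperf]
  have hψbij : Function.Bijective ψ := by
    constructor
    · rw [injective_iff_map_eq_one]
      rintro ⟨⟨u, hu⟩, ⟨z, hz⟩⟩ h
      change u * z = 1 at h
      have hu' : u = z⁻¹ := eq_inv_of_mul_eq_one_left h
      have : u ∈ Subgroup.center G ⊓ commutator G :=
        Subgroup.mem_inf.2 ⟨hu' ▸ inv_mem hz, hu⟩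
      rw [hbot, Subgroup.mem_bot] at this
      subst this
      rw [one_mul] at h
      subst h
      rfl
    · intro g
      obtain ⟨u, hu, hug⟩ := Subgroup.mem_map.1 (hmapc.symm ▸ Subgroup.mem_top (φ g) :
        φ g ∈ (commutator G).map φ)
      have hz : u⁻¹ * g ∈ Subgroup.center G := by
        rw [← hφker, map_mul, map_inv, hug, inv_mul_cancel]
      exact ⟨(⟨u, hu⟩, ⟨_, hz⟩), by simp [hψ]⟩
  have hφ'bij : Function.Bijective (φ.domRestrict (commutator G)) := by
    constructor
    · rw [injective_iff_map_eq_one]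
      rintro ⟨u, hu⟩ h
      have : u ∈ Subgroup.center G ⊓ commutator G := Subgroup.mem_inf.2 ⟨(hφker u).1 h, hu⟩
      rw [hbot, Subgroup.mem_bot] at this
      exact Subtype.ext this
    · intro c
      obtain ⟨u, hu, hug⟩ := Subgroup.mem_map.1 (hmapc.symm ▸ Subgroup.mem_top c :
        c ∈ (commutator G).map φ)
      exact ⟨⟨u, hu⟩, hug⟩
  exact ⟨(MulEquiv.ofBijective ψ hψbij).symm.trans
    ((MulEquiv.ofBijective _ hφ'bij).prodCongr (MulEquiv.refl _))⟩

end Cfsg.Agent.DegreePSubTwo
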