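import Cfsg.Agent.Lib.Char.Basic
import Cfsg.Agent.Lib.Char.AltSquare
import Cfsg.Agent.Lib.Char.Orthogonality
import Cfsg.Agent.Lib.Recog.Icosahedral
import Mathlib

/-!
# Perfect groups with a faithful real character of degree three

Such a group has order `60`: count the fixed lines of its nonidentity elements.
-/

set_option autoImplicit false
set_option linter.style.haveILetI false
set_option linter.unusedSectionVars false

namespace Cfsg.Lib.Char.IcosaThree

open Cfsg Cfsg.Lib.Char Module Matrix
open scoped ComplexConjugate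

universe u

/-- Eigenvalues with determinant one, for a perfect group. -/
theorem exists_roots_det_one {G : Type u} [Group G] [Finite G] (hperf : commutator G = ⊤)
    {n : ℕ} (ρ : Representation ℂ G (Fin n → ℂ)) (g : G) :
    ∃ (b : Basis (Fin n) ℂ (Fin n → ℂ)) (μ : Fin n → ℂ), (∀ i, ρ g (b i) = μ i • b i) ∧
      (∀ i, conj (μ i) * μ i = 1) ∧ ∏ i, μ i = 1 ∧ ρ.character g = ∑ i, μ i ∧
      ∀ k : ℕ, ρ.character (g ^ k) = ∑ i, μ i ^ k := by
  classical
  haveI := Fintype.ofFinite G
  obtain ⟨b₀, μ₀, hb₀, hμ₀⟩ := exists_eigenbasis ρ g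
  let e : Fin (finrank ℂ (Fin n → ℂ)) ≃ Fin n := finCongr (Module.finrank_fin_fun ℂ)
  let b := b₀.reindex e
  let μ := μ₀ ∘ e.symm
  have hb : ∀ i, ρ g (b i) = μ i • b i := fun i => by
    simp only [b, μ, Basis.reindex_apply, Function.comp_apply]
    exact hb₀ _
  have hpow : ∀ (k : ℕ) i, ρ (g ^ k) (b i) = μ i ^ k • b i := by
    intro k i
    induction k with
    | zero => simp
    | succ m ih =>
      rw [pow_succ, map_mul, Module.End.mul_apply, hb, map_smul, ih, smul_smul, pow_succ']
  refine ⟨b, μ, hb, fun i => ?_, ?_, trace_eq_sum_of_eigenbasis _ b μ hb,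
    fun k => trace_eq_sum_of_eigenbasis _ b _ (hpow k)⟩
  · have h1 : ‖μ i‖ = 1 := norm_eq_one_of_pow_orderOf (hμ₀ (e.symm i))
    rw [mul_comm, Complex.mul_conj, Complex.normSq_eq_norm_sq, h1]
    norm_num
  · have hd : LinearMap.det (ρ g) = 1 := by
      let d : G →* ℂ :=
        { toFun := fun x => LinearMap.det (ρ x)
          map_one' := by rw [map_one]; exact map_one LinearMap.det
          map_mul' := fun x y => by rw [map_mul]; exact map_mul LinearMap.det _ _ }
      have h := Abelianization.commutator_subset_ker d.toHomUnits (show g ∈ commutator G by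
        rw [hperf]; exact Subgroup.mem_top g)
      exact congrArg Units.val (MonoidHom.mem_ker.1 h)
    rw [← hd, ← LinearMap.det_toMatrix b,
      show LinearMap.toMatrix b b (ρ g) = Matrix.diagonal μ from ?_, Matrix.det_diagonal]
    ext i j
    rw [LinearMap.toMatrix_apply, hb j, map_smul, Basis.repr_self, Finsupp.smul_apply,
      Finsupp.single_apply, Matrix.diagonal_apply]
    by_cases hij : i = j
    · simp [hij]
    · simp [hij, Ne.symm hij]

/-- The character of the congruence action is the square. -/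
theorem character_congrRep {G : Type u} [Group G] {n : ℕ} (ρ : Representation ℂ G (Fin n → ℂ))
    (g : G) : (congrRep ρ).character g = ρ.character g * ρ.character g := by
  classical
  have hch : ρ.character g = (LinearMap.toMatrix' (ρ g)).trace := by
    rw [Representation.character, LinearMap.trace_eq_matrix_trace ℂ (Pi.basisFun ℂ (Fin n))]
    rfl
  rw [Representation.character, LinearMap.trace_eq_matrix_trace ℂ (Matrix.stdBasis ℂ (Fin n) (Fin n)),
    hch]
  set M := LinearMap.toMatrix' (ρ g) with hM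
  have hentry : ∀ i j : Fin n, congrRep ρ g (Matrix.single i j (1 : ℂ)) i j = M i i * M j j := by
    intro i j
    rw [congrRep_apply, ← hM]
    simp [Matrix.mul_apply, Matrix.single_apply, ite_and, Finset.sum_ite_eq, mul_comm]
  simp only [Matrix.trace, Matrix.diag, LinearMap.toMatrix_apply, Fintype.sum_prod_type,
    Matrix.stdBasis_eq_single]
  rw [Finset.sum_mul_sum]
  refine Finset.sum_congr rfl fun i _ => Finset.sum_congr rfl fun j _ => ?_
  rw [← hentry i j]
  rfl

/-- An invariant symmetric form. -/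
theorem exists_form {G : Type u} [Group G] [Finite G] (ρ : Representation ℂ G (Fin 3 → ℂ))
    [hρ : ρ.IsIrreducible] (hreal : ∀ g, conj (ρ.character g) = ρ.character g) :
    ∃ B : Matrix (Fin 3) (Fin 3) ℂ, Bᵀ = B ∧ B.det ≠ 0 ∧
      ∀ g : G, (LinearMap.toMatrix' (ρ g))ᵀ * B * LinearMap.toMatrix' (ρ g) = B := by
  classical
  haveI := Fintype.ofFinite G
  set R := congrRep ρ with hR
  set T : Matrix (Fin 3) (Fin 3) ℂ →ₗ[ℂ] Matrix (Fin 3) (Fin 3) ℂ := ∑ g : G, R g with hT
  have hTne : T ≠ 0 := by
    intro h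
    have h1 : LinearMap.trace ℂ _ T = ∑ g : G, ρ.character g * ρ.character g := by
      rw [hT, map_sum]
      exact Finset.sum_congr rfl fun g _ => character_congrRep ρ g
    rw [h, map_zero] at h1
    have h2 := classInner_irreducible_self ρ
    simp only [classInner] at h2
    rw [Finset.sum_congr rfl fun g _ => by rw [hreal g]] at h2
    rw [← h1, mul_zero] at h2
    exact zero_ne_one h2
  obtain ⟨A₀, hA₀⟩ : ∃ A, T A ≠ 0 := by
    by_contra h
    push Not at h
    exact hTne (LinearMap.ext h)
  have hfix : ∀ g, R g (T A₀) = T A₀ := fun g => by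
    rw [hT, LinearMap.sum_apply, map_sum]
    exact Fintype.sum_equiv (Equiv.mulLeft g) _ _ fun x => by
      rw [Equiv.coe_mulLeft, map_mul]; rfl
  -- invariant matrices are invertible
  have hinvert : ∀ A : Matrix (Fin 3) (Fin 3) ℂ, A ≠ 0 → (∀ g, R g A = A) → A.det ≠ 0 := by
    intro A hA hfixA
    let W : Submodule ℂ (Fin 3 → ℂ) := LinearMap.range A.mulVecLin
    have hW : ∀ (g : G), ∀ v ∈ W, ρ g v ∈ W := by
      rintro g _ ⟨w, rfl⟩
      refine ⟨(LinearMap.toMatrix' (ρ g⁻¹))ᵀ *ᵥ w, ?_⟩
      have h : LinearMap.toMatrix' (ρ g) * A =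
          A * (LinearMap.toMatrix' (ρ g⁻¹))ᵀ := by
        have hone : LinearMap.toMatrix' (ρ g⁻¹) * LinearMap.toMatrix' (ρ g) = 1 := by
          rw [← LinearMap.toMatrix'_mul, ← map_mul, inv_mul_cancel, map_one]
          exact LinearMap.toMatrix'_one
        have h := congrArg (· * (LinearMap.toMatrix' (ρ g⁻¹))ᵀ) (hfixA g)
        simp only [hR, congrRep_apply] at h
        rw [Matrix.mul_assoc, ← Matrix.transpose_mul, hone, Matrix.transpose_one,
          Matrix.mul_one] at h
        exact h
      show A *ᵥ ((LinearMap.toMatrix' (ρ g⁻¹))ᵀ *ᵥ w) = ρ g (A *ᵥ w)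
      rw [Matrix.mulVec_mulVec, ← h, ← Matrix.mulVec_mulVec, LinearMap.toMatrix'_mulVec]
    have htop : W = ⊤ := by
      rcases ((isIrreducible_iff_submodule ρ).1 hρ).2 W hW with h | h
      · exfalso
        refine hA ?_
        ext i j
        have hb : A *ᵥ Pi.single j 1 ∈ W := ⟨_, rfl⟩
        rw [h, Submodule.mem_bot] at hb
        simpa [Matrix.mulVec_single] using congrFun hb i
      · exact h
    have hsurj : Function.Surjective A.mulVec := LinearMap.range_eq_top.1 htop
    exact ((Matrix.isUnit_iff_isUnit_det A).1 (Matrix.mulVec_surjective_iff_isUnit.1 hsurj)).ne_zero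
  set A := T A₀ with hA
  have hAt : ∀ g, R g Aᵀ = Aᵀ := fun g => by rw [hR, congrRep_transpose, ← hR, hfix]
  have hS : A + Aᵀ ≠ 0 := by
    intro h
    have h1 := hinvert A hA₀ hfix
    have h2 : Aᵀ = -A := (neg_eq_of_add_eq_zero_right h).symm
    have h3 := Matrix.det_transpose A
    rw [h2, Matrix.det_neg] at h3
    norm_num at h3
    exact h1 (by linear_combination (-1 / 2 : ℂ) * h3)
  have hSd := hinvert (A + Aᵀ) hS fun g => by rw [map_add, hfix, hAt]
  refine ⟨(A + Aᵀ)⁻¹, ?_, ?_, fun g => ?_⟩
  · rw [Matrix.transpose_nonsing_inv, Matrix.transpose_add, Matrix.transpose_transpose, add_comm]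
  · rw [Matrix.det_nonsing_inv, Ring.inverse_eq_inv']
    exact inv_ne_zero hSd
  · set S := A + Aᵀ
    set M := LinearMap.toMatrix' (ρ g)
    have hfS : M * S * Mᵀ = S := by
      have := congrRep_apply ρ g S
      rw [← hR, map_add, hfix, hAt] at this
      exact this.symm
    have hu : IsUnit S.det := isUnit_iff_ne_zero.2 hSd
    have hM : IsUnit M.det := by
      refine isUnit_iff_ne_zero.2 fun h => hSd ?_
      rw [← hfS, Matrix.det_mul, Matrix.det_mul, h, zero_mul, zero_mul]
    have h1 : (S⁻¹ * M) * (S * Mᵀ) = 1 := by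
      rw [Matrix.mul_assoc, ← Matrix.mul_assoc M, hfS, Matrix.nonsing_inv_mul _ hu]
    have h2 : (S * Mᵀ) * (S⁻¹ * M) = 1 := mul_eq_one_comm.1 h1
    calc Mᵀ * S⁻¹ * M = S⁻¹ * ((S * Mᵀ) * (S⁻¹ * M)) := by
          rw [← Matrix.mul_assoc, ← Matrix.mul_assoc, ← Matrix.mul_assoc, Matrix.nonsing_inv_mul _ hu,
            Matrix.one_mul]
      _ = S⁻¹ := by rw [h2, Matrix.mul_one]

/-- Two eigenvalues one force the third. -/
theorem all_one_of_two {μ : Fin 3 → ℂ} (h : μ 0 * μ 1 * μ 2 = 1) {i j : Fin 3} (hij : j ≠ i)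
    (hi : μ i = 1) (hj : μ j = 1) (k : Fin 3) : μ k = 1 := by
  fin_cases i <;> fin_cases j <;> fin_cases k <;>
    first
    | exact hi
    | exact hj
    | exact absurd rfl hij
    | (simp only [Fin.zero_eta, Fin.mk_one, Fin.reduceFinMk, Fin.isValue] at hi hj ⊢;
       simpa [hi, hj] using h)

/-- The inequality at the end of the count. -/
theorem order_le_sixty_of_two_of_pair {n b c : ℕ} (hb : 2 ≤ b) (hc : 2 ≤ c) (hbn : 3 * b ≤ n)
    (hcn : 3 * c ≤ n) (h : n * (2 * (b + c)) = b * c * (n + 4)) (hle : b ≤ c) : n ≤ 60 := by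
  have hb3 : b ≤ 3 := by
    by_contra hb4
    have h1 : 4 * (n * c) ≤ b * (n * c) := Nat.mul_le_mul_right _ (by omega)
    have h3 : 0 < b * c := by positivity
    have h2 : n * (2 * (b + c)) ≤ n * (4 * c) := by
      refine Nat.mul_le_mul_left n ?_
      omega
    nlinarith
  interval_cases b
  · nlinarith
  · have hc5 : c ≤ 5 := by
      by_contra hc6
      nlinarith
    interval_cases c <;> omega

theorem order_le_sixty {n a b c : ℕ} (ha : 2 ≤ a) (hb : 2 ≤ b) (hc : 2 ≤ c) (han : 3 * a ≤ n)
    (hbn : 3 * b ≤ n) (hcn : 3 * c ≤ n)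
    (h : n * (a * b + b * c + a * c) = a * b * c * (n + 2)) : n ≤ 60 := by
  have key : ∀ {b c : ℕ}, 2 ≤ b → 2 ≤ c → 3 * b ≤ n → 3 * c ≤ n →
      n * (2 * (b + c)) = b * c * (n + 4) → n ≤ 60 := by
    intro b c hb hc hbn hcn h
    rcases le_total b c with hle | hle
    · exact order_le_sixty_of_two_of_pair hb hc hbn hcn h hle
    · exact order_le_sixty_of_two_of_pair hc hb hcn hbn (by linarith) hle
  by_cases h2 : a = 2 ∨ b = 2 ∨ c = 2
  · rcases h2 with rfl | rfl | rfl
    · exact key hb hc hbn hcn (by linarith)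
    · exact key ha hc han hcn (by linarith)
    · exact key ha hb han hbn (by linarith)
  · push Not at h2
    exfalso
    have : 0 < a * b * c := by positivity
    have h1 : a * b + b * c + a * c ≤ a * b * c := by
      have e1 : 3 * (a * b) ≤ a * b * c := by nlinarith [show 3 ≤ c by omega, Nat.zero_le (a * b)]
      have e2 : 3 * (b * c) ≤ a * b * c := by nlinarith [show 3 ≤ a by omega, Nat.zero_le (b * c)]
      have e3 : 3 * (a * c) ≤ a * b * c := by nlinarith [show 3 ≤ b by omega, Nat.zero_le (a * c)]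
      omega
    nlinarith

/-- The counting argument on a multiset. -/
theorem order_le_sixty_of_multiset {n : ℕ} (hn : 3 ≤ n) (M : Multiset ℕ)
    (h2 : ∀ k ∈ M, 2 ≤ k ∧ 3 * k ≤ n)
    (hsum : (M.map fun k : ℕ => 1 - 1 / (k : ℚ)).sum = 2 - 2 / (n : ℚ)) : n ≤ 60 := by
  have hhalf : ∀ k ∈ M, (1 / 2 : ℚ) ≤ 1 - 1 / (k : ℚ) := fun k hk => by
    have : (2 : ℚ) ≤ k := by exact_mod_cast (h2 k hk).1
    have : 1 / (k : ℚ) ≤ 1 / 2 := one_div_le_one_div_of_le two_pos this
    linarith
  have hn0 : (0 : ℚ) < n := by exact_mod_cast (show 0 < n by omega)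
  have hpos : (0 : ℚ) < 2 / n := div_pos two_pos hn0
  have hcard : M.card ≤ 3 := by
    by_contra h4
    have h := Multiset.card_nsmul_le_sum (s := M.map fun k : ℕ => 1 - 1 / (k : ℚ)) (a := 1 / 2)
      (fun x hx => by obtain ⟨k, hk, rfl⟩ := Multiset.mem_map.1 hx; exact hhalf k hk)
    rw [Multiset.card_map, nsmul_eq_mul, hsum] at h
    have : (4 : ℚ) ≤ M.card := by exact_mod_cast (show 4 ≤ M.card by omega)
    linarith
  have h1 : ∀ k ∈ M, 1 - 1 / (k : ℚ) ≤ 1 - 3 / n := fun k hk => by
    have hk0 : (0 : ℚ) < k := by exact_mod_cast (show 0 < k by have := (h2 k hk).1; omega)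
    have : (3 : ℚ) * k ≤ n := by exact_mod_cast (h2 k hk).2
    have : 3 / (n : ℚ) ≤ 1 / k := by rw [div_le_div_iff₀ hn0 hk0]; linarith
    linarith
  have hn3 : 3 / (n : ℚ) ≤ 1 := by rw [div_le_one hn0]; exact_mod_cast hn
  obtain h | h | h | h : M.card = 0 ∨ M.card = 1 ∨ M.card = 2 ∨ M.card = 3 := by omega
  · rw [Multiset.card_eq_zero.1 h] at hsum
    simp at hsum
    have : 2 / (n : ℚ) ≤ 2 / 3 := by
      refine div_le_div_of_nonneg_left two_pos.le (by norm_num) ?_
      exact_mod_cast hn
    linarith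
  · obtain ⟨a, rfl⟩ := Multiset.card_eq_one.1 h
    simp at hsum
    have := h1 a (by simp)
    have e : 3 / (n : ℚ) = 3 / 2 * (2 / n) := by ring
    rw [one_div] at this
    linarith
  · obtain ⟨a, b, rfl⟩ := Multiset.card_eq_two.1 h
    simp at hsum
    have ha := h1 a (by simp)
    have hb := h1 b (by simp)
    have e : 3 / (n : ℚ) = 3 / 2 * (2 / n) := by ring
    rw [one_div] at ha hb
    linarith
  · obtain ⟨a, b, c, rfl⟩ := Multiset.card_eq_three.1 h
    obtain ⟨ha, han⟩ := h2 a (by simp)
    obtain ⟨hb, hbn⟩ := h2 b (by simp)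
    obtain ⟨hc, hcn⟩ := h2 c (by simp)
    refine order_le_sixty ha hb hc han hbn hcn ?_
    have hq : ((n * (a * b + b * c + a * c) : ℕ) : ℚ) = ((a * b * c * (n + 2) : ℕ) : ℚ) := by
      simp at hsum
      have : (a : ℚ) ≠ 0 := by exact_mod_cast (show a ≠ 0 by omega)
      have : (b : ℚ) ≠ 0 := by exact_mod_cast (show b ≠ 0 by omega)
      have : (c : ℚ) ≠ 0 := by exact_mod_cast (show c ≠ 0 by omega)
      have := hn0.ne'
      push_cast
      field_simp at hsum
      linear_combination -hsum
    exact_mod_cast hq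

set_option maxHeartbeats 1000000 in
/-- A perfect group with a faithful real irreducible character of degree `3` has order `60`. -/
theorem card_eq_sixty {G : Type u} [Group G] [Finite G] (hperf : commutator G = ⊤) {ψ : G → ℂ}
    (hψ : IsIrrCharacter G ψ) (h3 : ψ 1 = 3) (hreal : ∀ g, conj (ψ g) = ψ g)
    (hfaith : ∀ g, ψ g = ψ 1 → g = 1) : Nat.card G = 60 := by
  classical
  haveI := Fintype.ofFinite G
  obtain ⟨m, ρ, hρ, rfl⟩ := hψ
  obtain rfl : m = 3 := by
    rw [Representation.char_one, Module.finrank_fin_fun] at h3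
    exact_mod_cast h3
  have hfaith' : ∀ g, ρ g = 1 → g = 1 := fun g hg => hfaith g (by
    rw [Representation.character, hg, Representation.char_one, LinearMap.trace_one])
  haveI : Nontrivial (Fin 3 → ℂ) := inferInstance
  haveI hGnt : Nontrivial G := by
    by_contra h
    rw [not_nontrivial_iff_subsingleton] at h
    have hirr := ((isIrreducible_iff_submodule ρ).1 hρ).2 (ℂ ∙ (Pi.single 0 1 : Fin 3 → ℂ)) (by
      intro g v hv
      rw [Subsingleton.elim g 1, map_one]
      exact hv)
    rcases hirr with h' | h'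
    · rw [Submodule.span_singleton_eq_bot] at h'
      simpa using congrFun h' 0
    · have hmem : (Pi.single 1 1 : Fin 3 → ℂ) ∈ (ℂ ∙ (Pi.single 0 1 : Fin 3 → ℂ)) := by
        rw [h']; exact Submodule.mem_top
      obtain ⟨c, hc⟩ := Submodule.mem_span_singleton.1 hmem
      simpa using congrFun hc 1
  have hns : ¬ Group.IsSolvable G := fun hs => by
    have := hs
    exact (Group.IsSolvable.commutator_lt_top_of_nontrivial G).ne hperf
  have hge : 60 ≤ Nat.card G := by
    by_contra h
    exact hns (Cfsg.Lib.Recog.Icosa.solvable_of_lt_sixty _ G rfl (by omega))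
  refine le_antisymm ?_ hge
  obtain ⟨B, hBsymm, hBdet, hB⟩ := exists_form ρ hreal
  have hBinv : ∀ g v w, (ρ g v) ⬝ᵥ (B *ᵥ ρ g w) = v ⬝ᵥ (B *ᵥ w) := fun g v w => by
    rw [← LinearMap.toMatrix'_mulVec, ← LinearMap.toMatrix'_mulVec (ρ g) w]
    conv_rhs => rw [← hB g]
    rw [Matrix.mul_assoc, ← Matrix.mulVec_mulVec, ← Matrix.mulVec_mulVec, Matrix.dotProduct_mulVec v,
      Matrix.vecMul_transpose]
  -- the fixed line of a nonidentity element
  let L : G → Submodule ℂ (Fin 3 → ℂ) := fun g => LinearMap.ker (ρ g - 1)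
  have hLmem : ∀ g v, v ∈ L g ↔ ρ g v = v := fun g v => by
    simp [L, LinearMap.mem_ker, sub_eq_zero]
  have haxis : ∀ g, g ≠ 1 → ∃ v, v ∈ L g ∧ L g = ℂ ∙ v ∧ v ⬝ᵥ (B *ᵥ v) ≠ 0 := by
    intro g hg
    obtain ⟨b, μ, hb, hconj, hprod, hsum, -⟩ := exists_roots_det_one hperf ρ g
    rw [Fin.prod_univ_three] at hprod
    have hc : ∀ i j k, μ i * μ j * μ k = 1 → conj (μ i) = μ j * μ k := fun i j k h => by
      linear_combination (μ j * μ k) * hconj i - conj (μ i) * h
    have hzero : (1 - μ 0) * (1 - μ 1) * (1 - μ 2) = 0 := by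
      have h := hreal g
      rw [hsum, Fin.sum_univ_three, map_add, map_add, hc 0 1 2 hprod,
        hc 1 0 2 (by linear_combination hprod), hc 2 0 1 (by linear_combination hprod)] at h
      linear_combination h - hprod
    obtain ⟨i, hi⟩ : ∃ i, μ i = 1 := by
      rcases mul_eq_zero.1 hzero with h | h
      · rcases mul_eq_zero.1 h with h | h
        · exact ⟨0, (sub_eq_zero.1 h).symm⟩
        · exact ⟨1, (sub_eq_zero.1 h).symm⟩
      · exact ⟨2, (sub_eq_zero.1 h).symm⟩
    have hone : ∀ j, μ j = 1 → j = i := by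
      intro j hj
      by_contra hji
      apply hg (hfaith' g (b.ext fun k => ?_))
      have hk : μ k = 1 := all_one_of_two hprod hji hi hj k
      rw [hb, hk, one_smul, Module.End.one_apply]
    have hLeq : L g = ℂ ∙ b i := by
      refine le_antisymm (fun v hv => Submodule.mem_span_singleton.2 ⟨b.repr v i, ?_⟩)
        ((Submodule.span_singleton_le_iff_mem _ _).2 ((hLmem g _).2 (by rw [hb, hi, one_smul])))
      rw [hLmem] at hv
      have hz : ∀ j, j ≠ i → b.repr v j = 0 := fun j hj => by
        have h := congrArg (fun x => b.repr x j) hv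
        conv_lhs at h => rw [← b.sum_repr v]
        simp only [map_sum, map_smul, hb, Finsupp.coe_finsetSum, Finset.sum_apply, Finsupp.coe_smul,
          Pi.smul_apply, Basis.repr_self, Finsupp.single_apply, smul_eq_mul] at h
        rw [Finset.sum_eq_single j (fun x _ hx => by simp [hx]) (by simp)] at h
        simp only [if_true, mul_one] at h
        have h' : b.repr v j * (μ j - 1) = 0 := by linear_combination h
        exact (mul_eq_zero.1 h').resolve_right (sub_ne_zero.2 fun e => hj (hone j e))
      conv_rhs => rw [← b.sum_repr v]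
      rw [Finset.sum_eq_single i (fun x _ hx => by rw [hz x hx, zero_smul]) (by simp)]
    refine ⟨b i, by rw [hLeq]; exact Submodule.mem_span_singleton_self _, hLeq, fun h0 => ?_⟩
    have horth : ∀ j, b i ⬝ᵥ (B *ᵥ b j) = 0 := by
      intro j
      by_cases hj : j = i
      · rw [hj]; exact h0
      · have h := hBinv g (b i) (b j)
        rw [hb, hb, hi, one_smul, Matrix.mulVec_smul, dotProduct_smul, smul_eq_mul] at h
        have h' : (μ j - 1) * (b i ⬝ᵥ (B *ᵥ b j)) = 0 := by linear_combination h
        exact (mul_eq_zero.1 h').resolve_left (sub_ne_zero.2 fun e => hj (hone j e))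
    have hvec : b i ᵥ* B = 0 := by
      refine funext fun k => ?_
      have hall : ∀ w, b i ⬝ᵥ (B *ᵥ w) = 0 := fun w => by
        rw [← b.sum_repr w, Matrix.mulVec_sum, dotProduct_sum]
        exact Finset.sum_eq_zero fun x _ => by
          rw [Matrix.mulVec_smul, dotProduct_smul, horth, smul_zero]
      have := hall (Pi.single k 1)
      rw [Matrix.dotProduct_mulVec, dotProduct_single, mul_one] at this
      exact this
    exact b.ne_zero i (Matrix.eq_zero_of_vecMul_eq_zero hBdet hvec)
  -- the action on axes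
  letI : MulAction G (Submodule ℂ (Fin 3 → ℂ)) :=
    { smul := fun g W => W.map (ρ g)
      one_smul := fun W => by show W.map (ρ 1) = W; rw [map_one]; exact Submodule.map_id W
      mul_smul := fun g h W => by
        show W.map (ρ (g * h)) = (W.map (ρ h)).map (ρ g)
        rw [map_mul]; exact Submodule.map_comp (ρ h) (ρ g) W }
  have hsmul : ∀ (h g : G), h • L g = L (h * g * h⁻¹) := by
    intro h g
    refine le_antisymm ?_ ?_
    · rintro _ ⟨v, hv, rfl⟩
      rw [hLmem]
      rw [SetLike.mem_coe, hLmem] at hv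
      rw [map_mul, map_mul, Module.End.mul_apply, Module.End.mul_apply,
        Representation.inv_self_apply, hv]
    · intro v hv
      refine ⟨ρ h⁻¹ v, ?_, Representation.self_inv_apply ρ h v⟩
      rw [SetLike.mem_coe, hLmem]
      rw [hLmem, map_mul, map_mul, Module.End.mul_apply, Module.End.mul_apply] at hv
      conv_rhs => rw [← hv, Representation.inv_self_apply]
  let X : Type := {W : Submodule ℂ (Fin 3 → ℂ) // ∃ g, g ≠ 1 ∧ W = L g}
  haveI : Finite X := Finite.of_surjective
    (fun g : {g : G // g ≠ 1} => (⟨L g.1, g.1, g.2, rfl⟩ : X))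
    fun ⟨W, g, hg, hW⟩ => ⟨⟨g, hg⟩, Subtype.ext hW.symm⟩
  haveI := Fintype.ofFinite X
  letI : MulAction G X :=
    { smul := fun h W => ⟨h • W.1, by
        obtain ⟨g, hg, hW⟩ := W.2
        refine ⟨h * g * h⁻¹, fun e => hg ?_, by rw [hW, hsmul]⟩
        rwa [mul_inv_eq_one, mul_eq_left] at e⟩
      one_smul := fun W => Subtype.ext (one_smul G W.1)
      mul_smul := fun g h W => Subtype.ext (mul_smul g h W.1) }
  let toX : {g : G // g ≠ 1} → X := fun g => ⟨L g.1, g.1, g.2, rfl⟩
  let k : X → ℕ := fun W => Nat.card {g : {g : G // g ≠ 1} // toX g = W} + 1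
  have hsum : ∑ W : X, (k W - 1) = Nat.card G - 1 := by
    simp only [k, Nat.add_sub_cancel]
    rw [← Nat.card_sigma, Nat.card_congr (Equiv.sigmaFiberEquiv toX)]
    rw [Nat.card_eq_fintype_card, Nat.card_eq_fintype_card, Fintype.card_subtype_compl,
      Fintype.card_subtype_eq]
  have hk2 : ∀ W : X, 2 ≤ k W := fun W => by
    obtain ⟨g, hg, hW⟩ := W.2
    haveI : Nonempty {g : {g : G // g ≠ 1} // toX g = W} := ⟨⟨⟨g, hg⟩, Subtype.ext hW.symm⟩⟩
    have := Nat.card_pos (α := {g : {g : G // g ≠ 1} // toX g = W})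
    simp only [k]; omega
  have hkinv : ∀ (h : G) (W : X), k (h • W) = k W := fun h W => by
    simp only [k, add_left_inj]
    symm
    have hc : ∀ g : G, g ≠ 1 → h * g * h⁻¹ ≠ 1 := fun g hg e => hg (by rwa [mul_inv_eq_one, mul_eq_left] at e)
    have htox : ∀ g : {g : G // g ≠ 1}, toX ⟨h * g.1 * h⁻¹, hc g.1 g.2⟩ = h • toX g := fun g =>
      Subtype.ext (hsmul h g.1).symm
    refine Nat.card_congr (Equiv.subtypeEquiv
      { toFun := fun g => ⟨h * g.1 * h⁻¹, hc g.1 g.2⟩
        invFun := fun g => ⟨h⁻¹ * g.1 * h, fun e => g.2 (by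
          have := congrArg (fun x => h * x * h⁻¹) e
          simpa [mul_assoc] using this)⟩
        left_inv := fun g => Subtype.ext (by simp [mul_assoc])
        right_inv := fun g => Subtype.ext (by simp [mul_assoc]) } fun g => ?_)
    show toX g = W ↔ toX ⟨h * g.1 * h⁻¹, hc g.1 g.2⟩ = h • W
    rw [htox, smul_left_cancel_iff]
  -- the pointwise and setwise stabilizers
  have hstab : ∀ W : X, ∃ ε : ℕ, (ε = 1 ∨ ε = 2) ∧
      Nat.card (MulAction.stabilizer G W) = ε * k W := by
    intro W
    obtain ⟨g₀, hg₀, hW⟩ := W.2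
    obtain ⟨v, hv, hLv, hBv⟩ := haxis g₀ hg₀
    have hWv : W.1 = ℂ ∙ v := hW.trans hLv
    have hv0 : v ≠ 0 := fun h => hBv (by rw [h, zero_dotProduct])
    set H := MulAction.stabilizer G W with hH
    have hlam : ∀ h : H, ρ (h : G) v = v ∨ ρ (h : G) v = -v := by
      intro h
      have h1 : ρ (h : G) v ∈ ((h : G) • W).1 := ⟨v, by rw [hWv]; exact Submodule.mem_span_singleton_self v, rfl⟩
      rw [MulAction.mem_stabilizer_iff.1 h.2, hWv, Submodule.mem_span_singleton] at h1
      obtain ⟨c, hc⟩ := h1
      have h2 := hBinv (h : G) v v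
      rw [← hc, Matrix.mulVec_smul, smul_dotProduct, dotProduct_smul, smul_eq_mul, smul_eq_mul] at h2
      have h3 : (c - 1) * (c + 1) = 0 := by
        refine (mul_eq_zero.1 (?_ : ((c - 1) * (c + 1)) * (v ⬝ᵥ (B *ᵥ v)) = 0)).resolve_right hBv
        linear_combination h2
      rcases mul_eq_zero.1 h3 with h4 | h4
      · left; rw [← hc, sub_eq_zero.1 h4, one_smul]
      · right; rw [← hc, eq_neg_of_add_eq_zero_left h4, neg_smul, one_smul]
    let Kf : Subgroup H :=
      { carrier := {h | ρ (h : G) v = v}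
        one_mem' := by simp
        mul_mem' := fun {a b} ha hb => by
          show ρ ((a : G) * b) v = v
          rw [map_mul, Module.End.mul_apply, hb, ha]
        inv_mem' := fun {a} ha => by
          show ρ ((a : G)⁻¹) v = v
          conv_lhs => rw [← (ha : ρ (a : G) v = v)]
          exact Representation.inv_self_apply ρ (a : G) v }
    have hKf : Nat.card Kf = k W := by
      have hfib : ∀ g : G, g ≠ 1 → (ρ g v = v ↔ L g = W.1) := fun g hg => by
        constructor
        · intro h
          obtain ⟨w, -, hLw, -⟩ := haxis g hg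
          have h1 : v ∈ L g := (hLmem g v).2 h
          rw [hLw, Submodule.mem_span_singleton] at h1
          obtain ⟨c, hc⟩ := h1
          have hc0 : c ≠ 0 := fun e => hv0 (by rw [← hc, e, zero_smul])
          rw [hLw, hWv, ← hc]
          exact (Submodule.span_singleton_smul_eq (isUnit_iff_ne_zero.2 hc0) w).symm
        · intro h
          rw [← hLmem, h, hWv]
          exact Submodule.mem_span_singleton_self v
      have hmem : ∀ g : G, ρ g v = v → g ∈ H := fun g hgv => by
        rw [hH, MulAction.mem_stabilizer_iff]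
        refine Subtype.ext ?_
        show (W.1).map (ρ g) = W.1
        rw [hWv, Submodule.map_span, Set.image_singleton, hgv]
      simp only [k]
      rw [← Finite.card_option]
      refine Nat.card_congr
        { toFun := fun h => if e : ((h : H) : G) = 1 then none else
            some ⟨⟨_, e⟩, Subtype.ext ((hfib _ e).1 h.2)⟩
          invFun := fun o => o.elim 1 fun g => ⟨⟨g.1.1, hmem _ ((hfib _ g.1.2).2
            (congrArg Subtype.val g.2))⟩, (hfib _ g.1.2).2 (congrArg Subtype.val g.2)⟩
          left_inv := fun h => ?_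
          right_inv := fun o => ?_ }
      · by_cases e : ((h : H) : G) = 1
        · beta_reduce
          rw [dif_pos e]
          exact Subtype.ext (Subtype.ext e.symm)
        · beta_reduce
          rw [dif_neg e]
          rfl
      · cases o with
        | none => simp
        | some g =>
          simp [g.1.2]
    have hidx : Kf.index = 1 ∨ Kf.index = 2 := by
      by_cases hall : Kf = ⊤
      · exact Or.inl (Subgroup.index_eq_one.2 hall)
      · right
        obtain ⟨a, ha⟩ : ∃ a : H, a ∉ Kf := by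
          by_contra h
          push Not at h
          exact hall ((Subgroup.eq_top_iff' _).2 h)
        have hneg : ∀ x : H, x ∉ Kf → ρ (x : G) v = -v := fun x hx => (hlam x).resolve_left hx
        refine Subgroup.index_eq_two_iff.2 ⟨a, fun x => ?_⟩
        have hxa : ρ ((x * a : H) : G) v = -ρ (x : G) v := by
          rw [Subgroup.coe_mul, map_mul, Module.End.mul_apply, hneg a ha, map_neg]
        rcases em (x ∈ Kf) with hx | hx
        · refine Or.inr ⟨hx, fun hxa' => ?_⟩
          have h1 : ρ ((x * a : H) : G) v = v := hxa'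
          rw [hxa, show ρ (x : G) v = v from hx] at h1
          have h2 : (2 : ℂ) • v = 0 := by
            rw [two_smul]
            nth_rewrite 1 [← h1]
            exact neg_add_cancel v
          exact hv0 ((smul_eq_zero.1 h2).resolve_left two_ne_zero)
        · refine Or.inl ⟨?_, hx⟩
          show ρ ((x * a : H) : G) v = v
          rw [hxa, hneg x hx, neg_neg]
    refine ⟨Kf.index, hidx, ?_⟩
    rw [← hKf, mul_comm, Subgroup.card_mul_index]
  choose ε hε hεk using hstab
  -- no subgroup of index at most two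
  have hidx3 : ∀ W : X, 3 ≤ (MulAction.stabilizer G W).index := by
    intro W
    by_contra h
    have h0 : (MulAction.stabilizer G W).index ≠ 0 := Subgroup.index_ne_zero_of_finite
    have htop : MulAction.stabilizer G W = ⊤ := by
      rcases (show (MulAction.stabilizer G W).index = 1 ∨ (MulAction.stabilizer G W).index = 2 by omega) with h1 | h2
      · exact Subgroup.index_eq_one.1 h1
      · haveI := Subgroup.normal_of_index_eq_two h2
        haveI : IsCyclic (G ⧸ MulAction.stabilizer G W) :=
          isCyclic_of_prime_card (p := 2) (by rw [← Subgroup.index_eq_card]; exact h2)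
        letI := IsCyclic.commGroup (α := G ⧸ MulAction.stabilizer G W)
        have h3 := Abelianization.commutator_subset_ker (QuotientGroup.mk' (MulAction.stabilizer G W))
        rw [hperf, QuotientGroup.ker_mk'] at h3
        exact top_le_iff.1 h3
    obtain ⟨g₀, hg₀, hW⟩ := W.2
    obtain ⟨v, -, hLv, hBv⟩ := haxis g₀ hg₀
    rcases ((isIrreducible_iff_submodule ρ).1 hρ).2 W.1 (fun g w hw => by
      have hg : g • W = W := MulAction.mem_stabilizer_iff.1 (by rw [htop]; exact Subgroup.mem_top g)
      rw [← hg]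
      exact ⟨w, hw, rfl⟩) with hb | hb
    · rw [hW, hLv, Submodule.span_singleton_eq_bot] at hb
      exact hBv (by rw [hb, zero_dotProduct])
    · have hfr := congrArg (fun S : Submodule ℂ (Fin 3 → ℂ) => Module.finrank ℂ S) hb
      rw [hW, hLv] at hfr
      simp only [finrank_top, Module.finrank_fin_fun] at hfr
      have : Module.finrank ℂ (ℂ ∙ v) = 1 := finrank_span_singleton (fun h => hBv (by rw [h, zero_dotProduct]))
      omega
  haveI := Fintype.ofFinite (MulAction.orbitRel.Quotient G X)
  let M : Multiset ℕ := (Finset.univ : Finset (MulAction.orbitRel.Quotient G X)).val.bind fun ω =>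
    Multiset.replicate (3 - ε ω.out) (k ω.out)
  refine order_le_sixty_of_multiset (by omega) M ?_ ?_
  · intro a ha
    obtain ⟨ω, -, hω⟩ := Multiset.mem_bind.1 ha
    obtain rfl := Multiset.eq_of_mem_replicate hω
    refine ⟨hk2 _, ?_⟩
    have h1 := (MulAction.stabilizer G ω.out).card_mul_index
    rw [hεk] at h1
    rw [← h1]
    have h3 := hidx3 ω.out
    have he : 1 ≤ ε ω.out := by rcases hε ω.out with e | e <;> omega
    calc 3 * k ω.out ≤ (MulAction.stabilizer G ω.out).index * (ε ω.out * k ω.out) :=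
          Nat.mul_le_mul h3 (Nat.le_mul_of_pos_left _ he)
      _ = _ := mul_comm _ _
  · simp only [M, Multiset.map_bind, Multiset.map_replicate, Multiset.sum_bind, Multiset.sum_replicate,
      Finset.sum_map_val, nsmul_eq_mul]
    have hterm : ∀ W : X, ((3 - ε W : ℕ) : ℚ) * (1 - 1 / (k W : ℚ)) =
        2 / (Nat.card G : ℚ) * ((MulAction.stabilizer G W).index * ((k W : ℚ) - 1)) := by
      intro W
      have h1 : ((Nat.card (MulAction.stabilizer G W) * (MulAction.stabilizer G W).index : ℕ) : ℚ) = Nat.card G := by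
        rw [Subgroup.card_mul_index]
      rw [hεk W] at h1
      push_cast at h1
      have hk0 : (k W : ℚ) ≠ 0 := by exact_mod_cast (show k W ≠ 0 by have := hk2 W; omega)
      have hi0 : ((MulAction.stabilizer G W).index : ℚ) ≠ 0 := by exact_mod_cast Subgroup.index_ne_zero_of_finite
      rcases hε W with e | e <;> rw [e] at h1 ⊢ <;> rw [← h1] <;> norm_num <;> field_simp
    simp only [hterm]
    rw [← Finset.mul_sum]
    have horb : ∑ ω : MulAction.orbitRel.Quotient G X,
        ((MulAction.stabilizer G ω.out).index : ℚ) * ((k ω.out : ℚ) - 1) = (Nat.card G : ℚ) - 1 := by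
      have h1 : ((∑ W : X, (k W - 1) : ℕ) : ℚ) = (Nat.card G : ℚ) - 1 := by
        rw [hsum, Nat.cast_sub (by omega), Nat.cast_one]
      rw [← h1, Nat.cast_sum, ← Equiv.sum_comp (MulAction.selfEquivSigmaOrbits G X).symm,
        Fintype.sum_sigma]
      refine Finset.sum_congr rfl fun ω _ => ?_
      have hc : ∀ y : MulAction.orbit G ω.out,
          ((k ((MulAction.selfEquivSigmaOrbits G X).symm ⟨ω, y⟩) - 1 : ℕ) : ℚ) = (k ω.out : ℚ) - 1 := by
        intro y
        obtain ⟨h, hy⟩ := y.2
        have : (MulAction.selfEquivSigmaOrbits G X).symm ⟨ω, y⟩ = (y : X) := rfl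
        rw [this, ← hy]
        show ((k (h • ω.out) - 1 : ℕ) : ℚ) = _
        rw [hkinv, Nat.cast_sub (by have := hk2 ω.out; omega), Nat.cast_one]
      rw [Finset.sum_congr rfl fun y _ => hc y, Finset.sum_const, nsmul_eq_mul, Finset.card_univ,
        MulAction.index_stabilizer, ← Nat.card_eq_fintype_card, ← Nat.card_coe_set_eq]
    rw [horb]
    have : (Nat.card G : ℚ) ≠ 0 := by exact_mod_cast Nat.card_pos.ne'
    field_simp

end Cfsg.Lib.Char.IcosaThree
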