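import Cfsg.Agent.Lib.Char.SymSquare
import Cfsg.Agent.Lib.Char.IcosaThree
import Cfsg.Agent.Lib.Char.Gallagher
import Cfsg.Agent.Lib.Char.DegreePSubTwoSplit
import Mathlib

/-!
# Groups in which `χ(1) - χ(u)` is `4` or `χ(u) = 0` for every nontrivial irreducible `χ`

There is a normal subgroup of index `60` outside which `u` is an involution, and the centralizer
of `u` has order `4`.
-/

set_option autoImplicit false
set_option linter.style.haveILetI false
set_option linter.unusedSectionVars false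
set_option linter.style.setOption false

namespace Cfsg.Lib.Char.ConstantFour

open Cfsg Cfsg.Lib.Char
open scoped ComplexConjugate commutatorElement

universe u

variable {G : Type u} [Group G] [Fintype G]

/-- The hypothesis. -/
def Hyp (u : G) : Prop :=
  ∀ χ : IrrCharacter G, (χ : G → ℂ) ≠ (fun _ => (1 : ℂ)) →
    ((χ : G → ℂ) 1 - (χ : G → ℂ) u = 4 ∨ (χ : G → ℂ) u = 0)

/-- A linear character of a perfect group is trivial. -/
theorem eq_one_of_degree_one (hperf : commutator G = ⊤) {φ : G → ℂ} (hφ : IsIrrCharacter G φ)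
    (h1 : φ 1 = 1) : φ = fun _ => 1 := by
  obtain ⟨n, ρ, hρ, rfl⟩ := hφ
  obtain rfl : n = 1 := by
    rw [Representation.char_one, Module.finrank_fin_fun] at h1
    exact_mod_cast h1
  funext g
  obtain ⟨b, μ, -, -, hprod, hsum, -⟩ := IcosaThree.exists_roots_det_one hperf ρ g
  rw [Fin.prod_univ_one] at hprod
  rw [hsum, Fin.sum_univ_one, hprod]

/-- The identities for degree two. -/
theorem sq_two (hperf : commutator G = ⊤) {φ : G → ℂ} (hφ : IsCharacter G φ) (h2 : φ 1 = 2)
    (g : G) : φ g * φ g = φ (g ^ 2) + 2 := by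
  obtain ⟨n, ρ, rfl⟩ := hφ
  obtain rfl : n = 2 := by
    rw [Representation.char_one, Module.finrank_fin_fun] at h2
    exact_mod_cast h2
  obtain ⟨b, μ, -, -, hprod, hsum, hpow⟩ := IcosaThree.exists_roots_det_one hperf ρ g
  rw [Fin.prod_univ_two] at hprod
  rw [hsum, hpow, Fin.sum_univ_two, Fin.sum_univ_two]
  linear_combination 2 * hprod

/-- The identities for degree three. -/
theorem sq_three (hperf : commutator G = ⊤) {φ : G → ℂ} (hφ : IsCharacter G φ) (h3 : φ 1 = 3)
    (g : G) : φ g * φ g = φ (g ^ 2) + 2 * conj (φ g) := by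
  obtain ⟨n, ρ, rfl⟩ := hφ
  obtain rfl : n = 3 := by
    rw [Representation.char_one, Module.finrank_fin_fun] at h3
    exact_mod_cast h3
  obtain ⟨b, μ, -, hc, hprod, hsum, hpow⟩ := IcosaThree.exists_roots_det_one hperf ρ g
  rw [Fin.prod_univ_three] at hprod
  have h : ∀ i j k, μ i * μ j * μ k = 1 → conj (μ i) = μ j * μ k := fun i j k h => by
    linear_combination (μ j * μ k) * hc i - conj (μ i) * h
  rw [hsum, hpow, Fin.sum_univ_three, Fin.sum_univ_three, map_add, map_add, h 0 1 2 hprod,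
    h 1 0 2 (by linear_combination hprod), h 2 0 1 (by linear_combination hprod)]
  ring

/-- The exterior square of a character of degree four is real, with exterior square `τ τ̄ - 1`. -/
theorem altSquare_four (hperf : commutator G = ⊤) {τ : G → ℂ} (hτ : IsCharacter G τ) (h4 : τ 1 = 4)
    (g : G) : conj ((τ g * τ g - τ (g * g)) / 2) = (τ g * τ g - τ (g * g)) / 2 ∧
      (((τ g * τ g - τ (g * g)) / 2) * ((τ g * τ g - τ (g * g)) / 2) -
        (τ (g * g) * τ (g * g) - τ (g * g * (g * g))) / 2) / 2 = τ g * conj (τ g) - 1 := by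
  obtain ⟨n, ρ, rfl⟩ := hτ
  obtain rfl : n = 4 := by
    rw [Representation.char_one, Module.finrank_fin_fun] at h4
    exact_mod_cast h4
  obtain ⟨b, μ, -, hc, hprod, hsum, hpow⟩ := IcosaThree.exists_roots_det_one hperf ρ g
  rw [Fin.prod_univ_four] at hprod
  have h : ∀ i j k l, μ i * μ j * μ k * μ l = 1 → conj (μ i) = μ j * μ k * μ l := fun i j k l h => by
    linear_combination (μ j * μ k * μ l) * hc i - conj (μ i) * h
  have h0 := h 0 1 2 3 hprod
  have h1 := h 1 0 2 3 (by linear_combination hprod)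
  have h2 := h 2 0 1 3 (by linear_combination hprod)
  have h3 := h 3 0 1 2 (by linear_combination hprod)
  rw [← pow_two g, ← pow_two (g ^ 2), ← pow_mul, hsum, hpow, hpow, Fin.sum_univ_four,
    Fin.sum_univ_four, Fin.sum_univ_four]
  constructor
  · simp only [map_div₀, map_sub, map_mul, map_add, map_pow, h0, h1, h2, h3, map_ofNat]
    linear_combination ((μ 0 * μ 1 + μ 0 * μ 2 + μ 0 * μ 3 + μ 1 * μ 2 + μ 1 * μ 3 + μ 2 * μ 3) : ℂ) * hprod
  · simp only [map_add, h0, h1, h2, h3]
    linear_combination -hprod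

variable {u : G}

/-- The hypothesis makes the group perfect. -/
theorem perfect (hyp : Hyp u) : commutator G = ⊤ := by
  classical
  by_contra hne
  haveI : Nontrivial (G ⧸ commutator G) := QuotientGroup.nontrivial_iff.2 hne
  haveI : Nontrivial (Abelianization G) := ‹Nontrivial (G ⧸ commutator G)›
  obtain ⟨x, hx⟩ := exists_ne (1 : Abelianization G)
  haveI : Finite (Abelianization G) := Quotient.finite _
  obtain ⟨φ, hφ⟩ := CommGroup.exists_apply_ne_one_of_hasEnoughRootsOfUnity (Abelianization G) ℂ hx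
  let f : G →* ℂˣ := φ.comp Abelianization.of
  have hne1 : (fun g => (f g : ℂ)) ≠ fun _ => 1 := by
    intro h
    obtain ⟨g, rfl⟩ := QuotientGroup.mk'_surjective (commutator G) x
    exact hφ (Units.ext (congrFun h g))
  rcases hyp ⟨_, isIrrCharacter_linear f⟩ hne1 with h | h
  · have h' : (1 : ℂ) - (f u : ℂ) = 4 := by
      rw [← h]; simp
    have hn : ‖(f u : ℂ)‖ ≤ 1 := by
      have := (isIrrCharacter_linear f).isCharacter.norm_le u
      simpa using this
    rw [show (f u : ℂ) = -3 by linear_combination -h'] at hn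
    norm_num at hn
  · exact (f u).ne_zero h

/-- Only the trivial character attains its degree at `u`. -/
theorem eq_one_of_apply_eq (hyp : Hyp u) {φ : G → ℂ} (hφ : IsIrrCharacter G φ) (h : φ u = φ 1) :
    φ = fun _ => 1 := by
  by_contra hne
  rcases hyp ⟨φ, hφ⟩ hne with e | e
  · simp only [h, sub_self] at e; norm_num at e
  · exact hφ.apply_one_ne_zero (h ▸ e)

/-- A character attaining its degree at `u` is a multiple of the trivial one. -/
theorem const_of_apply_eq (hyp : Hyp u) {X : G → ℂ} (hX : IsCharacter G X) (h : X u = X 1) (g : G) :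
    X g = X 1 := by
  classical
  have e := eq_sum_classInner (f := X) hX.isClassFunction
  rw [e]
  simp only [Finset.sum_apply, Pi.smul_apply, smul_eq_mul]
  refine Finset.sum_congr rfl fun φ _ => ?_
  by_cases h0 : classInner X (φ : G → ℂ) = 0
  · rw [h0, zero_mul, zero_mul]
  · rw [eq_one_of_apply_eq hyp φ.2 (apply_eq_of_constituent hX φ.2 h0 h)]

/-- No character of degree two takes the value `-2` at `u`. -/
theorem no_minus_two (hyp : Hyp u) {φ : G → ℂ} (hφ : IsIrrCharacter G φ) (h2 : φ 1 = 2)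
    (hu : φ u = -2) : False := by
  have hX : IsCharacter G (fun g => φ g * φ g) := hφ.isCharacter.mul hφ.isCharacter
  have hc := const_of_apply_eq hyp hX (show φ u * φ u = φ 1 * φ 1 by rw [h2, hu]; norm_num)
  have h1 := classInner_irr_self hφ
  simp only [classInner] at h1
  have h4 : ∀ g, φ g * conj (φ g) = 4 := fun g => by
    have e : φ g * φ g = 4 := by rw [hc g, h2]; norm_num
    have e' : (φ g - 2) * (φ g + 2) = 0 := by linear_combination e
    rcases mul_eq_zero.1 e' with h | h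
    · rw [sub_eq_zero.1 h, map_ofNat]; norm_num
    · rw [eq_neg_of_add_eq_zero_left h, map_neg, map_ofNat]; norm_num
  rw [Finset.sum_congr rfl fun g _ => h4 g, Finset.sum_const, Finset.card_univ, nsmul_eq_mul,
    Nat.card_eq_fintype_card, ← mul_assoc, inv_mul_cancel₀ (by exact_mod_cast Fintype.card_ne_zero),
    one_mul] at h1
  norm_num at h1

/-- The values at `u` of the constituents of characters killing `u ^ 2`. -/
theorem constituent_cases (hyp : Hyp u) {φ : G → ℂ} (hφ : IsIrrCharacter G φ)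
    (h2 : φ (u ^ 2) = φ 1) : φ = (fun _ => 1) ∨ (φ 1 = 3 ∧ φ u = -1) ∨
      ∃ d v : ℕ, 4 ≤ d ∧ φ 1 = d ∧ φ u = v ∧ (v = 0 ∨ v + 4 = d) := by
  have hperf := perfect hyp
  by_cases h1 : φ = fun _ => 1
  · exact Or.inl h1
  right
  obtain ⟨d, hd0, hd⟩ := hφ.exists_degree
  have hcase := hyp ⟨φ, hφ⟩ h1
  dsimp only at hcase
  obtain rfl | rfl | rfl | h4 : d = 1 ∨ d = 2 ∨ d = 3 ∨ 4 ≤ d := by omega
  · exact absurd (eq_one_of_degree_one hperf hφ (by rw [hd]; norm_num)) h1
  · exfalso
    push_cast at hd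
    rcases hcase with e | e
    · exact no_minus_two hyp hφ hd (by rw [hd] at e; linear_combination -e)
    · have := sq_two hperf hφ.isCharacter hd u
      rw [e, h2, hd] at this
      norm_num at this
  · push_cast at hd
    refine Or.inl ⟨hd, ?_⟩
    rcases hcase with e | e
    · rw [hd] at e; linear_combination -e
    · have := sq_three hperf hφ.isCharacter hd u
      rw [e, h2, hd, map_zero] at this
      norm_num at this
  · refine Or.inr ?_
    rcases hcase with e | e
    · refine ⟨d, d - 4, h4, hd, ?_, Or.inr (by omega)⟩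
      rw [hd] at e
      rw [Nat.cast_sub h4]
      push_cast
      linear_combination -e
    · exact ⟨d, 0, h4, hd, by rw [e, Nat.cast_zero], Or.inl rfl⟩

/-- A sum of irreducible characters is a character. -/
theorem isCharacter_sum (m : Multiset (IrrCharacter G)) :
    IsCharacter G (m.map fun χ : IrrCharacter G => (χ : G → ℂ)).sum := by
  induction m using Multiset.induction_on with
  | empty => simpa using (isCharacter_zero : IsCharacter G (0 : G → ℂ))
  | cons a m ih => rw [Multiset.map_cons, Multiset.sum_cons]; exact a.2.isCharacter.add ih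

/-- The multiplicity of a member is positive. -/
theorem classInner_ne_of_mem {m : Multiset (IrrCharacter G)} {χ : IrrCharacter G} (h : χ ∈ m) :
    classInner (m.map fun χ : IrrCharacter G => (χ : G → ℂ)).sum (χ : G → ℂ) ≠ 0 := by
  obtain ⟨m', rfl⟩ := Multiset.exists_cons_of_mem h
  obtain ⟨n, hn⟩ := (isCharacter_sum m').exists_nat_classInner χ.2.isCharacter
  rw [Multiset.map_cons, Multiset.sum_cons, classInner_add_left, classInner_irr_self χ.2, hn]
  intro h0
  have h' : ((1 + n : ℕ) : ℂ) = 0 := by push_cast; exact h0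
  rw [Nat.cast_eq_zero] at h'
  omega

/-- A member of the list of constituents. -/
theorem mem_of_classInner_ne {m : Multiset (IrrCharacter G)} {φ : IrrCharacter G}
    (h : classInner (m.map fun χ : IrrCharacter G => (χ : G → ℂ)).sum (φ : G → ℂ) ≠ 0) : φ ∈ m := by
  induction m using Multiset.induction_on with
  | empty => simp [classInner] at h
  | cons a m ih =>
    rw [Multiset.map_cons, Multiset.sum_cons, classInner_add_left] at h
    by_cases ha : (a : G → ℂ) = φ
    · exact Multiset.mem_cons.2 (Or.inl (Subtype.ext ha.symm))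
    · rw [classInner_irr_ne a.2 φ.2 ha, zero_add] at h
      exact Multiset.mem_cons_of_mem (ih h)

/-- The constituents of a character killing `u ^ 2`, by type: trivial ones, ones of degree three,
and ones of degree at least four. -/
structure Split (u : G) (X : G → ℂ) where
  /-- The number of trivial constituents. -/
  a : ℕ
  /-- The constituents of degree three. -/
  s : Multiset (IrrCharacter G)
  /-- The other constituents. -/
  t : Multiset (IrrCharacter G)
  /-- The degree of the others. -/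
  D : ℕ
  /-- Their value at `u`. -/
  V : ℕ
  hs : ∀ χ ∈ s, (χ : G → ℂ) 1 = 3 ∧ (χ : G → ℂ) u = -1
  ht : ∀ χ ∈ t, ∃ d v : ℕ, 4 ≤ d ∧ (χ : G → ℂ) 1 = d ∧ (χ : G → ℂ) u = v ∧ (v = 0 ∨ v + 4 = d)
  hmem : ∀ χ : IrrCharacter G, classInner X (χ : G → ℂ) ≠ 0 →
    (χ : G → ℂ) = (fun _ => 1) ∨ χ ∈ s ∨ χ ∈ t
  hne : ∀ χ : IrrCharacter G, χ ∈ s ∨ χ ∈ t → classInner X (χ : G → ℂ) ≠ 0
  h1 : X 1 = ((a + 3 * s.card + D : ℕ) : ℂ)
  hu : X u = ((a + V : ℕ) : ℂ) - (s.card : ℂ)
  ha : classInner X (fun _ => 1) = a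
  htD : 4 * t.card ≤ D
  ht0 : t.card = 0 → D = 0 ∧ V = 0
  ht1 : ∀ χ, t = {χ} → (χ : G → ℂ) 1 = D ∧ (χ : G → ℂ) u = V
  ht5 : (∀ χ ∈ t, (χ : G → ℂ) 1 ≠ 4) → 5 * t.card ≤ D
  heq : ∀ χ, t = {χ} → a = 0 → s = 0 → X = (χ : G → ℂ)
  heq2 : ∀ φ ψ, s = {φ, ψ} → a = 0 → t = 0 → X = (φ : G → ℂ) + (ψ : G → ℂ)
  heq1 : ∀ χ, t = {χ} → a = 1 → s = 0 → X = (fun _ => (1 : ℂ)) + (χ : G → ℂ)

/-- Every character killing `u ^ 2` splits. -/
theorem exists_split (hyp : Hyp u) {X : G → ℂ} (hX : IsCharacter G X) (h2 : X (u ^ 2) = X 1) :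
    Nonempty (Split u X) := by
  classical
  obtain ⟨m, hm⟩ := hX.exists_multiset
  have hall : ∀ χ ∈ m, (χ : G → ℂ) = (fun _ => 1) ∨ ((χ : G → ℂ) 1 = 3 ∧ (χ : G → ℂ) u = -1) ∨
      ∃ d v : ℕ, 4 ≤ d ∧ (χ : G → ℂ) 1 = d ∧ (χ : G → ℂ) u = v ∧ (v = 0 ∨ v + 4 = d) := fun χ hχ =>
    constituent_cases hyp χ.2 (apply_eq_of_constituent hX χ.2 (by rw [hm]; exact classInner_ne_of_mem hχ) h2)
  have key : ∀ m : Multiset (IrrCharacter G),
      (∀ χ ∈ m, (χ : G → ℂ) = (fun _ => 1) ∨ ((χ : G → ℂ) 1 = 3 ∧ (χ : G → ℂ) u = -1) ∨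
        ∃ d v : ℕ, 4 ≤ d ∧ (χ : G → ℂ) 1 = d ∧ (χ : G → ℂ) u = v ∧ (v = 0 ∨ v + 4 = d)) →
      ∃ (a : ℕ) (s t : Multiset (IrrCharacter G)) (D V : ℕ),
        m = Multiset.replicate a ⟨_, isIrrCharacter_one⟩ + s + t ∧
        (∀ χ ∈ s, (χ : G → ℂ) 1 = 3 ∧ (χ : G → ℂ) u = -1) ∧
        (∀ χ ∈ t, ∃ d v : ℕ, 4 ≤ d ∧ (χ : G → ℂ) 1 = d ∧ (χ : G → ℂ) u = v ∧ (v = 0 ∨ v + 4 = d)) ∧
        (t.map fun χ : IrrCharacter G => (χ : G → ℂ)).sum 1 = D ∧
        (t.map fun χ : IrrCharacter G => (χ : G → ℂ)).sum u = V ∧ 4 * t.card ≤ D ∧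
        (t.card = 0 → D = 0 ∧ V = 0) ∧ ((∀ χ ∈ t, (χ : G → ℂ) 1 ≠ 4) → 5 * t.card ≤ D) := by
    intro m
    induction m using Multiset.induction_on with
    | empty =>
      intro _
      exact ⟨0, 0, 0, 0, 0, by simp, by simp, by simp, by simp, by simp, by simp, by simp, by simp⟩
    | cons χ m ih =>
      intro h
      obtain ⟨a, s, t, D, V, e, hs, ht, hD, hV, h4, h0, h5⟩ :=
        ih fun φ hφ => h φ (Multiset.mem_cons_of_mem hφ)
      rcases h χ (Multiset.mem_cons_self _ _) with h1 | h3 | ⟨d, v, hd4, hd, hv, hdv⟩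
      · refine ⟨a + 1, s, t, D, V, ?_, hs, ht, hD, hV, h4, h0, h5⟩
        rw [e, Multiset.replicate_succ, Multiset.cons_add, Multiset.cons_add,
          show χ = ⟨_, isIrrCharacter_one⟩ from Subtype.ext h1]
      · refine ⟨a, χ ::ₘ s, t, D, V, ?_, ?_, ht, hD, hV, h4, h0, h5⟩
        · rw [e, Multiset.add_cons, Multiset.cons_add]
        · intro φ hφ
          rcases Multiset.mem_cons.1 hφ with rfl | hφ
          exacts [h3, hs φ hφ]
      · refine ⟨a, s, χ ::ₘ t, D + d, V + v, ?_, hs, ?_, ?_, ?_, ?_, ?_, ?_⟩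
        · rw [e, Multiset.add_cons]
        · intro φ hφ
          rcases Multiset.mem_cons.1 hφ with rfl | hφ
          exacts [⟨d, v, hd4, hd, hv, hdv⟩, ht φ hφ]
        · rw [Multiset.map_cons, Multiset.sum_cons, Pi.add_apply, hD, hd]; push_cast; ring
        · rw [Multiset.map_cons, Multiset.sum_cons, Pi.add_apply, hV, hv]; push_cast; ring
        · rw [Multiset.card_cons]; omega
        · rw [Multiset.card_cons]; intro h'; omega
        · intro h'
          rw [Multiset.card_cons]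
          have := h5 fun φ hφ => h' φ (Multiset.mem_cons_of_mem hφ)
          have hne4 : d ≠ 4 := fun e4 => h' χ (Multiset.mem_cons_self _ _) (by rw [hd, e4]; norm_num)
          omega
  obtain ⟨a, s, t, D, V, e, hs, ht, hD, hV, h4, h0, h5⟩ := key m hall
  have hsum : X = (fun _ => (a : ℂ)) + (s.map fun χ : IrrCharacter G => (χ : G → ℂ)).sum +
      (t.map fun χ : IrrCharacter G => (χ : G → ℂ)).sum := by
    rw [hm, e, Multiset.map_add, Multiset.map_add, Multiset.sum_add, Multiset.sum_add,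
      Multiset.map_replicate, Multiset.sum_replicate]
    funext g
    simp
  have hsu : ∀ g : G, ∀ c : ℂ, (∀ χ ∈ s, (χ : G → ℂ) g = c) →
      (s.map fun χ : IrrCharacter G => (χ : G → ℂ)).sum g = s.card * c := by
    intro g c
    clear hs e hsum
    induction s using Multiset.induction_on with
    | empty => simp
    | cons b s ih =>
      intro h
      rw [Multiset.map_cons, Multiset.sum_cons, Pi.add_apply, ih fun φ hφ => h φ (Multiset.mem_cons_of_mem hφ),
        h b (Multiset.mem_cons_self _ _), Multiset.card_cons]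
      push_cast; ring
  have hnotone : ∀ χ : IrrCharacter G, χ ∈ s ∨ χ ∈ t → (χ : G → ℂ) ≠ fun _ => 1 := by
    intro χ h h1
    rcases h with h | h
    · have := (hs χ h).1; rw [h1] at this; norm_num at this
    · obtain ⟨d, v, hd4, hd, -⟩ := ht χ h
      rw [h1] at hd
      have : ((1 : ℕ) : ℂ) = (d : ℂ) := by rw [← hd]; simp
      have := Nat.cast_injective this
      omega
  refine ⟨⟨a, s, t, D, V, hs, ht, ?_, ?_, ?_, ?_, ?_, h4, h0, ?_, h5, ?_, ?_, ?_⟩⟩
  · intro χ hχ
    rw [hm] at hχ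
    have := mem_of_classInner_ne hχ
    rw [e] at this
    rcases Multiset.mem_add.1 this with h | h
    · rcases Multiset.mem_add.1 h with h | h
      · exact Or.inl (congrArg Subtype.val (Multiset.eq_of_mem_replicate h))
      · exact Or.inr (Or.inl h)
    · exact Or.inr (Or.inr h)
  · intro χ hχ
    rw [hm]
    refine classInner_ne_of_mem ?_
    rw [e]
    rcases hχ with h | h
    · exact Multiset.mem_add.2 (Or.inl (Multiset.mem_add.2 (Or.inr h)))
    · exact Multiset.mem_add.2 (Or.inr h)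
  · rw [hsum, Pi.add_apply, Pi.add_apply, hsu 1 3 fun χ hχ => (hs χ hχ).1, hD]
    push_cast; ring
  · rw [hsum, Pi.add_apply, Pi.add_apply, hsu u (-1) fun χ hχ => (hs χ hχ).2, hV]
    push_cast; ring
  · have hz : ∀ m' : Multiset (IrrCharacter G), (∀ χ ∈ m', (χ : G → ℂ) ≠ fun _ => 1) →
        classInner (m'.map fun χ : IrrCharacter G => (χ : G → ℂ)).sum (fun _ => 1) = 0 := fun m' hm' => by
      by_contra h
      exact hm' _ (mem_of_classInner_ne (φ := ⟨_, isIrrCharacter_one⟩) h) rfl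
    rw [hsum, classInner_add_left, classInner_add_left, hz s fun χ h => hnotone χ (Or.inl h),
      hz t fun χ h => hnotone χ (Or.inr h), add_zero, add_zero,
      show (fun _ : G => (a : ℂ)) = (a : ℂ) • fun _ => (1 : ℂ) from funext fun g => by simp,
      classInner_smul_left, classInner_irr_self isIrrCharacter_one, mul_one]
  · intro χ hχ
    rw [hχ] at hD hV
    exact ⟨by simpa using hD, by simpa using hV⟩
  · intro χ hχ ha hs0
    rw [hsum, hχ, ha, hs0]
    funext g; simp
  · intro φ ψ hφ ha ht0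
    rw [hsum, hφ, ha, ht0]
    funext g; simp
  · intro χ hχ ha hs0
    rw [hsum, hχ, ha, hs0]
    funext g; simp

/-- An irreducible character of degree four killing `u ^ 2` gives a real one of degree three. -/
theorem real_three_of_four (hyp : Hyp u) {τ : G → ℂ} (hτ : IsIrrCharacter G τ) (h4 : τ 1 = 4)
    (hu : τ u = 0) (hu2 : τ (u ^ 2) = 4) :
    ∃ ψ : IrrCharacter G, (ψ : G → ℂ) 1 = 3 ∧ (ψ : G → ℂ) u = -1 ∧
      ∀ g, conj ((ψ : G → ℂ) g) = (ψ : G → ℂ) g := by
  classical
  have hperf := perfect hyp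
  set L : G → ℂ := fun g => (τ g * τ g - τ (g * g)) / 2 with hLdef
  have hL : IsCharacter G L := isCharacter_altSquare hτ.isCharacter
  have hLg : ∀ g, L g = (τ g * τ g - τ (g * g)) / 2 := fun g => rfl
  have hu4 : τ (u ^ 2 * u ^ 2) = 4 := by
    rw [hτ.isCharacter.apply_mul_of_mem_ker (a := u ^ 2) (by rw [hu2, h4]), hu2]
  have hL1 : L 1 = 6 := by rw [hLg, mul_one, h4]; norm_num
  have hLu : L u = -2 := by rw [hLg, ← pow_two u, hu, hu2]; norm_num
  have hLu2 : L (u ^ 2) = L 1 := by rw [hL1, hLg, hu2, hu4]; norm_num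
  obtain ⟨⟨a, s, t, D, V, hs, -, -, -, e1, eu, -, htD, ht0, -, -, -, heq2, -⟩⟩ := exists_split hyp hL hLu2
  rw [hL1] at e1
  rw [hLu] at eu
  have e1' : a + 3 * s.card + D = 6 := by exact_mod_cast e1.symm
  have eu' : a + V + 2 = s.card := by
    have : ((a + V + 2 : ℕ) : ℂ) = (s.card : ℂ) := by push_cast at eu ⊢; linear_combination -eu
    exact_mod_cast this
  obtain ⟨ha0, hs2, rfl⟩ : a = 0 ∧ s.card = 2 ∧ D = 0 := ⟨by omega, by omega, by omega⟩
  have ht' : t = 0 := Multiset.card_eq_zero.1 (by omega)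
  obtain ⟨φ₁, φ₂, rfl⟩ := Multiset.card_eq_two.1 hs2
  have hsum : L = (φ₁ : G → ℂ) + (φ₂ : G → ℂ) := heq2 φ₁ φ₂ rfl ha0 ht'
  obtain ⟨h11, h1u⟩ := hs φ₁ (by simp)
  obtain ⟨h21, -⟩ := hs φ₂ (by simp)
  refine ⟨φ₁, h11, h1u, fun g => ?_⟩
  by_contra hg
  set φc : IrrCharacter G := ⟨_, isIrrCharacter_conjFn φ₁.2⟩ with hφc
  have hne : (φc : G → ℂ) ≠ φ₁ := fun h => hg (congrFun h g)
  have hval : (φc : G → ℂ) = φ₂ := by
    by_contra h2
    have h0 : classInner L φc = 0 := by
      rw [hsum, classInner_add_left, classInner_irr_ne φ₁.2 φc.2 (Ne.symm hne),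
        classInner_irr_ne φ₂.2 φc.2 (Ne.symm h2), add_zero]
    have hconjL : (fun g => conj (L g)) = L :=
      funext fun g => (altSquare_four hperf hτ.isCharacter h4 g).1
    rw [← hconjL, show (φc : G → ℂ) = fun g => conj ((φ₁ : G → ℂ) g) from rfl, classInner_conjFn,
      hsum, classInner_add_right, classInner_irr_self φ₁.2] at h0
    by_cases h12 : (φ₁ : G → ℂ) = φ₂
    · rw [← h12, classInner_irr_self φ₁.2] at h0; norm_num at h0
    · rw [classInner_irr_ne φ₁.2 φ₂.2 h12, add_zero] at h0; exact one_ne_zero h0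
  have hkey : (fun g => τ g * conj (τ g) - 1) =
      (φc : G → ℂ) + (φ₁ : G → ℂ) + fun g => (φ₁ : G → ℂ) g * conj ((φ₁ : G → ℂ) g) := by
    funext g
    have h := (altSquare_four hperf hτ.isCharacter h4 g).2
    rw [← hLg g, ← hLg (g * g)] at h
    rw [← h, hsum]
    simp only [Pi.add_apply, ← hval]
    have a1 := sq_three hperf φ₁.2.isCharacter h11 g
    have a2 := sq_three hperf φc.2.isCharacter (by rw [hval]; exact h21) g
    rw [← pow_two g]
    have hcc : (φc : G → ℂ) g = conj ((φ₁ : G → ℂ) g) := rfl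
    have hcc2 : (φc : G → ℂ) (g ^ 2) = conj ((φ₁ : G → ℂ) (g ^ 2)) := rfl
    rw [hcc, hcc2, Complex.conj_conj] at a2
    rw [hcc, hcc2]
    linear_combination a1 / 2 + a2 / 2
  have h1 := congrArg (fun f : G → ℂ => classInner f (fun _ => 1)) hkey
  have hn1 : ∀ χ : IrrCharacter G, (χ : G → ℂ) 1 ≠ 1 →
      classInner (χ : G → ℂ) (fun _ => 1) = 0 := fun χ hχ =>
    classInner_irr_ne χ.2 isIrrCharacter_one fun h => hχ (by rw [h])
  have hnorm : ∀ f : G → ℂ, IsIrrCharacter G f →
      classInner (fun g => f g * conj (f g)) (fun _ => 1) = 1 := fun f hf => by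
    have := classInner_irr_self hf
    simp [classInner] at this ⊢
    exact this
  simp only [classInner_add_left, hn1 φc (by rw [hval, h21]; norm_num), hn1 φ₁ (by rw [h11]; norm_num),
    hnorm _ φ₁.2, zero_add] at h1
  rw [show (fun g => τ g * conj (τ g) - 1) = (fun g => τ g * conj (τ g)) - fun _ => (1 : ℂ) from rfl,
    classInner_sub_left, hnorm τ hτ, classInner_irr_self isIrrCharacter_one] at h1
  norm_num at h1

/-- There is a character of degree `3` with value `-1` at `u`. -/
theorem exists_three (hu : u ≠ 1) (hyp : Hyp u) :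
    ∃ χ : IrrCharacter G, (χ : G → ℂ) 1 = 3 ∧ (χ : G → ℂ) u = -1 := by
  classical
  by_contra hno
  push Not at hno
  have hperf := perfect hyp
  have hcol := column_orthogonality (G := G) 1 u
  rw [if_neg fun h => hu (isConj_one_right.1 h)] at hcol
  have hterm : ∀ χ : IrrCharacter G, ∃ r : ℕ, ((χ : G → ℂ) 1 * conj ((χ : G → ℂ) u)) = r ∧
      ((χ : G → ℂ) = (fun _ => 1) → 0 < r) := by
    intro χ
    by_cases h1 : (χ : G → ℂ) = fun _ => 1
    · exact ⟨1, by rw [h1]; simp, fun _ => one_pos⟩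
    · obtain ⟨d, hd0, hd⟩ := χ.2.exists_degree
      rcases hyp χ h1 with e | e
      · have h4 : 4 ≤ d := by
          by_contra hlt
          obtain rfl | rfl | rfl : d = 1 ∨ d = 2 ∨ d = 3 := by omega
          · exact h1 (eq_one_of_degree_one hperf χ.2 (by rw [hd]; norm_num))
          · push_cast at hd
            exact no_minus_two hyp χ.2 hd (by rw [hd] at e; linear_combination -e)
          · push_cast at hd
            exact hno χ hd (by rw [hd] at e; linear_combination -e)
        refine ⟨d * (d - 4), ?_, fun h => absurd h h1⟩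
        rw [hd] at e
        rw [show (χ : G → ℂ) u = ((d - 4 : ℕ) : ℂ) by rw [Nat.cast_sub h4]; push_cast; linear_combination -e,
          hd, Complex.conj_natCast, Nat.cast_mul]
      · exact ⟨0, by rw [e]; simp, fun h => absurd h h1⟩
  choose r hr hr1 using hterm
  rw [Finset.sum_congr rfl fun χ _ => hr χ, ← Nat.cast_sum, Nat.cast_eq_zero,
    Finset.sum_eq_zero_iff] at hcol
  have := hr1 ⟨_, isIrrCharacter_one⟩ rfl
  have := hcol ⟨_, isIrrCharacter_one⟩ (Finset.mem_univ _)
  omega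

theorem apply_sq (hperf : commutator G = ⊤) {χ : G → ℂ} (hχ : IsCharacter G χ) (h3 : χ 1 = 3)
    (hu : χ u = -1) : χ (u ^ 2) = 3 := by
  have h := sq_three hperf hχ h3 u
  rw [hu, map_neg, map_one] at h
  linear_combination -h

/-- There is a real character of degree three with value `-1` at `u`. -/
theorem exists_real_three (hu : u ≠ 1) (hyp : Hyp u) :
    ∃ ψ : IrrCharacter G, (ψ : G → ℂ) 1 = 3 ∧ (ψ : G → ℂ) u = -1 ∧
      ∀ g, conj ((ψ : G → ℂ) g) = (ψ : G → ℂ) g := by
  classical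
  have hperf := perfect hyp
  obtain ⟨χ, h3, hu1⟩ := exists_three hu hyp
  by_cases hr : ∀ g, conj ((χ : G → ℂ) g) = (χ : G → ℂ) g
  · exact ⟨χ, h3, hu1, hr⟩
  have hu2 := apply_sq hperf χ.2.isCharacter h3 hu1
  set X : G → ℂ := fun g => (χ : G → ℂ) g * conj ((χ : G → ℂ) g) with hXdef
  have hX : IsCharacter G X := χ.2.isCharacter.mul χ.2.isCharacter.conjFn
  have hXg : ∀ g, X g = (χ : G → ℂ) g * conj ((χ : G → ℂ) g) := fun g => rfl
  have hX1 : X 1 = 9 := by rw [hXg, h3, map_ofNat]; norm_num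
  have hXu : X u = 1 := by rw [hXg, hu1, map_neg, map_one]; norm_num
  have hXu2 : X (u ^ 2) = X 1 := by rw [hXg, hXg, hu2, h3]
  have hXc : classInner X (fun _ => 1) = 1 := by
    have := classInner_irr_self χ.2
    simp [classInner, hXdef] at this ⊢
    exact this
  obtain ⟨⟨a, s, t, D, V, hs, ht, hmem, hne, e1, eu, ha, htD, ht0, ht1, ht5, -, -, heq1⟩⟩ :=
    exists_split hyp hX hXu2
  obtain rfl : a = 1 := by rw [hXc] at ha; exact_mod_cast ha.symm
  rw [hX1] at e1
  have e1' : 1 + 3 * s.card + D = 9 := by exact_mod_cast e1.symm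
  rw [hXu] at eu
  have eu' : V = s.card := by
    have : (V : ℂ) = (s.card : ℂ) := by push_cast at eu; linear_combination -eu
    exact_mod_cast this
  -- a constituent of degree four
  by_cases h4 : ∃ τ ∈ t, (τ : G → ℂ) 1 = 4
  · obtain ⟨τ, hτt, hτ1⟩ := h4
    have hτ2 := apply_eq_of_constituent hX τ.2 (hne τ (Or.inr hτt)) hXu2
    refine real_three_of_four hyp τ.2 hτ1 ?_ (hτ2.trans hτ1)
    obtain ⟨d, v, -, hd, hv, hdv⟩ := ht τ hτt
    have : d = 4 := by rw [hτ1] at hd; exact_mod_cast hd.symm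
    rw [hv, show v = 0 by omega, Nat.cast_zero]
  push Not at h4
  have ht5' := ht5 h4
  by_cases hs1 : s.card = 1
  · -- the constituent of degree three is real
    obtain ⟨φ, rfl⟩ := Multiset.card_eq_one.1 hs1
    obtain ⟨hφ1, hφu⟩ := hs φ (by simp)
    refine ⟨φ, hφ1, hφu, fun g => ?_⟩
    set φc : IrrCharacter G := ⟨_, isIrrCharacter_conjFn φ.2⟩ with hφc
    suffices h : φc = φ by exact congrArg (fun f : IrrCharacter G => (f : G → ℂ) g) h
    have hXreal : (fun g => conj (X g)) = X := funext fun g => by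
      rw [hXg, map_mul, Complex.conj_conj, mul_comm]
    have hne' : classInner X (φc : G → ℂ) ≠ 0 := by
      conv_lhs => rw [← hXreal]
      rw [show (φc : G → ℂ) = fun g => conj ((φ : G → ℂ) g) from rfl, classInner_conjFn,
        ← classInner_conj_symm]
      exact (map_ne_zero _).2 (hne φ (Or.inl (by simp)))
    have hc1 : (φc : G → ℂ) 1 = 3 := by show conj ((φ : G → ℂ) 1) = 3; rw [hφ1, map_ofNat]
    rcases hmem φc hne' with h | h | h
    · rw [h] at hc1; norm_num at hc1
    · exact Multiset.mem_singleton.1 h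
    · obtain ⟨d, v, hd4, hd, -⟩ := ht φc h
      rw [hc1] at hd
      have : 3 = d := by exact_mod_cast hd
      omega
  -- `X = 1 + c` with `c` irreducible of degree eight
  have hs0 : s = 0 := Multiset.card_eq_zero.1 (by
    rcases Nat.eq_zero_or_pos t.card with h | h
    · have := ht0 h; omega
    · omega)
  rw [hs0, Multiset.card_zero] at e1' eu'
  have htcard : t.card = 1 := by
    rcases Nat.eq_zero_or_pos t.card with h | h
    · have := ht0 h; omega
    · omega
  obtain ⟨c, hc⟩ := Multiset.card_eq_one.1 htcard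
  obtain ⟨hc1, hcu⟩ := ht1 c hc
  have hD8 : D = 8 := by omega
  have hXeq : X = (fun _ => (1 : ℂ)) + (c : G → ℂ) := heq1 c hc rfl hs0
  have hc1' : (c : G → ℂ) 1 = 8 := by rw [hc1, hD8]; norm_num
  have hcu' : (c : G → ℂ) u = 0 := by rw [hcu, eu']; simp
  -- the symmetric square is irreducible of degree six
  set θ : G → ℂ := fun g => ((χ : G → ℂ) g * (χ : G → ℂ) g + (χ : G → ℂ) (g * g)) / 2 with hθdef
  have hθg : ∀ g, θ g = ((χ : G → ℂ) g * (χ : G → ℂ) g + (χ : G → ℂ) (g * g)) / 2 := fun g => rfl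
  have hθ : IsCharacter G θ := isCharacter_symSquare χ.2.isCharacter
  have hu4 : (χ : G → ℂ) (u ^ 2 * u ^ 2) = 3 := by
    rw [χ.2.isCharacter.apply_mul_of_mem_ker (a := u ^ 2) (by rw [hu2, h3]), hu2]
  have hθ1 : θ 1 = 6 := by rw [hθg, mul_one, h3]; norm_num
  have hθu : θ u = 2 := by rw [hθg, ← pow_two u, hu1, hu2]; norm_num
  have hθu2 : θ (u ^ 2) = θ 1 := by rw [hθ1, hθg, hu4, hu2]; norm_num
  have hsq : ∀ g, (χ : G → ℂ) g * (χ : G → ℂ) g = conj ((χ : G → ℂ) g) + θ g := fun g => by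
    have h := sq_three hperf χ.2.isCharacter h3 g
    rw [hθg, ← pow_two g]
    linear_combination h / 2
  set χc : IrrCharacter G := ⟨_, isIrrCharacter_conjFn χ.2⟩ with hχc
  have hχc1 : (χc : G → ℂ) 1 = 3 := by
    show conj ((χ : G → ℂ) 1) = 3
    rw [h3, map_ofNat]
  have hχcne : (χc : G → ℂ) ≠ χ := fun h => hr fun g => congrFun h g
  have hχcone : (χc : G → ℂ) ≠ fun _ => 1 := fun h => by rw [h] at hχc1; norm_num at hχc1
  obtain ⟨⟨a', s', t', D', V', -, -, -, -, f1, fu, fa, ftD, ft0, ft1, -, feq, -, -⟩⟩ :=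
    exists_split hyp hθ hθu2
  have hθone : classInner θ (fun _ => 1) = 0 := by
    have h0 : classInner (fun g => (χ : G → ℂ) g * (χ : G → ℂ) g) (fun _ => 1) = 0 := by
      rw [← classInner_irr_ne χ.2 χc.2 (Ne.symm hχcne)]
      simp [classInner, hχc]
    rw [show (fun g => (χ : G → ℂ) g * (χ : G → ℂ) g) = (χc : G → ℂ) + θ from funext hsq,
      classInner_add_left, classInner_irr_ne χc.2 isIrrCharacter_one hχcone] at h0
    simpa using h0
  have ha' : a' = 0 := by rw [hθone] at fa; exact_mod_cast fa.symm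
  rw [hθ1] at f1
  rw [hθu] at fu
  have f1' : a' + 3 * s'.card + D' = 6 := by exact_mod_cast f1.symm
  have fu' : a' + V' = s'.card + 2 := by
    have : ((a' + V' : ℕ) : ℂ) = ((s'.card + 2 : ℕ) : ℂ) := by push_cast at fu ⊢; linear_combination -fu
    exact_mod_cast this
  have hθirr : IsIrrCharacter G θ := by
    obtain h | h : t'.card = 0 ∨ t'.card = 1 := by omega
    · have := ft0 h; omega
    · obtain ⟨φ, hφ⟩ := Multiset.card_eq_one.1 h
      rw [feq φ hφ ha' (Multiset.card_eq_zero.1 (by omega))]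
      exact φ.2
  have hθχc : θ ≠ (χc : G → ℂ) := fun h => by
    have h' := congrFun h 1
    rw [hθ1, hχc1] at h'
    norm_num at h'
  -- `χ θ - c` is a character
  have hY : IsCharacter G (fun g => (χ : G → ℂ) g * θ g) := χ.2.isCharacter.mul hθ
  have hYone : classInner (fun g => (χ : G → ℂ) g * θ g) (fun _ => 1) = 0 := by
    rw [← classInner_irr_ne hθirr χc.2 hθχc]
    simp [classInner, hχc, mul_comm]
  have hYc : classInner (fun g => (χ : G → ℂ) g * θ g) (c : G → ℂ) ≠ 0 := by
    have hA : classInner (fun g => (χ : G → ℂ) g * θ g) X =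
        classInner θ (fun g => (χ : G → ℂ) g * (χ : G → ℂ) g) +
          classInner θ (fun g => (χ : G → ℂ) g * conj (θ g)) := by
      rw [← classInner_add_right]
      simp only [classInner]
      congr 1
      refine Finset.sum_congr rfl fun g _ => ?_
      simp only [Pi.add_apply, hXg, map_add, map_mul, Complex.conj_conj]
      have h := congrArg conj (hsq g)
      rw [map_mul, map_add, Complex.conj_conj] at h
      linear_combination θ g * conj ((χ : G → ℂ) g) * hsq g
    have h1 : classInner θ (fun g => (χ : G → ℂ) g * (χ : G → ℂ) g) = 1 := by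
      rw [show (fun g => (χ : G → ℂ) g * (χ : G → ℂ) g) = (χc : G → ℂ) + θ from funext hsq,
        classInner_add_right, classInner_irr_self hθirr, classInner_irr_ne hθirr χc.2 hθχc, zero_add]
    obtain ⟨n, hn⟩ : ∃ n : ℕ, classInner θ (fun g => (χ : G → ℂ) g * conj (θ g)) = n :=
      hθ.exists_nat_classInner (χ.2.isCharacter.mul hθ.conjFn)
    rw [hXeq, classInner_add_right, hYone, zero_add, h1, hn] at hA
    rw [hA]
    intro h
    have h' : ((1 + n : ℕ) : ℂ) = 0 := by push_cast; exact h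
    rw [Nat.cast_eq_zero] at h'
    omega
  set R : G → ℂ := (fun g => (χ : G → ℂ) g * θ g) - (c : G → ℂ) with hR
  have hRchar : IsCharacter G R := by
    rw [isCharacter_iff]
    refine ⟨fun g h => by simp only [hR, Pi.sub_apply]; rw [c.2.isClassFunction g h]; exact congrArg (· - _) (hY.isClassFunction g h),
      fun φ hφ => ?_⟩
    obtain ⟨n, hn⟩ := hY.exists_nat_classInner hφ.isCharacter
    rw [hR, classInner_sub_left, hn]
    by_cases hcφ : (c : G → ℂ) = φ
    · subst hcφ
      rw [classInner_irr_self c.2]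
      have : n ≠ 0 := fun h => hYc (by rw [hn, h, Nat.cast_zero])
      exact ⟨n - 1, by rw [Nat.cast_sub (by omega), Nat.cast_one]⟩
    · exact ⟨n, by rw [classInner_irr_ne c.2 hφ hcφ, sub_zero]⟩
  have hRg : ∀ g, R g = (χ : G → ℂ) g * θ g - (c : G → ℂ) g := fun g => rfl
  have hR1 : R 1 = 10 := by rw [hRg, h3, hθ1, hc1']; norm_num
  have hRu : R u = -2 := by rw [hRg, hu1, hθu, hcu']; norm_num
  have hcu2 : (c : G → ℂ) (u ^ 2) = 8 := by
    have h := congrFun hXeq (u ^ 2)
    rw [hXu2, hX1, Pi.add_apply] at h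
    linear_combination -h
  have hRu2 : R (u ^ 2) = R 1 := by rw [hR1, hRg, hu2, hθu2, hθ1, hcu2]; norm_num
  have hRone : classInner R (fun _ => 1) = 0 := by
    rw [hR, classInner_sub_left, hYone, classInner_irr_ne c.2 isIrrCharacter_one, sub_zero]
    intro h
    rw [h] at hc1'
    norm_num at hc1'
  obtain ⟨⟨a5, s5, t5, D5, V5, -, ht', -, hne5, g1, gu, ga, gtD, gt0, gt1, -, -, -, -⟩⟩ :=
    exists_split hyp hRchar hRu2
  obtain rfl : a5 = 0 := by rw [hRone] at ga; exact_mod_cast ga.symm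
  rw [hR1] at g1
  rw [hRu] at gu
  have g1' : 0 + 3 * s5.card + D5 = 10 := by exact_mod_cast g1.symm
  have gu' : V5 + 2 = s5.card := by
    have : ((V5 + 2 : ℕ) : ℂ) = (s5.card : ℂ) := by push_cast at gu ⊢; linear_combination -gu
    exact_mod_cast this
  obtain h | h : t5.card = 0 ∨ t5.card = 1 := by omega
  · have := gt0 h; omega
  · obtain ⟨τ, hτ⟩ := Multiset.card_eq_one.1 h
    obtain ⟨hτ1, hτu⟩ := gt1 τ hτ
    have hD4 : D5 = 4 := by omega
    have hτ1' : (τ : G → ℂ) 1 = 4 := by rw [hτ1, hD4]; norm_num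
    refine real_three_of_four hyp τ.2 hτ1' (by rw [hτu, show V5 = 0 by omega, Nat.cast_zero]) ?_
    rw [← hτ1']
    exact apply_eq_of_constituent hRchar τ.2 (hne5 τ (Or.inr (by rw [hτ]; simp))) hRu2

end Cfsg.Lib.Char.ConstantFour
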