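import Cfsg.Agent.Lib.Char.ConstantFour
import Mathlib

/-!
# The kernel of order index `60`

All characters of degree three with value `-1` at `u` have the same kernel `K`, of index `60`, and
every irreducible character which is nontrivial on `K` vanishes at `u`.
-/

set_option autoImplicit false
set_option linter.style.haveILetI false
set_option linter.unusedSectionVars false

namespace Cfsg.Lib.Char.ConstantFour

open Cfsg Cfsg.Lib.Char
open scoped ComplexConjugate

universe u

variable {G : Type u} [Group G] [Fintype G] {u : G}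

/-- A perfect group has no proper subgroup of index at most four. -/
theorem eq_top_of_index_le_four (hperf : commutator G = ⊤) {H : Subgroup G} (h : H.index ≤ 4) :
    H = ⊤ := by
  set f := MulAction.toPermHom G (G ⧸ H) with hf
  have hcard : Nat.card f.range ≤ 24 := by
    refine le_trans (Nat.le_of_dvd Nat.card_pos (Subgroup.card_subgroup_dvd_card _)) ?_
    rw [Nat.card_perm, ← Subgroup.index_eq_card]
    exact (Nat.factorial_le h).trans (by decide)
  haveI := Cfsg.Lib.Recog.Icosa.solvable_of_lt_sixty _ f.range rfl (by omega)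
  have hpr : commutator f.range = ⊤ := by
    have h1 := congrArg (Subgroup.map f.rangeRestrict) hperf
    rw [_root_.commutator_def, Subgroup.map_commutator,
      Subgroup.map_top_of_surjective _ f.rangeRestrict_surjective] at h1
    rw [_root_.commutator_def]; exact h1
  have hsub : Subsingleton f.range := by
    by_contra hnt
    rw [not_subsingleton_iff_nontrivial] at hnt
    exact (Group.IsSolvable.commutator_lt_top_of_nontrivial f.range).ne hpr
  refine (Subgroup.eq_top_iff' _).2 fun g => ?_
  have h1 : f g = 1 := congrArg Subtype.val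
    (Subsingleton.elim (⟨f g, g, rfl⟩ : f.range) 1)
  have h2 : g • ((1 : G) : G ⧸ H) = ((1 : G) : G ⧸ H) := by
    conv_rhs => rw [← Equiv.Perm.one_apply ((1 : G) : G ⧸ H), ← h1]
    rfl
  rw [MulAction.Quotient.smul_mk, smul_eq_mul, mul_one, eq_comm] at h2
  simpa using QuotientGroup.eq.1 h2

/-- The quotient by the kernel of a real character of degree three has order `60`. -/
theorem card_quotient_eq_sixty (hperf : commutator G = ⊤) {ψ : G → ℂ} (hψ : IsIrrCharacter G ψ)
    (h3 : ψ 1 = 3) (hreal : ∀ g, conj (ψ g) = ψ g) (K : Subgroup G) [K.Normal]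
    (hK : ∀ g, g ∈ K ↔ ψ g = ψ 1) : Nat.card (G ⧸ K) = 60 := by
  obtain ⟨n, ρ, hρ, rfl⟩ := hψ
  have hKρ : ∀ g, g ∈ K ↔ ρ g = LinearMap.id := fun g => by
    rw [hK, Representation.char_one, character_eq_finrank_iff]
  let ρb : Representation ℂ (G ⧸ K) (Fin n → ℂ) :=
    QuotientGroup.lift K ρ fun k hk => MonoidHom.mem_ker.2 ((hKρ k).1 hk)
  have hρb : ∀ g, ρb (QuotientGroup.mk' K g) = ρ g := fun g => rfl
  haveI := Fintype.ofFinite (G ⧸ K)
  have hirr : ρb.IsIrreducible := by
    rw [isIrreducible_iff_submodule]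
    have h := (isIrreducible_iff_submodule ρ).1 hρ
    exact ⟨h.1, fun W hW => h.2 W fun g => hW (QuotientGroup.mk' K g)⟩
  have hch : ∀ g, ρb.character (QuotientGroup.mk' K g) = ρ.character g := fun g => rfl
  have hperfQ : commutator (G ⧸ K) = ⊤ := by
    have h := congrArg (Subgroup.map (QuotientGroup.mk' K)) hperf
    rw [_root_.commutator_def, Subgroup.map_commutator,
      Subgroup.map_top_of_surjective _ (QuotientGroup.mk'_surjective K)] at h
    rw [_root_.commutator_def]; exact h
  refine IcosaThree.card_eq_sixty hperfQ (isIrrCharacter_character ρb) ?_ ?_ ?_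
  · rw [← map_one (QuotientGroup.mk' K), hch]; exact h3
  · intro x
    obtain ⟨g, rfl⟩ := QuotientGroup.mk'_surjective K x
    rw [hch]; exact hreal g
  · intro x hx
    obtain ⟨g, rfl⟩ := QuotientGroup.mk'_surjective K x
    rw [← map_one (QuotientGroup.mk' K), hch, hch, Representation.char_one] at hx
    exact (QuotientGroup.eq_one_iff g).2 ((hKρ g).2 ((character_eq_finrank_iff ρ g).1 hx))

/-- Every character of degree three with value `-1` at `u` is trivial on `K`. -/
theorem trivial_on_kernel (hyp : Hyp u) {ψ : G → ℂ} (hψ : IsIrrCharacter G ψ) (h3 : ψ 1 = 3)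
    (hψu : ψ u = -1) (K : Subgroup G) [K.Normal] (hK : ∀ g, g ∈ K ↔ ψ g = ψ 1)
    (h60 : Nat.card (G ⧸ K) = 60) {χ : G → ℂ} (hχ : IsIrrCharacter G χ) (hχ3 : χ 1 = 3)
    (hχu : χ u = -1) : ∀ k ∈ K, χ k = χ 1 := by
  classical
  have hperf := perfect hyp
  obtain ⟨θ, hθc⟩ := exists_irr_constituent_res (H := K) hχ
  obtain ⟨e, he⟩ := (hχ.isCharacter.comp K.subtype).exists_nat_classInner θ.2.isCharacter
  change classInner (fun x : K => χ x) (θ : K → ℂ) = _ at he
  obtain ⟨d, hd0, hd⟩ := θ.2.exists_degree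
  have he0 : e ≠ 0 := fun h => hθc (by rw [he, h, Nat.cast_zero])
  have hdeg := clifford_degree K hχ θ.2 hθc
  rw [he, hd, hχ3] at hdeg
  have hdeg' : e * (inertia K (θ : K → ℂ)).index * d = 3 := by exact_mod_cast hdeg.symm
  have ht0 : (inertia K (θ : K → ℂ)).index ≠ 0 := Subgroup.index_ne_zero_of_finite
  have htop : inertia K (θ : K → ℂ) = ⊤ := by
    refine eq_top_of_index_le_four hperf ?_
    have : (inertia K (θ : K → ℂ)).index ∣ 3 := ⟨e * d, by rw [← hdeg']; ring⟩
    exact (Nat.le_of_dvd (by norm_num) this).trans (by norm_num)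
  rw [htop, Subgroup.index_top, mul_one] at hdeg'
  have hinv : ∀ g, conjTwist K (θ : K → ℂ) g = θ := fun g => by
    rw [← mem_inertia, htop]; exact Subgroup.mem_top g
  have hres := clifford_invariant K hχ θ.2 hinv hθc
  rw [he] at hres
  obtain ⟨rfl, rfl⟩ | ⟨rfl, rfl⟩ : (e = 1 ∧ d = 3) ∨ (e = 3 ∧ d = 1) := by
    have h1 : e ∣ 3 := ⟨d, hdeg'.symm⟩
    rcases (Nat.dvd_prime Nat.prime_three).1 h1 with h | h
    · exact Or.inl ⟨h, by subst h; omega⟩
    · exact Or.inr ⟨h, by subst h; omega⟩
  · -- the restriction is irreducible: Gallagher makes `χ ψ` irreducible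
    exfalso
    have hres' : (fun x : K => χ x) = (θ : K → ℂ) := by rw [hres, Nat.cast_one, one_smul]
    have hone : ((fun _ => (1 : ℂ)) * (fun x : K => χ x) : K → ℂ) = fun x : K => χ x :=
      funext fun x => one_mul _
    have hb := gallagher_bijOn K (φ := fun _ => (1 : ℂ)) (ϑ := fun x : K => χ x) isIrrCharacter_one
      (fun g => rfl) (fun g => conjTwist_res K hχ.isClassFunction g)
      (by rw [hone, hres']; exact θ.2) hχ.isCharacter (fun n => rfl)
    have hψmem : classInner (indFun K (fun _ => (1 : ℂ))) ψ ≠ 0 := by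
      rw [classInner_indFun K _ hψ.isClassFunction, ← classInner_conj_symm, classInner_one_right]
      refine (map_ne_zero _).2 ?_
      rw [Finset.sum_congr rfl fun (x : K) _ => (hK (x : G)).1 x.2, Finset.sum_const, nsmul_eq_mul,
        Finset.card_univ, ← Nat.card_eq_fintype_card, ← mul_assoc, inv_mul_cancel₀ card_cast_ne_zero,
        one_mul, h3]
      norm_num
    have hirr : IsIrrCharacter G (ψ * χ) := (hb.mapsTo ⟨hψ, hψmem⟩).1
    have hne : ψ * χ ≠ fun _ => 1 := fun h => by
      have := congrFun h 1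
      rw [Pi.mul_apply, h3, hχ3] at this
      norm_num at this
    rcases hyp ⟨_, hirr⟩ hne with h | h
    · simp only [Pi.mul_apply, h3, hχ3, hψu, hχu] at h; norm_num at h
    · simp only [Pi.mul_apply, hψu, hχu] at h; norm_num at h
  · -- the restriction is scalar
    obtain ⟨m, ρ, hρ, rfl⟩ := hχ
    obtain rfl : m = 3 := by
      rw [Representation.char_one, Module.finrank_fin_fun] at hχ3
      exact_mod_cast hχ3
    have hscal : ∀ k : K, ∃ c : ℂ, ρ (k : G) = c • LinearMap.id ∧ c ^ 3 = 1 := by
      intro k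
      have hθk : ‖(θ : K → ℂ) k‖ = 1 := by
        obtain ⟨n', σ, hσ, hσe⟩ := θ.2
        obtain ⟨μ, hμ, hsum, -⟩ := character_eq_sum_roots σ k
        have hn' : n' = 1 := by
          rw [← hσe, Representation.char_one, Module.finrank_fin_fun, Nat.cast_one] at hd
          exact_mod_cast hd
        subst hn'
        let i : Fin (Module.finrank ℂ (Fin 1 → ℂ)) := ⟨0, by rw [Module.finrank_fin_fun]; norm_num⟩
        haveI : Subsingleton (Fin (Module.finrank ℂ (Fin 1 → ℂ))) := by
          rw [Module.finrank_fin_fun]; infer_instance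
        rw [← hσe, hsum, Fintype.sum_subsingleton _ i]
        exact norm_eq_one_of_pow_orderOf (hμ i)
      have hnorm : ‖ρ.character (k : G)‖ = (Module.finrank ℂ (Fin 3 → ℂ) : ℝ) := by
        have h := congrFun hres k
        simp only [Pi.smul_apply, smul_eq_mul] at h
        rw [h, norm_mul, hθk, mul_one, Module.finrank_fin_fun, Complex.norm_natCast]
      obtain ⟨c, hc⟩ := (norm_character_eq_iff ρ (k : G)).1 hnorm
      refine ⟨c, hc, ?_⟩
      obtain ⟨b, μ, hb, -, hprod, -⟩ := IcosaThree.exists_roots_det_one hperf ρ (k : G)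
      have hμc : ∀ i, μ i = c := fun i => by
        have h := hb i
        rw [hc, LinearMap.smul_apply, LinearMap.id_apply] at h
        exact (smul_left_injective ℂ (b.ne_zero i) h).symm
      rw [Fin.prod_univ_three, hμc, hμc, hμc] at hprod
      linear_combination hprod
    choose c hc hc3 using hscal
    have hinj : ∀ a b : ℂ, a • (LinearMap.id : (Fin 3 → ℂ) →ₗ[ℂ] (Fin 3 → ℂ)) = b • LinearMap.id → a = b := by
      intro a b h
      have := congrFun (LinearMap.congr_fun h (fun _ => 1)) 0
      simpa using this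
    let f : K →* ℂ :=
      { toFun := c
        map_one' := hinj _ _ (by rw [← hc, Subgroup.coe_one, map_one, one_smul]; rfl)
        map_mul' := fun a b => hinj _ _ (by
          rw [← hc, Subgroup.coe_mul, map_mul, hc, hc]
          ext v
          simp [mul_comm, mul_left_comm, smul_smul, mul_assoc]) }
    have hX : IsCharacter G ρ.character := isCharacter_character ρ
    set L : Subgroup G := charKer hX ⊓ K with hL
    haveI hLn : L.Normal := by
      haveI := charKer_normal hX
      rw [hL]; infer_instance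
    have hLK : L ≤ K := inf_le_right
    have hker : ∀ k : K, f k = 1 ↔ (k : G) ∈ L := by
      intro k
      rw [hL, Subgroup.mem_inf, mem_charKer, Representation.char_one, character_eq_finrank_iff]
      refine ⟨fun h => ⟨by rw [hc, show c k = 1 from h, one_smul], k.2⟩, fun h => hinj _ _ ?_⟩
      show c k • LinearMap.id = (1 : ℂ) • LinearMap.id
      rw [← hc, h.1, one_smul]
    set F := f.toHomUnits with hF
    have hFr : F.range ≤ rootsOfUnity 3 ℂ := by
      rintro _ ⟨k, rfl⟩
      rw [mem_rootsOfUnity]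
      exact Units.ext (hc3 k)
    have hFk : F.ker = L.subgroupOf K := by
      ext k
      rw [MonoidHom.mem_ker, Subgroup.mem_subgroupOf, ← hker]
      exact ⟨fun h => congrArg Units.val h, fun h => Units.ext h⟩
    have hidx : (L.subgroupOf K).index ∣ 3 := by
      rw [← hFk, Subgroup.index_ker]
      have := Subgroup.card_dvd_of_le hFr
      rwa [Complex.card_rootsOfUnity] at this
    rcases (Nat.dvd_prime Nat.prime_three).1 hidx with h1 | h3'
    · intro k hk
      have : (⟨k, hk⟩ : K) ∈ L.subgroupOf K := by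
        rw [Subgroup.index_eq_one.1 h1]; exact Subgroup.mem_top _
      exact (Subgroup.mem_inf.1 (Subgroup.mem_subgroupOf.1 this)).1
    exfalso
    set π := QuotientGroup.mk' L with hπ
    set Z := K.map π with hZ
    have hZc : Z ≤ Subgroup.center (G ⧸ L) := by
      rintro _ ⟨k, hk, rfl⟩
      rw [Subgroup.mem_center_iff]
      intro x
      obtain ⟨g, rfl⟩ := QuotientGroup.mk'_surjective L x
      show π g * π k = π k * π g
      rw [← map_mul, ← map_mul]
      refine QuotientGroup.eq.2 ?_
      rw [hL, Subgroup.mem_inf]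
      refine ⟨?_, ?_⟩
      · rw [mem_charKer, Representation.char_one, character_eq_finrank_iff]
        have e1 : ρ (g * k) = ρ (k * g) := by
          rw [map_mul, map_mul, show ρ k = c ⟨k, hk⟩ • LinearMap.id from hc ⟨k, hk⟩]
          ext v
          simp
        rw [map_mul, ← e1, ← map_mul, inv_mul_cancel, map_one]
        rfl
      · have hK' : k⁻¹ * (g⁻¹ * k * g) ∈ K :=
          mul_mem (inv_mem hk) (by simpa using (inferInstance : K.Normal).conj_mem k hk g⁻¹)
        simpa [mul_assoc] using hK'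
    have hperfL : commutator (G ⧸ L) = ⊤ := by
      have h := congrArg (Subgroup.map π) hperf
      rw [_root_.commutator_def, Subgroup.map_commutator,
        Subgroup.map_top_of_surjective _ (QuotientGroup.mk'_surjective L)] at h
      rw [_root_.commutator_def]; exact h
    have h180 : Nat.card (G ⧸ L) = 180 := by
      have e1 := L.card_mul_index
      have e2 := (L.subgroupOf K).card_mul_index
      have e3 := K.card_mul_index
      rw [h3', Nat.card_congr (Subgroup.subgroupOfEquivOfLe hLK).toEquiv] at e2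
      rw [Subgroup.index_eq_card] at e1 e3
      rw [h60, ← e2, ← e1, mul_assoc] at e3
      exact (Nat.eq_of_mul_eq_mul_left Nat.card_pos (e3.trans rfl)).symm
    have hab : ∀ r : ℕ, r.Prime → ∀ R : Sylow r (G ⧸ L), IsMulCommutative (R : Subgroup (G ⧸ L)) := by
      intro r hr R
      haveI := Fact.mk hr
      have hR := R.card_eq_multiplicity
      rw [h180] at hR
      have hv : Nat.factorization 180 r ≤ 2 := by
        by_contra hgt
        have hdvd : r ^ 3 ∣ 180 := (hr.pow_dvd_iff_le_factorization (by norm_num)).2 (by omega)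
        have hr5 : r ≤ 5 := by
          have h3 : r ^ 3 ≤ 180 := Nat.le_of_dvd (by norm_num) hdvd
          by_contra h5
          have : 6 ^ 3 ≤ r ^ 3 := Nat.pow_le_pow_left (by omega) 3
          omega
        have := hr.two_le
        interval_cases r <;> norm_num at hr <;> norm_num at hdvd
      obtain h0 | h1 | h2 : Nat.factorization 180 r = 0 ∨ Nat.factorization 180 r = 1 ∨
          Nat.factorization 180 r = 2 := by omega
      · rw [h0, pow_zero] at hR
        haveI := (Nat.card_eq_one_iff_unique.1 hR).1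
        exact ⟨⟨fun a b => Subsingleton.elim _ _⟩⟩
      · rw [h1, pow_one] at hR
        haveI := isCyclic_of_prime_card hR
        infer_instance
      · rw [h2] at hR
        exact IsPGroup.isMulCommutative_of_card_eq_prime_sq hR
    have hbot := Cfsg.Agent.DegreePSubTwo.center_inf_commutator_eq_bot hab
    rw [hperfL, inf_top_eq] at hbot
    have hZbot : Z = ⊥ := le_bot_iff.1 (hbot ▸ hZc)
    have hKL : K ≤ L := fun k hk => (QuotientGroup.eq_one_iff k).1 (by
      have := Subgroup.mem_map_of_mem π hk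
      rw [← hZ, hZbot, Subgroup.mem_bot] at this
      exact this)
    rw [le_antisymm hLK hKL, Subgroup.subgroupOf_self, Subgroup.index_top] at h3'
    norm_num at h3'

/-- The subgroup of index `60`. -/
theorem exists_kernel (hu : u ≠ 1) (hyp : Hyp u) :
    ∃ K : Subgroup G, ∃ _ : K.Normal, Nat.card (G ⧸ K) = 60 ∧ u ∉ K ∧ u ^ 2 ∈ K ∧
      Nat.card (Subgroup.centralizer ({u} : Set G)) = 4 := by
  classical
  have hperf := perfect hyp
  obtain ⟨ψ, h3, hψu, hreal⟩ := exists_real_three hu hyp
  set K := charKer ψ.2.isCharacter with hKdef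
  haveI hKn : K.Normal := charKer_normal ψ.2.isCharacter
  have hK : ∀ g, g ∈ K ↔ (ψ : G → ℂ) g = (ψ : G → ℂ) 1 := fun g => Iff.rfl
  have h60 := card_quotient_eq_sixty hperf ψ.2 h3 hreal K hK
  have hψu2 := apply_sq hperf ψ.2.isCharacter h3 hψu
  refine ⟨K, hKn, h60, fun h => ?_, (hK _).2 (by rw [hψu2, h3]), ?_⟩
  · rw [hK, hψu, h3] at h; norm_num at h
  -- the constituent of degree five of the symmetric square of `ψ`
  set θ : G → ℂ := fun g => ((ψ : G → ℂ) g * (ψ : G → ℂ) g + (ψ : G → ℂ) (g * g)) / 2 with hθdef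
  have hθg : ∀ g, θ g = ((ψ : G → ℂ) g * (ψ : G → ℂ) g + (ψ : G → ℂ) (g * g)) / 2 := fun g => rfl
  have hθ : IsCharacter G θ := isCharacter_symSquare ψ.2.isCharacter
  have hu4 : (ψ : G → ℂ) (u ^ 2 * u ^ 2) = 3 := by
    rw [ψ.2.isCharacter.apply_mul_of_mem_ker (a := u ^ 2) (by rw [hψu2, h3]), hψu2]
  have hθ1 : θ 1 = 6 := by rw [hθg, mul_one, h3]; norm_num
  have hθu : θ u = 2 := by rw [hθg, ← pow_two u, hψu, hψu2]; norm_num
  have hθu2 : θ (u ^ 2) = θ 1 := by rw [hθ1, hθg, hu4, hψu2]; norm_num
  have hψone : (ψ : G → ℂ) ≠ fun _ => 1 := fun h => by rw [h] at h3; norm_num at h3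
  have hsq : ∀ g, (ψ : G → ℂ) g * (ψ : G → ℂ) g = (ψ : G → ℂ) g + θ g := fun g => by
    have h := sq_three hperf ψ.2.isCharacter h3 g
    rw [hreal g] at h
    rw [hθg, ← pow_two g]
    linear_combination h / 2
  have hθone : classInner θ (fun _ => 1) = 1 := by
    have h0 : classInner (fun g => (ψ : G → ℂ) g * (ψ : G → ℂ) g) (fun _ => 1) = 1 := by
      have := classInner_irr_self ψ.2
      simp [classInner, hreal] at this ⊢
      exact this
    rw [show (fun g => (ψ : G → ℂ) g * (ψ : G → ℂ) g) = (ψ : G → ℂ) + θ from funext hsq,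
      classInner_add_left, classInner_irr_ne ψ.2 isIrrCharacter_one hψone, zero_add] at h0
    exact h0
  obtain ⟨⟨a, s, t, D, V, -, -, -, hne, e1, eu, ha, htD, ht0, ht1, -, -, -, -⟩⟩ :=
    exists_split hyp hθ hθu2
  obtain rfl : a = 1 := by rw [hθone] at ha; exact_mod_cast ha.symm
  rw [hθ1] at e1
  rw [hθu] at eu
  have e1' : 1 + 3 * s.card + D = 6 := by exact_mod_cast e1.symm
  have eu' : V = s.card + 1 := by
    have : (V : ℂ) = ((s.card + 1 : ℕ) : ℂ) := by push_cast at eu ⊢; linear_combination -eu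
    exact_mod_cast this
  have htc : t.card = 1 := by
    rcases Nat.eq_zero_or_pos t.card with h | h
    · have := ht0 h; omega
    · omega
  obtain ⟨φ, hφ⟩ := Multiset.card_eq_one.1 htc
  obtain ⟨hφ1, hφu⟩ := ht1 φ hφ
  have hs0 : s.card = 0 := by omega
  rw [hs0] at e1' eu'
  obtain rfl : D = 5 := by omega
  obtain rfl : V = 1 := by omega
  have hφK : ∀ k ∈ K, (φ : G → ℂ) k = (φ : G → ℂ) 1 := fun k hk =>
    apply_eq_of_constituent hθ φ.2 (hne φ (Or.inr (by rw [hφ]; simp))) (by
      have hk' : (ψ : G → ℂ) k = (ψ : G → ℂ) 1 := (hK k).1 hk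
      have hkk : (ψ : G → ℂ) (k * k) = (ψ : G → ℂ) 1 := (hK _).1 (mul_mem hk hk)
      rw [hθg, hθg, hkk, mul_one, hk'])
  set T := Finset.univ.filter fun χ : IrrCharacter G => (χ : G → ℂ) 1 = 3 ∧ (χ : G → ℂ) u = -1 with hT
  set one : IrrCharacter G := ⟨_, isIrrCharacter_one⟩ with hone
  have hTK : ∀ χ ∈ T, ∀ k ∈ K, (χ : G → ℂ) k = (χ : G → ℂ) 1 := fun χ hχ =>
    trivial_on_kernel hyp ψ.2 h3 hψu K hK h60 χ.2 (Finset.mem_filter.1 hχ).2.1 (Finset.mem_filter.1 hχ).2.2
  have h1φ : one ∉ insert φ T := by
    simp only [Finset.mem_insert, not_or]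
    refine ⟨fun h => ?_, fun h => ?_⟩
    · rw [← h] at hφ1
      have : ((1 : ℕ) : ℂ) = ((5 : ℕ) : ℂ) := by rw [← hφ1]; simp [one]
      have := Nat.cast_injective this
      omega
    · have := (Finset.mem_filter.1 h).2.1
      simp [one] at this
  have hφT : φ ∉ T := fun h => by
    have := (Finset.mem_filter.1 h).2.1
    rw [hφ1] at this
    norm_num at this
  -- the squares of the degrees on `G ⧸ K`
  have hTcard : T.card ≤ 3 := by
    set π : G → ℂ := indFun K (fun _ => (1 : ℂ)) with hπ
    have hπc : IsCharacter G π := isCharacter_indFun K isIrrCharacter_one.isCharacter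
    have hself : classInner π π = 60 := by
      have h := classInner_indFun_self K (θ := fun _ => (1 : ℂ)) isIrrCharacter_one
      have htop : inertia K (fun _ : K => (1 : ℂ)) = ⊤ :=
        (Subgroup.eq_top_iff' _).2 fun g => (mem_inertia K).2 rfl
      rw [htop, Subgroup.card_top, ← K.card_mul_index, Subgroup.index_eq_card, h60, Nat.cast_mul] at h
      exact_mod_cast mul_left_cancel₀ card_cast_ne_zero h
    choose n hn using fun χ : IrrCharacter G => hπc.exists_nat_classInner χ.2.isCharacter
    have hsum : ∑ χ : IrrCharacter G, n χ * n χ = 60 := by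
      rw [classInner_eq_sum hπc.isClassFunction] at hself
      rw [Finset.sum_congr rfl fun χ _ => by rw [hn χ, Complex.conj_natCast, ← Nat.cast_mul],
        ← Nat.cast_sum] at hself
      exact_mod_cast hself
    have hval : ∀ χ : IrrCharacter G, (∀ k ∈ K, (χ : G → ℂ) k = (χ : G → ℂ) 1) →
        ∀ d : ℕ, (χ : G → ℂ) 1 = d → n χ = d := by
      intro χ hχ d hd
      have h := hn χ
      rw [hπ, classInner_indFun K _ χ.2.isClassFunction, ← classInner_conj_symm, classInner_one_right,
        Finset.sum_congr rfl fun (x : K) _ => (hχ (x : G) x.2).trans hd, Finset.sum_const, nsmul_eq_mul,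
        Finset.card_univ, ← Nat.card_eq_fintype_card, ← mul_assoc, inv_mul_cancel₀ card_cast_ne_zero,
        one_mul, Complex.conj_natCast] at h
      exact_mod_cast h.symm
    have hle : ∑ χ ∈ insert one (insert φ T), n χ * n χ ≤ 60 := by
      rw [← hsum]; exact Finset.sum_le_univ_sum_of_nonneg fun _ => Nat.zero_le _
    rw [Finset.sum_insert h1φ, Finset.sum_insert hφT,
      hval one (fun k _ => rfl) 1 (by simp [one]), hval φ hφK 5 hφ1,
      Finset.sum_congr rfl fun χ hχ => by
        rw [hval χ (hTK χ hχ) 3 (by exact_mod_cast (Finset.mem_filter.1 hχ).2.1)],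
      Finset.sum_const, smul_eq_mul] at hle
    omega
  -- the column of `u`
  have hother : ∀ χ : IrrCharacter G, χ ∉ T → χ ≠ one →
      ∃ v r : ℕ, (χ : G → ℂ) u = v ∧ (χ : G → ℂ) 1 * conj ((χ : G → ℂ) u) = r ∧
        (r = 0 → v = 0) ∧ (r < 5 → r = 0) := by
    intro χ hχT hχ1
    have h1' : (χ : G → ℂ) ≠ fun _ => 1 := fun h => hχ1 (Subtype.ext h)
    obtain ⟨d, hd0, hd⟩ := χ.2.exists_degree
    rcases hyp χ h1' with e | e
    · have h4 : 4 ≤ d := by
        by_contra hlt
        obtain rfl | rfl | rfl : d = 1 ∨ d = 2 ∨ d = 3 := by omega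
        · exact h1' (eq_one_of_degree_one hperf χ.2 (by rw [hd]; norm_num))
        · push_cast at hd
          exact no_minus_two hyp χ.2 hd (by rw [hd] at e; linear_combination -e)
        · push_cast at hd
          exact hχT (Finset.mem_filter.2 ⟨Finset.mem_univ _, hd, by rw [hd] at e; linear_combination -e⟩)
      rw [hd] at e
      have hv : (χ : G → ℂ) u = ((d - 4 : ℕ) : ℂ) := by
        rw [Nat.cast_sub h4]; push_cast; linear_combination -e
      refine ⟨d - 4, d * (d - 4), hv, by rw [hv, hd, Complex.conj_natCast, Nat.cast_mul], fun h => ?_, fun h => ?_⟩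
      · rcases Nat.mul_eq_zero.1 h with h | h <;> omega
      · rcases Nat.eq_zero_or_pos (d - 4) with h0 | h0
        · rw [h0, mul_zero]
        · nlinarith [show 5 ≤ d by omega]
    · exact ⟨0, 0, by rw [e, Nat.cast_zero], by rw [e]; simp, fun _ => rfl, fun _ => rfl⟩
  set S := Finset.univ \ insert one (insert φ T) with hS
  have hSmem : ∀ χ ∈ S, χ ∉ T ∧ χ ≠ one := fun χ hχ => by
    simp only [hS, Finset.mem_sdiff, Finset.mem_insert, not_or] at hχ
    exact ⟨hχ.2.2.2, hχ.2.1⟩
  choose! v r hv hr hr0 hr5 using fun χ (hχ : χ ∈ S) => hother χ (hSmem χ hχ).1 (hSmem χ hχ).2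
  have hcol := column_orthogonality (G := G) 1 u
  rw [if_neg fun h => hu (isConj_one_right.1 h), ← Finset.sum_sdiff (Finset.subset_univ (insert one (insert φ T))),
    Finset.sum_insert h1φ, Finset.sum_insert hφT, ← hS, Finset.sum_congr rfl hr, hφ1, hφu,
    show (one : G → ℂ) 1 = 1 from rfl,
    Finset.sum_congr (s₁ := T) rfl fun χ hχ => by
      rw [(Finset.mem_filter.1 hχ).2.1, (Finset.mem_filter.1 hχ).2.2],
    Finset.sum_const, nsmul_eq_mul, ← Nat.cast_sum] at hcol
  simp only [map_neg, map_one, Nat.cast_one, mul_neg, mul_one] at hcol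
  have hcol' : (∑ χ ∈ S, r χ) + 6 = 3 * T.card := by
    have : (((∑ χ ∈ S, r χ) + 6 : ℕ) : ℂ) = ((3 * T.card : ℕ) : ℂ) := by
      push_cast at hcol ⊢; linear_combination hcol
    exact_mod_cast this
  have hr00 : ∀ χ ∈ S, r χ = 0 := fun χ hχ => hr5 χ hχ (by
    have := Finset.single_le_sum (f := r) (fun x _ => Nat.zero_le _) hχ
    omega)
  rw [Finset.sum_eq_zero hr00] at hcol'
  have hcent := column_orthogonality (G := G) u u
  rw [if_pos (IsConj.refl u), ← Finset.sum_sdiff (Finset.subset_univ (insert one (insert φ T))),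
    Finset.sum_insert h1φ, Finset.sum_insert hφT, ← hS,
    Finset.sum_eq_zero fun χ hχ => by rw [hv χ hχ, hr0 χ hχ (hr00 χ hχ)]; simp,
    hφu, show (one : G → ℂ) u = 1 from rfl,
    Finset.sum_congr (s₁ := T) rfl fun χ hχ => by rw [(Finset.mem_filter.1 hχ).2.2],
    Finset.sum_const, nsmul_eq_mul] at hcent
  simp only [map_neg, map_one, Nat.cast_one, mul_neg, mul_one, neg_neg, zero_add] at hcent
  have : (Nat.card (Subgroup.centralizer ({u} : Set G)) : ℂ) = ((4 : ℕ) : ℂ) := by
    rw [← hcent, show T.card = 2 by omega]; norm_num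
  exact_mod_cast this

end Cfsg.Lib.Char.ConstantFour
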