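import Cfsg.Agent.Lib.Char.MinimalQuotient
import Cfsg.Agent.Lib.Char.Gallagher

/-!
# Degrees forced by a minimal nonabelian quotient
-/

set_option autoImplicit false
set_option linter.unusedSectionVars false
set_option linter.style.haveILetI false

namespace Cfsg.Lib.Char

open Cfsg
open scoped ComplexConjugate

universe u

variable {G : Type u} [Group G] [Fintype G]

theorem charDegree_of_one_eq {H : Type u} [Group H] {χ : H → ℂ} {n : ℕ}
    (h : χ 1 = n) : charDegree χ = n := by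
  simp [charDegree, h]

/-- A constituent with the full degree is the restriction. -/
theorem res_eq_of_degree (N : Subgroup G) [Fintype N] {χ : G → ℂ} (hχ : IsIrrCharacter G χ)
    {θ : N → ℂ} (hθ : IsIrrCharacter N θ) (hc : classInner (fun n : N => χ n) θ ≠ 0)
    (hd : χ 1 = θ 1) : (fun n : N => χ n) = θ := by
  have hres : IsCharacter N (fun n : N => χ n) := hχ.isCharacter.comp N.subtype
  have h := (isCharacter_sub_constituent hres hθ hc).eq_zero_of_degree (by simp [hd])
  funext n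
  have h2 := congrFun h n
  simpa [sub_eq_zero] using h2

/-- Restriction to a normal subgroup of prime power index stays irreducible for a degree prime to
the index. -/
theorem res_irr_of_prime_pow (K : Subgroup G) [K.Normal] [Fintype K] {p k : ℕ} (hp : p.Prime)
    (hk : K.index = p ^ k) {χ : G → ℂ} (hχ : IsIrrCharacter G χ) (hd : ¬ p ∣ charDegree χ) :
    IsIrrCharacter K (fun n : K => χ n) := by
  obtain ⟨θ, hθ⟩ := exists_constituent (hχ.isCharacter.comp K.subtype)
    (by simpa using hχ.apply_one_ne_zero)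
  obtain ⟨h1, h2⟩ := degree_ratio_dvd_index K hχ θ.2 hθ hχ.apply_one_eq_charDegree
    θ.2.apply_one_eq_charDegree
  obtain ⟨m, hm⟩ := h1
  rw [hm, Nat.mul_div_cancel_left _ θ.2.charDegree_pos, hk] at h2
  obtain ⟨j, -, rfl⟩ := (Nat.dvd_prime_pow hp).1 h2
  rcases Nat.eq_zero_or_pos j with rfl | hj
  · rw [res_eq_of_degree K hχ θ.2 hθ (by
      rw [hχ.apply_one_eq_charDegree, θ.2.apply_one_eq_charDegree, hm, pow_zero, mul_one])]
    exact θ.2
  · exact absurd (hm ▸ (dvd_pow_self p hj.ne').mul_left _) hd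

/-- A degree prime to `p` times the power. -/
theorem PrimePowerCase.exists_mul {p : ℕ} {K : Subgroup G} (h : PrimePowerCase p K) :
    ∃ e, 0 < e ∧ (∃ β : IrrCharacter G, charDegree (β : G → ℂ) = p ^ e) ∧
      ∀ χ : IrrCharacter G, ¬ p ∣ charDegree (χ : G → ℂ) →
        ∃ ψ : IrrCharacter G, charDegree (ψ : G → ℂ) = p ^ e * charDegree (χ : G → ℂ) := by
  obtain ⟨hK, hp, ⟨k, hk⟩, β, hβ, e, he0, he⟩ := h
  haveI := hK
  haveI := Fintype.ofFinite K
  refine ⟨e, he0, ⟨β, he⟩, fun χ hd => ?_⟩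
  have hirr := res_irr_of_prime_pow K hp hk χ.2 hd
  set ϑ := fun n : K => (χ : G → ℂ) n with hϑ
  have hone : (fun _ : K => (1 : ℂ)) * ϑ = ϑ := by funext n; simp
  have hbij := gallagher_bijOn K (φ := fun _ : K => (1 : ℂ)) (ϑ := ϑ) isIrrCharacter_one
    (fun g => by funext n; rfl) (fun g => conjTwist_res K χ.2.isClassFunction g)
    (by rw [hone]; exact hirr) χ.2.isCharacter (fun n => rfl)
  have hmem : (β : G → ℂ) ∈ {γ : G → ℂ | IsIrrCharacter G γ ∧
      classInner (indFun K (fun _ : K => (1 : ℂ))) γ ≠ 0} := by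
    refine ⟨β.2, ?_⟩
    rw [classInner_indFun K _ β.2.isClassFunction, ← classInner_conj_symm,
      show (fun n : K => (β : G → ℂ) n) = fun _ => (β : G → ℂ) 1 from funext fun n => hβ n n.2,
      classInner_one_right, Finset.sum_const, Finset.card_univ, nsmul_eq_mul,
      Nat.card_eq_fintype_card, ← mul_assoc,
      inv_mul_cancel₀ (Nat.cast_ne_zero.2 Fintype.card_ne_zero), one_mul]
    exact fun h0 => β.2.apply_one_ne_zero ((map_eq_zero _).1 h0)
  have hψ := (hbij.mapsTo hmem).1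
  refine ⟨⟨_, hψ⟩, charDegree_of_one_eq (χ := (β : G → ℂ) * (χ : G → ℂ)) ?_⟩
  rw [Pi.mul_apply, β.2.apply_one_eq_charDegree, χ.2.apply_one_eq_charDegree, he]
  push_cast
  ring

/-- An induced degree. -/
theorem FixedPointFreeCase.exists_index_mul {q : ℕ} {K N : Subgroup G}
    (h : FixedPointFreeCase q K N) [Fintype N] (ψ : IrrCharacter N)
    (hd : ¬ q ∣ charDegree (ψ : N → ℂ)) :
    ∃ χ : IrrCharacter G, charDegree (χ : G → ℂ) = N.index * charDegree (ψ : N → ℂ) := by
  classical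
  obtain ⟨hK, hN, hKN, hq, ⟨k, hk⟩, hNtop, hab, hfpf, l₁, hl₁K, hl₁⟩ := h
  haveI := hK
  haveI := hN
  -- twisting by a character of the section determines the character
  have huniq : ∀ a b : N →* ℂˣ, (∀ n : N, (n : G) ∈ K → a n = 1) →
      (∀ n : N, (n : G) ∈ K → b n = 1) →
      (∀ n, (ψ : N → ℂ) n * (a n : ℂ) = (ψ : N → ℂ) n * (b n : ℂ)) → a = b := by
    intro a b ha hb hab'
    refine MonoidHom.ext fun m => ?_
    have h1 : (a m * (b m)⁻¹) ^ charDegree (ψ : N → ℂ) = 1 := by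
      refine pow_degree_eq_one_of_twist ψ.2.isCharacter ψ.2.apply_one_eq_charDegree (a * b⁻¹)
        (fun x => ?_) m
      simp only [MonoidHom.mul_apply, MonoidHom.inv_apply, Units.val_mul,
        Units.val_inv_eq_inv_val]
      rw [← mul_assoc, hab' x, mul_assoc, mul_inv_cancel₀ (Units.ne_zero _), mul_one]
    haveI : (K.subgroupOf N).Normal := Subgroup.normal_subgroupOf
    have h2 : (a m * (b m)⁻¹) ^ (q ^ k) = 1 := by
      have hmem : m ^ (q ^ k) ∈ K.subgroupOf N :=
        hk ▸ Subgroup.pow_index_mem (K.subgroupOf N) m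
      have hmem' := Subgroup.mem_subgroupOf.1 hmem
      rw [mul_pow, inv_pow, ← map_pow, ← map_pow, ha _ hmem', hb _ hmem', inv_one, one_mul]
    have h3 := pow_gcd_eq_one.2 ⟨h1, h2⟩
    rw [Nat.Coprime.pow_right k ((hq.coprime_iff_not_dvd.2 hd).symm), pow_one, mul_inv_eq_one] at h3
    rw [h3]
  have hmove : ∀ g : G, ∀ a : N →* ℂˣ, ∀ n : N, conjTwist N (fun m => ((a m : ℂˣ) : ℂ)) g n =
      ((a.comp (MulAut.conjNormal g : MulAut N).toMonoidHom) n : ℂ) := by
    intro g a n
    rw [conjTwist_apply]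
    congr 2
  have htriv : ∀ g : G, ∀ a : N →* ℂˣ, (∀ n : N, (n : G) ∈ K → a n = 1) →
      ∀ n : N, (n : G) ∈ K → (a.comp (MulAut.conjNormal g : MulAut N).toMonoidHom) n = 1 :=
    fun g a ha n hn => ha _ (by
      show ((MulAut.conjNormal g n : N) : G) ∈ K
      rw [MulAut.conjNormal_apply]
      exact hK.conj_mem _ hn g)
  have hfix : ∀ g ∉ N, ∀ a : N →* ℂˣ, (∀ n : N, (n : G) ∈ K → a n = 1) →
      a.comp (MulAut.conjNormal g : MulAut N).toMonoidHom = a → a = 1 := by
    intro g hg a ha hga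
    refine MonoidHom.ext fun n => ?_
    obtain ⟨b, hb, hbK⟩ := hfpf g hg n n.2
    have h1 := DFunLike.congr_fun hga ⟨b, hb⟩
    have h2 := ha (n⁻¹ * ((MulAut.conjNormal g ⟨b, hb⟩ : N) * (⟨b, hb⟩ : N)⁻¹)) (by
      simp only [Subgroup.coe_mul, InvMemClass.coe_inv, MulAut.conjNormal_apply]
      exact hbK)
    rw [map_mul, map_mul, map_inv, map_inv] at h2
    rw [show a (MulAut.conjNormal g ⟨b, hb⟩) = a ⟨b, hb⟩ from h1, mul_inv_cancel, mul_one,
      inv_eq_one] at h2
    rw [h2, MonoidHom.one_apply]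
  let tw : (N →* ℂˣ) → (N → ℂ) := fun a => (ψ : N → ℂ) * fun n => (a n : ℂ)
  have htw : ∀ a, IsIrrCharacter N (tw a) := fun a => isIrrCharacter_mul_linear ψ.2 a
  obtain ⟨a, ha, hin⟩ : ∃ a : N →* ℂˣ, (∀ n : N, (n : G) ∈ K → a n = 1) ∧
      inertia N (tw a) = N := by
    by_contra hcon
    push Not at hcon
    have hex : ∀ a : N →* ℂˣ, (∀ n : N, (n : G) ∈ K → a n = 1) →
        ∃ g ∉ N, conjTwist N (tw a) g = tw a := by
      intro a ha
      have hne := hcon a ha
      by_contra h'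
      push Not at h'
      exact hne (le_antisymm (fun g hg => by_contra fun hgN => h' g hgN hg)
        (le_inertia N (htw a).isClassFunction))
    obtain ⟨g, hgN, hg⟩ := hex 1 (fun _ _ => rfl)
    obtain ⟨h, hhN, hh⟩ := hex l₁ hl₁K
    have hg' : conjTwist N (ψ : N → ℂ) g = ψ := by
      have e : tw 1 = (ψ : N → ℂ) := by funext n; simp [tw]
      rwa [e] at hg
    set c := l₁.comp (MulAut.conjNormal h : MulAut N).toMonoidHom with hc
    have hh' : ∀ n, conjTwist N (ψ : N → ℂ) h n = (ψ : N → ℂ) n * ((l₁ * c⁻¹) n : ℂ) := by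
      intro n
      have e := congrFun hh n
      simp only [tw, conjTwist_apply, Pi.mul_apply] at e
      have e2 := hmove h l₁ n
      simp only [conjTwist_apply] at e2
      rw [e2] at e
      rw [MonoidHom.mul_apply, MonoidHom.inv_apply, Units.val_mul, Units.val_inv_eq_inv_val,
        ← mul_assoc, ← e, mul_inv_cancel_right₀ (Units.ne_zero _), conjTwist_apply]
    have hμK : ∀ n : N, (n : G) ∈ K → (l₁ * c⁻¹) n = 1 := fun n hn => by
      rw [MonoidHom.mul_apply, MonoidHom.inv_apply, hl₁K n hn, htriv h l₁ hl₁K n hn, inv_one,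
        one_mul]
    -- the two elements commute modulo `N`
    have hswap : conjTwist N (conjTwist N (ψ : N → ℂ) h) g = conjTwist N (ψ : N → ℂ) h := by
      conv_rhs => rw [← hg']
      rw [conjTwist_conjTwist, conjTwist_conjTwist]
      have hn : (g * h)⁻¹ * (h * g) ∈ N := by
        have := hab h⁻¹ g⁻¹
        rwa [show (g * h)⁻¹ * (h * g) = h⁻¹ * g⁻¹ * (h⁻¹)⁻¹ * (g⁻¹)⁻¹ by group]
      rw [show h * g = g * h * ((g * h)⁻¹ * (h * g)) by group, ← conjTwist_conjTwist]
      exact (mem_inertia N).1 (le_inertia N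
        (isIrrCharacter_conjTwist N ψ.2 (g * h)).isClassFunction hn)
    have hμ : l₁ * c⁻¹ = 1 := by
      refine hfix g hgN _ hμK (huniq _ _ (htriv g _ hμK) hμK fun n => ?_)
      have e := congrFun hswap n
      rw [conjTwist_apply, hh', hh'] at e
      have e2 := hmove g (l₁ * c⁻¹) n
      simp only [conjTwist_apply] at e2
      rw [e2] at e
      rwa [show (ψ : N → ℂ) _ = (ψ : N → ℂ) n from congrFun hg' n] at e
    exact hl₁ (hfix h hhN l₁ hl₁K (mul_inv_eq_one.1 hμ).symm)
  have hΦ := isCharacter_indFun N (htw a).isCharacter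
  have hnorm : classInner (indFun N (tw a)) (indFun N (tw a)) = 1 := by
    have h := classInner_indFun_self N (htw a)
    rw [hin] at h
    exact mul_left_cancel₀ (Nat.cast_ne_zero.2 (Nat.card_pos (α := N)).ne') (by rw [h, mul_one])
  refine ⟨⟨_, isIrrCharacter_of_norm_one hΦ hnorm⟩, charDegree_of_one_eq ?_⟩
  show indFun N (tw a) 1 = _
  rw [indFun_apply_one]
  simp [tw, ψ.2.apply_one_eq_charDegree]

/-- Every degree is a divisor of an induced one, or is divisible by the section prime. -/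
theorem FixedPointFreeCase.dvd_or {q : ℕ} {K N : Subgroup G} (h : FixedPointFreeCase q K N)
    (χ : IrrCharacter G) : q ∣ charDegree (χ : G → ℂ) ∨
      ∃ η : IrrCharacter G, N.index ∣ charDegree (η : G → ℂ) ∧
        charDegree (χ : G → ℂ) ∣ charDegree (η : G → ℂ) := by
  haveI := h.2.1
  haveI := Fintype.ofFinite N
  obtain ⟨ψ, hψ⟩ := exists_constituent (χ.2.isCharacter.comp N.subtype)
    (by simpa using χ.2.apply_one_ne_zero)
  obtain ⟨h1, h2⟩ := degree_ratio_dvd_index N χ.2 ψ.2 hψ χ.2.apply_one_eq_charDegree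
    ψ.2.apply_one_eq_charDegree
  obtain ⟨m, hm⟩ := h1
  rw [hm, Nat.mul_div_cancel_left _ ψ.2.charDegree_pos] at h2
  by_cases hq : q ∣ charDegree (ψ : N → ℂ)
  · exact Or.inl (hm ▸ hq.mul_right m)
  obtain ⟨η, hη⟩ := h.exists_index_mul ψ hq
  refine Or.inr ⟨η, hη ▸ Dvd.intro _ rfl, ?_⟩
  rw [hη, hm, mul_comm N.index]
  exact mul_dvd_mul_left _ h2

end Cfsg.Lib.Char
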