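import Cfsg.Agent.Lib.Char.Monomial
import Cfsg.Agent.Lib.Char.AbelianInertia
import Cfsg.Agent.Lib.Char.TwoDegrees
import Cfsg.Agent.Lib.Char.Clifford2
import Cfsg.Agent.Lib.Char.Gallagher

/-!
# Derived subgroups inside stabilizers

For a group with an abelian normal subgroup of order prime to `p` and index a power of `p`, with
three degrees, the second derived subgroup centralizes that subgroup.
-/

set_option autoImplicit false
set_option linter.unusedSectionVars false
set_option linter.style.haveILetI false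

namespace Cfsg.Lib.Char

open Cfsg
open scoped ComplexConjugate commutatorElement

universe u

/-- Every degree is `1`, `m` or `n`. -/
def ThreeDeg (G : Type u) [Group G] (m n : ℕ) : Prop :=
  ∀ χ : IrrCharacter G, charDegree (χ : G → ℂ) = 1 ∨ charDegree (χ : G → ℂ) = m ∨
    charDegree (χ : G → ℂ) = n

theorem ThreeDeg.symm {G : Type u} [Group G] {m n : ℕ} (h : ThreeDeg G m n) : ThreeDeg G n m :=
  fun χ => (h χ).imp id Or.symm

theorem ThreeDeg.quotient {G : Type u} [Group G] [Finite G] {m n : ℕ} (h : ThreeDeg G m n) (N : Subgroup G)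
    [N.Normal] : ThreeDeg (G ⧸ N) m n :=
  fun ψ => h ⟨_, isIrrCharacter_inflate N ψ.2⟩

variable {G : Type u} [Group G] [Fintype G]

/-- A subgroup killed by the small constituents lies in the subgroup of the index. -/
theorem le_of_small_constituents (H D : Subgroup G) [Fintype H]
    (h : ∀ φ : IrrCharacter G, classInner (indFun H fun _ => (1 : ℂ)) (φ : G → ℂ) ≠ 0 →
      charDegree (φ : G → ℂ) < H.index ∨ (φ : G → ℂ) = (fun _ => 1) →
        ∀ d ∈ D, (φ : G → ℂ) d = (φ : G → ℂ) 1) : D ≤ H := by
  classical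
  intro y hy
  by_cases htop : H = ⊤
  · rw [htop]; exact Subgroup.mem_top y
  have hperm := isCharacter_indFun H (isCharacter_one : IsCharacter H fun _ => 1)
  set π := indFun H (fun _ => (1 : ℂ)) with hπ
  have hπ1 : π 1 = (H.index : ℂ) := by rw [hπ, indFun_apply_one, mul_one]
  have hπone : classInner π (fun _ => (1 : ℂ)) = 1 := by
    rw [hπ, classInner_indFun H _ (isIrrCharacter_one.isClassFunction)]
    exact classInner_irr_self (isIrrCharacter_one : IsIrrCharacter H fun _ => 1)
  have hker : π y = π 1 := by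
    rw [eq_sum_classInner (f := π) hperm.isClassFunction]
    simp only [Finset.sum_apply, Pi.smul_apply]
    refine Finset.sum_congr rfl fun φ _ => ?_
    by_cases h0 : classInner π (φ : G → ℂ) = 0
    · simp [h0]
    congr 1
    refine h φ h0 ?_ y hy
    by_cases h1 : (φ : G → ℂ) = fun _ => 1
    · exact Or.inr h1
    left
    have hrest := isCharacter_sub_constituent hperm isIrrCharacter_one (by
      rw [hπone]; exact one_ne_zero)
    have h2 : classInner (π - fun _ => (1 : ℂ)) (φ : G → ℂ) ≠ 0 := by
      rw [classInner_sub_left, classInner_irr_ne isIrrCharacter_one φ.2 (Ne.symm h1), sub_zero]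
      exact h0
    have hle := degree_le_of_constituent φ.2 hrest h2
    simp only [Pi.sub_apply, hπ1, φ.2.apply_one_eq_charDegree, Complex.sub_re,
      Complex.natCast_re, Complex.one_re] at hle
    have h3 : (charDegree (φ : G → ℂ) : ℝ) < (H.index : ℝ) := by linarith
    exact_mod_cast h3
  by_contra hyH
  have h3 : π y = 0 + ((Nat.card H : ℂ)⁻¹ *
      ∑ x ∈ Finset.univ.erase (1 : G), extendByZero H (fun _ => (1 : ℂ)) (x⁻¹ * y * x)) := by
    rw [hπ, indFun, ← Finset.add_sum_erase _ _ (Finset.mem_univ (1 : G)), mul_add,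
      inv_one, one_mul, mul_one, extendByZero_of_notMem _ _ hyH, mul_zero]
  rw [hker, hπ1, zero_add] at h3
  have h4 := congrArg Complex.re h3
  rw [show ((Nat.card H : ℂ)⁻¹) = (((Nat.card H : ℝ)⁻¹ : ℝ) : ℂ) by simp,
    Complex.re_ofReal_mul, Complex.re_sum] at h4
  have h5 : ∑ x ∈ Finset.univ.erase (1 : G),
      (extendByZero H (fun _ => (1 : ℂ)) (x⁻¹ * y * x)).re ≤ (Nat.card G : ℝ) - 1 := by
    refine (Finset.sum_le_card_nsmul _ _ 1 fun x _ => ?_).trans ?_
    · by_cases hx : x⁻¹ * y * x ∈ H
      · rw [extendByZero_of_mem _ _ hx]; simp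
      · rw [extendByZero_of_notMem _ _ hx]; simp
    · rw [Finset.card_erase_of_mem (Finset.mem_univ _), Finset.card_univ,
        ← Nat.card_eq_fintype_card, nsmul_eq_mul, mul_one, Nat.cast_sub Nat.card_pos,
        Nat.cast_one]
  have hG' : (Nat.card G : ℝ) = Nat.card H * (H.index : ℝ) := by
    rw [← H.card_mul_index, Nat.cast_mul]
  have hH : (0 : ℝ) < Nat.card H := Nat.cast_pos.mpr Nat.card_pos
  simp only [Complex.natCast_re] at h4
  rw [eq_inv_mul_iff_mul_eq₀ hH.ne'] at h4
  linarith

theorem derivedSeries_one_le (d : G) (hd : d ∈ derivedSeries G 1) {φ : G → ℂ}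
    (hφ : IsIrrCharacter G φ) (h1 : charDegree φ = 1) : φ d = φ 1 := by
  obtain ⟨f, hf⟩ := exists_hom_of_degree_one hφ.isCharacter
    (by rw [hφ.apply_one_eq_charDegree, h1, Nat.cast_one])
  rw [derivedSeries_one] at hd
  simp [hf, MonoidHom.mem_ker.mp (Abelianization.commutator_subset_ker f hd)]

/-- In a nilpotent group with degrees `1`, `m`, `n`, `m < n`: the kernels contain derived
subgroups. -/
theorem nilpotent_three_kernels [Group.IsNilpotent G] {m n : ℕ} (hm : 1 ≤ m)
    (hmn : m < n) (h : ThreeDeg G m n)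
    (φ : IrrCharacter G) :
    (charDegree (φ : G → ℂ) ≤ m → ∀ d ∈ derivedSeries G 2, (φ : G → ℂ) d = (φ : G → ℂ) 1) ∧
      ∀ d ∈ derivedSeries G 3, (φ : G → ℂ) d = (φ : G → ℂ) 1 := by
  classical
  -- a monomial character is trivial on the derived subgroup of a subgroup inside the inducing one
  have hstep : ∀ (φ : IrrCharacter G) (k : ℕ),
      (∀ ψ : IrrCharacter G, charDegree (ψ : G → ℂ) < charDegree (φ : G → ℂ) →
        ∀ d ∈ derivedSeries G k, (ψ : G → ℂ) d = (ψ : G → ℂ) 1) →
      ∀ d ∈ derivedSeries G (k + 1), (φ : G → ℂ) d = (φ : G → ℂ) 1 := by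
    intro φ k hk g hg
    obtain ⟨H, lam, hl⟩ := exists_monomial_of_nilpotent _ rfl φ.2
    haveI := Fintype.ofFinite H
    have hidx : H.index = charDegree (φ : G → ℂ) := by
      have h1 := φ.2.apply_one_eq_charDegree
      have h2 : (φ : G → ℂ) 1 = (H.index : ℂ) := by rw [hl, indFun_apply_one]; simp
      rw [h2] at h1
      exact_mod_cast h1
    have hDH : derivedSeries G k ≤ H := le_of_small_constituents H _ fun ψ _ hψ d hd => by
      rcases hψ with hψ | hψ
      · exact hk ψ (hidx ▸ hψ) d hd
      · rw [hψ]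
    have hval : ∀ x : G, x⁻¹ * g * x ∈ ⁅derivedSeries G k, derivedSeries G k⁆ := fun x => by
      have h := (inferInstance : (derivedSeries G (k + 1)).Normal).conj_mem g hg x⁻¹
      rwa [inv_inv] at h
    have hlam : ∀ y (_ : y ∈ ⁅derivedSeries G k, derivedSeries G k⁆),
        ∃ hyH : y ∈ H, lam ⟨y, hyH⟩ = 1 := by
      intro y hy
      have hle : ⁅derivedSeries G k, derivedSeries G k⁆ ≤ lam.ker.map H.subtype := by
        rw [Subgroup.commutator_le]
        intro a ha b hb
        refine ⟨⁅(⟨a, hDH ha⟩ : H), (⟨b, hDH hb⟩ : H)⁆, ?_, rfl⟩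
        rw [SetLike.mem_coe, MonoidHom.mem_ker, map_commutatorElement,
          commutatorElement_eq_one_iff_mul_comm, mul_comm]
      obtain ⟨z, hz, rfl⟩ := hle hy
      exact ⟨z.2, hz⟩
    rw [hl]
    simp only [indFun]
    congr 1
    refine Finset.sum_congr rfl fun x _ => ?_
    obtain ⟨h1, h2⟩ := hlam _ (hval x)
    rw [mul_one, inv_mul_cancel, extendByZero_of_mem _ _ h1, extendByZero_of_mem _ _ H.one_mem, h2]
    exact (congrArg Units.val (map_one lam)).symm
  have hlow : ∀ φ : IrrCharacter G, charDegree (φ : G → ℂ) ≤ m →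
      ∀ d ∈ derivedSeries G 2, (φ : G → ℂ) d = (φ : G → ℂ) 1 := by
    intro φ hφ
    by_cases h1 : charDegree (φ : G → ℂ) = 1
    · exact fun d hd => derivedSeries_one_le d (derivedSeries_antitone G one_le_two hd) φ.2 h1
    · refine hstep φ 1 fun ψ hψ d hd => derivedSeries_one_le d hd ψ.2 ?_
      rcases h ψ with h' | h' | h' <;> omega
  refine ⟨hlow φ, ?_⟩
  by_cases hφ : charDegree (φ : G → ℂ) ≤ m
  · exact fun d hd => hlow φ hφ d (derivedSeries_antitone G (by norm_num) hd)
  · refine hstep φ 2 fun ψ hψ => hlow ψ ?_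
    rcases h ψ with h' | h' | h' <;> rcases h φ with h'' | h'' | h'' <;>
      have := ψ.2.charDegree_pos <;> omega

/-- The abelian `p`-complement case. -/
theorem derivedSeries_three_of_abelian_complement {p k : ℕ} (hp : p.Prime) (C : Subgroup G)
    [C.Normal] (hC : ∀ a ∈ C, ∀ b ∈ C, a * b = b * a) (hcop : (Nat.card C).Coprime p)
    (hidx : C.index = p ^ k) {m n : ℕ} (hm : 1 ≤ m) (hmn : m < n)
    (h : ThreeDeg G m n) :
    derivedSeries G 3 = ⊥ := by
  classical
  haveI := Fact.mk hp
  haveI := Fintype.ofFinite C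
  haveI := Fintype.ofFinite (G ⧸ C)
  haveI : Group.IsNilpotent (G ⧸ C) :=
    (IsPGroup.of_card (n := k) (by rw [← Subgroup.index_eq_card, hidx])).isNilpotent
  have hmap : ∀ j : ℕ, ∀ d ∈ derivedSeries G j, (d : G ⧸ C) ∈ derivedSeries (G ⧸ C) j :=
    fun j d hd => map_derivedSeries_le_derivedSeries (QuotientGroup.mk' C) j ⟨d, hd, rfl⟩
  -- the second derived subgroup fixes every linear character of `C`
  have hfix : ∀ x ∈ derivedSeries G 2, ∀ c ∈ C, x * c = c * x := by
    intro x hx c hc
    have hall : ∀ f : C →* ℂˣ, f ⟨x * c * x⁻¹, ‹C.Normal›.conj_mem c hc x⟩ = f ⟨c, hc⟩ := by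
      intro f
      set lam : C → ℂ := fun y => (f y : ℂ) with hlam
      have hli : IsIrrCharacter C lam := isIrrCharacter_linear f
      set T := inertia C lam with hT
      haveI := Fintype.ofFinite T
      have hCT : C ≤ T := le_inertia C hli.isClassFunction
      haveI := Fintype.ofFinite (C.subgroupOf T)
      haveI : (C.subgroupOf T).Normal := inferInstance
      have hcop' : Nat.Coprime (Nat.card (C.subgroupOf T)) (C.subgroupOf T).index := by
        rw [Nat.card_congr (Subgroup.subgroupOfEquivOfLe hCT).toEquiv]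
        refine Nat.Coprime.coprime_dvd_right ?_ ((hcop.pow_right k))
        rw [← hidx]
        exact Subgroup.relIndex_dvd_index_of_normal C T
      obtain ⟨ψ, hψ, hres⟩ := exists_extension_of_coprime (C.subgroupOf T)
        (isIrrCharacter_resTo C hli hCT) (fun t => by
          funext y
          exact congrFun ((mem_inertia C).1 (show (t : G) ∈ inertia C lam from t.2))
            ⟨((y : T) : G), Subgroup.mem_subgroupOf.1 y.2⟩) hcop'
      have hres' : (fun y : C => ψ ⟨y, hCT y.2⟩) = lam := by
        funext y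
        exact congrFun hres ⟨⟨y, hCT y.2⟩, Subgroup.mem_subgroupOf.2 y.2⟩
      obtain ⟨hind, -⟩ := clifford_induce C hli hCT hT hψ
        (by rw [hres', classInner_irr_self hli]; exact one_ne_zero)
      have hdeg : charDegree (indFun T ψ) = T.index := by
        have h1 : ψ 1 = 1 := by
          have h2 := congrFun hres' 1
          show ψ (⟨1, T.one_mem⟩ : T) = 1
          simpa [hlam] using h2
        simp [charDegree, indFun_apply_one, h1]
      have hTn : T.index ≤ n := by
        have := h ⟨_, hind⟩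
        rw [hdeg] at this
        have := Subgroup.index_ne_zero_of_finite (H := T)
        rcases ‹_ ∨ _ ∨ _› with h' | h' | h' <;> omega
      have hxT : x ∈ T := by
        refine le_of_small_constituents T (derivedSeries G 2) ?_ hx
        intro φ hφ hsmall d hd
        rcases hsmall with hsmall | hsmall
        swap
        · rw [hsmall]
        have htriv : ∀ y ∈ C, (φ : G → ℂ) y = (φ : G → ℂ) 1 := by
          intro y hy
          refine apply_eq_of_constituent (isCharacter_indFun T isIrrCharacter_one.isCharacter) φ.2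
            hφ ?_
          simp only [indFun]
          congr 1
          refine Finset.sum_congr rfl fun z _ => ?_
          have hm : z⁻¹ * y * z ∈ T := hCT (by
            have := ‹C.Normal›.conj_mem y hy z⁻¹
            rwa [inv_inv] at this)
          rw [mul_one, inv_mul_cancel, extendByZero_of_mem _ _ hm,
            extendByZero_of_mem _ _ T.one_mem]
        obtain ⟨η, hη, hηe⟩ := exists_deflate_irr C φ.2 htriv
        have hd' := (nilpotent_three_kernels hm hmn (h.quotient C) ⟨η, hη⟩).1 (by
          have e : charDegree η = charDegree (φ : G → ℂ) := by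
            simp [charDegree, ← hηe 1]
          show charDegree η ≤ m
          rw [e]
          rcases h φ with h' | h' | h' <;> rcases h ⟨_, hind⟩ with h'' | h'' | h'' <;>
            rw [hdeg] at h'' <;> have := φ.2.charDegree_pos <;> omega) _ (hmap 2 d hd)
        have e1 := hηe d
        have e2 := hηe 1
        rw [← e1, ← e2]
        exact hd'
      have := congrFun ((mem_inertia C).1 hxT) ⟨c, hc⟩
      simp only [conjTwist_apply, hlam] at this
      exact Units.ext this
    have h1 := eq_one_of_forall_hom (fun a b => Subtype.ext (hC a a.2 b b.2))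
      (a := (⟨x * c * x⁻¹, ‹C.Normal›.conj_mem c hc x⟩ : C) * ⟨c, hc⟩⁻¹)
      (fun f => by rw [map_mul, map_inv, hall f, mul_inv_cancel])
    have h2 := congrArg Subtype.val h1
    simp only [Subgroup.coe_mul, InvMemClass.coe_inv, OneMemClass.coe_one] at h2
    exact mul_inv_eq_iff_eq_mul.1 (mul_inv_eq_one.1 h2)
  -- the third derived subgroup of the quotient is trivial
  have hQ : ∀ d ∈ derivedSeries (G ⧸ C) 3, d = 1 := by
    intro d hd
    by_contra hne
    have hs := sum_degree_mul d
    rw [if_neg hne, Finset.sum_congr rfl fun φ _ => by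
      rw [(nilpotent_three_kernels hm hmn (h.quotient C) φ).2 d hd, ← pow_two], sum_sq_degree] at hs
    exact card_cast_ne_zero hs
  rw [eq_bot_iff, derivedSeries_succ, Subgroup.commutator_le]
  intro a ha b hb
  rw [Subgroup.mem_bot]
  have hc : ⁅a, b⁆ ∈ C := (QuotientGroup.eq_one_iff _).1
    (hQ _ (hmap 3 _ (Subgroup.commutator_mem_commutator ha hb)))
  have hcom : Commute ⁅a, b⁆ a := (hfix a ha _ hc).symm
  have hN : a ^ p ^ k ∈ C := hidx ▸ Subgroup.pow_index_mem C a
  have hb' : b * a ^ p ^ k = a ^ p ^ k * b := hfix b hb _ hN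
  -- conjugating the power
  have h1 : b * a ^ p ^ k * b⁻¹ = (⁅a, b⁆⁻¹ * a) ^ p ^ k := by
    rw [← conj_pow, commutatorElement_def]
    congr 1
    group
  rw [(show Commute ⁅a, b⁆⁻¹ a from hcom.inv_left).mul_pow, hb', mul_inv_cancel_right] at h1
  have h2 : ⁅a, b⁆ ^ p ^ k = 1 := by
    have := mul_eq_right.1 h1.symm
    rwa [inv_pow, inv_eq_one] at this
  have h3 : ⁅a, b⁆ ^ Nat.card C = 1 := by
    have hx := congrArg Subtype.val (pow_card_eq_one' (x := (⟨_, hc⟩ : C)))
    rwa [Subgroup.coe_pow, OneMemClass.coe_one] at hx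
  have h4 := pow_gcd_eq_one.2 ⟨h3, h2⟩
  rwa [hcop.pow_right k, pow_one] at h4

end Cfsg.Lib.Char
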