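import Cfsg.Agent.Lib.Char.Constituents
import Cfsg.Agent.Lib.Char.Linear
import Cfsg.Agent.Lib.Char.ThreeDegreesKernels
import Cfsg.Agent.Lib.Block.DegreePSubTwo

/-!
# Products of a faithful character of one degree with a character of a coprime degree

If the degrees are `1`, `m`, `n` with `m`, `n` coprime and the centre is trivial, then the product
of a faithful character of degree `m` with a character of degree `n` has constituents of degree `m`
only.
-/

set_option autoImplicit false
set_option linter.unusedSectionVars false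
set_option linter.style.haveILetI false

namespace Cfsg.Lib.Char

open Cfsg
open scoped ComplexConjugate

universe u

variable {G : Type u} [Group G] [Fintype G]

theorem classInner_mul_swap (χ η φ : G → ℂ) :
    classInner (fun g => χ g * η g) φ = conj (classInner (fun g => conj (χ g) * φ g) η) := by
  simp only [classInner, map_mul, map_inv₀, map_natCast, map_sum, Complex.conj_conj]
  congr 1
  exact Finset.sum_congr rfl fun g _ => by ring

theorem charDegree_conjFn (χ : IrrCharacter G) :
    charDegree (fun g => conj ((χ : G → ℂ) g)) = charDegree (χ : G → ℂ) := by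
  simp [charDegree]

/-- All constituents of the product have the same degree. -/
theorem product_dichotomy {m n : ℕ} (hm : 1 < m) (hn : 1 < n) (hcop : Nat.Coprime m n)
    (h : ThreeDeg G m n) {χ η : IrrCharacter G} (hχ : charDegree (χ : G → ℂ) = m)
    (hη : charDegree (η : G → ℂ) = n) :
    (∀ φ : IrrCharacter G, classInner (fun g => (χ : G → ℂ) g * (η : G → ℂ) g) (φ : G → ℂ) ≠ 0 →
      charDegree (φ : G → ℂ) = m) ∨
    ((∀ φ : IrrCharacter G, classInner (fun g => (χ : G → ℂ) g * (η : G → ℂ) g) (φ : G → ℂ) ≠ 0 →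
      charDegree (φ : G → ℂ) = n) ∧
      ∑ φ ∈ Finset.univ.filter (fun φ : IrrCharacter G => charDegree (φ : G → ℂ) = n),
        classInner (fun g => (χ : G → ℂ) g * (η : G → ℂ) g) (φ : G → ℂ) = (m : ℂ)) := by
  classical
  have hmn : m ≠ n := fun e => by
    rw [e] at hcop
    have := (Nat.coprime_self n).1 hcop
    omega
  have hc : IsCharacter G (fun g => (χ : G → ℂ) g * (η : G → ℂ) g) :=
    χ.2.isCharacter.mul η.2.isCharacter
  choose a ha using fun φ : IrrCharacter G => hc.exists_nat_classInner φ.2.isCharacter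
  have hlin : ∀ φ : IrrCharacter G, charDegree (φ : G → ℂ) = 1 → a φ = 0 := by
    intro φ hφ
    obtain ⟨f, hf⟩ := exists_hom_of_degree_one φ.2.isCharacter
      (by rw [φ.2.apply_one_eq_charDegree, hφ, Nat.cast_one])
    have hz : classInner (fun g => conj ((χ : G → ℂ) g) * (φ : G → ℂ) g) (η : G → ℂ) = 0 := by
      rw [hf]
      refine classInner_irr_ne (isIrrCharacter_mul_linear (isIrrCharacter_conjFn χ.2) f) η.2
        fun e => hmn ?_
      have h2 := congrFun e 1
      simp only [map_one, Units.val_one, mul_one] at h2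
      rw [χ.2.apply_one_eq_charDegree, η.2.apply_one_eq_charDegree, map_natCast, hχ, hη] at h2
      exact_mod_cast h2
    have h1 := ha φ
    rw [classInner_mul_swap, hz, map_zero] at h1
    exact_mod_cast h1.symm
  have hsum : m * n = ∑ φ : IrrCharacter G, a φ * charDegree (φ : G → ℂ) := by
    have e := congrFun (eq_sum_classInner hc.isClassFunction) 1
    simp only [Finset.sum_apply, Pi.smul_apply, smul_eq_mul, ha] at e
    rw [χ.2.apply_one_eq_charDegree, η.2.apply_one_eq_charDegree, hχ, hη,
      Finset.sum_congr rfl fun φ _ => by rw [φ.2.apply_one_eq_charDegree]] at e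
    exact_mod_cast e
  set A := Finset.univ.filter (fun φ : IrrCharacter G => charDegree (φ : G → ℂ) = m)
  set B := Finset.univ.filter (fun φ : IrrCharacter G => charDegree (φ : G → ℂ) = n)
  have hsplit : m * n = (∑ φ ∈ A, a φ) * m + (∑ φ ∈ B, a φ) * n := by
    rw [hsum, ← Finset.sum_filter_add_sum_filter_not Finset.univ
      (fun φ : IrrCharacter G => charDegree (φ : G → ℂ) = m), Finset.sum_mul, Finset.sum_mul]
    congr 1
    · exact Finset.sum_congr rfl fun φ hφ => by rw [(Finset.mem_filter.1 hφ).2]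
    · symm
      refine Finset.sum_subset_zero_on_sdiff ?_ ?_ ?_
      · intro φ hφ
        simp only [B, Finset.mem_filter, Finset.mem_univ, true_and] at hφ ⊢
        rw [hφ]
        exact Ne.symm hmn
      · intro φ hφ
        simp only [B, Finset.mem_sdiff, Finset.mem_filter, Finset.mem_univ, true_and] at hφ
        rw [hlin φ (((h φ).resolve_right fun e => e.elim hφ.1 hφ.2)), zero_mul]
      · intro φ hφ
        rw [(Finset.mem_filter.1 hφ).2]
  have hI : (∑ φ ∈ A, a φ) = 0 ∨ (∑ φ ∈ A, a φ) = n := by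
    have h1 : n ∣ (∑ φ ∈ A, a φ) * m :=
      (Nat.dvd_add_left (Dvd.intro_left _ rfl)).1 (hsplit ▸ Dvd.intro_left m rfl)
    obtain ⟨t, ht⟩ := (Nat.Coprime.dvd_of_dvd_mul_right hcop.symm h1)
    rw [ht] at hsplit ⊢
    rcases Nat.lt_or_ge t 2 with ht2 | ht2
    · interval_cases t <;> simp
    · exfalso
      have : 2 * (m * n) ≤ t * (m * n) := Nat.mul_le_mul_right _ ht2
      have hpos : 0 < m * n := Nat.mul_pos (by omega) (by omega)
      have : n * t * m = t * (m * n) := by ring
      omega
  rcases hI with hI | hI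
  · refine Or.inr ⟨fun φ hφ => ?_, ?_⟩
    · rcases h φ with e | e | e
      · rw [ha, hlin φ e, Nat.cast_zero] at hφ
        exact absurd rfl hφ
      · rw [ha, Finset.sum_eq_zero_iff.1 hI φ
          (Finset.mem_filter.2 ⟨Finset.mem_univ φ, e⟩), Nat.cast_zero] at hφ
        exact absurd rfl hφ
      · exact e
    · rw [Finset.sum_congr rfl fun φ _ => ha φ, ← Nat.cast_sum, Nat.cast_inj]
      rw [hI, zero_mul, zero_add] at hsplit
      exact (Nat.eq_of_mul_eq_mul_right (by omega : 0 < n) hsplit).symm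
  · refine Or.inl fun φ hφ => ?_
    rw [hI, mul_comm n m] at hsplit
    have hJ : (∑ φ ∈ B, a φ) = 0 := by
      have : (∑ φ ∈ B, a φ) * n = 0 := by omega
      exact (Nat.mul_eq_zero.1 this).resolve_right (by omega)
    rcases h φ with e | e | e
    · rw [ha, hlin φ e, Nat.cast_zero] at hφ
      exact absurd rfl hφ
    · exact e
    · rw [ha, Finset.sum_eq_zero_iff.1 hJ φ
        (Finset.mem_filter.2 ⟨Finset.mem_univ φ, e⟩), Nat.cast_zero] at hφ
      exact absurd rfl hφ

/-- The constituents have the degree of the faithful factor. -/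
theorem charDegree_constituent_of_faithful {m n : ℕ} (hm : 1 < m) (hn : 1 < n)
    (hcop : Nat.Coprime m n) (h : ThreeDeg G m n) (hZ : Subgroup.center G = ⊥)
    (χ : IrrCharacter G) (hχ : charDegree (χ : G → ℂ) = m)
    (hf : ∀ g : G, (χ : G → ℂ) g = (χ : G → ℂ) 1 → g = 1) (η φ : IrrCharacter G)
    (hη : charDegree (η : G → ℂ) = n)
    (hc : classInner (fun g => (χ : G → ℂ) g * (η : G → ℂ) g) (φ : G → ℂ) ≠ 0) :
    charDegree (φ : G → ℂ) = m := by
  classical
  by_contra hφ
  -- characters of degree `n` whose product with `ζ` has a constituent of degree `n`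
  let S : IrrCharacter G → Finset (IrrCharacter G) := fun ζ =>
    Finset.univ.filter fun η => charDegree (η : G → ℂ) = n ∧
      ∃ φ : IrrCharacter G, charDegree (φ : G → ℂ) = n ∧
        classInner (fun g => (ζ : G → ℂ) g * (η : G → ℂ) g) (φ : G → ℂ) ≠ 0
  have hmn : m ≠ n := fun e => by
    rw [e] at hcop
    have := (Nat.coprime_self n).1 hcop
    omega
  let cj : IrrCharacter G → IrrCharacter G := fun ζ => ⟨_, isIrrCharacter_conjFn ζ.2⟩
  have hall : ∀ ζ : IrrCharacter G, charDegree (ζ : G → ℂ) = m → ∀ η ∈ S ζ,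
      (∀ φ : IrrCharacter G, classInner (fun g => (ζ : G → ℂ) g * (η : G → ℂ) g) (φ : G → ℂ) ≠ 0 →
        charDegree (φ : G → ℂ) = n) ∧
      ∑ φ ∈ Finset.univ.filter (fun φ : IrrCharacter G => charDegree (φ : G → ℂ) = n),
        classInner (fun g => (ζ : G → ℂ) g * (η : G → ℂ) g) (φ : G → ℂ) = (m : ℂ) := by
    intro ζ hζ η hη
    obtain ⟨hη, φ, hφn, hφc⟩ := (Finset.mem_filter.1 hη).2
    exact (product_dichotomy hm hn hcop h hζ hη).resolve_left fun hh =>
      hmn ((hh φ hφc).symm.trans hφn)
  have hstep : ∀ ζ : IrrCharacter G, charDegree (ζ : G → ℂ) = m → ∀ x : G,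
      (ζ : G → ℂ) x * ∑ η ∈ S ζ, (η : G → ℂ) x = (m : ℂ) * ∑ η ∈ S (cj ζ), (η : G → ℂ) x := by
    intro ζ hζ x
    have hcj : charDegree (cj ζ : G → ℂ) = m := by rw [← hζ]; exact charDegree_conjFn ζ
    have hcoef : ∀ φ : IrrCharacter G, (∑ η ∈ S ζ,
        classInner (fun g => (ζ : G → ℂ) g * (η : G → ℂ) g) (φ : G → ℂ)) =
          if φ ∈ S (cj ζ) then (m : ℂ) else 0 := by
      intro φ
      split_ifs with hφS
      · obtain ⟨h1, h2⟩ := hall (cj ζ) hcj φ hφS
        have h3 := congrArg conj h2
        rw [map_sum, map_natCast] at h3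
        rw [← h3]
        refine (Finset.sum_subset ?_ ?_).trans (Finset.sum_congr rfl fun η _ => classInner_mul_swap _ _ _)
        · intro η hη
          exact Finset.mem_filter.2 ⟨Finset.mem_univ _, (Finset.mem_filter.1 hη).2.1⟩
        · intro η hη hηS
          by_contra hne
          exact hηS (Finset.mem_filter.2 ⟨Finset.mem_univ _, (Finset.mem_filter.1 hη).2, φ,
            (Finset.mem_filter.1 hφS).2.1, hne⟩)
      · refine Finset.sum_eq_zero fun η hη => ?_
        by_contra hne
        refine hφS (Finset.mem_filter.2 ⟨Finset.mem_univ _, (hall ζ hζ η hη).1 φ hne, η,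
          (Finset.mem_filter.1 hη).2.1, fun h0 => hne ?_⟩)
        have h0' : classInner (fun g => conj ((ζ : G → ℂ) g) * (φ : G → ℂ) g) (η : G → ℂ) = 0 := h0
        rw [classInner_mul_swap, h0', map_zero]
    have hexp : ∀ η : IrrCharacter G, (ζ : G → ℂ) x * (η : G → ℂ) x = ∑ φ : IrrCharacter G,
        classInner (fun g => (ζ : G → ℂ) g * (η : G → ℂ) g) (φ : G → ℂ) * (φ : G → ℂ) x := by
      intro η
      have e := congrFun (eq_sum_classInner (f := fun g => (ζ : G → ℂ) g * (η : G → ℂ) g)
        (ζ.2.isCharacter.mul η.2.isCharacter).isClassFunction) x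
      simpa only [Finset.sum_apply, Pi.smul_apply, smul_eq_mul] using e
    rw [Finset.mul_sum, Finset.sum_congr rfl fun η _ => hexp η]
    rw [Finset.sum_comm]
    simp only [← Finset.sum_mul, hcoef, ite_mul, zero_mul]
    rw [Finset.sum_ite_mem, Finset.univ_inter, Finset.mul_sum]
  have hzero : ∀ x : G, x ≠ 1 → ∑ η ∈ S χ, (η : G → ℂ) x = 0 := by
    intro x hx
    by_contra hne
    have h1 := hstep χ hχ x
    have h2 := hstep (cj χ) (by rw [← hχ]; exact charDegree_conjFn χ) x
    rw [show cj (cj χ) = χ from Subtype.ext (funext fun g => Complex.conj_conj _)] at h2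
    have h3 : ((Complex.normSq ((χ : G → ℂ) x) : ℝ) : ℂ) = (((m : ℝ) ^ 2 : ℝ) : ℂ) := by
      refine mul_right_cancel₀ hne ?_
      rw [Complex.normSq_eq_conj_mul_self, mul_assoc, h1, mul_left_comm]
      rw [show conj ((χ : G → ℂ) x) = (cj χ : G → ℂ) x from rfl, h2]
      push_cast
      ring
    have h4 : ‖(χ : G → ℂ) x‖ = (m : ℝ) := by
      rw [Complex.ofReal_inj, Complex.normSq_eq_norm_sq] at h3
      exact (sq_eq_sq₀ (norm_nonneg _) (Nat.cast_nonneg _)).1 h3
    refine hx ?_
    rw [← Subgroup.mem_bot, ← hZ]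
    exact Block.mem_center_of_norm_eq χ.2 hf (by rw [χ.2.apply_one_eq_charDegree, hχ]) h4
  have hor : classInner (fun x => ∑ η ∈ S χ, (η : G → ℂ) x) (fun _ => (1 : ℂ)) = 0 := by
    rw [show (fun x => ∑ η ∈ S χ, (η : G → ℂ) x) = ∑ η ∈ S χ, (η : G → ℂ) from
      funext fun x => (Finset.sum_apply x _ _).symm, classInner_sum_left]
    refine Finset.sum_eq_zero fun η hη => classInner_irr_ne η.2 isIrrCharacter_one fun e => ?_
    have h2 := congrFun e 1
    rw [η.2.apply_one_eq_charDegree, (Finset.mem_filter.1 hη).2.1, Nat.cast_eq_one] at h2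
    omega
  have hempty : S χ = ∅ := by
    simp only [classInner, map_one, mul_one] at hor
    rw [Finset.sum_eq_single 1 (fun x _ hx => hzero x hx) (fun hh => absurd (Finset.mem_univ _) hh),
      Finset.sum_congr rfl fun η hη => by
        rw [η.2.apply_one_eq_charDegree, (Finset.mem_filter.1 hη).2.1],
      Finset.sum_const, nsmul_eq_mul, mul_eq_zero, inv_eq_zero] at hor
    rcases hor with hor | hor
    · exact absurd hor card_cast_ne_zero
    · simpa [show n ≠ 0 by omega] using hor
  rcases product_dichotomy hm hn hcop h hχ hη with hh | ⟨hh, -⟩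
  · exact hφ (hh φ hc)
  · exact Finset.notMem_empty η (hempty ▸ Finset.mem_filter.2
      ⟨Finset.mem_univ _, hη, φ, hh φ hc, hc⟩)

/-- Faithful characters of both degrees do not exist simultaneously. -/
theorem false_of_faithful_pair {m n : ℕ} (hm : 1 < m) (hn : 1 < n) (hcop : Nat.Coprime m n)
    (h : ThreeDeg G m n) (hZ : Subgroup.center G = ⊥) (χ η : IrrCharacter G)
    (hχ : charDegree (χ : G → ℂ) = m) (hη : charDegree (η : G → ℂ) = n)
    (hf : ∀ g : G, (χ : G → ℂ) g = (χ : G → ℂ) 1 → g = 1)
    (hf' : ∀ g : G, (η : G → ℂ) g = (η : G → ℂ) 1 → g = 1) : False := by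
  obtain ⟨φ, hφ⟩ := exists_constituent (χ.2.isCharacter.mul η.2.isCharacter)
    (mul_ne_zero χ.2.apply_one_ne_zero η.2.apply_one_ne_zero)
  have h1 := charDegree_constituent_of_faithful hm hn hcop h hZ χ hχ hf η φ hη hφ
  have h2 := charDegree_constituent_of_faithful hn hm hcop.symm h.symm hZ η hη hf' χ φ hχ (by
    rwa [show (fun g => (η : G → ℂ) g * (χ : G → ℂ) g) = fun g => (χ : G → ℂ) g * (η : G → ℂ) g from
      funext fun g => mul_comm _ _])
  rw [h1] at h2
  rw [h2] at hcop
  have := (Nat.coprime_self n).1 hcop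
  omega

end Cfsg.Lib.Char
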