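import Cfsg.Agent.S4456
import Cfsg.Agent.S4458
import Cfsg.Agent.Lib.Char.MinimalDegrees
import Cfsg.Agent.Lib.Char.ThreeDegreesPair

/-!
# Three character degrees

A finite group with at most three character degrees has trivial third derived subgroup.
-/

set_option autoImplicit false
set_option linter.unusedSectionVars false
set_option linter.style.haveILetI false

namespace Cfsg.Lib.Char

open Cfsg
open scoped ComplexConjugate commutatorElement

universe u

variable {G : Type u} [Group G] [Fintype G]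

/-- Characters trivial on a normal subgroup containing the derived subgroup are linear. -/
theorem charDegree_eq_one_of_trivial (N : Subgroup G) [N.Normal] (hN : commutator G ≤ N)
    {χ : G → ℂ} (hχ : IsIrrCharacter G χ) (h : ∀ x ∈ N, χ x = χ 1) : charDegree χ = 1 := by
  obtain ⟨ψ, hψ, hψe⟩ := exists_deflate_irr N hχ h
  haveI := Fintype.ofFinite (G ⧸ N)
  have hc : ∀ a b : G ⧸ N, a * b = b * a := by
    intro a b
    obtain ⟨x, rfl⟩ := QuotientGroup.mk_surjective a
    obtain ⟨y, rfl⟩ := QuotientGroup.mk_surjective b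
    rw [← commutatorElement_eq_one_iff_mul_comm]
    exact (QuotientGroup.eq_one_iff ⁅x, y⁆).2
      (hN (Subgroup.commutator_mem_commutator (Subgroup.mem_top x) (Subgroup.mem_top y)))
  simp [charDegree, ← hψe 1, degree_eq_one_of_comm hc hψ]

/-- All degrees are one: the group is abelian. -/
theorem commutator_eq_bot_of_linear (h : ∀ χ : IrrCharacter G, charDegree (χ : G → ℂ) = 1) :
    commutator G = ⊥ := by
  classical
  rw [eq_bot_iff, commutator_def, Subgroup.commutator_le]
  intro a _ b _
  rw [Subgroup.mem_bot]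
  refine Classical.byContradiction fun hab => ?_
  have hs := sum_degree_mul ⁅a, b⁆
  rw [if_neg hab] at hs
  have h1 : ∀ φ : IrrCharacter G, (φ : G → ℂ) 1 * (φ : G → ℂ) ⁅a, b⁆ = 1 := by
    intro φ
    have hd : (φ : G → ℂ) 1 = 1 := by rw [φ.2.apply_one_eq_charDegree, h φ, Nat.cast_one]
    obtain ⟨f, hf⟩ := exists_hom_of_degree_one φ.2.isCharacter hd
    rw [hd, one_mul, hf]
    simp [commutatorElement_def, mul_comm (f a) (f b)]
  simp only [h1, Finset.sum_const, nsmul_eq_mul, mul_one, Nat.cast_eq_zero,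
    Finset.card_eq_zero] at hs
  exact Finset.notMem_empty (⟨_, isIrrCharacter_one⟩ : IrrCharacter G) (hs ▸ Finset.mem_univ _)

/-- At most two degrees: the second derived subgroup is trivial. -/
theorem derivedSeries_two_eq_bot {d : ℕ}
    (h : ∀ χ : IrrCharacter G, charDegree (χ : G → ℂ) = 1 ∨ charDegree (χ : G → ℂ) = d) :
    derivedSeries G 2 = ⊥ := by
  rw [derivedSeries_succ, derivedSeries_one, eq_bot_iff, Subgroup.commutator_le]
  intro a ha b hb
  rw [Subgroup.mem_bot, commutatorElement_eq_one_iff_mul_comm]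
  by_cases hex : d ≠ 1 ∧ ∃ χ : IrrCharacter G, charDegree (χ : G → ℂ) = d
  · exact Cfsg.Agent.S4458.result d h hex.2 hex.1 a ha b hb
  · have := commutator_eq_bot_of_linear (G := G) fun χ => (h χ).elim id fun e => by
      by_contra hne
      exact hex ⟨e ▸ hne, χ, e⟩
    rw [this, Subgroup.mem_bot] at ha
    simp [ha]

theorem commutator_subtype_eq (C : Subgroup G) (j : ℕ) :
    (derivedSeries C (j + 1)).map C.subtype =
      ⁅(derivedSeries C j).map C.subtype, (derivedSeries C j).map C.subtype⁆ := by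
  rw [derivedSeries_succ, Subgroup.map_commutator]

theorem exists_over (C : Subgroup G) [Fintype C] (θ : IrrCharacter C) :
    ∃ χ : IrrCharacter G, classInner (fun c : C => (χ : G → ℂ) c) (θ : C → ℂ) ≠ 0 := by
  obtain ⟨χ, hχ⟩ := exists_constituent (isCharacter_indFun C θ.2.isCharacter) (by
    rw [indFun_apply_one]
    exact mul_ne_zero (Nat.cast_ne_zero.2 Subgroup.index_ne_zero_of_finite) θ.2.apply_one_ne_zero)
  rw [classInner_indFun C _ χ.2.isClassFunction] at hχ
  exact ⟨χ, fun h => hχ (by rw [← classInner_conj_symm, h, map_zero])⟩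

/-- Data of a normal subgroup of order prime to `p` and index a power of `p`. -/
theorem complement_degree {p k : ℕ} (hp : p.Prime) (C : Subgroup G) [C.Normal] [Fintype C]
    (hcop : (Nat.card C).Coprime p) (hidx : C.index = p ^ k) (χ : IrrCharacter G)
    (θ : IrrCharacter C) (hθ : classInner (fun c : C => (χ : G → ℂ) c) (θ : C → ℂ) ≠ 0) :
    charDegree (θ : C → ℂ) = ordCompl[p] (charDegree (χ : G → ℂ)) := by
  obtain ⟨h1, h2⟩ := degree_ratio_dvd_index C χ.2 θ.2 hθ χ.2.apply_one_eq_charDegree
    θ.2.apply_one_eq_charDegree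
  obtain ⟨t, ht⟩ := h1
  rw [ht, Nat.mul_div_cancel_left _ θ.2.charDegree_pos, hidx] at h2
  obtain ⟨i, -, rfl⟩ := (Nat.dvd_prime_pow hp).1 h2
  have hd : ¬ p ∣ charDegree (θ : C → ℂ) := fun hd => (hp.coprime_iff_not_dvd.1 hcop.symm)
    (hd.trans (degree_dvd_card θ.2 θ.2.apply_one_eq_charDegree))
  rw [ht, mul_comm, Nat.ordCompl_pow_mul_of_not_dvd i hp hd]

/-- A prime divides both degrees. -/
theorem derivedSeries_three_of_common_prime {m n p : ℕ}
    (ih : ∀ (H : Type u) [Group H] [Finite H] (a b : ℕ), Nat.card H < Nat.card G → ThreeDeg H a b →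
      derivedSeries H 3 = ⊥)
    (h : ThreeDeg G m n) (hp : p.Prime) (hpm : p ∣ m) (hpn : p ∣ n) (hmn : m < n)
    (hm : 1 < m) (hem : ∃ χ : IrrCharacter G, charDegree (χ : G → ℂ) = m) :
    derivedSeries G 3 = ⊥ := by
  classical
  haveI := Fact.mk hp
  obtain ⟨C, hCn, hcop, k, hidx⟩ := Cfsg.Agent.S4456.result (G := G) p hp fun χ hχ => by
    rcases h χ with e | e | e
    · exact absurd e hχ
    · rw [e]; exact hpm
    · rw [e]; exact hpn
  haveI := hCn
  haveI := Fintype.ofFinite C
  have hlt : Nat.card C < Nat.card G := by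
    refine lt_of_le_of_ne (Subgroup.card_le_card_group C) fun e => ?_
    obtain ⟨χ, hχ⟩ := hem
    rw [e] at hcop
    exact hp.coprime_iff_not_dvd.1 hcop.symm
      (hpm.trans (hχ ▸ degree_dvd_card χ.2 χ.2.apply_one_eq_charDegree))
  have hdeg : ∀ θ : IrrCharacter C, charDegree (θ : C → ℂ) = 1 ∨
      charDegree (θ : C → ℂ) = ordCompl[p] m ∨ charDegree (θ : C → ℂ) = ordCompl[p] n := by
    intro θ
    obtain ⟨χ, hχ⟩ := exists_over C θ
    rw [complement_degree hp C hcop hidx χ θ hχ]
    rcases h χ with e | e | e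
    · left; rw [e]; simp
    · right; left; rw [e]
    · right; right; rw [e]
  set D := (derivedSeries C 1).map C.subtype with hD
  have hDeq : D = ⁅C, C⁆ := by rw [hD, derivedSeries_one, Subgroup.map_subtype_commutator]
  haveI : D.Normal := by rw [hDeq]; infer_instance
  have hsmall : ∀ χ : IrrCharacter G, (∀ x ∈ D, (χ : G → ℂ) x = (χ : G → ℂ) 1) →
      ordCompl[p] (charDegree (χ : G → ℂ)) = 1 := by
    intro χ hχ
    have hres : IsCharacter C (fun c : C => (χ : G → ℂ) c) := χ.2.isCharacter.comp C.subtype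
    obtain ⟨θ, hθ⟩ := exists_constituent hres (by simpa using χ.2.apply_one_ne_zero)
    rw [← complement_degree hp C hcop hidx χ θ hθ]
    refine charDegree_eq_one_of_trivial (commutator C) le_rfl θ.2 fun x hx => ?_
    refine apply_eq_of_constituent hres θ.2 hθ ?_
    show (χ : G → ℂ) x = (χ : G → ℂ) ((1 : C) : G)
    rw [OneMemClass.coe_one]
    exact hχ _ ⟨x, by rwa [derivedSeries_one], rfl⟩
  haveI := Fintype.ofFinite (G ⧸ D)
  have hquot : ∀ ψ : IrrCharacter (G ⧸ D), ordCompl[p] (charDegree (ψ : G ⧸ D → ℂ)) = 1 := by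
    intro ψ
    refine hsmall ⟨_, isIrrCharacter_inflate D ψ.2⟩ fun x hx => ?_
    show (ψ : G ⧸ D → ℂ) (x : G ⧸ D) = (ψ : G ⧸ D → ℂ) ((1 : G) : G ⧸ D)
    rw [(QuotientGroup.eq_one_iff x).2 hx, QuotientGroup.mk_one]
  -- derived subgroups of `G` in terms of those of `C`
  have hlift : ∀ i : ℕ, derivedSeries (G ⧸ D) i = ⊥ → derivedSeries G i ≤ D := by
    intro i hi x hx
    rw [← QuotientGroup.eq_one_iff, ← Subgroup.mem_bot, ← hi]
    exact map_derivedSeries_le_derivedSeries (QuotientGroup.mk' D) i ⟨x, hx, rfl⟩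
  have hup : ∀ i j : ℕ, derivedSeries G i ≤ (derivedSeries C j).map C.subtype →
      derivedSeries G (i + 1) ≤ (derivedSeries C (j + 1)).map C.subtype := by
    intro i j hij
    rw [commutator_subtype_eq, derivedSeries_succ]
    exact Subgroup.commutator_mono hij hij
  have hbot : ∀ j : ℕ, derivedSeries C j = ⊥ → derivedSeries G 3 ≤ (derivedSeries C j).map C.subtype →
      derivedSeries G 3 = ⊥ := by
    intro j hj hle
    rwa [hj, Subgroup.map_bot, le_bot_iff] at hle
  -- two degrees for the quotient and for the subgroup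
  have hone : ∀ a b : ℕ, ThreeDeg G a b → ordCompl[p] a = 1 → ordCompl[p] b ≠ 1 →
      derivedSeries G 3 = ⊥ := by
    intro a b hab ha hb
    have hC : derivedSeries C 2 = ⊥ := derivedSeries_two_eq_bot (d := ordCompl[p] b) fun θ => by
      obtain ⟨χ, hχ⟩ := exists_over C θ
      rw [complement_degree hp C hcop hidx χ θ hχ]
      rcases hab χ with e | e | e
      · left; rw [e]; simp
      · left; rw [e, ha]
      · right; rw [e]
    have hQ : derivedSeries (G ⧸ D) 2 = ⊥ := derivedSeries_two_eq_bot (d := a) fun ψ => by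
      rcases hab.quotient D ψ with e | e | e
      · exact Or.inl e
      · exact Or.inr e
      · exact absurd (e ▸ hquot ψ) hb
    exact hbot 2 hC (hup 2 1 (hlift 2 hQ))
  by_cases hm' : ordCompl[p] m = 1
  · by_cases hn' : ordCompl[p] n = 1
    · refine derivedSeries_three_of_abelian_complement hp C (fun a ha b hb => ?_) hcop hidx hm.le hmn h
      have hC := commutator_eq_bot_of_linear (G := C) fun θ => by
        rcases hdeg θ with e | e | e
        · exact e
        · rw [e, hm']
        · rw [e, hn']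
      have := commutatorElement_eq_one_iff_mul_comm.1 (Subgroup.mem_bot.1 (hC.le
        (Subgroup.commutator_mem_commutator (Subgroup.mem_top (⟨a, ha⟩ : C))
          (Subgroup.mem_top (⟨b, hb⟩ : C)))))
      exact congrArg Subtype.val this
    · exact hone m n h hm' hn'
  · by_cases hn' : ordCompl[p] n = 1
    · exact hone n m h.symm hn' hm'
    · have hC := ih C (ordCompl[p] m) (ordCompl[p] n) hlt hdeg
      have hQ : derivedSeries (G ⧸ D) 1 = ⊥ := by
        rw [derivedSeries_one]
        refine commutator_eq_bot_of_linear fun ψ => ?_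
        rcases h.quotient D ψ with e | e | e
        · exact e
        · exact absurd (e ▸ hquot ψ) hm'
        · exact absurd (e ▸ hquot ψ) hn'
      exact hbot 3 hC (hup 2 2 (hup 1 1 (hlift 1 hQ)))

/-- Coprime degrees: the nonabelian soluble quotient. -/
theorem derivedSeries_three_of_coprime {m n : ℕ}
    (ih : ∀ (H : Type u) [Group H] [Finite H] (a b : ℕ), Nat.card H < Nat.card G → ThreeDeg H a b →
      derivedSeries H 3 = ⊥)
    (h : ThreeDeg G m n) (hm : 1 < m) (hn : 1 < n) (hcop : Nat.Coprime m n)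
    (hem : ∃ χ : IrrCharacter G, charDegree (χ : G → ℂ) = m)
    (hen : ∃ χ : IrrCharacter G, charDegree (χ : G → ℂ) = n) :
    derivedSeries G 3 = ⊥ := by
  classical
  have hna : commutator G ≠ ⊥ := by
    intro hb
    obtain ⟨χ, hχ⟩ := hem
    rw [charDegree_eq_one_of_trivial ⊥ hb.le χ.2 fun x hx => by rw [Subgroup.mem_bot.1 hx]] at hχ
    omega
  obtain ⟨M, hMn, hMs, hMc⟩ : ∃ (M : Subgroup G) (_ : M.Normal),
      Group.IsSolvable (G ⧸ M) ∧ ¬ commutator G ≤ M := by
    by_cases hs : Group.IsSolvable G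
    · haveI := hs
      exact ⟨⊥, inferInstance, inferInstance, fun hle => hna (le_bot_iff.1 hle)⟩
    have hsolq : ∀ L : Subgroup G, ∀ [L.Normal], L ≠ ⊥ → Group.IsSolvable (G ⧸ L) := by
      intro L _ hL
      haveI := Fintype.ofFinite (G ⧸ L)
      refine (Group.isSolvable_def _).2 ⟨3, ih (G ⧸ L) m n ?_ (h.quotient L)⟩
      rw [Subgroup.card_eq_card_quotient_mul_card_subgroup L]
      exact lt_mul_right Nat.card_pos (Subgroup.one_lt_card_iff_ne_bot _ |>.2 hL)
    have htop : (⊤ : Subgroup G) ≠ ⊥ := fun e => hna (le_bot_iff.1 (e ▸ le_top))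
    obtain ⟨M, -, hM⟩ := Finite.exists_le_minimal (p := fun M : Subgroup G => M.Normal ∧ M ≠ ⊥)
      (a := ⊤) ⟨inferInstance, htop⟩
    haveI := hM.prop.1
    have hMs := hsolq M hM.prop.2
    have hMns : ¬ Group.IsSolvable M := fun hh => hs
      ((Group.isSolvable_iff_subgroup_quotient M).2 ⟨hh, hMs⟩)
    -- the centralizer of `M` is trivial
    have hcent : Subgroup.centralizer (M : Set G) = ⊥ := by
      by_contra hC
      haveI := hsolq _ hC
      apply hMns
      have hinf : Subgroup.centralizer (M : Set G) ⊓ M = ⊥ := by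
        by_contra hne
        have hle := hM.le_of_le (y := Subgroup.centralizer (M : Set G) ⊓ M)
          ⟨inferInstance, hne⟩ inf_le_right
        refine hMns (Group.isSolvable_of_comm fun a b => Subtype.ext ?_)
        exact Subgroup.mem_centralizer_iff.1 (hle b.2).1 a a.2
      refine Group.isSolvable_of_isSolvable_injective
        (f := (QuotientGroup.mk' (Subgroup.centralizer (M : Set G))).comp M.subtype) ?_
      rw [injective_iff_map_eq_one]
      intro x hx
      refine Subtype.ext (Subgroup.mem_bot.1 (hinf ▸ Subgroup.mem_inf.2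
        ⟨(QuotientGroup.eq_one_iff _).1 hx, x.2⟩))
    have hZ : Subgroup.center G = ⊥ := le_bot_iff.1 (hcent ▸ Subgroup.center_le_centralizer _)
    refine ⟨M, inferInstance, hMs, fun hle => ?_⟩
    -- every nonlinear character is faithful
    have hfaith : ∀ χ : IrrCharacter G, charDegree (χ : G → ℂ) ≠ 1 →
        ∀ g : G, (χ : G → ℂ) g = (χ : G → ℂ) 1 → g = 1 := by
      intro χ hχ g hg
      by_contra hg1
      haveI := charKer_normal χ.2.isCharacter
      have hne : charKer χ.2.isCharacter ≠ ⊥ := fun e =>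
        hg1 (Subgroup.mem_bot.1 (e ▸ (mem_charKer χ.2.isCharacter).2 hg))
      have hMle : M ≤ charKer χ.2.isCharacter := by
        have hinf : M ⊓ charKer χ.2.isCharacter ≠ ⊥ := by
          intro e
          refine hne (le_bot_iff.1 (hcent ▸ fun x hx => Subgroup.mem_centralizer_iff.2 fun y hy => ?_))
          exact Subgroup.commute_of_normal_of_disjoint M _ inferInstance inferInstance
            (disjoint_iff.2 e) y x hy hx
        exact (hM.le_of_le (y := M ⊓ charKer χ.2.isCharacter) ⟨inferInstance, hinf⟩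
          inf_le_left).trans inf_le_right
      exact hχ (charDegree_eq_one_of_trivial M hle χ.2 fun x hx =>
        (mem_charKer χ.2.isCharacter).1 (hMle hx))
    obtain ⟨χ, hχ⟩ := hem
    obtain ⟨η, hη⟩ := hen
    exact false_of_faithful_pair hm hn hcop h hZ χ η hχ hη (hfaith χ (by omega)) (hfaith η (by omega))
  haveI := hMn
  rcases exists_minimal_quotient_over M hMs hMc with ⟨r, K, hK⟩ | ⟨q, K, N, hN⟩
  · exfalso
    obtain ⟨e, he, ⟨β, hβ⟩, hmul⟩ := hK.exists_mul
    have hr : r.Prime := hK.2.1
    have hre : 1 < r ^ e := Nat.one_lt_pow he.ne' hr.one_lt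
    have key : ∀ a b : ℕ, ThreeDeg G a b → 1 < b → Nat.Coprime a b → r ^ e = a →
        (∃ χ : IrrCharacter G, charDegree (χ : G → ℂ) = b) → False := by
      intro a b hab hb hc hre' heb
      obtain ⟨χ, hχ⟩ := heb
      have hrb : ¬ r ∣ charDegree (χ : G → ℂ) := fun hd => hr.ne_one
        (Nat.eq_one_of_dvd_coprimes hc (hre' ▸ dvd_pow_self r he.ne') (hχ ▸ hd))
      obtain ⟨ψ, hψ⟩ := hmul χ hrb
      rw [hre', hχ] at hψ
      have ha : 1 < a := hre' ▸ hre
      rcases hab ψ with e' | e' | e' <;> rw [e'] at hψ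
      · exact absurd (Nat.eq_one_of_mul_eq_one_right hψ.symm) (by omega)
      · exact absurd (Nat.mul_eq_left (by omega : a ≠ 0) |>.1 hψ.symm) (by omega)
      · exact absurd (Nat.mul_eq_right (by omega : b ≠ 0) |>.1 hψ.symm) (by omega)
    rcases h β with e' | e' | e' <;> rw [hβ] at e'
    · omega
    · exact key m n h hn hcop e' hen
    · exact key n m h.symm hm hcop.symm e' hem
  · have hidx1 : N.index ≠ 1 := fun h1 => hN.2.2.2.2.2.1 (Subgroup.index_eq_one.1 h1)
    haveI := hN.2.1
    haveI := Fintype.ofFinite N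
    have hab : commutator G ≤ N := by
      rw [commutator_def, Subgroup.commutator_le]
      intro x _ y _
      rw [commutatorElement_def]
      exact hN.2.2.2.2.2.2.1 x y
    obtain ⟨χ₀, hχ₀⟩ := hN.exists_index_mul ⟨fun _ => 1, isIrrCharacter_one⟩ (by
      simp [charDegree, hN.2.2.2.1.ne_one])
    have key : ∀ a b : ℕ, ThreeDeg G a b → 1 < a → 1 < b → Nat.Coprime a b → N.index = b →
        (∃ χ : IrrCharacter G, charDegree (χ : G → ℂ) = a) → derivedSeries N 2 = ⊥ := by
      intro a b hab' ha hb hc hib hea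
      have hndvd : ∀ c : ℕ, 1 < c → c ∣ a → ¬ c ∣ b := fun c hc1 hca hcb =>
        absurd (Nat.eq_one_of_dvd_coprimes hc hca hcb) (by omega)
      have hqb : ¬ q ∣ b := by
        intro hqb
        obtain ⟨χ, hχ⟩ := hea
        rcases hN.dvd_or χ with hqa | ⟨η, h1, h2⟩
        · rw [hχ] at hqa
          exact hndvd q hN.2.2.2.1.one_lt hqa hqb
        · rw [hib] at h1
          rw [hχ] at h2
          rcases hab' η with e | e | e <;> rw [e] at h1 h2
          · exact absurd (Nat.dvd_one.1 h1) (by omega)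
          · exact hndvd b hb h1 dvd_rfl
          · exact hndvd a ha dvd_rfl h2
      refine derivedSeries_two_eq_bot (d := a) fun ψ => ?_
      by_cases hq : q ∣ charDegree (ψ : N → ℂ)
      · obtain ⟨χ, hχ⟩ := exists_over N ψ
        obtain ⟨h1, h2⟩ := degree_ratio_dvd_index N χ.2 ψ.2 hχ χ.2.apply_one_eq_charDegree
          ψ.2.apply_one_eq_charDegree
        rcases hab' χ with e | e | e <;> rw [e] at h1 h2
        · exact absurd (Nat.dvd_one.1 (hq.trans h1)) hN.2.2.2.1.ne_one
        · rw [hib] at h2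
          have h3 := Nat.eq_one_of_dvd_coprimes hc (Nat.div_dvd_of_dvd h1) h2
          exact Or.inr (Nat.eq_of_dvd_of_div_eq_one h1 h3)
        · exact absurd (hq.trans h1) hqb
      · obtain ⟨χ, hχ⟩ := hN.exists_index_mul ψ hq
        rw [hib] at hχ
        rcases hab' χ with e | e | e <;> rw [e] at hχ
        · exact absurd (Nat.eq_one_of_mul_eq_one_right hχ.symm) (by omega)
        · exact absurd dvd_rfl (hndvd b hb (hχ ▸ Dvd.intro _ rfl))
        · exact Or.inl (Nat.mul_eq_left (by omega : b ≠ 0) |>.1 hχ.symm)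
    have hN2 : derivedSeries N 2 = ⊥ := by
      rcases h χ₀ with e | e | e <;> rw [hχ₀] at e <;>
        simp only [charDegree, Complex.one_re, Nat.floor_one, mul_one] at e
      · exact absurd e hidx1
      · exact key n m h.symm hn hm hcop.symm e hen
      · exact key m n h hm hn hcop e hem
    have h1 : derivedSeries G 2 ≤ (derivedSeries N 1).map N.subtype := by
      rw [derivedSeries_succ, derivedSeries_one, derivedSeries_one, Subgroup.map_subtype_commutator]
      exact Subgroup.commutator_mono hab hab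
    rw [← le_bot_iff, ← Subgroup.map_bot N.subtype, ← hN2, commutator_subtype_eq, derivedSeries_succ]
    exact Subgroup.commutator_mono h1 h1

/-- At most three degrees: the third derived subgroup is trivial. -/
theorem derivedSeries_three_eq_bot : ∀ (c : ℕ) (G : Type u) [Group G] [Finite G] (m n : ℕ),
    Nat.card G = c → ThreeDeg G m n → derivedSeries G 3 = ⊥ := by
  intro c
  induction c using Nat.strong_induction_on with
  | _ c ih =>
  intro G _ _ m n hc h
  classical
  haveI := Fintype.ofFinite G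
  have ih' : ∀ (H : Type u) [Group H] [Finite H] (a b : ℕ), Nat.card H < Nat.card G →
      ThreeDeg H a b → derivedSeries H 3 = ⊥ := fun H _ _ a b hlt hH =>
    ih _ (hc ▸ hlt) H a b rfl hH
  by_cases htwo : ∃ d, ∀ χ : IrrCharacter G,
      charDegree (χ : G → ℂ) = 1 ∨ charDegree (χ : G → ℂ) = d
  · obtain ⟨d, hd⟩ := htwo
    exact le_bot_iff.1 ((derivedSeries_antitone G (by norm_num : (2 : ℕ) ≤ 3)).trans
      (derivedSeries_two_eq_bot hd).le)
  push Not at htwo
  obtain ⟨χ, h1, h2⟩ := htwo m
  obtain ⟨η, h3, h4⟩ := htwo n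
  have hχ : charDegree (χ : G → ℂ) = n := ((h χ).resolve_left h1).resolve_left h2
  have hη : charDegree (η : G → ℂ) = m :=
    ((h η).resolve_left h3).resolve_right h4
  have hn : 1 < n := by have := χ.2.charDegree_pos; omega
  have hm : 1 < m := by have := η.2.charDegree_pos; omega
  by_cases hcop : Nat.Coprime m n
  · exact derivedSeries_three_of_coprime ih' h hm hn hcop ⟨η, hη⟩ ⟨χ, hχ⟩
  obtain ⟨p, hp, hpm, hpn⟩ := Nat.Prime.not_coprime_iff_dvd.1 hcop
  rcases lt_or_gt_of_ne (show m ≠ n by omega) with hlt | hlt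
  · exact derivedSeries_three_of_common_prime ih' h hp hpm hpn hlt hm ⟨η, hη⟩
  · exact derivedSeries_three_of_common_prime ih' h.symm hp hpn hpm hlt hn ⟨χ, hχ⟩

end Cfsg.Lib.Char
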