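import Cfsg.Agent.S4456
import Cfsg.Agent.Lib.Char.Linear
import Cfsg.Agent.Lib.Char.Central
import Cfsg.Agent.Lib.Char.Quotient
import Cfsg.Agent.Lib.Char.Constituents
import Cfsg.Agent.Lib.Char.ThreeDegrees
import Cfsg.Agent.Lib.Coprime.Generation
import Mathlib.GroupTheory.SchurZassenhaus

/-!
# Characters multiplicative on elements of coprime prime power orders
-/

set_option autoImplicit false
set_option linter.unusedSectionVars false
set_option linter.style.haveILetI false

namespace Cfsg.Lib.Char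

open Cfsg
open scoped ComplexConjugate commutatorElement

universe u

variable {G : Type u} [Group G] [Fintype G]

/-- The average over a class of a translated character. -/
theorem sum_conj_translate {χ : G → ℂ} (hχ : IsIrrCharacter G χ) (x y : G) :
    ∑ g, χ (x * (g * y * g⁻¹)) = (Nat.card G : ℂ) * χ x * χ y / χ 1 := by
  classical
  obtain ⟨n, ρ, hρ, rfl⟩ := hχ
  have hcong : ∀ f : G → Module.End ℂ (Fin n → ℂ), ∑ g, f (g * y * g⁻¹) =
      ∑ z, (((Finset.univ.filter fun g => g * y * g⁻¹ = z).card : ℕ) : ℂ) • f z := by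
    intro f
    rw [← Finset.sum_fiberwise Finset.univ (fun g => g * y * g⁻¹) (fun g => f (g * y * g⁻¹))]
    refine Finset.sum_congr rfl fun z _ => ?_
    rw [Finset.sum_congr rfl fun g hg => by rw [(Finset.mem_filter.1 hg).2],
      Finset.sum_const, ← Nat.cast_smul_eq_nsmul ℂ]
  set f : G → ℂ := fun z => (((Finset.univ.filter fun g => g * y * g⁻¹ = z).card : ℕ) : ℂ) with hf
  have hfc : IsClassFunction G f := by
    intro z k
    show ((_ : ℕ) : ℂ) = ((_ : ℕ) : ℂ)
    rw [Nat.cast_inj]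
    refine Finset.card_equiv (Equiv.mulLeft k⁻¹) fun g => ?_
    simp only [Finset.mem_filter, Finset.mem_univ, true_and, Equiv.coe_mulLeft]
    constructor <;> intro h
    · calc k⁻¹ * g * y * (k⁻¹ * g)⁻¹ = k⁻¹ * (g * y * g⁻¹) * k := by group
        _ = z := by rw [h]; group
    · calc g * y * g⁻¹ = k * (k⁻¹ * g * y * (k⁻¹ * g)⁻¹) * k⁻¹ := by group
        _ = k * z * k⁻¹ := by rw [h]
  have key := averageOp_irreducible ρ hfc
  have hsum : ∑ z, f z * ρ.character z = (Nat.card G : ℂ) * ρ.character y := by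
    have h := congrArg (LinearMap.trace ℂ (Fin n → ℂ)) (hcong ρ)
    simp only [map_sum, map_smul, smul_eq_mul] at h
    change ∑ g, ρ.character (g * y * g⁻¹) = ∑ z, f z * ρ.character z at h
    rw [← h, Finset.sum_congr rfl fun g _ => ρ.char_conj y g, Finset.sum_const, Finset.card_univ,
      nsmul_eq_mul, Nat.card_eq_fintype_card]
  have hop : ∑ g, ρ (g * y * g⁻¹) =
      ((Nat.card G : ℂ) * ρ.character y / (Module.finrank ℂ (Fin n → ℂ) : ℂ)) • LinearMap.id := by
    rw [hcong ρ, ← hsum, ← key]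
    rfl
  have h2 := congrArg (LinearMap.trace ℂ (Fin n → ℂ)) (congrArg (ρ x * ·) hop)
  simp only [Finset.mul_sum, map_sum, mul_smul_comm, map_smul, smul_eq_mul] at h2
  simp only [← map_mul] at h2
  rw [Representation.char_one]
  refine h2.trans ?_
  rw [show ρ x * LinearMap.id = ρ x from mul_one _]
  show _ * ρ.character x = _
  ring

/-- Linear characters are as many as the index of the derived subgroup. -/
theorem card_filter_linear :
    (Finset.univ.filter fun χ : IrrCharacter G => charDegree (χ : G → ℂ) = 1).card =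
      (commutator G).index := by
  classical
  rw [← card_linear_eq_index, ← Nat.card_eq_finsetCard]
  refine (Nat.card_eq_of_bijective (fun f : G →* ℂˣ =>
    (⟨⟨_, isIrrCharacter_linear f⟩, Finset.mem_filter.2 ⟨Finset.mem_univ _, by
      simp [charDegree]⟩⟩ : (Finset.univ.filter
        fun χ : IrrCharacter G => charDegree (χ : G → ℂ) = 1 : Finset _))) ⟨?_, ?_⟩).symm
  · intro a b h
    exact linearChar_injective (congrArg (fun t => (t.1.1 : G → ℂ)) h)
  · rintro ⟨χ, hχ⟩
    obtain ⟨f, hf⟩ := exists_hom_of_degree_one χ.2.isCharacter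
      (by rw [χ.2.apply_one_eq_charDegree, (Finset.mem_filter.1 hχ).2, Nat.cast_one])
    exact ⟨f, Subtype.ext (Subtype.ext hf.symm)⟩

/-- The centralizer order against the nonlinear values. -/
theorem card_centralizer_eq_add (g : G) :
    (Nat.card (Subgroup.centralizer ({g} : Set G)) : ℝ) = (commutator G).index +
      ∑ χ ∈ Finset.univ.filter (fun χ : IrrCharacter G => ¬ charDegree (χ : G → ℂ) = 1),
        ‖(χ : G → ℂ) g‖ ^ 2 := by
  classical
  have h := congrArg Complex.re (column_orthogonality g g)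
  rw [if_pos (IsConj.refl g), Complex.re_sum, Complex.natCast_re] at h
  rw [← h, ← card_filter_linear,
    ← Finset.sum_filter_add_sum_filter_not Finset.univ
      (fun χ : IrrCharacter G => charDegree (χ : G → ℂ) = 1)]
  congr 1
  · rw [Finset.card_eq_sum_ones, Nat.cast_sum, Nat.cast_one]
    refine Finset.sum_congr rfl fun χ hχ => ?_
    obtain ⟨f, hf⟩ := exists_hom_of_degree_one χ.2.isCharacter
      (by rw [χ.2.apply_one_eq_charDegree, (Finset.mem_filter.1 hχ).2, Nat.cast_one])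
    rw [hf]
    have hn : ‖(f g : ℂ)‖ = 1 := norm_eq_one_of_pow_orderOf (g := g) (by
      rw [← Units.val_pow_eq_pow_val, ← map_pow, pow_orderOf_eq_one, map_one, Units.val_one])
    rw [Complex.mul_conj, Complex.ofReal_re, Complex.normSq_eq_norm_sq, hn, one_pow]
  · refine Finset.sum_congr rfl fun χ _ => ?_
    rw [Complex.mul_conj, Complex.ofReal_re, Complex.normSq_eq_norm_sq]

/-- All nonlinear characters vanish at elements with centralizer no larger than the abelianization. -/
theorem eq_zero_of_card_centralizer_le {g : G}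
    (h : Nat.card (Subgroup.centralizer ({g} : Set G)) ≤ (commutator G).index)
    (χ : IrrCharacter G) (hχ : charDegree (χ : G → ℂ) ≠ 1) : (χ : G → ℂ) g = 0 := by
  classical
  have h1 := card_centralizer_eq_add g
  have h2 : (Nat.card (Subgroup.centralizer ({g} : Set G)) : ℝ) ≤ ((commutator G).index : ℝ) :=
    Nat.cast_le.2 h
  have h3 := Finset.single_le_sum (f := fun χ : IrrCharacter G => ‖(χ : G → ℂ) g‖ ^ 2)
    (fun φ _ => sq_nonneg _) (s := Finset.univ.filter
      (fun χ : IrrCharacter G => ¬ charDegree (χ : G → ℂ) = 1))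
    (Finset.mem_filter.2 ⟨Finset.mem_univ χ, hχ⟩)
  have h4 : ‖(χ : G → ℂ) g‖ ^ 2 = 0 := le_antisymm (by linarith) (sq_nonneg _)
  simpa using h4

theorem card_centralizer_of_vanish {g : G}
    (h : ∀ χ : IrrCharacter G, charDegree (χ : G → ℂ) ≠ 1 → (χ : G → ℂ) g = 0) :
    Nat.card (Subgroup.centralizer ({g} : Set G)) = (commutator G).index := by
  classical
  have h1 := card_centralizer_eq_add g
  rw [Finset.sum_eq_zero fun χ hχ => by rw [h χ (Finset.mem_filter.1 hχ).2, norm_zero, zero_pow two_ne_zero],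
    add_zero] at h1
  exact_mod_cast h1

theorem commutator_normal_of_sup_eq_top {A P : Subgroup G} [P.Normal] (h : A ⊔ P = ⊤) :
    (⁅A, P⁆).Normal := by
  rw [← Subgroup.normalizer_eq_top_iff, ← top_le_iff, ← h]
  exact sup_le (Subgroup.normalizer_commutator_ge_left A P) (Subgroup.normalizer_commutator_ge_right A P)

/-- The structured groups satisfy the product formula: nonlinear characters vanish off `P`. -/
theorem eq_zero_of_notMem (p : ℕ) [Fact p.Prime] (P : Sylow p G) (A : Subgroup G)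
    [(P : Subgroup G).Normal] (hAc : IsCyclic A) (hcop : (Nat.card A).Coprime p)
    (htop : A ⊔ (P : Subgroup G) = ⊤)
    (hC : IsMulCommutative ((P : Subgroup G) ⊓ Subgroup.centralizer (A : Set G) : Subgroup G))
    (hsup : ((P : Subgroup G) ⊓ Subgroup.centralizer (A : Set G)) ⊔ ⁅A, (P : Subgroup G)⁆ = P)
    (hfpf : ∀ a ∈ A, a ≠ 1 → ∀ d ∈ ⁅A, (P : Subgroup G)⁆, a * d = d * a → d = 1)
    (χ : IrrCharacter G) (hχ : charDegree (χ : G → ℂ) ≠ 1) {g : G} (hg : g ∉ (P : Subgroup G)) :
    (χ : G → ℂ) g = 0 := by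
  classical
  set D := ⁅A, (P : Subgroup G)⁆ with hD
  set C := (P : Subgroup G) ⊓ Subgroup.centralizer (A : Set G) with hCdef
  haveI hDn : D.Normal := commutator_normal_of_sup_eq_top htop
  have hdec : ∀ x : G, ∃ a ∈ A, ∃ c ∈ C, ∃ d ∈ D, x = a * (c * d) := by
    intro x
    obtain ⟨a, ha, u, hu, rfl⟩ :=
      Subgroup.mem_sup_of_normal_right.1 (htop ▸ Subgroup.mem_top x : x ∈ A ⊔ (P : Subgroup G))
    obtain ⟨c, hc, d, hd, rfl⟩ := Subgroup.mem_sup_of_normal_right.1 (hsup.ge hu)
    exact ⟨a, ha, c, hc, d, hd, rfl⟩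
  have hcomm : ∀ a ∈ A, ∀ c ∈ C, a * c = c * a := fun a ha c hc =>
    Subgroup.mem_centralizer_iff.1 (Subgroup.mem_inf.1 hc).2 a ha
  have hle : commutator G ≤ D := by
    rw [commutator_def, Subgroup.commutator_le]
    intro x _ y _
    obtain ⟨a, ha, c, hc, d, hd, rfl⟩ := hdec x
    obtain ⟨a', ha', c', hc', d', hd', rfl⟩ := hdec y
    rw [← QuotientGroup.eq_one_iff, QuotientGroup.mk'_apply .. |>.symm, map_commutatorElement,
      commutatorElement_eq_one_iff_mul_comm]
    simp only [map_mul, (show ∀ e ∈ D, QuotientGroup.mk' D e = 1 from fun e he =>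
      (QuotientGroup.eq_one_iff e).2 he) _ hd, (show ∀ e ∈ D, QuotientGroup.mk' D e = 1 from
      fun e he => (QuotientGroup.eq_one_iff e).2 he) _ hd', mul_one]
    rw [← map_mul, ← map_mul, ← map_mul, ← map_mul]
    congr 1
    have h1 : a * a' = a' * a := by
      haveI := hAc
      exact congrArg Subtype.val (IsCyclic.commGroup.mul_comm (⟨a, ha⟩ : A) ⟨a', ha'⟩)
    have h2 : c * c' = c' * c := setLike_mul_comm hc hc'
    calc a * c * (a' * c') = a * (c * a') * c' := by simp [mul_assoc]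
      _ = a * a' * (c * c') := by rw [← hcomm a' ha' c hc]; simp [mul_assoc]
      _ = a' * (a * c') * c := by rw [h1, h2]; simp [mul_assoc]
      _ = a' * c' * (a * c) := by rw [hcomm a ha c' hc']; simp [mul_assoc]
  -- centralizers of elements outside `P` miss `D`
  have hkey : ∀ a ∈ A, a ≠ 1 → ∀ c ∈ C, ∀ e ∈ D, e * (a * c) = a * c * e → e = 1 := by
    intro a ha ha1 c hc e he hec
    have hcopP : (Nat.card A).Coprime (Nat.card (P : Subgroup G)) := by
      obtain ⟨k, hk⟩ := (P.isPGroup').exists_card_eq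
      rw [hk]
      exact hcop.pow_right k
    obtain ⟨k, hk1, hk2⟩ := Nat.chineseRemainder hcopP 1 0
    refine hfpf a ha ha1 e he ?_
    have hak : a ^ k = a := by
      have h : orderOf a ∣ Nat.card A := (Subgroup.orderOf_dvd_natCard A ha)
      conv_rhs => rw [← pow_one a]
      exact pow_eq_pow_iff_modEq.2 (hk1.of_dvd h)
    have hck : c ^ k = 1 := orderOf_dvd_iff_pow_eq_one.1
      ((Subgroup.orderOf_dvd_natCard _ (Subgroup.mem_inf.1 hc).1).trans
        (Nat.modEq_zero_iff_dvd.1 hk2))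
    have h1 : (a * c) ^ k = a := by
      rw [(show Commute a c from hcomm a ha c hc).mul_pow, hak, hck, mul_one]
    have h2 : Commute e (a * c) := hec
    have h3 := h2.pow_right k
    rw [h1] at h3
    exact h3.eq.symm
  refine eq_zero_of_card_centralizer_le ?_ χ hχ
  obtain ⟨a, ha, c, hc, d, hd, rfl⟩ := hdec g
  have ha1 : a ≠ 1 := fun h => hg (by
    rw [h, one_mul]; exact hsup.le (Subgroup.mul_mem_sup hc hd))
  let φ : D → D := fun e => ⟨(a * c)⁻¹ * e * (a * c) * (e : G)⁻¹,
    mul_mem (by simpa using hDn.conj_mem e e.2 (a * c)⁻¹) (inv_mem e.2)⟩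
  have hφ : Function.Surjective φ := Finite.injective_iff_surjective.1 fun e e' h => by
    have h' : (a * c)⁻¹ * (e : G) * (a * c) * (e : G)⁻¹ = (a * c)⁻¹ * (e' : G) * (a * c) * (e' : G)⁻¹ :=
      congrArg Subtype.val h
    refine Subtype.ext (inv_mul_eq_one.1 (hkey a ha ha1 c hc _ (mul_mem (inv_mem e'.2) e.2) ?_)).symm
    calc (e' : G)⁻¹ * e * (a * c)
        = (e' : G)⁻¹ * (a * c) * ((a * c)⁻¹ * e * (a * c) * (e : G)⁻¹) * e := by group
      _ = (a * c) * ((e' : G)⁻¹ * e) := by rw [h']; group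
  obtain ⟨e, he⟩ := hφ ⟨d, hd⟩
  have hge : a * (c * d) = e * (a * c) * (e : G)⁻¹ := by
    have he' : (a * c)⁻¹ * (e : G) * (a * c) * (e : G)⁻¹ = d := congrArg Subtype.val he
    rw [← he']
    group
  have hinf : Disjoint (Subgroup.centralizer ({a * (c * d)} : Set G)) D := by
    rw [Subgroup.disjoint_def]
    intro x hxC hxD
    have hx : x * (a * (c * d)) = a * (c * d) * x := Subgroup.mem_centralizer_singleton_iff.1 hxC
    rw [hge] at hx
    have := hkey a ha ha1 c hc ((e : G)⁻¹ * x * e) (by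
      simpa using hDn.conj_mem x hxD (e : G)⁻¹) (by
      calc (e : G)⁻¹ * x * e * (a * c) = (e : G)⁻¹ * (x * (e * (a * c) * (e : G)⁻¹)) * e := by group
        _ = a * c * ((e : G)⁻¹ * x * e) := by rw [hx]; group)
    have h2 := congrArg (fun t => (e : G) * t * (e : G)⁻¹) this
    simpa [mul_assoc] using h2
  refine le_trans ?_ (Nat.le_of_dvd (Nat.pos_of_ne_zero (Subgroup.index_ne_zero_of_finite (H := commutator G)))
    (Subgroup.index_dvd_of_le hle))
  refine Nat.le_of_mul_le_mul_left ?_ (Nat.card_pos (α := D))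
  rw [D.card_mul_index, mul_comm]
  rw [← Nat.card_prod]
  exact Nat.card_le_card_of_injective (fun t : Subgroup.centralizer ({a * (c * d)} : Set G) × D =>
    (t.1 : G) * t.2) (Subgroup.mul_injective_of_disjoint hinf)

/-- A group that is not of prime power order, with the product formula. -/
theorem structure_of_multiplicative (hnp : ¬ ∃ p : ℕ, p.Prime ∧ IsPGroup p G)
    (hna : ¬ IsMulCommutative G)
    (h : ∀ (x y : G) (χ : IrrCharacter G), x ≠ 1 → y ≠ 1 →
      (∃ p q a b : ℕ, p.Prime ∧ q.Prime ∧ p ≠ q ∧ orderOf x = p ^ a ∧ orderOf y = q ^ b) →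
      (χ : G → ℂ) (x * y) = (χ : G → ℂ) x * (χ : G → ℂ) y) :
    ∃ (p : ℕ) (_ : Fact p.Prime) (P : Sylow p G) (A : Subgroup G),
      (P : Subgroup G).Normal ∧ IsCyclic ↥A ∧ A ≠ ⊥ ∧ (Nat.card ↥A).Coprime p ∧
      A ⊔ (P : Subgroup G) = ⊤ ∧
      IsMulCommutative ↥((P : Subgroup G) ⊓ Subgroup.centralizer (A : Set G)) ∧
      (⁅A, (P : Subgroup G)⁆).Normal ∧
      ((P : Subgroup G) ⊓ Subgroup.centralizer (A : Set G)) ⊔ ⁅A, (P : Subgroup G)⁆ = (P : Subgroup G) ∧
      ((P : Subgroup G) ⊓ Subgroup.centralizer (A : Set G)) ⊓ ⁅A, (P : Subgroup G)⁆ = ⊥ ∧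
      ∀ a ∈ A, a ≠ 1 → ∀ d ∈ ⁅A, (P : Subgroup G)⁆, a * d = d * a → d = 1 := by
  classical
  have hcomm : commutator G ≠ ⊥ := fun hb => hna ⟨⟨fun a b => commutatorElement_eq_one_iff_mul_comm.1
    (Subgroup.mem_bot.1 (hb ▸ Subgroup.commutator_mem_commutator (Subgroup.mem_top a)
      (Subgroup.mem_top b)))⟩⟩
  obtain ⟨χ₀, hχ₀⟩ : ∃ χ : IrrCharacter G, charDegree (χ : G → ℂ) ≠ 1 := by
    by_contra hall
    push Not at hall
    exact hcomm (commutator_eq_bot_of_linear hall)
  -- nonlinear characters kill one of two coprime elements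
  have hzero : ∀ (χ : IrrCharacter G), charDegree (χ : G → ℂ) ≠ 1 → ∀ x y : G, x ≠ 1 → y ≠ 1 →
      (∃ p q a b : ℕ, p.Prime ∧ q.Prime ∧ p ≠ q ∧ orderOf x = p ^ a ∧ orderOf y = q ^ b) →
      (χ : G → ℂ) x = 0 ∨ (χ : G → ℂ) y = 0 := by
    intro χ hχ x y hx hy ⟨p, q, a, b, hp, hq, hpq, hxa, hyb⟩
    have hs := sum_conj_translate χ.2 x y
    rw [Finset.sum_congr rfl fun g _ => h x (g * y * g⁻¹) χ hx (by simpa using hy)
      ⟨p, q, a, b, hp, hq, hpq, hxa, by rw [← MulAut.conj_apply, MulEquiv.orderOf_eq, hyb]⟩,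
      Finset.sum_congr rfl fun g _ => by rw [χ.2.isClassFunction y g], Finset.sum_const,
      Finset.card_univ, nsmul_eq_mul, ← Nat.card_eq_fintype_card,
      eq_div_iff χ.2.apply_one_ne_zero, χ.2.apply_one_eq_charDegree] at hs
    have h3 : (χ : G → ℂ) x * (χ : G → ℂ) y * ((charDegree (χ : G → ℂ) : ℂ) - 1) = 0 := by
      refine (mul_eq_zero.1 (?_ : (Nat.card G : ℂ) * _ = 0)).resolve_left card_cast_ne_zero
      linear_combination hs
    rcases mul_eq_zero.1 h3 with h4 | h4
    · exact mul_eq_zero.1 h4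
    · exact absurd (Nat.cast_eq_one.1 (sub_eq_zero.1 h4)) hχ
  -- a prime for each nonlinear character
  have hprime : ∀ χ : IrrCharacter G, charDegree (χ : G → ℂ) ≠ 1 → ∃ p : ℕ, p.Prime ∧
      ∀ (r : ℕ) (x : G), r.Prime → r ≠ p → x ≠ 1 → (∃ b, orderOf x = r ^ b) →
        (χ : G → ℂ) x = 0 := by
    intro χ hχ
    by_cases hex : ∃ (p a : ℕ) (x : G), p.Prime ∧ x ≠ 1 ∧ orderOf x = p ^ a ∧ (χ : G → ℂ) x ≠ 0
    · obtain ⟨p, a, x, hp, hx, hxa, hne⟩ := hex
      exact ⟨p, hp, fun r y hr hrp hy ⟨b, hb⟩ =>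
        (hzero χ hχ x y hx hy ⟨p, r, a, b, hp, hr, hrp.symm, hxa, hb⟩).resolve_left hne⟩
    · push Not at hex
      exact ⟨2, Nat.prime_two, fun r y hr _ hy ⟨b, hb⟩ => hex r b y hr hy hb⟩
  have hdiv : ∀ χ : IrrCharacter G, ∀ p : ℕ, p.Prime →
      (∀ (r : ℕ) (x : G), r.Prime → r ≠ p → x ≠ 1 → (∃ b, orderOf x = r ^ b) →
        (χ : G → ℂ) x = 0) →
      ∀ r : ℕ, r.Prime → r ≠ p → r ^ (Nat.card G).factorization r ∣ charDegree (χ : G → ℂ) := by
    intro χ p hp hv r hr hrp
    haveI := Fact.mk hr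
    let R : Sylow r G := Classical.arbitrary _
    haveI := Fintype.ofFinite (R : Subgroup G)
    obtain ⟨k, hk⟩ := (χ.2.isCharacter.comp (R : Subgroup G).subtype).exists_nat_classInner
      (isCharacter_one : IsCharacter (R : Subgroup G) fun _ => 1)
    rw [classInner_one_right, Finset.sum_eq_single 1] at hk
    · rw [map_one, χ.2.apply_one_eq_charDegree, inv_mul_eq_iff_eq_mul₀ card_cast_ne_zero,
        ← Nat.cast_mul, Nat.cast_inj] at hk
      rw [hk, ← R.card_eq_multiplicity]
      exact dvd_mul_right _ _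
    · intro x _ hx
      have hx' : (x : G) ≠ 1 := fun e => hx (Subtype.ext e)
      obtain ⟨b, hb⟩ := (IsPGroup.iff_orderOf.1 R.isPGroup') x
      exact hv r x hr hrp hx' ⟨b, by rw [Subgroup.orderOf_coe, hb]⟩
    · simp
  have hlt : ∀ χ : IrrCharacter G, charDegree (χ : G → ℂ) ^ 2 < Nat.card G := by
    intro χ
    by_cases hχ : charDegree (χ : G → ℂ) = 1
    · rw [hχ]
      haveI : Nontrivial G := by
        by_contra hn
        rw [not_nontrivial_iff_subsingleton] at hn
        exact hcomm (Subsingleton.elim _ _)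
      simpa using Finite.one_lt_card (α := G)
    · have hs := sum_sq_degree (G := G)
      rw [Finset.sum_congr rfl fun φ _ => by rw [φ.2.apply_one_eq_charDegree]] at hs
      have hs' : ∑ φ : IrrCharacter G, charDegree (φ : G → ℂ) ^ 2 = Nat.card G := by exact_mod_cast hs
      rw [← hs']
      have hne : (⟨_, isIrrCharacter_one⟩ : IrrCharacter G) ≠ χ := fun e => hχ (by
        rw [← e]; simp [charDegree])
      have := Finset.add_le_sum (f := fun φ : IrrCharacter G => charDegree (φ : G → ℂ) ^ 2)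
        (fun φ _ => Nat.zero_le _) (Finset.mem_univ (⟨_, isIrrCharacter_one⟩ : IrrCharacter G))
        (Finset.mem_univ χ) hne
      have h1 : charDegree (fun _ : G => (1 : ℂ)) = 1 := by simp [charDegree]
      simp only [h1] at this
      omega
  have hm : ∀ χ : IrrCharacter G, ∀ p : ℕ, p.Prime →
      (∀ r : ℕ, r.Prime → r ≠ p → r ^ (Nat.card G).factorization r ∣ charDegree (χ : G → ℂ)) →
      ordCompl[p] (Nat.card G) ∣ charDegree (χ : G → ℂ) := by
    intro χ p hp hd
    rw [← Nat.factorization_le_iff_dvd (Nat.ordCompl_pos p Nat.card_pos.ne').ne'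
      χ.2.charDegree_pos.ne', Nat.factorization_ordCompl]
    intro r
    by_cases hrp : r = p
    · subst hrp; simp
    rw [Finsupp.erase_ne hrp]
    by_cases hr : r.Prime
    · exact (hr.pow_dvd_iff_le_factorization χ.2.charDegree_pos.ne').1 (hd r hr hrp)
    · simp [Nat.factorization_eq_zero_of_not_prime _ hr]
  obtain ⟨p, hp, hp0⟩ := hprime χ₀ hχ₀
  haveI := Fact.mk hp
  -- the prime does not depend on the character
  have hbig : ∀ χ : IrrCharacter G, ∀ q : ℕ, q.Prime →
      ordCompl[q] (Nat.card G) ∣ charDegree (χ : G → ℂ) →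
      ordCompl[q] (Nat.card G) < q ^ (Nat.card G).factorization q := by
    intro χ q hq hd
    have h1 := Nat.le_of_dvd χ.2.charDegree_pos hd
    have h2 := hlt χ
    have h3 := Nat.ordProj_mul_ordCompl_eq_self (Nat.card G) q
    by_contra hcon
    push Not at hcon
    have h4 := Nat.mul_le_mul_right (ordCompl[q] (Nat.card G)) hcon
    rw [h3] at h4
    have h5 := Nat.mul_le_mul h1 h1
    rw [sq] at h2
    omega
  have hvan : ∀ χ : IrrCharacter G, charDegree (χ : G → ℂ) ≠ 1 → ∀ (r : ℕ) (x : G), r.Prime →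
      r ≠ p → x ≠ 1 → (∃ b, orderOf x = r ^ b) → (χ : G → ℂ) x = 0 := by
    intro χ hχ
    obtain ⟨q, hq, hq0⟩ := hprime χ hχ
    by_cases hqp : q = p
    · exact hqp ▸ hq0
    exfalso
    have h1 := hbig χ₀ p hp (hm χ₀ p hp (hdiv χ₀ p hp hp0))
    have h2 := hbig χ q hq (hm χ q hq (hdiv χ q hq hq0))
    have hdq : q ^ (Nat.card G).factorization q ∣ ordCompl[p] (Nat.card G) :=
      Nat.Coprime.dvd_of_dvd_mul_left (Nat.Coprime.pow _ _ ((Nat.coprime_primes hq hp).2 hqp))
        (by rw [Nat.ordProj_mul_ordCompl_eq_self]; exact Nat.ordProj_dvd _ _)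
    have hdp : p ^ (Nat.card G).factorization p ∣ ordCompl[q] (Nat.card G) :=
      Nat.Coprime.dvd_of_dvd_mul_left (Nat.Coprime.pow _ _ ((Nat.coprime_primes hp hq).2 (Ne.symm hqp)))
        (by rw [Nat.ordProj_mul_ordCompl_eq_self]; exact Nat.ordProj_dvd _ _)
    have h3 := Nat.le_of_dvd (Nat.ordCompl_pos p Nat.card_pos.ne') hdq
    have h4 := Nat.le_of_dvd (Nat.ordCompl_pos q Nat.card_pos.ne') hdp
    omega
  -- the normal Sylow subgroup
  let P : Sylow p G := Classical.arbitrary _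
  have hN : ∀ r : {r : ℕ // r.Prime ∧ r ∣ Nat.card G ∧ r ≠ p}, ∃ N : Subgroup G,
      N.Normal ∧ (Nat.card N).Coprime r ∧ ∃ k : ℕ, N.index = (r : ℕ) ^ k := fun r =>
    Cfsg.Agent.S4456.result (G := G) r r.2.1 fun χ hχ => by
      refine (dvd_pow_self _ ?_).trans (hdiv χ p hp (hvan χ hχ) r r.2.1 r.2.2.2)
      exact (r.2.1.factorization_pos_of_dvd Nat.card_pos.ne' r.2.2.1).ne'
  choose N hNn hNc k hk using hN
  have hPle : ∀ r, (P : Subgroup G) ≤ N r := by
    intro r
    haveI := hNn r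
    intro u hu
    have h1 : (u : G ⧸ N r) ^ Nat.card (P : Subgroup G) = 1 := by
      rw [← QuotientGroup.mk_pow, QuotientGroup.eq_one_iff, ← orderOf_dvd_iff_pow_eq_one.1
        (Subgroup.orderOf_dvd_natCard _ hu) |>.symm]
      exact one_mem _
    have h2 : (u : G ⧸ N r) ^ ((r : ℕ) ^ k r) = 1 := by
      rw [← hk r, Subgroup.index_eq_card]
      exact pow_card_eq_one'
    obtain ⟨t, ht⟩ := (P.isPGroup').exists_card_eq
    have h3 := pow_gcd_eq_one.2 ⟨h1, h2⟩
    rw [ht, (Nat.Coprime.pow t (k r) ((Nat.coprime_primes hp r.2.1).2 (Ne.symm r.2.2.2))),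
      pow_one] at h3
    exact (QuotientGroup.eq_one_iff u).1 h3
  have hPeq : (P : Subgroup G) = ⨅ r, N r := by
    refine (P.is_maximal' ?_ (le_iInf hPle)).symm
    rw [IsPGroup.iff_card]
    refine ⟨_, Nat.eq_prime_pow_of_unique_prime_dvd Nat.card_pos.ne' fun {r} hr hrd => ?_⟩
    by_contra hrp
    have hrG : r ∣ Nat.card G := hrd.trans (Subgroup.card_subgroup_dvd_card _)
    have h1 := (hNc ⟨r, hr, hrG, hrp⟩).coprime_dvd_left
      (Subgroup.card_dvd_of_le (iInf_le N ⟨r, hr, hrG, hrp⟩))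
    exact hr.coprime_iff_not_dvd.1 h1.symm hrd
  haveI hPn : (P : Subgroup G).Normal := by
    rw [hPeq]
    exact Subgroup.normal_iInf_normal hNn
  have hPidx : (P : Subgroup G).index = ordCompl[p] (Nat.card G) := by
    refine Nat.eq_of_mul_eq_mul_left (pow_pos hp.pos ((Nat.card G).factorization p)) ?_
    rw [Nat.ordProj_mul_ordCompl_eq_self, ← P.card_eq_multiplicity]
    exact Subgroup.card_mul_index _
  -- abelian quotient
  haveI := Fintype.ofFinite (G ⧸ (P : Subgroup G))
  have hGP : commutator G ≤ (P : Subgroup G) := by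
    have hb : commutator (G ⧸ (P : Subgroup G)) = ⊥ := commutator_eq_bot_of_linear fun ψ => by
      by_contra hψ
      have hd := hm ⟨_, isIrrCharacter_inflate _ ψ.2⟩ p hp
        (hdiv _ p hp (hvan ⟨_, isIrrCharacter_inflate _ ψ.2⟩ hψ))
      rw [← hPidx, Subgroup.index_eq_card] at hd
      have h1 := Nat.le_of_dvd ψ.2.charDegree_pos hd
      have h2 : charDegree (ψ : G ⧸ (P : Subgroup G) → ℂ) ^ 2 ≤ Nat.card (G ⧸ (P : Subgroup G)) := by
        have hs := sum_sq_degree (G := G ⧸ (P : Subgroup G))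
        rw [Finset.sum_congr rfl fun φ _ => by rw [φ.2.apply_one_eq_charDegree]] at hs
        have hs' : ∑ φ : IrrCharacter (G ⧸ (P : Subgroup G)), charDegree (φ : G ⧸ (P : Subgroup G) → ℂ) ^ 2 =
            Nat.card (G ⧸ (P : Subgroup G)) := by exact_mod_cast hs
        rw [← hs']
        exact Finset.single_le_sum (f := fun φ : IrrCharacter (G ⧸ (P : Subgroup G)) =>
          charDegree (φ : G ⧸ (P : Subgroup G) → ℂ) ^ 2) (fun _ _ => Nat.zero_le _) (Finset.mem_univ ψ)
      have h3 : 1 < charDegree (ψ : G ⧸ (P : Subgroup G) → ℂ) := by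
        have := ψ.2.charDegree_pos
        omega
      have h4 := Nat.mul_le_mul_left (charDegree (ψ : G ⧸ (P : Subgroup G) → ℂ)) h3
      rw [sq] at h2
      omega
    intro x hx
    rw [← QuotientGroup.eq_one_iff, ← Subgroup.mem_bot, ← hb]
    have hmap : (commutator G).map (QuotientGroup.mk' (P : Subgroup G)) ≤ commutator (G ⧸ (P : Subgroup G)) := by
      rw [commutator_def, commutator_def, Subgroup.map_commutator]
      exact Subgroup.commutator_mono le_top le_top
    exact hmap ⟨x, hx, rfl⟩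
  obtain ⟨A, hA⟩ := Subgroup.exists_right_complement'_of_coprime (N := (P : Subgroup G))
    (by rw [P.card_eq_multiplicity, hPidx]; exact Nat.Coprime.pow_left _ (Nat.coprime_ordCompl hp Nat.card_pos.ne'))
  have hAcard : Nat.card A = ordCompl[p] (Nat.card G) := by rw [← hPidx]; exact hA.symm.index_eq_card.symm
  have hcop : (Nat.card A).Coprime p := by
    rw [hAcard]; exact (Nat.coprime_ordCompl hp Nat.card_pos.ne').symm
  have htop : A ⊔ (P : Subgroup G) = ⊤ := by rw [sup_comm]; exact hA.sup_eq_top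
  have hdisj : Disjoint (P : Subgroup G) A := hA.disjoint
  have hA1 : A ≠ ⊥ := by
    intro e
    apply hnp
    refine ⟨p, hp, ?_⟩
    rw [e, bot_sup_eq] at htop
    exact (show IsPGroup p (⊤ : Subgroup G) from htop ▸ P.isPGroup').of_equiv Subgroup.topEquiv
  have hAab : ∀ a ∈ A, ∀ b ∈ A, a * b = b * a := fun a ha b hb => by
    have h1 : ⁅a, b⁆ ∈ (P : Subgroup G) :=
      hGP (Subgroup.commutator_mem_commutator (Subgroup.mem_top a) (Subgroup.mem_top b))
    exact commutatorElement_eq_one_iff_mul_comm.1 (Subgroup.disjoint_def.1 hdisj h1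
      (mul_mem (mul_mem (mul_mem ha hb) (inv_mem ha)) (inv_mem hb)))
  have hcopP : (Nat.card A).Coprime (Nat.card (P : Subgroup G)) := by
    rw [P.card_eq_multiplicity]; exact hcop.pow_right _
  have hnorm : A ≤ Subgroup.normalizer ((P : Subgroup G) : Set G) := by
    rw [Subgroup.normalizer_eq_top_iff.2 hPn]; exact le_top
  haveI : IsMulCommutative A := ⟨⟨fun a b => Subtype.ext (hAab a a.2 b b.2)⟩⟩
  haveI hDn : (⁅A, (P : Subgroup G)⁆).Normal := commutator_normal_of_sup_eq_top htop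
  set D := ⁅A, (P : Subgroup G)⁆ with hD
  have hDP : D ≤ (P : Subgroup G) := Subgroup.commutator_le_right A _
  -- all nonlinear characters vanish on nontrivial elements of `A`
  have hCA : ∀ a ∈ A, a ≠ 1 →
      Nat.card (Subgroup.centralizer ({a} : Set G)) = (commutator G).index ∧
      ∀ χ : IrrCharacter G, charDegree (χ : G → ℂ) ≠ 1 → (χ : G → ℂ) a = 0 := by
    intro a ha ha1
    obtain ⟨r, hr, hrd⟩ := Nat.exists_prime_and_dvd (n := orderOf a) (by
      rwa [Ne, orderOf_eq_one_iff])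
    set x := a ^ (orderOf a / r) with hx
    have hxo : orderOf x = r := orderOf_pow_orderOf_div (orderOf_pos a).ne' hrd
    have hrp : r ≠ p := fun e => hp.coprime_iff_not_dvd.1 hcop.symm
      (e ▸ hrd.trans (Subgroup.orderOf_dvd_natCard A ha))
    have hle : Nat.card (Subgroup.centralizer ({a} : Set G)) ≤ (commutator G).index := by
      rw [← card_centralizer_of_vanish (g := x) fun χ hχ => hvan χ hχ r x hr hrp
        (fun e => hr.ne_one (by rw [← hxo, e, orderOf_one])) ⟨1, by rw [hxo, pow_one]⟩]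
      refine Nat.le_of_dvd Nat.card_pos (Subgroup.card_dvd_of_le fun y hy => ?_)
      rw [Subgroup.mem_centralizer_singleton_iff] at hy ⊢
      exact (Commute.pow_right hy _)
    exact ⟨card_centralizer_of_vanish (eq_zero_of_card_centralizer_le hle),
      eq_zero_of_card_centralizer_le hle⟩
  obtain ⟨a₀, ha₀, ha₀1⟩ := A.bot_or_exists_ne_one.resolve_left hA1
  -- the derived subgroup is `[A, P]`
  have hGD : commutator G ≤ D := by
    haveI := Fintype.ofFinite (G ⧸ D)
    have hcen : ((a₀ : G) : G ⧸ D) ∈ Subgroup.center (G ⧸ D) := by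
      rw [Subgroup.mem_center_iff]
      intro t
      obtain ⟨y, rfl⟩ := QuotientGroup.mk_surjective t
      obtain ⟨b, hb, u, hu, rfl⟩ :=
        Subgroup.mem_sup_of_normal_right.1 (htop ▸ Subgroup.mem_top y : y ∈ A ⊔ (P : Subgroup G))
      have h1 : ((a₀ * u : G) : G ⧸ D) = ((u * a₀ : G) : G ⧸ D) := by
        have : ((⁅a₀, u⁆ : G) : G ⧸ D) = 1 :=
          (QuotientGroup.eq_one_iff _).2 (Subgroup.commutator_mem_commutator ha₀ hu)
        rw [show a₀ * u = ⁅a₀, u⁆ * (u * a₀) by rw [commutatorElement_def]; group,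
          QuotientGroup.mk_mul, this, one_mul]
      rw [← QuotientGroup.mk_mul, ← QuotientGroup.mk_mul, mul_assoc b u a₀, QuotientGroup.mk_mul,
        ← h1, ← QuotientGroup.mk_mul, ← mul_assoc, hAab b hb a₀ ha₀, mul_assoc]
    have hb : commutator (G ⧸ D) = ⊥ := commutator_eq_bot_of_linear fun ψ => by
      by_contra hψ
      have h0 := (hCA a₀ ha₀ ha₀1).2 ⟨_, isIrrCharacter_inflate _ ψ.2⟩ hψ
      obtain ⟨c, hc1, hc⟩ := Block.exists_central_scalar ψ hcen
      have h1 := hc 1
      rw [mul_one, show (ψ : G ⧸ D → ℂ) (a₀ : G ⧸ D) = 0 from h0] at h1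
      rcases mul_eq_zero.1 h1.symm with h2 | h2
      · rw [h2, zero_pow (orderOf_pos _).ne'] at hc1
        exact zero_ne_one hc1
      · exact ψ.2.apply_one_ne_zero h2
    intro x hx
    rw [← QuotientGroup.eq_one_iff, ← Subgroup.mem_bot, ← hb]
    have hmap : (commutator G).map (QuotientGroup.mk' D) ≤ commutator (G ⧸ D) := by
      rw [commutator_def, commutator_def, Subgroup.map_commutator]
      exact Subgroup.commutator_mono le_top le_top
    exact hmap ⟨x, hx, rfl⟩
  have hDeq : commutator G = D :=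
    le_antisymm hGD (Subgroup.commutator_mono le_top le_top)
  set C := (P : Subgroup G) ⊓ Subgroup.centralizer (A : Set G) with hC
  have hCD : C ⊔ D = (P : Subgroup G) := by
    have h1 := Cfsg.Lib.Coprime.commutator_sup_centralizer_eq hnorm hcopP
      (Or.inl (Group.isSolvable_of_comm fun a b => mul_comm' a b))
    rwa [Subgroup.commutator_comm, sup_comm] at h1
  -- fixed points of one element
  have hfix : ∀ a ∈ A, a ≠ 1 →
      (P : Subgroup G) ⊓ Subgroup.centralizer ({a} : Set G) = C ∧ C ⊓ D = ⊥ := by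
    intro a ha ha1
    set Ca := (P : Subgroup G) ⊓ Subgroup.centralizer ({a} : Set G) with hCa
    have hle : C ≤ Ca := inf_le_inf le_rfl (Subgroup.centralizer_le (Set.singleton_subset_iff.2 ha))
    have h1 : Nat.card A * Nat.card Ca = (commutator G).index := by
      rw [← (hCA a ha ha1).1, ← Nat.card_prod]
      refine Nat.card_eq_of_bijective (fun t : A × Ca => (⟨(t.1 : G) * t.2,
        mul_mem (Subgroup.mem_centralizer_singleton_iff.2 (hAab _ t.1.2 a ha))
          (Subgroup.mem_inf.1 t.2.2).2⟩ : Subgroup.centralizer ({a} : Set G))) ⟨?_, ?_⟩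
      · intro s t hst
        exact Subgroup.mul_injective_of_disjoint (hdisj.symm.mono_right inf_le_left)
          (congrArg Subtype.val hst)
      · rintro ⟨g, hg⟩
        obtain ⟨b, hb, u, hu, rfl⟩ :=
          Subgroup.mem_sup_of_normal_right.1 (htop ▸ Subgroup.mem_top g : g ∈ A ⊔ (P : Subgroup G))
        refine ⟨(⟨b, hb⟩, ⟨u, hu, ?_⟩), rfl⟩
        have hbC : b ∈ Subgroup.centralizer ({a} : Set G) :=
          Subgroup.mem_centralizer_singleton_iff.2 (hAab b hb a ha)
        have := mul_mem (inv_mem hbC) hg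
        rwa [inv_mul_cancel_left] at this
    have h2 : Nat.card D * Nat.card Ca = Nat.card (P : Subgroup G) := by
      refine Nat.eq_of_mul_eq_mul_left (Nat.card_pos (α := A)) ?_
      rw [mul_left_comm, h1, hDeq, D.card_mul_index, ← hA.card_mul, mul_comm]
    let mm : C × D → (P : Subgroup G) := fun t =>
      ⟨(t.1 : G) * t.2, mul_mem (Subgroup.mem_inf.1 t.1.2).1 (hDP t.2.2)⟩
    have hsurj : Function.Surjective mm := by
      rintro ⟨u, hu⟩
      obtain ⟨c, hc, d, hd, rfl⟩ := Subgroup.mem_sup_of_normal_right.1 (hCD.ge hu)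
      exact ⟨(⟨c, hc⟩, ⟨d, hd⟩), rfl⟩
    have h3 := Nat.card_le_card_of_surjective mm hsurj
    rw [Nat.card_prod, ← h2, mul_comm (Nat.card C)] at h3
    have h5 : Nat.card Ca ≤ Nat.card C := Nat.le_of_mul_le_mul_left h3 Nat.card_pos
    have heq : C = Ca := Subgroup.eq_of_le_of_card_ge hle h5
    refine ⟨heq.symm, le_bot_iff.1 fun z hz => ?_⟩
    have hinj : Function.Injective mm :=
      (hsurj.bijective_of_nat_card_le (by rw [Nat.card_prod, ← h2, heq, mul_comm])).1
    obtain ⟨hzC, hzD⟩ := Subgroup.mem_inf.1 hz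
    have := @hinj (⟨z, hzC⟩, 1) (1, ⟨z, hzD⟩) (Subtype.ext (by simp [mm]))
    exact Subgroup.mem_bot.2 (congrArg (fun t : C × D => (t.1 : G)) this)
  have hCDbot := (hfix a₀ ha₀ ha₀1).2
  have hfpf : ∀ a ∈ A, a ≠ 1 → ∀ d ∈ D, a * d = d * a → d = 1 := by
    intro a ha ha1 d hd hcom
    have : d ∈ C := (hfix a ha ha1).1.le
      (Subgroup.mem_inf.2 ⟨hDP hd, Subgroup.mem_centralizer_singleton_iff.2 hcom.symm⟩)
    exact Subgroup.mem_bot.1 (hCDbot ▸ Subgroup.mem_inf.2 ⟨this, hd⟩)
  refine ⟨p, inferInstance, P, A, hPn, ?_, hA1, hcop, htop, ⟨⟨fun x y => Subtype.ext ?_⟩⟩, hDn, hCD,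
    hCDbot, hfpf⟩
  · by_contra hnc
    have hDne : D ≠ ⊥ := hDeq ▸ hcomm
    have hnormD : A ≤ Subgroup.normalizer (D : Set G) := by
      rw [Subgroup.normalizer_eq_top_iff.2 hDn]; exact le_top
    have h1 := Cfsg.Lib.Coprime.le_iSup_centralizer_of_not_isCyclic hnc hnormD
      (hcopP.coprime_dvd_right (Subgroup.card_dvd_of_le hDP))
    refine hDne (le_bot_iff.1 (h1.trans (iSup_le fun a d hd => ?_)))
    exact Subgroup.mem_bot.2 (hfpf a a.2.1 a.2.2 d (Subgroup.mem_inf.1 hd).1
      (Subgroup.mem_centralizer_singleton_iff.1 (Subgroup.mem_inf.1 hd).2).symm)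
  · have h1 : ⁅(x : G), (y : G)⁆ ∈ C ⊓ D := Subgroup.mem_inf.2
      ⟨mul_mem (mul_mem (mul_mem x.2 y.2) (inv_mem x.2)) (inv_mem y.2),
        hDeq ▸ Subgroup.commutator_mem_commutator (Subgroup.mem_top _) (Subgroup.mem_top _)⟩
    rw [hCDbot, Subgroup.mem_bot] at h1
    exact commutatorElement_eq_one_iff_mul_comm.1 h1

end Cfsg.Lib.Char
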