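import Mathlib.RepresentationTheory.Irreducible
import Mathlib.GroupTheory.Sylow
import Mathlib.GroupTheory.SpecificGroups.Cyclic
import Mathlib.Algebra.MonoidAlgebra.Basic
import Mathlib.Algebra.CharP.Lemmas
import Mathlib.LinearAlgebra.Eigenspace.Zero
import Cfsg.Agent.Lib.Char.Basic

/-!
# Faithful modular representations with a cyclic TI Sylow subgroup

A trace from the Sylow normalizer of an endomorphism in the Jacobson radical of the Sylow group
algebra vanishes on a faithful irreducible module of small dimension; this bounds the dimension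
from below.
-/

set_option autoImplicit false
set_option linter.unusedSectionVars false
set_option linter.style.haveILetI false

namespace Cfsg.Lib.Char.CyclicTIDim

open Module

universe u v w

variable {F : Type v} [Field F] {V : Type w} [AddCommGroup V] [Module F V]

/-- The endomorphisms landing in `R` and vanishing on the kernel of `A`. -/
def small (A : Module.End F V) (R : Submodule F V) : Submodule F (Module.End F V) where
  carrier := {h | (∀ v, h v ∈ R) ∧ ∀ v, A v = 0 → h v = 0}
  add_mem' := fun {a b} ha hb => ⟨fun v => R.add_mem (ha.1 v) (hb.1 v),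
    fun v hv => by simp [ha.2 v hv, hb.2 v hv]⟩
  zero_mem' := ⟨fun v => R.zero_mem, fun v _ => rfl⟩
  smul_mem' := fun c a ha => ⟨fun v => R.smul_mem c (ha.1 v),
    fun v hv => by simp [ha.2 v hv]⟩

/-- Sums of all conjugates by a unipotent element land deep in its filtration. -/
theorem sum_conj_mem {p : ℕ} [Fact p.Prime] [CharP F p] (n : ℕ) (X X' : Module.End F V)
    (hX : X * X' = 1) (hX' : X' * X = 1) {d : ℕ} (hd : (X - 1) ^ d = 0) (hdq : d < p ^ n)
    (h : Module.End F V) :
    ∑ i ∈ Finset.range (p ^ n), X ^ i * h * X' ^ i ∈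
      small (X - 1) (LinearMap.range ((X - 1) ^ (p ^ n - d))) := by
  set q := p ^ n with hq
  set A := X - 1 with hA
  let L : Module.End F (Module.End F V) := LinearMap.mulLeft F A
  let R : Module.End F (Module.End F V) := LinearMap.mulRight F A
  let R' : Module.End F (Module.End F V) := LinearMap.mulRight F X'
  let Y : Module.End F (Module.End F V) := LinearMap.mulLeft F X * R'
  have hYi : ∀ i, (Y ^ i) h = X ^ i * h * X' ^ i := by
    intro i
    induction i with
    | zero => simp
    | succ i ih =>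
      rw [pow_succ' Y, Module.End.mul_apply, ih, pow_succ' X, pow_succ X']
      simp only [Y, R', Module.End.mul_apply, LinearMap.mulLeft_apply, LinearMap.mulRight_apply,
        mul_assoc]
  have hgeom : ∑ i ∈ Finset.range q, Y ^ i = (Y - 1) ^ (q - 1) := by
    have hpoly : ∑ i ∈ Finset.range q, (Polynomial.X : Polynomial F) ^ i =
        (Polynomial.X - 1) ^ (q - 1) := by
      refine mul_right_cancel₀ (b := (Polynomial.X : Polynomial F) - 1)
        (by simpa using Polynomial.X_sub_C_ne_zero (1 : F)) ?_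
      rw [geom_sum_mul, ← pow_succ, Nat.sub_add_cancel (by omega), hq, sub_pow_char_pow, one_pow]
    have h1 := congrArg (Polynomial.aeval Y) hpoly
    simpa using h1
  have hY1 : Y - 1 = (L - R) * R' := by
    refine LinearMap.ext fun k => ?_
    simp only [Y, L, R, R', LinearMap.sub_apply, Module.End.mul_apply, Module.End.one_apply,
      LinearMap.mulLeft_apply, LinearMap.mulRight_apply, hA, sub_mul, mul_sub, one_mul, mul_one,
      mul_assoc]
    have : k * (X' * X) = k := by rw [hX', mul_one]
    rw [this]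
    abel
  have hAX' : A * X' = X' * A := by rw [hA, sub_mul, mul_sub, hX, hX', one_mul, mul_one]
  have hc : Commute (L - R) R' := by
    refine LinearMap.ext fun k => ?_
    simp only [L, R, R', LinearMap.sub_apply, Module.End.mul_apply, LinearMap.mulLeft_apply,
      LinearMap.mulRight_apply, sub_mul, mul_assoc, hAX']
  have hsum : ∑ i ∈ Finset.range q, X ^ i * h * X' ^ i = ((L - R) ^ (q - 1)) ((R' ^ (q - 1)) h) := by
    rw [← Module.End.mul_apply, ← hc.mul_pow, ← hY1, ← hgeom, LinearMap.sum_apply]
    simp [hYi]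
  rw [hsum]
  generalize (R' ^ (q - 1)) h = h₀
  have hLR : Commute L (-R) := by
    have h1 : Commute L R := LinearMap.commute_mulLeft_right A A
    exact h1.neg_right
  rw [sub_eq_add_neg, hLR.add_pow, LinearMap.sum_apply]
  refine Submodule.sum_mem _ fun m hm => ?_
  rw [show -R = (-1 : F) • R from (neg_one_smul F R).symm, smul_pow]
  have hm' : m ≤ q - 1 := by simpa using Nat.lt_succ_iff.1 (Finset.mem_range.1 hm)
  have hterm : A ^ m * h₀ * A ^ (q - 1 - m) ∈ small A (LinearMap.range (A ^ (q - d))) := by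
    by_cases hmd : q - d ≤ m
    · refine ⟨fun v => ⟨(A ^ (m - (q - d)) * h₀ * A ^ (q - 1 - m)) v, ?_⟩, fun v hv => ?_⟩
      · rw [← Module.End.mul_apply, ← mul_assoc, ← mul_assoc, ← pow_add,
          Nat.add_sub_cancel' hmd]
      · rcases Nat.eq_zero_or_pos (q - 1 - m) with h0 | h0
        · rw [show m = (m - d) + d by omega, pow_add, hd]
          simp
        · obtain ⟨j, hj⟩ := Nat.exists_eq_add_one.2 h0
          rw [hj, pow_succ, Module.End.mul_apply, Module.End.mul_apply, Module.End.mul_apply, hv,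
            map_zero, map_zero, map_zero]
    · have : A ^ (q - 1 - m) = 0 := by
        rw [show q - 1 - m = d + (q - 1 - m - d) by omega, pow_add, hd, zero_mul]
      rw [this, mul_zero]
      exact Submodule.zero_mem _
  simp only [Module.End.mul_apply, Module.End.natCast_apply, map_nsmul, map_smul,
    LinearMap.smul_apply, L, R, LinearMap.pow_mulLeft, LinearMap.pow_mulRight,
    LinearMap.mulLeft_apply, LinearMap.mulRight_apply, ← mul_assoc]
  exact nsmul_mem (Submodule.smul_mem _ _ hterm) _

section Group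

variable {G : Type u} [Group G] [Finite G] {p : ℕ} [hp : Fact p.Prime]

open MonoidAlgebra in
theorem finrank_bound [CharP F p] [FiniteDimensional F V] (P : Sylow p G) (hcyc : IsCyclic P)
    (n : ℕ) (hn : 2 ≤ n) (hPn : Nat.card P = p ^ n)
    (hTI : ∀ Q : Sylow p G, Q ≠ P → (P : Subgroup G) ⊓ (Q : Subgroup G) = ⊥)
    (ρ : Representation F G V) (hfaith : Function.Injective ρ) (hirr : ρ.IsIrreducible) :
    p ^ n - (p - 1) ≤ finrank F V := by
  classical
  haveI := Fintype.ofFinite G
  by_contra hlt
  push Not at hlt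
  set q := p ^ n with hq
  set d := finrank F V with hd
  obtain ⟨x, hx⟩ := hcyc.exists_generator
  have hxo : orderOf x = q := by rw [orderOf_eq_card_of_forall_mem_zpowers hx, hPn]
  set X := ρ (x : G) with hXdef
  set X' := ρ (x : G)⁻¹ with hX'def
  set A := X - 1 with hA
  have hXX' : X * X' = 1 := by rw [hXdef, hX'def, ← map_mul, mul_inv_cancel, map_one]
  have hX'X : X' * X = 1 := by rw [hXdef, hX'def, ← map_mul, inv_mul_cancel, map_one]
  haveI : Nontrivial V := by
    obtain ⟨h, -⟩ := (Char.isIrreducible_iff_submodule ρ).1 hirr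
    exact h
  haveI : CharP (Module.End F V) p :=
    charP_of_injective_algebraMap (algebraMap F (Module.End F V)).injective p
  have hXq : X ^ q = 1 := by
    rw [hXdef, ← map_pow, ← SubmonoidClass.coe_pow, ← hxo, pow_orderOf_eq_one, OneMemClass.coe_one,
      map_one]
  have hAq : A ^ q = 0 := by
    rw [hA, hq, sub_pow_char_pow_of_commute _ _ (Commute.one_right X), one_pow, ← hq, hXq,
      sub_self]
  have hAd : A ^ d = 0 := by
    have h1 := IsNilpotent.charpoly_eq_X_pow_finrank (φ := A) ⟨q, hAq⟩
    have h2 := LinearMap.aeval_self_charpoly A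
    rwa [h1, map_pow, Polynomial.aeval_X] at h2
  -- the normalizer
  set N := Subgroup.normalizer ((P : Subgroup G) : Set G) with hN
  let cN : N →* MulAut (P : Subgroup G) := (P : Subgroup G).normalizerMonoidHom
  let O : Finset (P : Subgroup G) := Finset.univ.filter fun y => ∃ g : N, cN g x = y
  set e := O.card with he
  have heq : e = Nat.card cN.range := by
    have hset : O = Finset.univ.image fun r : cN.range => (r : MulAut (P : Subgroup G)) x := by
      ext y
      simp only [O, Finset.mem_filter, Finset.mem_univ, true_and, Finset.mem_image]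
      constructor
      · rintro ⟨g, hg⟩; exact ⟨⟨cN g, g, rfl⟩, hg⟩
      · rintro ⟨⟨_, g, rfl⟩, hg⟩; exact ⟨g, hg⟩
    rw [he, hset, Finset.card_image_of_injective _ fun a b hab => ?_, Finset.card_univ,
      Nat.card_eq_fintype_card]
    refine Subtype.ext (MulEquiv.ext fun y => ?_)
    obtain ⟨i, rfl⟩ := Subgroup.mem_zpowers_iff.1 (hx y)
    rw [map_zpow, map_zpow]
    exact congrArg (· ^ i) hab
  have hedvd : e ∣ p - 1 := by
    have h1 : e ∣ Nat.totient (Nat.card (P : Subgroup G)) := by
      rw [heq, ← IsCyclic.card_mulAut]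
      exact Subgroup.card_subgroup_dvd_card _
    rw [hPn, hq, Nat.totient_prime_pow hp.out (by omega)] at h1
    refine (Nat.Coprime.dvd_mul_left ?_).1 h1
    refine Nat.Coprime.pow_right _ (hp.out.coprime_iff_not_dvd.2 ?_).symm
    intro h
    rw [heq, ← Subgroup.index_ker] at h
    have hle : (P : Subgroup G).subgroupOf N ≤ cN.ker := fun g hg => by
      refine MonoidHom.mem_ker.2 (MulEquiv.ext fun y => Subtype.ext ?_)
      show (g : G) * (y : G) * (g : G)⁻¹ = y
      haveI := hcyc
      letI : CommGroup (P : Subgroup G) := IsCyclic.commGroup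
      have h2 := congrArg Subtype.val
        (mul_comm (⟨g, Subgroup.mem_subgroupOf.1 hg⟩ : (P : Subgroup G)) y)
      simp only [Subgroup.coe_mul] at h2
      rw [h2, mul_inv_cancel_right]
    have h3 := h.trans (Subgroup.index_dvd_of_le hle)
    have hi := (P.subtype (Subgroup.le_normalizer (H := (P : Subgroup G)))).not_dvd_index
    rw [Sylow.coe_subtype] at hi
    exact hi h3
  have hp1 : 0 < p - 1 := Nat.sub_pos_of_lt hp.out.one_lt
  have hep : e ≤ p - 1 := Nat.le_of_dvd hp1 hedvd
  -- the invariant element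
  letI : CommGroup (P : Subgroup G) :=
    { (inferInstance : Group (P : Subgroup G)) with
      mul_comm := fun a b => by
        haveI := hcyc
        letI := IsCyclic.commGroup (α := (P : Subgroup G))
        exact mul_comm a b }
  let π : F[(P : Subgroup G)] →ₐ[F] Module.End F V :=
    MonoidAlgebra.lift F (Module.End F V) (P : Subgroup G) (ρ.comp (P : Subgroup G).subtype)
  have hπ : ∀ y : (P : Subgroup G), π (single y 1) = ρ (y : G) := fun y => by
    simp [π]
  let z : F[(P : Subgroup G)] := ∏ y ∈ O, (single y 1 - 1)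
  set f := π z with hf
  have hxO : x ∈ O := Finset.mem_filter.2 ⟨Finset.mem_univ _, 1, by simp⟩
  have hgen : ∀ y ∈ O, ∃ m : ℕ, y ^ m = x := by
    intro y hy
    obtain ⟨g, hg⟩ := (Finset.mem_filter.1 hy).2
    obtain ⟨i, hi⟩ := Subgroup.mem_zpowers_iff.1 (hx ((cN g)⁻¹ x))
    have h1 : y ^ i = x := by
      rw [← hg, ← map_zpow, hi]
      exact (cN g).apply_symm_apply x
    exact Submonoid.mem_powers_iff _ _ |>.1
      (mem_powers_iff_mem_zpowers.2 (Subgroup.mem_zpowers_iff.2 ⟨i, h1⟩))
  choose! m hm using hgen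
  have hfactor : ∃ W, (single x 1 - 1 : F[(P : Subgroup G)]) ^ e = z * W := by
    refine ⟨∏ y ∈ O, ∑ i ∈ Finset.range (m y), (single y 1) ^ i, ?_⟩
    rw [he, ← Finset.prod_const, ← Finset.prod_mul_distrib]
    refine Finset.prod_congr rfl fun y hy => ?_
    rw [mul_comm, geom_sum_mul, MonoidAlgebra.single_pow, one_pow, hm y hy]
  obtain ⟨W, hW⟩ := hfactor
  have hπA : π (single x 1 - 1) = A := by rw [map_sub, map_one, hπ]
  have hAe : A ^ e = f * π W := by rw [← hπA, ← map_pow, hW, map_mul]
  have hfker : ∀ v, A v = 0 → f v = 0 := fun v hv => by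
    rw [hf, show z = (∏ y ∈ O.erase x, (single y 1 - 1)) * (single x 1 - 1) by
      rw [Finset.prod_erase_mul _ _ hxO], map_mul, hπA, Module.End.mul_apply, hv, map_zero]
  have hinv : ∀ g ∈ N, ρ g * f = f * ρ g := by
    intro g hg
    set σ := cN ⟨g, hg⟩ with hσ
    let S : F[(P : Subgroup G)] →ₐ[F] F[(P : Subgroup G)] :=
      MonoidAlgebra.lift F _ (P : Subgroup G)
        ((MonoidAlgebra.of F (P : Subgroup G)).comp σ.toMonoidHom)
    have hS : ∀ a, ρ g * π a = π (S a) * ρ g := by
      intro a
      induction a using MonoidAlgebra.induction_on with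
      | of y =>
        have hSy : S (single y 1) = single (σ y) 1 := by simp [S]
        rw [MonoidAlgebra.of_apply, hπ, hSy, hπ, ← map_mul, ← map_mul]
        congr 1
        show g * (y : G) = g * (y : G) * g⁻¹ * g
        group
      | add a b ha hb => rw [map_add, map_add, map_add, mul_add, add_mul, ha, hb]
      | smul r a ha =>
        rw [map_smul, map_smul, map_smul, mul_smul_comm, smul_mul_assoc, ha]
    have hSz : S z = z := by
      simp only [z, map_prod, map_sub, map_one]
      refine Finset.prod_bij (fun y _ => σ y) (fun y hy => ?_) (fun a _ b _ h => σ.injective h)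
        (fun y hy => ?_) fun y _ => by simp [S]
      · obtain ⟨k, hk⟩ := (Finset.mem_filter.1 hy).2
        exact Finset.mem_filter.2 ⟨Finset.mem_univ _, ⟨g, hg⟩ * k, by
          rw [map_mul, MulAut.mul_apply, hk]⟩
      · obtain ⟨k, hk⟩ := (Finset.mem_filter.1 hy).2
        refine ⟨σ⁻¹ y, Finset.mem_filter.2 ⟨Finset.mem_univ _, (⟨g, hg⟩ : N)⁻¹ * k, ?_⟩,
          σ.apply_symm_apply y⟩
        rw [map_mul, map_inv, MulAut.mul_apply, hk]
    have := hS z
    rwa [hSz] at this
  -- the trace
  let Φ : G ⧸ N → Module.End F V := fun c => Quotient.liftOn' c (fun g => ρ g * f * ρ g⁻¹) (by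
    intro a b hab
    rw [QuotientGroup.leftRel_apply] at hab
    generalize hk : a⁻¹ * b = k at hab
    obtain rfl : b = a * k := by rw [← hk]; group
    rw [map_mul, mul_inv_rev, map_mul, mul_assoc (ρ a) (ρ k), hinv _ hab]
    simp only [← mul_assoc]
    rw [mul_assoc (ρ a * f) (ρ k), ← map_mul, mul_inv_cancel, map_one, mul_one])
  have hΦ : ∀ (h : G) (c : G ⧸ N), ρ h * Φ c * ρ h⁻¹ = Φ (h • c) := by
    intro h c
    induction c using QuotientGroup.induction_on with
    | _ g =>
      show ρ h * (ρ g * f * ρ g⁻¹) * ρ h⁻¹ = ρ (h * g) * f * ρ (h * g)⁻¹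
      rw [map_mul, mul_inv_rev, map_mul]
      simp only [mul_assoc]
  set T := ∑ c, Φ c with hT
  have hTcomm : ∀ h : G, ρ h * T = T * ρ h := by
    intro h
    have h1 : ρ h * T * ρ h⁻¹ = T := by
      rw [hT, Finset.mul_sum, Finset.sum_mul, Finset.sum_congr rfl fun c _ => hΦ h c]
      exact Equiv.sum_comp (MulAction.toPerm h) Φ
    calc ρ h * T = ρ h * T * (ρ h⁻¹ * ρ h) := by rw [← map_mul, inv_mul_cancel, map_one, mul_one]
      _ = ρ h * T * ρ h⁻¹ * ρ h := by rw [← mul_assoc]
      _ = T * ρ h := by rw [h1]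
  have hfree : ∀ c : G ⧸ N, c ≠ (1 : G) → ∀ u : (P : Subgroup G),
      (u : G) • c = c → u = 1 := by
    intro c hc u hu
    induction c using QuotientGroup.induction_on with
    | _ g =>
      have hgN : g ∉ N := fun h => hc (QuotientGroup.eq.2 (by simpa using N.inv_mem h))
      have h1 : g⁻¹ * (u : G) * g ∈ N := by
        have h2 : (((u : G) * g : G) : G ⧸ N) = (g : G ⧸ N) := hu
        rw [QuotientGroup.eq] at h2
        have h3 := N.inv_mem h2
        simpa [mul_assoc] using h3
      have hmem : g⁻¹ * (u : G) * g ∈ (P : Subgroup G) := by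
        obtain ⟨j, hj⟩ := IsPGroup.iff_orderOf.1 P.isPGroup' u
        rw [← orderOf_submonoid u] at hj
        have hz : IsPGroup p (Subgroup.zpowers (g⁻¹ * (u : G) * g)) := by
          refine IsPGroup.of_card (n := j) ?_
          rw [Nat.card_zpowers, ← hj]
          simpa using (MulAut.conj g⁻¹).orderOf_eq (u : G)
        have hsup := hz.to_sup_of_normal_right' P.isPGroup' (Subgroup.zpowers_le.2 h1)
        have heq := P.is_maximal' hsup le_sup_right
        have hm' := (le_sup_left : _ ≤ Subgroup.zpowers (g⁻¹ * (u : G) * g) ⊔ (P : Subgroup G))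
          (Subgroup.mem_zpowers _)
        rwa [heq] at hm'
      have hne : g • P ≠ P := fun h => hgN (Sylow.smul_eq_iff_mem_normalizer.1 h)
      have hmem2 : (u : G) ∈ ((g • P : Sylow p G) : Subgroup G) := by
        rw [Sylow.smul_def]
        exact ⟨g⁻¹ * (u : G) * g, hmem, show g * (g⁻¹ * (u : G) * g) * g⁻¹ = u by group⟩
      have h5 : (u : G) ∈ (P : Subgroup G) ⊓ ((g • P : Sylow p G) : Subgroup G) := ⟨u.2, hmem2⟩
      rw [hTI _ hne, Subgroup.mem_bot] at h5
      exact Subtype.ext h5
  set J := small A (LinearMap.range (A ^ (q - d))) with hJ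
  have hrest : T - f ∈ J := by
    have hf1 : Φ (1 : G) = f := by
      show ρ 1 * f * ρ 1⁻¹ = f
      simp
    have hsplit : T - f = ∑ c ∈ Finset.univ.erase ((1 : G) : G ⧸ N), Φ c := by
      rw [hT, ← Finset.add_sum_erase _ _ (Finset.mem_univ ((1 : G) : G ⧸ N)), hf1,
        add_sub_cancel_left]
    rw [hsplit, ← Finset.sum_fiberwise _ (fun c : G ⧸ N =>
      (Quotient.mk'' c : MulAction.orbitRel.Quotient (P : Subgroup G) (G ⧸ N)))]
    refine Submodule.sum_mem _ fun ω _ => ?_
    rcases Finset.eq_empty_or_nonempty ((Finset.univ.erase ((1 : G) : G ⧸ N)).filter fun c =>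
      (Quotient.mk'' c : MulAction.orbitRel.Quotient (P : Subgroup G) (G ⧸ N)) = ω) with h0 | ⟨c, hc⟩
    · rw [h0, Finset.sum_empty]
      exact Submodule.zero_mem _
    obtain ⟨hc1, hcω⟩ := Finset.mem_filter.1 hc
    have hc1' := Finset.ne_of_mem_erase hc1
    have hsum : ∑ b ∈ (Finset.univ.erase ((1 : G) : G ⧸ N)).filter (fun b =>
        (Quotient.mk'' b : MulAction.orbitRel.Quotient (P : Subgroup G) (G ⧸ N)) = ω), Φ b =
        ∑ i ∈ Finset.range q, X ^ i * Φ c * X' ^ i := by
      symm
      refine Finset.sum_bij (fun i _ => ((x : G) ^ i) • c) (fun i _ => ?_) (fun i hi j hj h => ?_)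
        (fun b hb => ?_) fun i _ => ?_
      · refine Finset.mem_filter.2 ⟨Finset.mem_erase.2 ⟨fun h => ?_, Finset.mem_univ _⟩, ?_⟩
        · refine hc1' ?_
          have hfix : ((x : G) ^ i)⁻¹ • ((1 : G) : G ⧸ N) = ((1 : G) : G ⧸ N) := by
            show ((((x : G) ^ i)⁻¹ * 1 : G) : G ⧸ N) = _
            rw [mul_one, QuotientGroup.eq]
            show _ ∈ Subgroup.normalizer _
            simpa using pow_mem (Subgroup.le_normalizer x.2) i
          rw [← inv_smul_smul ((x : G) ^ i) c, h, hfix]
        · rw [← hcω]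
          refine Quotient.sound' ?_
          exact ⟨x ^ i, by show ((x ^ i : (P : Subgroup G)) : G) • c = _; rw [SubmonoidClass.coe_pow]⟩
      · have h2 : ((x : G) ^ j)⁻¹ • ((x : G) ^ i • c) = c := by
          rw [h, inv_smul_smul]
        rw [← mul_smul] at h2
        have h3 := hfree c hc1' ((x ^ j)⁻¹ * x ^ i) (by simpa using h2)
        rw [inv_mul_eq_one] at h3
        exact pow_injOn_Iio_orderOf (by simpa [hxo] using hi) (by simpa [hxo] using hj) h3.symm
      · obtain ⟨hb1, hbω⟩ := Finset.mem_filter.1 hb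
        have hrel : (Quotient.mk'' b : MulAction.orbitRel.Quotient (P : Subgroup G) (G ⧸ N)) =
            Quotient.mk'' c := hbω.trans hcω.symm
        obtain ⟨u, hu⟩ := Quotient.exact' hrel
        obtain ⟨i, hi⟩ := Submonoid.mem_powers_iff _ _ |>.1
          (mem_powers_iff_mem_zpowers.2 (hx u))
        refine ⟨i % q, Finset.mem_range.2 (Nat.mod_lt _ (pow_pos hp.out.pos n)), ?_⟩
        rw [← SubmonoidClass.coe_pow, ← hxo, pow_mod_orderOf, hi]
        exact hu
      · rw [← hΦ, hXdef, hX'def, ← map_pow, ← map_pow, inv_pow]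
    rw [hsum]
    exact sum_conj_mem n X X' hXX' hX'X hAd (by omega) (Φ c)
  obtain ⟨v₀, hv₀, hv₀0⟩ : ∃ v : V, A v = 0 ∧ v ≠ 0 := by
    have hni : ¬ Function.Injective A := fun h => by
      have h2 : Function.Injective (A ^ d) := by
        rw [Module.End.coe_pow]; exact h.iterate d
      rw [hAd] at h2
      obtain ⟨a, b, hab⟩ := exists_pair_ne V
      exact hab (h2 rfl)
    rw [← LinearMap.ker_eq_bot, Submodule.eq_bot_iff] at hni
    push Not at hni
    obtain ⟨v, hv, hv0⟩ := hni
    exact ⟨v, hv, hv0⟩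
  have hT0 : T = 0 := by
    obtain ⟨-, hsub⟩ := (Char.isIrreducible_iff_submodule ρ).1 hirr
    rcases hsub (LinearMap.ker T) (fun g v hv => by
      rw [LinearMap.mem_ker] at hv ⊢
      rw [← Module.End.mul_apply, ← hTcomm, Module.End.mul_apply, hv, map_zero]) with h | h
    · exfalso
      refine hv₀0 ((Submodule.eq_bot_iff _).1 h v₀ ?_)
      rw [LinearMap.mem_ker, ← sub_add_cancel T f, LinearMap.add_apply, hrest.2 v₀ hv₀,
        hfker v₀ hv₀, add_zero]
    · exact LinearMap.ker_eq_top.1 h
  have hfR : ∀ v, f v ∈ LinearMap.range (A ^ (q - d)) := fun v => by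
    have h := hrest.1 v
    rw [hT0, zero_sub, LinearMap.neg_apply, Submodule.neg_mem_iff] at h
    exact h
  have hstep : ∀ v, (A ^ e) v ∈ LinearMap.range (A ^ (e + 1)) := fun v => by
    rw [hAe, Module.End.mul_apply]
    obtain ⟨w, hw⟩ := hfR ((π W) v)
    refine ⟨(A ^ (q - d - (e + 1))) w, ?_⟩
    rw [← Module.End.mul_apply, ← pow_add, Nat.add_sub_cancel' (by omega), hw]
  have hall : ∀ k v, (A ^ e) v ∈ LinearMap.range (A ^ (e + k)) := by
    intro k
    induction k with
    | zero => exact fun v => ⟨v, rfl⟩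
    | succ k ih =>
      intro v
      obtain ⟨w, hw⟩ := ih v
      obtain ⟨w', hw'⟩ := hstep w
      refine ⟨w', ?_⟩
      rw [← hw, pow_add A e k, ← (Commute.pow_pow_self A k e).eq, Module.End.mul_apply, ← hw',
        ← Module.End.mul_apply, ← pow_add]
      congr 2
      omega
  have hAe0 : A ^ e = 0 := LinearMap.ext fun v => by
    obtain ⟨w, hw⟩ := hall d v
    rw [← hw, pow_add, hAd, mul_zero]
    simp
  have hpn : e ≤ p ^ (n - 1) := hep.trans (by
    have : p ≤ p ^ (n - 1) := Nat.le_self_pow (by omega) p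
    omega)
  have hA0 : A ^ p ^ (n - 1) = 0 := by
    rw [← Nat.add_sub_cancel' hpn, pow_add, hAe0, zero_mul]
  rw [hA, sub_pow_char_pow_of_commute _ _ (Commute.one_right X), one_pow, sub_eq_zero, hXdef,
    ← map_pow, ← map_one ρ] at hA0
  have h1 := orderOf_dvd_of_pow_eq_one (hfaith hA0)
  rw [orderOf_submonoid, hxo, hq, Nat.pow_dvd_pow_iff_le_right hp.out.one_lt] at h1
  omega

end Group

end Cfsg.Lib.Char.CyclicTIDim
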