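import Cfsg.Agent.Lib.Char.SmallEigen
import Cfsg.Agent.Lib.Char.Clifford
import Cfsg.Agent.Lib.Char.Basic
import Cfsg.Agent.Lib.Char.ThreeDegrees
import Cfsg.Agent.Lib.Char.RealOddDegree
import Cfsg.Agent.Lib.PGroup.Basic
import Cfsg.Agent.Lib.Core.Cores

/-!
# Faithful degree below `2p` and a nonabelian Sylow subgroup

A central element of order `p` in the derived subgroup of the Sylow subgroup has two eigenvalues;
after a shift they lie in a short arc, so its conjugates commute (Blichfeldt). The group is then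
monomial over an abelian normal subgroup, with at most `2p - 1` points permuted.
-/

set_option autoImplicit false
set_option linter.unusedSectionVars false
set_option linter.style.haveILetI false

namespace Cfsg.Lib.Char.BelowTwoP

open Cfsg Cfsg.Lib Cfsg.Lib.Char Subgroup
open scoped ComplexConjugate commutatorElement

universe u

attribute [local instance 100] Fintype.ofFinite

variable {G : Type u} [Group G] [Finite G]

theorem sq_not_dvd_factorial {p : ℕ} (hp : p.Prime) : ∀ n : ℕ, n < 2 * p →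
    ¬ p ^ 2 ∣ n.factorial := by
  intro n
  induction n with
  | zero =>
    intro _ h
    rw [Nat.factorial_zero, Nat.dvd_one] at h
    exact (Nat.one_lt_pow two_ne_zero hp.one_lt).ne' h
  | succ m ih =>
    intro hm h
    rw [Nat.factorial_succ] at h
    by_cases hd : p ∣ m + 1
    · obtain ⟨c, hc⟩ := hd
      rcases c with _ | _ | c
      · omega
      · simp only [zero_add, mul_one] at hc
        rw [hc, pow_two] at h
        have h1 := (hp.dvd_factorial).1 (Nat.dvd_of_mul_dvd_mul_left hp.pos h)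
        omega
      · nlinarith
    · exact ih (by omega)
        ((Nat.Coprime.pow_left 2 (hp.coprime_iff_not_dvd.2 hd)).dvd_of_dvd_mul_left h)

/-- Geometric sums of `p`-th roots of unity. -/
theorem sum_pow_eq {p : ℕ} {x : ℂ} (hx : x ^ p = 1) :
    ∑ k ∈ Finset.range p, x ^ k = if x = 1 then (p : ℂ) else 0 := by
  split_ifs with h
  · simp [h]
  · rw [geom_sum_eq h, hx, sub_self, zero_div]

/-- The two eigenvalues. -/
theorem eigen_mem {p n d : ℕ} (hp : p.Prime) (ρ : Representation ℂ G (Fin d → ℂ)) {z : G}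
    (hz : z ^ p = 1) {ω : ℂ} (hω : ω ^ p = 1)
    (hval : ∀ k : ℕ, ρ.character (z ^ k) = ((n - p : ℕ) : ℂ) + (p : ℂ) * ω ^ k)
    {l : ℂ} {v : Fin d → ℂ} (hv : v ≠ 0) (h : ρ z v = l • v) : l = 1 ∨ l = ω := by
  classical
  have hpow : ∀ k : ℕ, ρ (z ^ k) v = l ^ k • v := by
    intro k
    induction k with
    | zero => simp
    | succ k ih => rw [pow_succ', map_mul, Module.End.mul_apply, ih, map_smul, h, smul_smul, pow_succ]
  have hlp : l ^ p = 1 := by
    have h1 := hpow p
    rw [hz, map_one, Module.End.one_apply] at h1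
    by_contra hne
    have h2 : (l ^ p - 1) • v = 0 := by rw [sub_smul, one_smul, ← h1, sub_self]
    exact hv ((smul_eq_zero.1 h2).resolve_left (sub_ne_zero.2 hne))
  have hl0 : l ≠ 0 := fun e => by rw [e, zero_pow hp.ne_zero] at hlp; exact zero_ne_one hlp
  have hp0 : (p : ℂ) ≠ 0 := Nat.cast_ne_zero.2 hp.ne_zero
  by_contra hcon
  push Not at hcon
  let Pr : Module.End ℂ (Fin d → ℂ) :=
    (p : ℂ)⁻¹ • ∑ k ∈ Finset.range p, (l⁻¹) ^ k • ρ (z ^ k)
  have hshift : ∀ k : ℕ, ρ (z ^ k) * Pr = l ^ k • Pr := by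
    have h1 : ρ z * Pr = l • Pr := by
      let f : ℕ → Module.End ℂ (Fin d → ℂ) := fun k => (l⁻¹) ^ k • ρ (z ^ k)
      have hper : ∑ k ∈ Finset.range p, f (k + 1) = ∑ k ∈ Finset.range p, f k := by
        have h2 := (Finset.sum_range_succ f p).symm.trans (Finset.sum_range_succ' f p)
        have h3 : f p = f 0 := by simp only [f, inv_pow, hlp, hz, pow_zero, inv_one]
        rw [h3] at h2
        exact (add_right_cancel h2).symm
      show ρ z * ((p : ℂ)⁻¹ • ∑ k ∈ Finset.range p, f k) =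
        l • ((p : ℂ)⁻¹ • ∑ k ∈ Finset.range p, f k)
      rw [mul_smul_comm, smul_comm l]
      congr 1
      conv_rhs => rw [← hper]
      rw [Finset.mul_sum, Finset.smul_sum]
      refine Finset.sum_congr rfl fun k _ => ?_
      simp only [f]
      rw [mul_smul_comm, ← map_mul, ← pow_succ', smul_smul, pow_succ' l⁻¹, ← mul_assoc,
        mul_inv_cancel₀ hl0, one_mul]
    intro k
    induction k with
    | zero => simp
    | succ k ih => rw [pow_succ', map_mul, mul_assoc, ih, mul_smul_comm, h1, smul_smul, pow_succ]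
  have hidem : Pr * Pr = Pr := by
    conv_lhs => arg 1; simp only [Pr]
    rw [smul_mul_assoc, Finset.sum_mul]
    simp only [smul_mul_assoc, hshift, smul_smul, ← mul_pow, inv_mul_cancel₀ hl0, one_pow, one_smul,
      Finset.sum_const, Finset.card_range]
    rw [← Nat.cast_smul_eq_nsmul ℂ, smul_smul, inv_mul_cancel₀ hp0, one_smul]
  have hfix : Pr v = v := by
    simp only [Pr, LinearMap.smul_apply, LinearMap.coe_sum, Finset.sum_apply, hpow, smul_smul,
      ← mul_pow, inv_mul_cancel₀ hl0, one_pow, one_smul, Finset.sum_const, Finset.card_range]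
    rw [← Nat.cast_smul_eq_nsmul ℂ, smul_smul, inv_mul_cancel₀ hp0, one_smul]
  have htr : LinearMap.trace ℂ _ Pr = 0 := by
    simp only [Pr, map_smul, map_sum, smul_eq_mul]
    change (p : ℂ)⁻¹ * ∑ k ∈ Finset.range p, (l⁻¹) ^ k * ρ.character (z ^ k) = 0
    simp only [hval, mul_add, Finset.sum_add_distrib, mul_left_comm _ (p : ℂ), ← mul_pow,
      ← Finset.sum_mul, ← Finset.mul_sum]
    rw [sum_pow_eq (by rw [inv_pow, hlp, inv_one]),
      sum_pow_eq (by rw [mul_pow, inv_pow, hlp, hω, inv_one, one_mul]),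
      if_neg (fun e => hcon.1 (inv_eq_one.1 e)),
      if_neg (fun e => hcon.2 ((inv_mul_eq_one₀ hl0).1 e))]
    simp
  have hproj : LinearMap.IsProj (LinearMap.range Pr) Pr :=
    ⟨fun x => LinearMap.mem_range_self Pr x, fun x hx => by
      obtain ⟨y, rfl⟩ := hx
      exact LinearMap.congr_fun hidem y⟩
  rw [hproj.trace] at htr
  have h0 : Module.finrank ℂ (LinearMap.range Pr) = 0 := by exact_mod_cast htr
  have hmem : v ∈ LinearMap.range Pr := ⟨v, hfix⟩
  rw [Submodule.finrank_eq_zero.1 h0] at hmem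
  exact hv hmem

/-- The central element with two eigenvalues. -/
theorem exists_element {p n : ℕ} (hp : p.Prime) (χ : IrrCharacter G)
    (hfaith : ∀ g : G, (χ : G → ℂ) g = (χ : G → ℂ) 1 → g = 1)
    (hn : charDegree (χ : G → ℂ) = n) (hn2 : n < 2 * p) (P : Sylow p G)
    (hP : ∃ x ∈ (P : Subgroup G), ∃ y ∈ (P : Subgroup G), x * y ≠ y * x) :
    p ≤ n ∧ ∃ z : G, z ^ p = 1 ∧ ∀ k : ℕ, (χ : G → ℂ) (z ^ k) =
      ((n - p : ℕ) : ℂ) + (p : ℂ) * Complex.exp (2 * Real.pi * Complex.I / p) ^ k := by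
  classical
  haveI : Fact p.Prime := ⟨hp⟩
  set S : Subgroup G := (P : Subgroup G)
  have hres : IsCharacter S (fun s : S => (χ : G → ℂ) s) := χ.2.isCharacter.comp S.subtype
  choose m hm using fun φ : IrrCharacter S => hres.exists_nat_classInner φ.2.isCharacter
  have hdeg : ∑ φ : IrrCharacter S, m φ * charDegree (φ : S → ℂ) = n := by
    have h := RealOdd.sum_mult_degree hres (d := n) (by
      show (χ : G → ℂ) ((1 : S) : G) = _
      rw [OneMemClass.coe_one, RealOdd.degree_eq, hn]) m (fun φ => by convert hm φ)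
    exact h
  have hsum : ∀ s : S, (χ : G → ℂ) s = ∑ φ : IrrCharacter S, (m φ : ℂ) * (φ : S → ℂ) s := by
    intro s
    have h := congrFun (eq_sum_classInner hres.isClassFunction) s
    rw [Finset.sum_apply] at h
    rw [h]
    exact Finset.sum_congr rfl fun φ _ => by rw [Pi.smul_apply, smul_eq_mul, hm]
  have hlin : ∀ φ : IrrCharacter S, charDegree (φ : S → ℂ) = 1 → ∀ c ∈ commutator S,
      (φ : S → ℂ) c = 1 := by
    intro φ h c hc
    obtain ⟨f, hf⟩ := exists_hom_of_degree_one φ.2.isCharacter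
      (by rw [RealOdd.degree_eq, h, Nat.cast_one])
    rw [hf]
    show (f c : ℂ) = 1
    have hker : f c = 1 := Abelianization.commutator_subset_ker f hc
    rw [hker, Units.val_one]
  have hne : commutator S ≠ ⊥ := by
    intro h
    obtain ⟨x, hx, y, hy, hxy⟩ := hP
    refine hxy ?_
    have h1 : ⁅(⟨x, hx⟩ : S), (⟨y, hy⟩ : S)⁆ ∈ commutator S :=
      commutator_mem_commutator (mem_top _) (mem_top _)
    rw [h, mem_bot, commutatorElement_eq_one_iff_mul_comm] at h1
    exact congrArg Subtype.val h1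
  obtain ⟨c₀, hc₀, hc₀1⟩ := (bot_or_exists_ne_one (commutator S)).resolve_left hne
  obtain ⟨φ₀, hm₀, hd₀⟩ : ∃ φ : IrrCharacter S, m φ ≠ 0 ∧ charDegree (φ : S → ℂ) ≠ 1 := by
    by_contra hcon
    push Not at hcon
    refine hc₀1 (Subtype.ext (hfaith c₀ ?_))
    rw [hsum, RealOdd.degree_eq, hn, ← hdeg, Nat.cast_sum]
    refine Finset.sum_congr rfl fun φ _ => ?_
    by_cases h0 : m φ = 0
    · simp [h0]
    · rw [hlin φ (hcon φ h0) c₀ hc₀, hcon φ h0, mul_one, mul_one]
  obtain ⟨e, he⟩ := IsPGroup.iff_card.1 P.2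
  have hpdeg : ∀ φ : IrrCharacter S, charDegree (φ : S → ℂ) ≠ 1 → p ∣ charDegree (φ : S → ℂ) := by
    intro φ h
    have hd := degree_dvd_card φ.2 (RealOdd.degree_eq φ)
    rw [he] at hd
    obtain ⟨j, -, hj⟩ := (Nat.dvd_prime_pow hp).1 hd
    rcases Nat.eq_zero_or_pos j with rfl | hj0
    · exact absurd (by rw [hj, pow_zero]) h
    · rw [hj]; exact dvd_pow_self p hj0.ne'
  have hpos₀ : 0 < charDegree (φ₀ : S → ℂ) := Block.charDegree_pos φ₀
  have hle₀ : m φ₀ * charDegree (φ₀ : S → ℂ) ≤ n := hdeg ▸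
    Finset.single_le_sum (fun φ _ => Nat.zero_le (m φ * charDegree (φ : S → ℂ))) (Finset.mem_univ φ₀)
  have hd₀p : charDegree (φ₀ : S → ℂ) = p := by
    obtain ⟨c, hc⟩ := hpdeg φ₀ hd₀
    rcases c with _ | _ | c
    · omega
    · rw [hc, zero_add, mul_one]
    · exfalso
      have h1 : 1 ≤ m φ₀ := Nat.pos_of_ne_zero hm₀
      have : 2 * p ≤ m φ₀ * charDegree (φ₀ : S → ℂ) := by rw [hc]; nlinarith
      omega
  have hm1 : m φ₀ = 1 := by
    rw [hd₀p] at hle₀
    by_contra h
    have : 2 ≤ m φ₀ := by omega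
    nlinarith
  have hrest : ∀ φ : IrrCharacter S, φ ≠ φ₀ → m φ ≠ 0 → charDegree (φ : S → ℂ) = 1 := by
    intro φ hφ h0
    by_contra h1
    have h2 : m φ * charDegree (φ : S → ℂ) + m φ₀ * charDegree (φ₀ : S → ℂ) ≤ n := by
      rw [← hdeg]
      exact Finset.add_le_sum (fun φ _ => Nat.zero_le (m φ * charDegree (φ : S → ℂ)))
        (Finset.mem_univ φ) (Finset.mem_univ φ₀) hφ
    have h3 : p ≤ m φ * charDegree (φ : S → ℂ) :=
      Nat.le_of_dvd (Nat.mul_pos (Nat.pos_of_ne_zero h0) (Block.charDegree_pos φ))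
        ((hpdeg φ h1).mul_left _)
    rw [hm1, hd₀p] at h2
    omega
  have hple : p ≤ n := by rw [hm1, hd₀p, one_mul] at hle₀; exact hle₀
  have hval : ∀ c ∈ commutator S, (χ : G → ℂ) c = (φ₀ : S → ℂ) c + ((n - p : ℕ) : ℂ) := by
    intro c hc
    rw [hsum, ← Finset.add_sum_erase _ _ (Finset.mem_univ φ₀), hm1, Nat.cast_one, one_mul]
    congr 1
    have h : ∑ φ ∈ Finset.univ.erase φ₀, m φ * charDegree (φ : S → ℂ) = n - p := by
      have := Finset.add_sum_erase _ (fun φ => m φ * charDegree (φ : S → ℂ)) (Finset.mem_univ φ₀)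
      rw [hdeg, hm1, hd₀p, one_mul] at this
      omega
    rw [← h, Nat.cast_sum]
    refine Finset.sum_congr rfl fun φ hφ => ?_
    by_cases h0 : m φ = 0
    · simp [h0]
    · rw [hlin φ (hrest φ (Finset.ne_of_mem_erase hφ) h0) c hc,
        hrest φ (Finset.ne_of_mem_erase hφ) h0, mul_one, mul_one]
  refine ⟨hple, ?_⟩
  -- a central element of order `p`
  obtain ⟨z₁, hz₁, hz₁1⟩ := (bot_or_exists_ne_one _).resolve_left
    (Cfsg.Lib.PGroup.inf_center_ne_bot (N := commutator S) P.2 hne)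
  obtain ⟨a, ha⟩ := IsPGroup.iff_orderOf.1 P.2 z₁
  have ha0 : a ≠ 0 := fun h => hz₁1 (orderOf_eq_one_iff.1 (by rw [ha, h, pow_zero]))
  set z₀ := z₁ ^ p ^ (a - 1) with hz₀def
  have hz₀ : z₀ ∈ commutator S ⊓ center S := pow_mem hz₁ _
  have hz₀o : orderOf z₀ = p := by
    rw [hz₀def, orderOf_pow_of_dvd (pow_ne_zero _ hp.ne_zero)
      (by rw [ha]; exact pow_dvd_pow p (Nat.sub_le _ _)), ha, Nat.pow_div (Nat.sub_le _ _) hp.pos,
      Nat.sub_sub_self (Nat.one_le_iff_ne_zero.2 ha0), pow_one]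
  -- its value on the nonlinear constituent
  set Z : Subgroup S := zpowers z₀
  haveI : Z.Normal := ⟨fun a ha g => by
    have hc : a ∈ center S := zpowers_le.2 hz₀.2 ha
    rw [mem_center_iff.1 hc g, mul_inv_cancel_right]; exact ha⟩
  obtain ⟨θ, hθ⟩ := exists_irr_constituent_res Z φ₀.2
  have hinv : ∀ g, conjTwist Z (θ : Z → ℂ) g = θ := fun g => funext fun x => by
    rw [conjTwist_apply]
    refine congrArg θ.1 (Subtype.ext ?_)
    show g * (x : S) * g⁻¹ = x
    rw [mem_center_iff.1 (zpowers_le.2 hz₀.2 x.2) g, mul_inv_cancel_right]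
  have hcl := clifford_invariant Z φ₀.2 θ.2 hinv hθ
  obtain ⟨f, hf⟩ : ∃ f : Z →* ℂˣ, (θ : Z → ℂ) = fun x => (f x : ℂ) :=
    exists_hom_of_degree_one θ.2.isCharacter (degree_eq_one_of_comm
      (fun a b => mul_comm' a b) θ.2)
  set ez := classInner (fun x : Z => (φ₀ : S → ℂ) x) (θ : Z → ℂ) with hez
  have hez' : ez = p := by
    have h := congrFun hcl 1
    simp only [Pi.smul_apply, hf, map_one, Units.val_one, smul_eq_mul, mul_one,
      OneMemClass.coe_one] at h
    rw [RealOdd.degree_eq, hd₀p] at h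
    exact h.symm
  set c : ℂ := (f ⟨z₀, mem_zpowers z₀⟩ : ℂ)
  have hφval : ∀ k : ℕ, (φ₀ : S → ℂ) (z₀ ^ k) = (p : ℂ) * c ^ k := fun k => by
    have h := congrFun hcl ((⟨z₀, mem_zpowers z₀⟩ : Z) ^ k)
    simp only [Pi.smul_apply, hf, map_pow, Units.val_pow_eq_pow_val, smul_eq_mul,
      SubgroupClass.coe_pow] at h
    rw [h, hez']
  have hz₀p : z₀ ^ p = 1 := by
    have := pow_orderOf_eq_one z₀
    rwa [hz₀o] at this
  have hcp : c ^ p = 1 := by
    rw [← Units.val_pow_eq_pow_val, ← map_pow,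
      show (⟨z₀, mem_zpowers z₀⟩ : Z) ^ p = 1 from Subtype.ext hz₀p, map_one, Units.val_one]
  have hc1 : c ≠ 1 := by
    intro h
    have h1 : (z₀ : G) = 1 := hfaith _ (by
      rw [hval z₀ hz₀.1, RealOdd.degree_eq, hn, ← pow_one z₀, hφval, h, one_pow, mul_one,
        ← Nat.cast_add, Nat.add_sub_cancel' hple])
    exact hp.ne_one (hz₀o ▸ orderOf_eq_one_iff.2 (Subtype.ext h1))
  have hprim : IsPrimitiveRoot c p := IsPrimitiveRoot.iff_orderOf.2
    ((Nat.dvd_prime hp).1 (orderOf_dvd_of_pow_eq_one hcp) |>.resolve_left fun h =>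
      hc1 (orderOf_eq_one_iff.1 h))
  obtain ⟨j, -, hj⟩ := hprim.eq_pow_of_pow_eq_one
    (Complex.isPrimitiveRoot_exp p hp.ne_zero).pow_eq_one
  refine ⟨((z₀ ^ j : S) : G), ?_, fun k => ?_⟩
  · rw [← SubgroupClass.coe_pow, ← pow_mul, mul_comm, pow_mul, hz₀p, one_pow, OneMemClass.coe_one]
  · rw [← SubgroupClass.coe_pow, ← pow_mul, hval _ (pow_mem hz₀.1 _), hφval, pow_mul, hj, add_comm]

/-- Shifted by a root of unity the element has short arc, so its conjugates commute. -/
theorem commute_conj {p n d : ℕ} (hp : p.Prime) (h7 : 7 ≤ p) (hd : 0 < d)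
    (ρ : Representation ℂ G (Fin d → ℂ)) (hfaith : ∀ g, ρ g = 1 → g = 1) {z : G} (hz : z ^ p = 1)
    (hval : ∀ k : ℕ, ρ.character (z ^ k) =
      ((n - p : ℕ) : ℂ) + (p : ℂ) * Complex.exp (2 * Real.pi * Complex.I / p) ^ k) (x y : G) :
    (x * z * x⁻¹) * (y * z * y⁻¹) = (y * z * y⁻¹) * (x * z * x⁻¹) := by
  classical
  haveI : NeZero d := ⟨hd.ne'⟩
  haveI : NeZero (2 * p) := ⟨by have := hp.pos; omega⟩
  set α : ℝ := Real.pi / p with hα
  set β : ℂ := Complex.exp (((-α : ℝ) : ℂ) * Complex.I) with hβ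
  have hpR : (p : ℝ) ≠ 0 := Nat.cast_ne_zero.2 hp.ne_zero
  have hβpow : β ^ (2 * p) = 1 := by
    rw [hβ, ← Complex.exp_nat_mul]
    have : ((2 * p : ℕ) : ℂ) * (((-α : ℝ) : ℂ) * Complex.I) = -(2 * Real.pi * Complex.I) := by
      have hpC : (p : ℂ) ≠ 0 := Nat.cast_ne_zero.2 hp.ne_zero
      rw [hα]; push_cast; field_simp
    rw [this, Complex.exp_neg, Complex.exp_two_pi_mul_I, inv_one]
  have hβu : IsUnit β := IsUnit.mk0 β (Complex.exp_ne_zero _)
  let ρ' : Representation ℂ (G × rootsOfUnity (2 * p) ℂ) (Fin d → ℂ) :=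
    { toFun := fun a => (((a.2 : ℂˣ) : ℂ)) • ρ a.1
      map_one' := by simp
      map_mul' := fun a b => by
        simp only [Prod.fst_mul, Prod.snd_mul, map_mul, Subgroup.coe_mul, Units.val_mul,
          smul_mul_smul_comm] }
  let φ := ρ'.asGroupHom
  let H := φ.range
  haveI : Finite (rootsOfUnity (2 * p) ℂ) := inferInstance
  haveI : Finite H := Finite.of_surjective φ.rangeRestrict φ.rangeRestrict_surjective
  let ρH : Representation ℂ H (Fin d → ℂ) :=
    (Units.coeHom (Module.End ℂ (Fin d → ℂ))).comp H.subtype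
  have hfH : ∀ h, ρH h = 1 → h = 1 := fun h e => Subtype.ext (Units.ext e)
  let b : rootsOfUnity (2 * p) ℂ := rootsOfUnity.mkOfPowEq β hβpow
  let z' : H := φ.rangeRestrict (z, b)
  have hz'v : ∀ v, ρH z' v = β • ρ z v := fun v => rfl
  have harc : z' ∈ shortArc ρH := by
    letI : CommGroup (zpowers z') := IsCyclic.commGroup
    obtain ⟨ι, _, μ, Pr, hsum, hact, horth, hne, -⟩ :=
      exists_weight_decomp ρH (zpowers z').subtype
    refine mem_shortArc_of_weights ρH (fun i => (μ i ⟨z', mem_zpowers z'⟩ : ℂ)) Pr hsum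
      (fun i v => hact i ⟨z', mem_zpowers z'⟩ v) horth fun i => ?_
    obtain ⟨v, hv⟩ := hne i
    have h1 : β • ρ z (Pr i v) = (μ i ⟨z', mem_zpowers z'⟩ : ℂ) • Pr i v :=
      (hz'v _).symm.trans (hact i ⟨z', mem_zpowers z'⟩ v)
    have h2 : ρ z (Pr i v) = (β⁻¹ * (μ i ⟨z', mem_zpowers z'⟩ : ℂ)) • Pr i v := by
      rw [mul_smul, ← h1, smul_smul, inv_mul_cancel₀ hβu.ne_zero, one_smul]
    have habs : ∀ t : ℝ, |t| = α →
        ‖Complex.exp ((t : ℂ) * Complex.I) - ((Real.sqrt 3 / 2 : ℝ) : ℂ)‖ < 1 / 2 := by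
      intro t ht
      have h := norm_sub_sqrt_three_lt (α := t) (β := 0) (by
        rw [sub_zero, ht, hα]
        have : (7 : ℝ) ≤ p := by exact_mod_cast h7
        rw [div_lt_div_iff₀ (by linarith) (by norm_num)]
        nlinarith [Real.pi_pos])
      rwa [sub_zero] at h
    have hαpos : 0 ≤ α := by rw [hα]; positivity
    rcases eigen_mem hp ρ hz (Complex.isPrimitiveRoot_exp p hp.ne_zero).pow_eq_one hval hv h2
      with h3 | h3
    · rw [inv_mul_eq_one₀ hβu.ne_zero] at h3
      rw [← h3, hβ]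
      exact habs _ (by rw [abs_neg, abs_of_nonneg hαpos])
    · rw [inv_mul_eq_iff_eq_mul₀ hβu.ne_zero] at h3
      rw [h3, hβ, ← Complex.exp_add]
      have : ((-α : ℝ) : ℂ) * Complex.I + 2 * Real.pi * Complex.I / p = (α : ℂ) * Complex.I := by
        rw [hα]; push_cast; ring
      rw [this]
      exact habs _ (abs_of_nonneg hαpos)
  let ι₁ : G →* H := φ.rangeRestrict.comp (MonoidHom.inl G _)
  have hconj : ∀ g, ι₁ g * z' * (ι₁ g)⁻¹ ∈ shortArc ρH := fun g => conj_mem_shortArc ρH harc _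
  have hcomm := commute_of_shortArc hfH (hconj x) (hconj y)
  have hval' : ∀ g v, ρH (ι₁ g * z' * (ι₁ g)⁻¹) v = β • ρ (g * z * g⁻¹) v := by
    intro g v
    have e : ι₁ g * z' * (ι₁ g)⁻¹ = φ.rangeRestrict (g * z * g⁻¹, b) := by
      show φ.rangeRestrict (g, 1) * φ.rangeRestrict (z, b) * (φ.rangeRestrict (g, 1))⁻¹ = _
      rw [← map_inv, ← map_mul, ← map_mul]
      congr 1
      simp
    rw [e]
    rfl
  refine eq_of_apply_eq hfaith (LinearMap.ext fun v => ?_)
  have h := LinearMap.congr_fun (congrArg ρH hcomm.eq) v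
  rw [map_mul ρH (ι₁ x * z' * (ι₁ x)⁻¹) (ι₁ y * z' * (ι₁ y)⁻¹),
    map_mul ρH (ι₁ y * z' * (ι₁ y)⁻¹) (ι₁ x * z' * (ι₁ x)⁻¹)] at h
  simp only [Module.End.mul_apply, hval', map_smul, smul_smul] at h
  have hinj := smul_right_injective (Fin d → ℂ) (mul_ne_zero hβu.ne_zero hβu.ne_zero) h
  simpa only [map_mul, Module.End.mul_apply] using hinj

/-- Degree below `2p`: the index of `O_p` has `p`-part at most `p`. -/
theorem sq_not_dvd_index {p n : ℕ} (hp : p.Prime) (h7 : 7 ≤ p) (χ : IrrCharacter G)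
    (hfaith : ∀ g : G, (χ : G → ℂ) g = (χ : G → ℂ) 1 → g = 1)
    (hn : charDegree (χ : G → ℂ) = n) (hn2 : n < 2 * p) (hnp : n ≠ p) (P : Sylow p G)
    (hP : ∃ x ∈ (P : Subgroup G), ∃ y ∈ (P : Subgroup G), x * y ≠ y * x) :
    ¬ p ^ 2 ∣ (pCore p G).index := by
  classical
  haveI : Fact p.Prime := ⟨hp⟩
  obtain ⟨hple, z, hz, hval⟩ := exists_element hp χ hfaith hn hn2 P hP
  set ω := Complex.exp (2 * Real.pi * Complex.I / p)
  have hω : IsPrimitiveRoot ω p := Complex.isPrimitiveRoot_exp p hp.ne_zero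
  obtain ⟨d, ρ, hρi, hρ⟩ := χ.2
  have hdn : d = n := by
    have h1 := RealOdd.degree_eq χ
    rw [hn, ← hρ, Representation.char_one, Module.finrank_fin_fun] at h1
    exact_mod_cast h1
  have hker : ∀ g, ρ g = 1 → g = 1 := fun g h => hfaith g (by
    rw [← hρ]
    show LinearMap.trace ℂ _ (ρ g) = LinearMap.trace ℂ _ (ρ 1)
    exact congrArg _ (h.trans (map_one ρ).symm))
  have hcomm := commute_conj hp h7 (d := d) (by have := hp.pos; omega) ρ hker hz
    (n := n) (fun k => by rw [hρ]; exact hval k)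
  set C : Set G := Set.range fun g => g * z * g⁻¹
  set E := closure C
  haveI hEn : E.Normal := by
    refine ⟨fun a ha g => ?_⟩
    have h1 : E.map (MulAut.conj g).toMonoidHom ≤ E := by
      rw [MonoidHom.map_closure]
      refine closure_mono ?_
      rintro _ ⟨_, ⟨h, rfl⟩, rfl⟩
      exact ⟨g * h, by simp [mul_assoc]⟩
    exact h1 ⟨a, ha, rfl⟩
  haveI hEc : IsMulCommutative E := isMulCommutative_closure (by
    rintro _ ⟨a, rfl⟩ _ ⟨b, rfl⟩; exact hcomm a b)
  have hzE : z ∈ E := subset_closure ⟨1, by simp⟩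
  have hlinE : ∀ θ : IrrCharacter E, ∃ f : E →* ℂˣ, (θ : E → ℂ) = fun x => (f x : ℂ) := fun θ =>
    exists_hom_of_degree_one θ.2.isCharacter (degree_eq_one_of_comm (fun a b => mul_comm' a b) θ.2)
  -- the multiplicity is one
  have hmult : ∀ θ : IrrCharacter E, classInner (fun x : E => (χ : G → ℂ) x) (θ : E → ℂ) ≠ 0 →
      classInner (fun x : E => (χ : G → ℂ) x) (θ : E → ℂ) = 1 ∧
        (twistOrbit E (θ : E → ℂ)).card = n := by
    intro θ hθ
    obtain ⟨e, he⟩ := (χ.2.isCharacter.comp E.subtype).exists_nat_classInner θ.2.isCharacter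
    have he' : classInner (fun x : E => (χ : G → ℂ) x) (θ : E → ℂ) = e := he
    have hcl := clifford_res E χ.2 θ.2 hθ
    rw [he'] at hcl
    have hroot : ∀ ψ ∈ twistOrbit E (θ : E → ℂ), ∃ f : E →* ℂˣ, ψ = fun x => (f x : ℂ) :=
      fun ψ hψ => hlinE ⟨ψ, isIrrCharacter_of_mem_twistOrbit E θ.2 hψ⟩
    have hone : (e : ℕ) * (twistOrbit E (θ : E → ℂ)).card = n := by
      have h := congrFun hcl 1
      simp only [Pi.smul_apply, Finset.sum_apply, smul_eq_mul, OneMemClass.coe_one] at h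
      rw [RealOdd.degree_eq, hn, Finset.sum_congr rfl (g := fun _ => (1 : ℂ)) fun ψ hψ => ?_,
        Finset.sum_const, nsmul_eq_mul, mul_one] at h
      · exact_mod_cast h.symm
      · obtain ⟨f, rfl⟩ := hroot ψ hψ
        simp
    set zE : E := ⟨z, hzE⟩
    have hzEp : zE ^ p = 1 := Subtype.ext hz
    have hω0 : ω ≠ 0 := hω.ne_zero hp.ne_zero
    have hkey : (p : ℂ) * p = (p : ℂ) *
        ((e : ℂ) * (((twistOrbit E (θ : E → ℂ)).filter fun ψ => ψ zE = ω).card : ℂ)) := by
      have hsum : ∑ k ∈ Finset.range p, (ω⁻¹) ^ k * (χ : G → ℂ) (z ^ k) = (p : ℂ) * p := by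
        simp only [hval, mul_add, Finset.sum_add_distrib, mul_left_comm _ (p : ℂ), ← mul_pow,
          ← Finset.sum_mul, ← Finset.mul_sum, inv_mul_cancel₀ hω0, one_pow, Finset.sum_const,
          Finset.card_range, nsmul_eq_mul, mul_one]
        rw [sum_pow_eq (by rw [inv_pow, hω.pow_eq_one, inv_one]),
          if_neg (fun h => hω.ne_one hp.one_lt (inv_eq_one.1 h))]
        simp
      rw [← hsum]
      have hval2 : ∀ k : ℕ, (χ : G → ℂ) (z ^ k) =
          (e : ℂ) * ∑ ψ ∈ twistOrbit E (θ : E → ℂ), (ψ zE) ^ k := by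
        intro k
        have h := congrFun hcl (zE ^ k)
        simp only [Pi.smul_apply, Finset.sum_apply, smul_eq_mul, SubgroupClass.coe_pow] at h
        rw [h]
        refine congrArg _ (Finset.sum_congr rfl fun ψ hψ => ?_)
        obtain ⟨f, rfl⟩ := hroot ψ hψ
        simp [map_pow]
      simp only [hval2, Finset.mul_sum]
      rw [Finset.sum_comm, Finset.card_filter, Nat.cast_sum, Finset.mul_sum, Finset.mul_sum]
      refine Finset.sum_congr rfl fun ψ hψ => ?_
      obtain ⟨f, rfl⟩ := hroot ψ hψ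
      simp only [mul_left_comm _ (e : ℂ), ← mul_pow, ← Finset.mul_sum]
      rw [sum_pow_eq (by
        rw [mul_pow, inv_pow, hω.pow_eq_one, inv_one, one_mul, ← Units.val_pow_eq_pow_val,
          ← map_pow, hzEp, map_one, Units.val_one])]
      by_cases hh : (f zE : ℂ) = ω
      · rw [if_pos hh, if_pos (by rw [hh, inv_mul_cancel₀ hω0])]; push_cast; ring
      · rw [if_neg hh, if_neg (fun h => hh ((inv_mul_eq_one₀ hω0).1 h).symm)]; simp
    have hkey' : p = e * ((twistOrbit E (θ : E → ℂ)).filter fun ψ => ψ zE = ω).card := by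
      exact_mod_cast mul_left_cancel₀ (Nat.cast_ne_zero.2 hp.ne_zero) hkey
    rcases (Nat.dvd_prime hp).1 (Dvd.intro _ hkey'.symm) with h1 | h1
    · rw [he', h1, Nat.cast_one]
      rw [h1, one_mul] at hone
      exact ⟨rfl, hone⟩
    · exfalso
      rw [h1] at hone
      rcases ht : (twistOrbit E (θ : E → ℂ)).card with _ | _ | t
      · rw [ht, mul_zero] at hone; have := hp.pos; omega
      · rw [ht, zero_add, mul_one] at hone; exact hnp hone.symm
      · rw [ht] at hone; nlinarith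
  obtain ⟨l, hl⟩ := exists_irr_constituent_res E χ.2
  set O := twistOrbit E (l : E → ℂ)
  letI act : MulAction G O :=
    { smul := fun g φ => ⟨conjTwist E φ.1 g⁻¹, by
        obtain ⟨a, ha⟩ := (mem_twistOrbit E).1 φ.2
        refine (mem_twistOrbit E).2 ⟨a * g⁻¹, ?_⟩
        rw [← ha, conjTwist_conjTwist]⟩
      one_smul := fun φ => Subtype.ext (by
        show conjTwist E φ.1 1⁻¹ = φ.1
        rw [inv_one, conjTwist_one])
      mul_smul := fun a b φ => Subtype.ext (by
        show conjTwist E φ.1 (a * b)⁻¹ = conjTwist E (conjTwist E φ.1 b⁻¹) a⁻¹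
        rw [conjTwist_conjTwist, mul_inv_rev]) }
  set ψp := MulAction.toPermHom G O
  set A := ψp.ker
  have hAidx : A.index ∣ n.factorial := by
    rw [index_ker, ← (hmult l hl).2]
    have h := Subgroup.card_subgroup_dvd_card ψp.range
    rw [Nat.card_perm, Nat.card_eq_fintype_card (α := O), Fintype.card_coe] at h
    exact h
  have hEA : E ≤ A := fun a ha => MonoidHom.mem_ker.2 (Equiv.ext fun φ => Subtype.ext (by
    show conjTwist E φ.1 a⁻¹ = φ.1
    obtain ⟨f, hf⟩ := hlinE ⟨φ.1, isIrrCharacter_of_mem_twistOrbit E l.2 φ.2⟩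
    simp only at hf
    rw [hf]
    funext x
    rw [conjTwist_apply]
    show (f (MulAut.conjNormal a⁻¹ x) : ℂ) = _
    rw [show (MulAut.conjNormal a⁻¹ x : E) = ⟨a, ha⟩⁻¹ * x * ⟨a, ha⟩ from
      Subtype.ext (by simp [mul_assoc]), map_mul, map_mul, map_inv,
      mul_comm (f ⟨a, ha⟩)⁻¹, inv_mul_cancel_right]))
  -- `A` is abelian
  have hAc : ∀ a ∈ A, ∀ b ∈ A, a * b = b * a := by
    set E' := E.subgroupOf A
    let ε : E' ≃* E := subgroupOfEquivOfLe hEA
    have hresA : IsCharacter A (fun a : A => (χ : G → ℂ) a) := χ.2.isCharacter.comp A.subtype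
    choose m hm using fun θ : IrrCharacter A => hresA.exists_nat_classInner θ.2.isCharacter
    have hlinA : ∀ θ : IrrCharacter A, m θ ≠ 0 → charDegree (θ : A → ℂ) = 1 := by
      intro θ h0
      obtain ⟨η, hη⟩ := exists_irr_constituent_res E' θ.2
      set η₀ : E → ℂ := fun x => (η : E' → ℂ) (ε.symm x)
      have hη₀ : IsIrrCharacter E η₀ := isIrrCharacter_comp_equiv ε.symm η.2
      have hη₀e : (η : E' → ℂ) = fun x => η₀ (ε x) := funext fun x => by simp [η₀]
      have hX : classInner (fun x : E => (χ : G → ℂ) x) η₀ =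
          ∑ θ' : IrrCharacter A, (m θ' : ℂ) *
            classInner (fun x : E' => (θ' : A → ℂ) x) (η : E' → ℂ) := by
        rw [← classInner_comp_equiv ε, ← hη₀e]
        have h := eq_sum_classInner hresA.isClassFunction
        have h' : (fun x : E' => (fun x : E => (χ : G → ℂ) x) (ε x)) =
            ∑ θ' : IrrCharacter A, (m θ' : ℂ) • fun x : E' => (θ' : A → ℂ) x := by
          funext x
          have h1 := congrFun h (x : A)
          rw [Finset.sum_apply] at h1 ⊢
          show (χ : G → ℂ) ((x : A) : G) = _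
          rw [h1]
          exact Finset.sum_congr rfl fun θ' _ => by simp [hm]
        rw [h', classInner_sum_left]
        exact Finset.sum_congr rfl fun θ' _ => classInner_smul_left _ _ _
      choose k hk using fun θ' : IrrCharacter A =>
        (θ'.2.isCharacter.comp E'.subtype).exists_nat_classInner η.2.isCharacter
      have hk' : ∀ θ' : IrrCharacter A,
          classInner (fun x : E' => (θ' : A → ℂ) x) (η : E' → ℂ) = k θ' := hk
      have hkne : k θ ≠ 0 := fun h => hη (by rw [hk', h, Nat.cast_zero])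
      have hX' : classInner (fun x : E => (χ : G → ℂ) x) η₀ =
          ((∑ θ' : IrrCharacter A, m θ' * k θ' : ℕ) : ℂ) := by
        rw [hX, Nat.cast_sum]
        exact Finset.sum_congr rfl fun θ' _ => by rw [hk', Nat.cast_mul]
      have hsle : m θ * k θ ≤ ∑ θ' : IrrCharacter A, m θ' * k θ' :=
        Finset.single_le_sum (fun θ' _ => Nat.zero_le (m θ' * k θ')) (Finset.mem_univ θ)
      have hne : classInner (fun x : E => (χ : G → ℂ) x) η₀ ≠ 0 := by
        rw [hX', Nat.cast_ne_zero]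
        have := Nat.mul_ne_zero h0 hkne
        omega
      have h1 := (hmult ⟨η₀, hη₀⟩ hne).1
      rw [hX', Nat.cast_eq_one] at h1
      have hk1 : k θ = 1 := by
        have := Nat.mul_ne_zero h0 hkne
        have h2 : m θ * k θ = 1 := by omega
        exact Nat.eq_one_of_mul_eq_one_left h2
      have hinv : ∀ a : A, conjTwist E' (η : E' → ℂ) a = η := by
        intro a
        have hmem : η₀ ∈ O := mem_twistOrbit_of_constituent E χ.2 l.2 hη₀ hl hne
        have h2 : ψp (a : G)⁻¹ = 1 := MonoidHom.mem_ker.1 (inv_mem a.2)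
        have h3 : conjTwist E η₀ (a : G)⁻¹⁻¹ = η₀ :=
          congrArg Subtype.val (Equiv.congr_fun h2 ⟨η₀, hmem⟩)
        rw [inv_inv] at h3
        funext x
        rw [hη₀e]
        refine Eq.trans ?_ (congrFun h3 (ε x))
        rw [conjTwist_apply, conjTwist_apply]
        exact congrArg η₀ (Subtype.ext rfl)
      have hcl := congrFun (clifford_invariant E' θ.2 η.2 hinv hη) 1
      simp only [Pi.smul_apply, smul_eq_mul, OneMemClass.coe_one, hk', hk1, Nat.cast_one,
        one_mul] at hcl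
      have h4 : η₀ 1 = 1 := by obtain ⟨f, hf⟩ := hlinE ⟨η₀, hη₀⟩; simp only at hf; simp [hf]
      rw [RealOdd.degree_eq, hη₀e] at hcl
      simp only [map_one, h4] at hcl
      exact_mod_cast hcl
    intro a ha b hb
    rw [← commutatorElement_eq_one_iff_mul_comm]
    refine hfaith _ ?_
    have h := congrFun (eq_sum_classInner hresA.isClassFunction) ⁅(⟨a, ha⟩ : A), (⟨b, hb⟩ : A)⁆
    have h1 := congrFun (eq_sum_classInner hresA.isClassFunction) 1
    rw [Finset.sum_apply] at h h1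
    show (fun a : A => (χ : G → ℂ) a) ⁅(⟨a, ha⟩ : A), (⟨b, hb⟩ : A)⁆ = (χ : G → ℂ) ((1 : A) : G)
    beta_reduce
    rw [h]
    refine Eq.trans (Finset.sum_congr rfl fun θ _ => ?_) h1.symm
    rw [Pi.smul_apply, Pi.smul_apply, hm]
    by_cases h0 : m θ = 0
    · simp [h0]
    obtain ⟨f, hf⟩ := exists_hom_of_degree_one θ.2.isCharacter
      (by rw [RealOdd.degree_eq, hlinA θ h0, Nat.cast_one])
    rw [hf]
    simp [map_commutatorElement,
      commutatorElement_eq_one_iff_mul_comm.2 (mul_comm (f ⟨a, ha⟩) (f ⟨b, hb⟩))]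
  obtain ⟨R⟩ : Nonempty (Sylow p A) := inferInstance
  haveI hRn : (R : Subgroup A).Normal := ⟨fun x hx g => by
    rw [show g * x = x * g from Subtype.ext (hAc _ g.2 _ x.2), mul_inv_cancel_right]; exact hx⟩
  haveI := R.characteristic_of_normal hRn
  have hRle : (R : Subgroup A).map A.subtype ≤ pCore p G :=
    Core.le_pCore' inferInstance (R.2.map _)
  intro hdvd
  have h1 : p ^ 2 ∣ A.index * (R : Subgroup A).index := by
    refine hdvd.trans ((index_dvd_of_le hRle).trans ?_)
    rw [index_map_subtype, mul_comm]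
  exact sq_not_dvd_factorial hp n hn2 (((Nat.Coprime.pow_left 2
    (hp.coprime_iff_not_dvd.2 R.not_dvd_index)).dvd_of_dvd_mul_right h1).trans hAidx)

end Cfsg.Lib.Char.BelowTwoP
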