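import Cfsg.Agent.Lib.Block.CentralDefect
import Cfsg.Agent.Lib.Block.SmallDegree
import Cfsg.Agent.Lib.Char.AltSquare
import Cfsg.Agent.Lib.Char.Galois
import Cfsg.Agent.Lib.Perm.DihedralNormalizer
import Mathlib.Analysis.SpecialFunctions.Complex.CircleAddChar

/-!
# Groups with an irreducible character of degree `p - 2`
-/

set_option autoImplicit false
set_option linter.unusedSectionVars false
set_option linter.style.haveILetI false
set_option maxHeartbeats 1000000

namespace Cfsg.Agent.DegreePSubTwo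

open Cfsg Cfsg.Lib.Char
open scoped ComplexConjugate

universe u

noncomputable local instance (priority := high) fintypeSubgroupDegreePSubTwoOrder {A : Type u}
    [Group A] [Fintype A] (H : Subgroup A) : Fintype H := Fintype.ofFinite H

local notation "C[" P "]" => Subgroup.centralizer (SetLike.coe P)

variable {p : ℕ} [Fact p.Prime] {G : Type u} [Group G] [Fintype G]

/-- The part of `|G| / p` that is a power of two. -/
noncomputable def twoPart (p : ℕ) (G : Type u) : ℕ := 2 ^ (Nat.card G / p).factorization 2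

/-- The odd part of `|G| / p`. -/
noncomputable def oddPart (p : ℕ) (G : Type u) : ℕ := (Nat.card G / p) / twoPart p G

/-- The scalar of a central element. -/
noncomputable def eta (p : ℕ) (ζ : G → ℂ) (z : G) : ℂ := ζ z / ((p - 2 : ℕ) : ℂ)

/-- The hypotheses on a character of degree `p - 2`. -/
structure Setting (p : ℕ) [Fact p.Prime] {G : Type u} [Group G] [Fintype G] (ζ : G → ℂ)
    (P : Subgroup G) (k : P ≃ ZMod p) : Prop where
  five : 5 < p
  card : Nat.card P = p
  fac : (Nat.card G).factorization p = 1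
  cent : C[P] = P ⊔ Subgroup.center G
  idx : (C[P]).relIndex (Subgroup.normalizer (P : Set G)) = 2
  add : ∀ y z : P, k (y * z) = k y + k z
  irr : IsIrrCharacter G ζ
  deg : ζ 1 = ((p - 2 : ℕ) : ℂ)
  val : ∀ y : P, y ≠ 1 → ζ y = -(ZMod.stdAddChar (k y) + ZMod.stdAddChar (-k y))
  scal : ∀ g : G, ‖ζ g‖ = ((p - 2 : ℕ) : ℝ) → g ∈ Subgroup.center G
  etaOdd : ∀ z ∈ Subgroup.center G, eta p ζ z ^ oddPart p G = 1

variable {ζ : G → ℂ} {P : Subgroup G} {k : P ≃ ZMod p} (hS : Setting p ζ P k)

include hS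

theorem Setting.degree_pos : (0 : ℝ) < ((p - 2 : ℕ) : ℝ) := by
  exact_mod_cast (show 0 < p - 2 by have := hS.five; omega)

theorem Setting.degree_ne : ((p - 2 : ℕ) : ℂ) ≠ 0 :=
  Nat.cast_ne_zero.2 (by have := hS.five; omega)

theorem Setting.k_one : k 1 = 0 := by
  have h := hS.add 1 1
  rw [one_mul] at h
  exact left_eq_add.1 h

theorem Setting.k_pow (y : P) (j : ℕ) : k (y ^ j) = (j : ZMod p) * k y := by
  induction j with
  | zero => rw [pow_zero, hS.k_one, Nat.cast_zero, zero_mul]
  | succ l ih => rw [pow_succ, hS.add, ih, Nat.cast_succ, add_mul, one_mul]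

theorem Setting.scalar {z : G} (hz : z ∈ Subgroup.center G) (g : G) :
    ζ (z * g) = eta p ζ z * ζ g := by
  obtain ⟨c, -, hc⟩ := Cfsg.Lib.Block.exists_central_scalar (⟨ζ, hS.irr⟩ : IrrCharacter G) hz
  have h1 : ζ z = c * ((p - 2 : ℕ) : ℂ) := by
    have h := hc 1
    simp only [mul_one] at h
    rw [hS.deg] at h
    exact h
  rw [eta, h1, mul_div_assoc, div_self hS.degree_ne, mul_one]
  exact hc g

theorem Setting.eta_norm {z : G} (hz : z ∈ Subgroup.center G) : ‖eta p ζ z‖ = 1 := by
  refine Complex.norm_eq_one_of_pow_eq_one (n := orderOf z) ?_ (orderOf_pos z).ne'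
  obtain ⟨c, hc1, hc⟩ := Cfsg.Lib.Block.exists_central_scalar (⟨ζ, hS.irr⟩ : IrrCharacter G) hz
  have h := hc 1
  simp only [mul_one] at h
  rw [hS.deg] at h
  rw [eta, h, mul_div_assoc, div_self hS.degree_ne, mul_one, hc1]

theorem Setting.card_eq : Nat.card G = p * (twoPart p G * oddPart p G) := by
  have hd : p ∣ Nat.card G := by
    have h := Subgroup.card_subgroup_dvd_card P
    rwa [hS.card] at h
  have h2 : twoPart p G ∣ Nat.card G / p := Nat.ordProj_dvd _ _
  rw [oddPart, Nat.mul_div_cancel' h2, Nat.mul_div_cancel' hd]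

theorem Setting.quot_ne : Nat.card G / p ≠ 0 := by
  intro h
  have h' := hS.card_eq
  have : twoPart p G * oddPart p G = 0 := by
    rw [oddPart, h]
    simp
  rw [this, mul_zero] at h'
  exact Nat.card_pos.ne' h'

theorem Setting.coprime_parts : Nat.Coprime p (twoPart p G) ∧ Nat.Coprime p (oddPart p G) ∧
    Nat.Coprime (twoPart p G) (oddPart p G) := by
  have hpp : p.Prime := Fact.out
  have hp2 : p ≠ 2 := by have := hS.five; omega
  have hnd : ¬ p ∣ twoPart p G * oddPart p G := by
    intro h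
    have h2 : p ^ 2 ∣ Nat.card G := by rw [hS.card_eq, pow_two]; exact Nat.mul_dvd_mul_left p h
    have := (hpp.pow_dvd_iff_le_factorization Nat.card_pos.ne').1 h2
    rw [hS.fac] at this
    omega
  refine ⟨(hpp.coprime_iff_not_dvd).2 fun h => hnd (h.mul_right _),
    (hpp.coprime_iff_not_dvd).2 fun h => hnd (h.mul_left _), ?_⟩
  refine Nat.Coprime.pow_left _ ((Nat.prime_two.coprime_iff_not_dvd).2 ?_)
  exact Nat.not_dvd_ordCompl Nat.prime_two hS.quot_ne

theorem Setting.oddPart_odd : Odd (oddPart p G) := by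
  rw [← Nat.not_even_iff_odd, even_iff_two_dvd]
  exact Nat.not_dvd_ordCompl Nat.prime_two hS.quot_ne

theorem Setting.regular_dvd {g : G} (hg : ¬ p ∣ orderOf g) :
    orderOf g ∣ twoPart p G * oddPart p G := by
  have h := orderOf_dvd_natCard g
  rw [hS.card_eq] at h
  exact (((Fact.out : p.Prime).coprime_iff_not_dvd).2 hg).symm.dvd_of_dvd_mul_left h

theorem Setting.odd_dvd {g : G} (hg : ¬ p ∣ orderOf g) (ho : Odd (orderOf g)) :
    orderOf g ∣ oddPart p G :=
  (Nat.Coprime.pow_right _ ((Nat.coprime_two_right).2 ho)).dvd_of_dvd_mul_left (hS.regular_dvd hg)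

/-- An exponent for the Galois conjugates. -/
theorem Setting.exists_exponent {u : ℕ} (hu : ¬ p ∣ u) :
    ∃ c : ℕ, c.Coprime (Nat.card G) ∧ (c : ZMod p) = u ∧ c ≡ 1 [MOD twoPart p G] ∧
      c ≡ 2 [MOD oddPart p G] := by
  have hpp : p.Prime := Fact.out
  obtain ⟨h1, h2, h3⟩ := hS.coprime_parts
  obtain ⟨c₀, hc₀, hc₀'⟩ := Nat.chineseRemainder h3 1 2
  obtain ⟨c, hc, hc'⟩ := Nat.chineseRemainder (Nat.Coprime.mul_right h1 h2) u c₀
  have hcT : c ≡ 1 [MOD twoPart p G] := (hc'.of_dvd (dvd_mul_right _ _)).trans hc₀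
  have hcO : c ≡ 2 [MOD oddPart p G] := (hc'.of_dvd (dvd_mul_left _ _)).trans hc₀'
  have hcp : (c : ZMod p) = u := (ZMod.natCast_eq_natCast_iff _ _ _).2 hc
  refine ⟨c, ?_, hcp, hcT, hcO⟩
  rw [hS.card_eq, Nat.coprime_mul_iff_right, Nat.coprime_mul_iff_right]
  refine ⟨((hpp.coprime_iff_not_dvd).2 fun h => hu ((hc.dvd_iff dvd_rfl).1 h)).symm, ?_, ?_⟩
  · rw [Nat.Coprime, hcT.gcd_eq, Nat.gcd_one_left]
  · rw [Nat.Coprime, hcO.gcd_eq]
    exact Nat.coprime_two_left.2 hS.oddPart_odd

theorem Setting.eta_pow {z : G} (hz : z ∈ Subgroup.center G) {c : ℕ}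
    (hc : c ≡ 2 [MOD oddPart p G]) : eta p ζ z ^ c = eta p ζ z ^ 2 := by
  have h := hS.etaOdd z hz
  rw [pow_eq_pow_mod c h, pow_eq_pow_mod 2 h, hc]

theorem Setting.apply_pow_mul {z : G} (hz : z ∈ Subgroup.center G) (g : G) (c : ℕ) :
    ζ ((z * g) ^ c) = eta p ζ z ^ c * ζ (g ^ c) := by
  rw [Commute.mul_pow ((Subgroup.mem_center_iff.1 hz g).symm)]
  induction c generalizing g with
  | zero => simp
  | succ l ih =>
    rw [pow_succ' z, mul_assoc, hS.scalar hz, pow_succ' (eta p ζ z)]
    have hl : ∀ (l : ℕ) (x : G), ζ (z ^ l * x) = eta p ζ z ^ l * ζ x := by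
      intro l
      induction l with
      | zero => simp
      | succ i ihi => intro x; rw [pow_succ' z, mul_assoc, hS.scalar hz, ihi, pow_succ']; ring
    rw [hl]
    ring

theorem Setting.inf_center : P ⊓ Subgroup.center G = ⊥ := by
  refine eq_bot_iff.2 fun z hz => ?_
  rw [Subgroup.mem_bot]
  by_contra h1
  have he : Subgroup.zpowers z = P := Cfsg.Lib.Block.zpowers_eq_of_mem hS.card hz.1 h1
  have hle : P ≤ Subgroup.center G := he ▸ Subgroup.zpowers_le.2 hz.2
  have htop : C[P] = ⊤ := Subgroup.centralizer_eq_top_iff_subset.2 hle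
  have h := hS.idx
  rw [htop, Subgroup.relIndex_top_left] at h
  omega

theorem Setting.not_dvd_center : ¬ p ∣ Nat.card (Subgroup.center G) := by
  have hpp : p.Prime := Fact.out
  intro h
  obtain ⟨⟨z, hz⟩, hzo⟩ := exists_prime_orderOf_dvd_card' p h
  rw [Subgroup.orderOf_mk] at hzo
  let S : Sylow p G := Sylow.ofCard P (by rw [hS.fac, hS.card, pow_one])
  have hZp : IsPGroup p (Subgroup.zpowers z) :=
    IsPGroup.of_card (n := 1) (by rw [Nat.card_zpowers, hzo, pow_one])
  have hle : (S : Subgroup G) ≤ Subgroup.normalizer (Subgroup.zpowers z : Set G) := fun g _ => by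
    refine Subgroup.mem_normalizer_iff.2 fun w => ?_
    constructor
    · intro hw
      have hwc : w ∈ Subgroup.center G := Subgroup.zpowers_le.2 hz hw
      rwa [Subgroup.mem_center_iff.1 hwc g, mul_inv_cancel_right]
    · intro hw
      have hwc : g * w * g⁻¹ ∈ Subgroup.center G := Subgroup.zpowers_le.2 hz hw
      have e := Subgroup.mem_center_iff.1 hwc g⁻¹
      simp only [← mul_assoc, inv_mul_cancel, one_mul] at e
      rwa [show g * w * g⁻¹ = w from (mul_right_cancel (e.trans (by group))).symm] at hw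
  have hsup : IsPGroup p ((S : Subgroup G) ⊔ Subgroup.zpowers z : Subgroup G) :=
    S.2.to_sup_of_normal_right' hZp hle
  have he := S.is_maximal' hsup le_sup_left
  have hzP : z ∈ P := by
    have : z ∈ (S : Subgroup G) := he ▸ Subgroup.mem_sup_right (Subgroup.mem_zpowers z)
    exact this
  have hz1 : z ∈ P ⊓ Subgroup.center G := Subgroup.mem_inf.2 ⟨hzP, hz⟩
  rw [hS.inf_center, Subgroup.mem_bot] at hz1
  rw [hz1, orderOf_one] at hzo
  exact hpp.ne_one hzo.symm

theorem Setting.orderOf_mem {y : G} (hy : y ∈ P) (h1 : y ≠ 1) : orderOf y = p :=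
  ((Nat.dvd_prime (Fact.out : p.Prime)).1 (hS.card ▸ Subgroup.orderOf_dvd_natCard P hy)).resolve_left
    fun h => h1 (orderOf_eq_one_iff.1 h)

theorem Setting.centralizer_singleton {y : G} (hy : y ∈ P) (h1 : y ≠ 1) :
    Subgroup.centralizer ({y} : Set G) = C[P] := by
  rw [← Cfsg.Lib.Block.zpowers_eq_of_mem hS.card hy h1]
  refine le_antisymm (fun g hg => Subgroup.mem_centralizer_iff.2 fun u hu => ?_) fun g hg =>
    Subgroup.mem_centralizer_singleton_iff.2
      (Subgroup.mem_centralizer_iff.1 hg y (Subgroup.mem_zpowers y)).symm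
  obtain ⟨j, rfl⟩ := Subgroup.mem_zpowers_iff.1 hu
  exact ((Commute.zpow_right (Subgroup.mem_centralizer_singleton_iff.1 hg : Commute g y) j).eq).symm

theorem Setting.mem_cent_iff {c : G} :
    c ∈ C[P] ↔ ∃ y ∈ P, ∃ z ∈ Subgroup.center G, y * z = c := by
  rw [hS.cent, Subgroup.mem_sup_of_normal_right]

theorem Setting.regular_cent {y z : G} (hy : y ∈ P) (hz : z ∈ Subgroup.center G)
    (h : ¬ p ∣ orderOf (y * z)) : y = 1 := by
  by_contra hy1
  set o := orderOf (y * z) with ho
  have hcomm : Commute y z := Subgroup.mem_center_iff.1 hz y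
  have h1 : y ^ o * z ^ o = 1 := by rw [← hcomm.mul_pow, ho, pow_orderOf_eq_one]
  have h2 : y ^ o ∈ P ⊓ Subgroup.center G := Subgroup.mem_inf.2
    ⟨pow_mem hy o, by rw [eq_inv_of_mul_eq_one_left h1]; exact inv_mem (pow_mem hz o)⟩
  rw [hS.inf_center, Subgroup.mem_bot, ← orderOf_dvd_iff_pow_eq_one, hS.orderOf_mem hy hy1] at h2
  exact h h2

/-- The bijection between `P × Z` and the centralizer. -/
theorem Setting.bijective_prod : Function.Bijective (fun x : P × Subgroup.center G =>
    (⟨(x.1 : G) * x.2, hS.mem_cent_iff.2 ⟨x.1, x.1.2, x.2, x.2.2, rfl⟩⟩ : C[P])) := by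
  constructor
  · rintro ⟨a, b⟩ ⟨c, d⟩ h
    have h' : (a : G) * b = c * d := congrArg Subtype.val h
    have h2 : (c : G)⁻¹ * a ∈ P ⊓ Subgroup.center G := by
      refine Subgroup.mem_inf.2 ⟨mul_mem (inv_mem c.2) a.2, ?_⟩
      have e : (c : G)⁻¹ * a = (d : G) * (b : G)⁻¹ := by
        rw [eq_mul_inv_iff_mul_eq, mul_assoc, h', inv_mul_cancel_left]
      rw [e]
      exact mul_mem d.2 (inv_mem b.2)
    rw [hS.inf_center, Subgroup.mem_bot, inv_mul_eq_one] at h2
    refine Prod.ext (Subtype.ext h2.symm) (Subtype.ext ?_)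
    rw [h2] at h'
    exact mul_left_cancel h'
  · rintro ⟨c, hc⟩
    obtain ⟨y, hy, z, hz, rfl⟩ := hS.mem_cent_iff.1 hc
    exact ⟨(⟨y, hy⟩, ⟨z, hz⟩), rfl⟩

theorem Setting.mem_P_of_pow {c : G} (hc : c ∈ C[P]) (h : c ^ p = 1) : c ∈ P := by
  obtain ⟨y, hy, z, hz, rfl⟩ := hS.mem_cent_iff.1 hc
  have hyp : y ^ p = 1 := by
    have := congrArg Subtype.val (pow_card_eq_one' (x := (⟨y, hy⟩ : P)))
    rwa [hS.card, SubmonoidClass.coe_pow] at this
  have hcm : Commute y z := Subgroup.mem_center_iff.1 hz y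
  rw [hcm.mul_pow, hyp, one_mul] at h
  have h1 : orderOf z ∣ p := orderOf_dvd_of_pow_eq_one h
  rcases (Nat.dvd_prime (Fact.out : p.Prime)).1 h1 with h2 | h2
  · rw [orderOf_eq_one_iff.1 h2, mul_one]; exact hy
  · exfalso
    exact hS.not_dvd_center (h2 ▸ Subgroup.orderOf_dvd_natCard _ hz)

theorem Setting.conj_cent {c x : G} (hc : c ∈ C[P]) (hs : p ∣ orderOf c)
    (hx : x⁻¹ * c * x ∈ C[P]) : x ∈ Subgroup.normalizer (P : Set G) := by
  obtain ⟨y, hy, z, hz, rfl⟩ := hS.mem_cent_iff.1 hc
  have hy1 : y ≠ 1 := by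
    rintro rfl
    rw [one_mul] at hs
    exact hS.not_dvd_center (hs.trans (Subgroup.orderOf_dvd_natCard _ hz))
  set m := Nat.card (Subgroup.center G)
  have hzm : z ^ m = 1 := orderOf_dvd_iff_pow_eq_one.1 (Subgroup.orderOf_dvd_natCard _ hz)
  have hym : (y * z) ^ m = y ^ m := by
    have hcm : Commute y z := Subgroup.mem_center_iff.1 hz y
    rw [hcm.mul_pow, hzm, mul_one]
  have hord := hS.orderOf_mem hy hy1
  have hym1 : y ^ m ≠ 1 := by
    rw [Ne, ← orderOf_dvd_iff_pow_eq_one, hord]
    exact hS.not_dvd_center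
  have hmem : x⁻¹ * y ^ m * x ∈ P := by
    have h' : x⁻¹ * y ^ m * x = (x⁻¹ * (y * z) * x) ^ m := by
      have := conj_pow (a := x⁻¹) (b := y * z) (i := m)
      rw [inv_inv, hym] at this
      exact this.symm
    refine hS.mem_P_of_pow (h' ▸ pow_mem hx m) ?_
    have := conj_pow (a := x⁻¹) (b := y ^ m) (i := p)
    rw [inv_inv] at this
    rw [this, ← pow_mul, mul_comm m p, pow_mul, ← hord, pow_orderOf_eq_one, one_pow, mul_one,
      inv_mul_cancel]
  have hgen : Subgroup.zpowers (y ^ m) = P :=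
    Cfsg.Lib.Block.zpowers_eq_of_mem hS.card (pow_mem hy m) hym1
  have hle : P.map (MulAut.conj x⁻¹).toMonoidHom ≤ P := by
    conv_lhs => rw [← hgen]
    rw [MonoidHom.map_zpowers, Subgroup.zpowers_le]
    simpa using hmem
  have heq : P.map (MulAut.conj x⁻¹).toMonoidHom = P :=
    Subgroup.eq_of_le_of_card_ge hle
      (Nat.card_congr (P.equivMapOfInjective _ (MulAut.conj x⁻¹).injective).toEquiv).le
  rw [← inv_mem_iff (G := G), Subgroup.mem_normalizer_iff]
  intro u
  constructor
  · intro hu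
    rw [← heq]
    exact ⟨u, hu, by simp⟩
  · intro hu
    rw [← heq] at hu
    obtain ⟨v, hv, hvu⟩ := hu
    have : v = u := by simpa using hvu
    exact this ▸ hv

theorem Setting.exists_conj_cent {g : G} (hg : p ∣ orderOf g) :
    ∃ x : G, x⁻¹ * g * x ∈ C[P] := by
  set y₀ := g ^ (orderOf g / p) with hy₀
  have ho : orderOf y₀ = p := orderOf_pow_orderOf_div (orderOf_pos g).ne' hg
  obtain ⟨R, hR⟩ := IsPGroup.exists_le_sylow (p := p) (G := G)
    (IsPGroup.of_card (n := 1) (by rw [Nat.card_zpowers, ho, pow_one]) :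
      IsPGroup p (Subgroup.zpowers y₀))
  let S : Sylow p G := Sylow.ofCard P (by rw [hS.fac, hS.card, pow_one])
  obtain ⟨x, hx⟩ := MulAction.exists_smul_eq G R S
  refine ⟨x⁻¹, ?_⟩
  have hyP : x * y₀ * x⁻¹ ∈ P := by
    show x * y₀ * x⁻¹ ∈ (S : Subgroup G)
    rw [← hx, Sylow.coe_subgroup_smul, Subgroup.mem_pointwise_smul_iff_inv_smul_mem]
    simpa [mul_assoc] using hR (Subgroup.mem_zpowers y₀)
  have hne : x * y₀ * x⁻¹ ≠ 1 := fun h => by
    rw [conj_eq_one_iff] at h
    rw [h, orderOf_one] at ho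
    exact (Fact.out : p.Prime).ne_one ho.symm
  rw [← hS.centralizer_singleton hyP hne, Subgroup.mem_centralizer_singleton_iff, inv_inv]
  have hcomm : g * y₀ = y₀ * g := by rw [hy₀]; exact (Commute.self_pow g _).eq
  calc x * g * x⁻¹ * (x * y₀ * x⁻¹) = x * (g * y₀) * x⁻¹ := by group
    _ = x * (y₀ * g) * x⁻¹ := by rw [hcomm]
    _ = x * y₀ * x⁻¹ * (x * g * x⁻¹) := by group

/-- Class functions supported on singular elements are halved inductions from the centralizer. -/
theorem Setting.indFun_singular {F : G → ℂ} (hF : IsClassFunction G F)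
    (h0 : ∀ g, ¬ p ∣ orderOf g → F g = 0) :
    indFun C[P] (fun c : C[P] => F c) = (2 : ℂ) • F := by
  funext g
  rw [Pi.smul_apply, smul_eq_mul]
  have hord : ∀ x g : G, orderOf (x⁻¹ * g * x) = orderOf g := fun x g => by
    rw [show x⁻¹ * g * x = MulAut.conj x⁻¹ g by simp, MulEquiv.orderOf_eq]
  by_cases hg : p ∣ orderOf g
  · obtain ⟨x₀, hx₀⟩ := hS.exists_conj_cent hg
    set c := x₀⁻¹ * g * x₀ with hc
    have hgc : g = x₀ * c * x₀⁻¹ := by rw [hc]; group
    have hFc : F g = F c := by rw [hgc]; exact hF c x₀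
    have hIc : indFun C[P] (fun c : C[P] => F c) g = indFun C[P] (fun c : C[P] => F c) c := by
      rw [hgc]; exact isClassFunction_indFun (H := C[P]) _ c x₀
    rw [hIc, hFc]
    have hcs : p ∣ orderOf c := by rw [hc, hord]; exact hg
    set N := Subgroup.normalizer (P : Set G) with hNdef
    have hterm : ∀ x : G, extendByZero C[P] (fun c : C[P] => F c) (x⁻¹ * c * x) =
        extendByZero N (fun _ => F c) x := by
      intro x
      by_cases hxN : x ∈ N
      · have hxc : x⁻¹ * c * x ∈ C[P] := by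
          refine Subgroup.mem_centralizer_iff.2 fun u hu => ?_
          have hu' : x * u * x⁻¹ ∈ P := (Subgroup.mem_normalizer_iff.1 hxN u).1 hu
          have e := Subgroup.mem_centralizer_iff.1 hx₀ _ hu'
          calc u * (x⁻¹ * c * x) = x⁻¹ * (x * u * x⁻¹ * c) * x := by group
            _ = x⁻¹ * (c * (x * u * x⁻¹)) * x := by rw [e]
            _ = x⁻¹ * c * x * u := by group
        rw [extendByZero_of_mem _ _ hxN, extendByZero_of_mem _ _ hxc]
        simpa using hF c x⁻¹
      · rw [extendByZero_of_notMem _ _ hxN, extendByZero_of_notMem]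
        exact fun hxc => hxN (hS.conj_cent hx₀ hcs hxc)
    simp only [indFun, hterm]
    have s1 := sum_extendByZero N (fun _ => F c) (fun _ => (1 : ℂ))
    simp only [mul_one, Finset.sum_const, Finset.card_univ, nsmul_eq_mul,
      ← Nat.card_eq_fintype_card] at s1
    rw [s1]
    have hN2 : Nat.card N = 2 * Nat.card C[P] := by
      have h := Subgroup.card_mul_index ((C[P]).subgroupOf N)
      rw [Nat.card_congr (Subgroup.subgroupOfEquivOfLe
        (Subgroup.centralizer_le_normalizer _)).toEquiv] at h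
      rw [← h, show ((C[P]).subgroupOf N).index = 2 from hS.idx, mul_comm]
    rw [hN2, Nat.cast_mul, Nat.cast_ofNat]
    have hC0 : (Nat.card C[P] : ℂ) ≠ 0 := Nat.cast_ne_zero.2 Nat.card_pos.ne'
    field_simp
  · rw [h0 g hg, mul_zero]
    simp only [indFun]
    rw [Finset.sum_eq_zero, mul_zero]
    intro x _
    by_cases hx : x⁻¹ * g * x ∈ C[P]
    · rw [extendByZero_of_mem _ _ hx]
      exact h0 _ (by rw [hord]; exact hg)
    · exact extendByZero_of_notMem _ _ hx

/-- Inner products with a class function supported on singular elements are computed in `P`. -/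
theorem Setting.classInner_singular {F H : G → ℂ} (hF : IsClassFunction G F)
    (hH : IsClassFunction G H) (h0 : ∀ g, ¬ p ∣ orderOf g → F g = 0)
    (hz : ∀ (y : P) (z : Subgroup.center G),
      F ((y : G) * z) * conj (H ((y : G) * z)) = F y * conj (H y)) :
    classInner F H = (2 * p : ℂ)⁻¹ * ∑ y : P, F y * conj (H y) := by
  have h := classInner_indFun C[P] (fun c : C[P] => F c) hH
  rw [hS.indFun_singular hF h0, classInner_smul_left] at h
  have hC : Nat.card C[P] = p * Nat.card (Subgroup.center G) := by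
    rw [← Nat.card_congr (Equiv.ofBijective _ hS.bijective_prod), Nat.card_prod, hS.card]
  have hsum : ∑ c : C[P], F c * conj (H c) =
      (Nat.card (Subgroup.center G) : ℂ) * ∑ y : P, F y * conj (H y) := by
    rw [← (Equiv.ofBijective _ hS.bijective_prod).sum_comp, Fintype.sum_prod_type, Finset.mul_sum]
    refine Finset.sum_congr rfl fun y _ => ?_
    simp only [Equiv.ofBijective_apply]
    rw [Finset.sum_congr rfl fun z _ => hz y z, Finset.sum_const, Finset.card_univ, nsmul_eq_mul,
      ← Nat.card_eq_fintype_card]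
  have h' : 2 * classInner F H = (Nat.card C[P] : ℂ)⁻¹ * ∑ c : C[P], F c * conj (H c) := h
  rw [hsum, hC] at h'
  have hm0 : (Nat.card (Subgroup.center G) : ℂ) ≠ 0 := Nat.cast_ne_zero.2 Nat.card_pos.ne'
  have hp0 : (p : ℂ) ≠ 0 := Nat.cast_ne_zero.2 (Fact.out : p.Prime).ne_zero
  push_cast at h'
  field_simp at h' ⊢
  linear_combination h'

/-- The fundamental identity on regular elements. -/
theorem Setting.regular_identity {g : G} (hg : ¬ p ∣ orderOf g) {c : ℕ}
    (hcT : c ≡ 1 [MOD twoPart p G]) (hcO : c ≡ 2 [MOD oddPart p G]) :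
    ζ g * ζ g - ζ (g * g) = ((p : ℂ) - 3) * ζ (g ^ c) := by
  classical
  haveI : NeZero p := ⟨(Fact.out : p.Prime).ne_zero⟩
  have hpp : p.Prime := Fact.out
  have h5 := hS.five
  set t := (p - 1) / 2 with ht
  have hpt : p = 2 * t + 1 := by
    rcases hpp.eq_two_or_odd with h | h <;> omega
  set idx : Fin t → ℕ := fun a => a.val + 1 with hidx
  have hlt : ∀ a : Fin t, 2 * idx a < p := fun a => by have := a.2; simp only [hidx]; omega
  have hnd : ∀ a, ¬ p ∣ idx a := fun a h => by
    have := Nat.le_of_dvd (by simp [hidx]) h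
    have := hlt a; omega
  choose e he using fun a : Fin t => hS.exists_exponent (hnd a)
  set θ : Fin t → G → ℂ := fun a x => ζ (x ^ e a) with hθ
  have hθirr : ∀ a, IsIrrCharacter G (θ a) := fun a => isIrrCharacter_comp_pow (he a).1 hS.irr
  have hθreg : ∀ a x, ¬ p ∣ orderOf x → θ a x = ζ (x ^ c) := by
    intro a x hx
    obtain ⟨-, -, hT, hO⟩ := he a
    have hm : e a ≡ c [MOD twoPart p G * oddPart p G] :=
      (Nat.modEq_and_modEq_iff_modEq_mul hS.coprime_parts.2.2).1
        ⟨hT.trans hcT.symm, hO.trans hcO.symm⟩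
    simp only [hθ]
    rw [pow_inj_mod.2 (hm.of_dvd (hS.regular_dvd hx))]
  set f : G → ℂ := fun x => (ζ x * ζ x - ζ (x * x)) / 2 with hf
  have hfc : IsCharacter G f := isCharacter_altSquare hS.irr.isCharacter
  have hfz : ∀ z ∈ Subgroup.center G, ∀ x, f (z * x) = eta p ζ z ^ 2 * f x := by
    intro z hz x
    simp only [hf]
    rw [hS.scalar hz, show z * x * (z * x) = z * (z * (x * x)) by
      rw [mul_assoc, ← mul_assoc x, Subgroup.mem_center_iff.1 hz x, mul_assoc],
      hS.scalar hz, hS.scalar hz]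
    ring
  have hθz : ∀ a, ∀ z ∈ Subgroup.center G, ∀ x, θ a (z * x) = eta p ζ z ^ 2 * θ a x := by
    intro a z hz x
    simp only [hθ]
    rw [hS.apply_pow_mul hz, hS.eta_pow hz (he a).2.2.2]
  -- values on `P`
  set φ : ZMod p → ℂ := fun x => ZMod.stdAddChar x + ZMod.stdAddChar (-x) with hφ
  have hsum : ∀ x : ZMod p, ∑ y : P, (ZMod.stdAddChar (x * k y) : ℂ) =
      if x = 0 then (p : ℂ) else 0 := fun x => by
    rw [Equiv.sum_comp k (fun z => (ZMod.stdAddChar (x * z) : ℂ)),
      DihedralNormalizer.sum_stdAddChar]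
  have hkne : ∀ y : P, y ≠ 1 → k y ≠ 0 := fun y hy h => hy (k.injective (h.trans hS.k_one.symm))
  have hθy : ∀ a, ∀ y : P, θ a y = if y = 1 then ((p - 2 : ℕ) : ℂ)
      else -φ ((idx a : ZMod p) * k y) := by
    intro a y
    split_ifs with hy
    · subst hy; simp [hθ, hS.deg]
    · have hy' : y ^ e a ≠ 1 := fun h => by
        have h' := congrArg k h
        rw [hS.k_pow, hS.k_one, (he a).2.1, mul_eq_zero] at h'
        rcases h' with h' | h'
        · exact hnd a ((ZMod.natCast_eq_zero_iff _ _).1 h')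
        · exact hkne y hy h'
      show ζ ((y : G) ^ e a) = _
      rw [← SubmonoidClass.coe_pow, hS.val _ hy', hS.k_pow, (he a).2.1]
  have hfy : ∀ y : P, y ≠ 1 → f y = 1 + φ ((2 : ZMod p) * k y) := by
    intro y hy
    have h2 : k (y * y) = (2 : ZMod p) * k y := by rw [hS.add, two_mul]
    have hyy : y * y ≠ 1 := fun h => hkne y hy (by
      have h' := congrArg k h
      rw [h2, hS.k_one, mul_eq_zero] at h'
      refine h'.resolve_left fun h0 => ?_
      rw [show (2 : ZMod p) = ((2 : ℕ) : ZMod p) by norm_num, ZMod.natCast_eq_zero_iff] at h0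
      have := Nat.le_of_dvd (by norm_num) h0
      omega)
    have hv := hS.val _ hyy
    rw [Subgroup.coe_mul, h2] at hv
    simp only [hf, hS.val y hy, hv, hφ, two_mul, neg_add, AddChar.map_add_eq_mul]
    have h1 : (ZMod.stdAddChar (k y) : ℂ) * ZMod.stdAddChar (-k y) = 1 := by
      rw [← AddChar.map_add_eq_mul, add_neg_cancel, AddChar.map_zero_eq_one]
    linear_combination h1
  -- coefficients
  have hD : ∀ a b : Fin t, classInner (θ a - θ b) f =
      -((if idx a = 2 then (1 : ℂ) else 0) - if idx b = 2 then 1 else 0) := by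
    intro a b
    have hcl : IsClassFunction G (θ a - θ b) := fun x y => by
      simp only [Pi.sub_apply, (hθirr a).isCharacter.isClassFunction x y,
        (hθirr b).isCharacter.isClassFunction x y]
    rw [hS.classInner_singular hcl hfc.isClassFunction
      (fun x hx => by rw [Pi.sub_apply, hθreg a x hx, hθreg b x hx, sub_self]) (fun y z => by
        rw [show (y : G) * z = (z : G) * y from Subgroup.mem_center_iff.1 z.2 y]
        simp only [Pi.sub_apply, hθz a z z.2, hθz b z z.2, hfz z z.2, map_mul, map_pow]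
        have hn := hS.eta_norm z.2
        have h1 : eta p ζ z * conj (eta p ζ z) = 1 := by
          rw [Complex.mul_conj, Complex.normSq_eq_norm_sq, hn]; simp
        linear_combination
          (θ a y - θ b y) * conj (f y) * (eta p ζ z * conj (eta p ζ z) + 1) * h1)]
    have hterm : ∀ y : P, (θ a - θ b) (y : G) * conj (f y) =
        ∑ s ∈ ({(idx b : ZMod p), -(idx b : ZMod p)} : Finset (ZMod p)),
            ((ZMod.stdAddChar (s * k y) : ℂ) + ZMod.stdAddChar ((s + 2) * k y) +
              ZMod.stdAddChar ((s - 2) * k y)) -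
          ∑ s ∈ ({(idx a : ZMod p), -(idx a : ZMod p)} : Finset (ZMod p)),
            ((ZMod.stdAddChar (s * k y) : ℂ) + ZMod.stdAddChar ((s + 2) * k y) +
              ZMod.stdAddChar ((s - 2) * k y)) := by
      intro y
      have hpair : ∀ d : Fin t, (idx d : ZMod p) ≠ -(idx d : ZMod p) := fun d h => by
        rw [← add_eq_zero_iff_eq_neg, ← Nat.cast_add, ZMod.natCast_eq_zero_iff] at h
        have := Nat.le_of_dvd (by simp [hidx]) h
        have := hlt d
        omega
      rw [Finset.sum_pair (hpair a), Finset.sum_pair (hpair b)]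
      by_cases hy : y = 1
      · subst hy
        simp only [Pi.sub_apply, hθy, if_true, sub_self, zero_mul, hS.k_one, mul_zero]
      · rw [Pi.sub_apply, hθy, hθy, if_neg hy, if_neg hy, hfy y hy]
        simp only [hφ, map_add, map_one, ← AddChar.map_neg_eq_conj, neg_neg, add_mul, sub_mul,
          neg_mul, sub_eq_add_neg, AddChar.map_add_eq_mul]
        ring
    rw [Finset.sum_congr rfl fun y _ => hterm y, Finset.sum_sub_distrib,
      Finset.sum_comm, Finset.sum_comm (γ := P)]
    simp only [Finset.sum_add_distrib, hsum]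
    have hcast : ∀ d : Fin t, ((idx d : ZMod p) ≠ 0) ∧ ((idx d : ZMod p) + 2 ≠ 0) ∧
        ((idx d : ZMod p) = 2 ↔ idx d = 2) := by
      intro d
      have := hlt d
      refine ⟨fun h => hnd d ((ZMod.natCast_eq_zero_iff _ _).1 h), fun h => ?_, fun h => ?_, fun h => by rw [h]; norm_num⟩
      · rw [show (idx d : ZMod p) + 2 = ((idx d + 2 : ℕ) : ZMod p) by push_cast; ring,
          ZMod.natCast_eq_zero_iff] at h
        have := Nat.le_of_dvd (by omega) h
        omega
      · rw [show (2 : ZMod p) = ((2 : ℕ) : ZMod p) by norm_num] at h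
        have h' := congrArg ZMod.val h
        rwa [ZMod.val_natCast_of_lt (by omega), ZMod.val_natCast_of_lt (by omega)] at h'
    have hind : ∀ d : Fin t,
        (∑ s ∈ ({(idx d : ZMod p), -(idx d : ZMod p)} : Finset (ZMod p)), if s = 0 then (p : ℂ) else 0) +
        (∑ s ∈ ({(idx d : ZMod p), -(idx d : ZMod p)} : Finset (ZMod p)), if s + 2 = 0 then (p : ℂ) else 0) +
        (∑ s ∈ ({(idx d : ZMod p), -(idx d : ZMod p)} : Finset (ZMod p)), if s - 2 = 0 then (p : ℂ) else 0) =
          2 * p * (if idx d = 2 then 1 else 0) := by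
      intro d
      obtain ⟨h0, h2, hiff⟩ := hcast d
      have hpair : (idx d : ZMod p) ≠ -(idx d : ZMod p) := fun h => by
        rw [← add_eq_zero_iff_eq_neg, ← Nat.cast_add, ZMod.natCast_eq_zero_iff] at h
        have := Nat.le_of_dvd (by simp [hidx]) h
        have := hlt d
        omega
      rw [Finset.sum_pair hpair, Finset.sum_pair hpair, Finset.sum_pair hpair,
        if_neg h0, if_neg (neg_ne_zero.2 h0), if_neg h2]
      have e1 : (-(idx d : ZMod p) + 2 = 0) ↔ idx d = 2 := by
        rw [neg_add_eq_zero, hiff]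
      have e2 : ((idx d : ZMod p) - 2 = 0) ↔ idx d = 2 := by rw [sub_eq_zero, hiff]
      have e3 : ¬ (-(idx d : ZMod p) - 2 = 0) := fun h => h2 (by linear_combination -h)
      rw [if_neg e3]
      simp only [e1, e2]
      split_ifs <;> ring
    rw [hind a, hind b]
    have hp0 : (p : ℂ) ≠ 0 := Nat.cast_ne_zero.2 hpp.ne_zero
    field_simp
    ring
  let a₂ : Fin t := ⟨1, by omega⟩
  have ha₂ : idx a₂ = 2 := rfl
  have ha₂' : ∀ a, idx a = 2 → a = a₂ := fun a h => Fin.ext (by simp only [hidx] at h; show a.val = 1; omega)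
  choose m hm using fun a => hfc.exists_nat_classInner (hθirr a).isCharacter
  have hm' : ∀ a, classInner (θ a) f = (m a : ℂ) := fun a => by
    rw [← classInner_conj_symm, hm a, Complex.conj_natCast]
  have hcoef : ∀ a, a ≠ a₂ → 1 ≤ m a := by
    intro a ha
    have h := hD a a₂
    rw [classInner_sub_left, hm', hm', if_neg (fun e => ha (ha₂' a e)), if_pos ha₂] at h
    have h' : ((m a : ℕ) : ℂ) = ((m a₂ + 1 : ℕ) : ℂ) := by push_cast; linear_combination h
    have := (Nat.cast_inj (R := ℂ)).1 h'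
    omega
  have hinj : ∀ a b, θ a = θ b → a = b := by
    intro a b h
    by_contra hab
    -- distinct twists differ on `P`
    have h1 := congrArg (fun F : G → ℂ =>
      ∑ y : P, F y * (ZMod.stdAddChar ((idx a : ZMod p) * k y) : ℂ)) h
    have hval : ∀ d : Fin t, ∑ y : P, θ d y * (ZMod.stdAddChar ((idx a : ZMod p) * k y) : ℂ) =
        (p : ℂ) - (p : ℂ) * (if d = a then 1 else 0) := by
      intro d
      have hterm : ∀ y : P, θ d y * (ZMod.stdAddChar ((idx a : ZMod p) * k y) : ℂ) =
          (if y = 1 then (p : ℂ) else 0) -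
            ZMod.stdAddChar (((idx d : ZMod p) + (idx a : ZMod p)) * k y) -
            ZMod.stdAddChar ((-(idx d : ZMod p) + (idx a : ZMod p)) * k y) := by
        intro y
        rw [hθy]
        split_ifs with hy
        · subst hy
          rw [hS.k_one, mul_zero, mul_zero, mul_zero, AddChar.map_zero_eq_one,
            Nat.cast_sub (by omega)]
          push_cast; ring
        · simp only [hφ, add_mul, neg_mul, AddChar.map_add_eq_mul]
          ring
      rw [Finset.sum_congr rfl fun y _ => hterm y, Finset.sum_sub_distrib, Finset.sum_sub_distrib,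
        hsum, hsum, Finset.sum_ite_eq', if_pos (Finset.mem_univ _)]
      have e1 : (idx d : ZMod p) + (idx a : ZMod p) ≠ 0 := fun h => by
        rw [← Nat.cast_add, ZMod.natCast_eq_zero_iff] at h
        have := Nat.le_of_dvd (by simp [hidx]) h
        have := hlt a; have := hlt d
        omega
      have e2 : -(idx d : ZMod p) + (idx a : ZMod p) = 0 ↔ d = a := by
        rw [neg_add_eq_zero]
        constructor
        · intro h
          have h' := congrArg ZMod.val h
          have := hlt a; have := hlt d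
          rw [ZMod.val_natCast_of_lt (by omega), ZMod.val_natCast_of_lt (by omega)] at h'
          exact Fin.ext (by simp only [hidx] at h'; omega)
        · rintro rfl; rfl
      rw [if_neg e1]
      simp only [e2]
      split_ifs <;> ring
    simp only [hval, if_true, if_neg (Ne.symm hab)] at h1
    apply Nat.cast_ne_zero (R := ℂ).2 hpp.ne_zero
    linear_combination -h1
  set s := (Finset.univ : Finset (Fin t)).erase a₂ with hs
  have hDc : IsCharacter G (f - ∑ a ∈ s, θ a) := by
    refine isCharacter_iff.mpr ⟨?_, fun ψ hψ => ?_⟩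
    · intro x z
      simp only [Pi.sub_apply, Finset.sum_apply, hfc.isClassFunction x z,
        fun a => (hθirr a).isCharacter.isClassFunction x z]
    · rw [classInner_sub_left, classInner_sum_left]
      by_cases hψ' : ∃ a ∈ s, θ a = ψ
      · obtain ⟨a, ha, rfl⟩ := hψ'
        refine ⟨m a - 1, ?_⟩
        rw [hm, Finset.sum_eq_single a (fun d _ hd => classInner_irr_ne (hθirr d) (hθirr a)
            fun e => hd (hinj d a e)) (fun h => absurd ha h), classInner_irr_self (hθirr a),
          Nat.cast_sub (hcoef a (Finset.ne_of_mem_erase ha)), Nat.cast_one]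
      · push Not at hψ'
        obtain ⟨d, hd⟩ := hfc.exists_nat_classInner hψ.isCharacter
        exact ⟨d, by rw [hd, Finset.sum_eq_zero fun a ha => classInner_irr_ne (hθirr a) hψ
          (hψ' a ha), sub_zero]⟩
  have hcards : s.card = t - 1 := by
    rw [hs, Finset.card_erase_of_mem (Finset.mem_univ _), Finset.card_univ, Fintype.card_fin]
  have hD1 : (f - ∑ a ∈ s, θ a) 1 = 0 := by
    have hθ1 : ∀ a, θ a 1 = ((p - 2 : ℕ) : ℂ) := fun a => by simp [hθ, hS.deg]
    simp only [Pi.sub_apply, Finset.sum_apply, hθ1, Finset.sum_const, hcards, nsmul_eq_mul, hf,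
      mul_one, hS.deg, Nat.cast_sub (show 2 ≤ p by omega), Nat.cast_sub (show 1 ≤ t by omega)]
    rw [hpt]; push_cast; ring
  have hfin := congrFun (DihedralNormalizer.eq_zero_of_degree hDc hD1) g
  simp only [Pi.sub_apply, Finset.sum_apply, Pi.zero_apply, sub_eq_zero] at hfin
  rw [Finset.sum_congr rfl fun a _ => hθreg a g hg, Finset.sum_const, hcards, nsmul_eq_mul,
    Nat.cast_sub (show 1 ≤ t by omega)] at hfin
  simp only [hf, div_eq_iff (two_ne_zero (α := ℂ))] at hfin
  rw [hfin, hpt]; push_cast; ring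

end Cfsg.Agent.DegreePSubTwo
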