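import Cfsg.Agent.Lib.Char.DegreePSubTwo
import Cfsg.Agent.S1230

/-!
# The central quotient of a group with an irreducible character of degree `p - 2`
-/

set_option autoImplicit false
set_option linter.unusedSectionVars false
set_option linter.style.haveILetI false
set_option maxHeartbeats 1000000

namespace Cfsg.Agent.DegreePSubTwo

open Cfsg Cfsg.Lib.Char
open scoped ComplexConjugate

universe u

noncomputable local instance (priority := high) fintypeSubgroupDegreePSubTwoQuotient {A : Type u}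
    [Group A] [Fintype A] (H : Subgroup A) : Fintype H := Fintype.ofFinite H

/-- A periodic squaring orbit of non-negative reals. -/
theorem eq_zero_or_one_of_periodic (r : ℕ → ℝ) (h0 : 0 ≤ r 0) (hr : ∀ j, r (j + 1) = r j ^ 2)
    {L : ℕ} (hL : 0 < L) (hper : r L = r 0) : r 0 = 0 ∨ r 0 = 1 := by
  have hpow : ∀ j, r j = r 0 ^ (2 ^ j) := by
    intro j
    induction j with
    | zero => simp
    | succ i ih => rw [hr, ih, ← pow_mul, pow_succ]
  rw [hpow L] at hper
  by_cases hz : r 0 = 0
  · exact Or.inl hz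
  right
  have h2 : 2 ≤ 2 ^ L := le_self_pow₀ one_le_two hL.ne'
  obtain ⟨M, hM⟩ := Nat.exists_eq_add_of_le (le_trans one_le_two h2)
  rw [hM, pow_add, pow_one] at hper
  have hM1 : r 0 ^ M = 1 := (mul_eq_left₀ hz).1 hper
  exact (pow_eq_one_iff_of_nonneg h0 (by omega)).1 hM1

/-- An exponent fixing an element of odd order through repeated squaring. -/
theorem exists_pow_two_fixed {G : Type u} [Group G] [Finite G] {g : G} (ho : Odd (orderOf g)) :
    ∃ L : ℕ, 0 < L ∧ g ^ (2 ^ L) = g := by
  refine ⟨(orderOf g).totient, Nat.totient_pos.2 (orderOf_pos g), ?_⟩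
  have h := Nat.ModEq.pow_totient (Nat.coprime_two_left.2 ho)
  conv_rhs => rw [← pow_one g]
  exact pow_inj_mod.2 h

variable {p : ℕ} [Fact p.Prime] {G : Type u} [Group G] [Fintype G]

/-- The two halves of a character cut by a central involution modulo the kernel. -/
theorem isCharacter_halfSum {χ : G → ℂ} (hχ : IsCharacter G χ) {z : G}
    (hz : z ∈ Subgroup.center G) (h2 : ∀ x, χ (z * (z * x)) = χ x) :
    IsCharacter G (fun x => (χ x + χ (z * x)) / 2) ∧
      IsCharacter G (fun x => (χ x - χ (z * x)) / 2) := by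
  classical
  have hcl : IsClassFunction G fun x => χ (z * x) := fun x y => by
    show χ (z * (y * x * y⁻¹)) = χ (z * x)
    rw [show z * (y * x * y⁻¹) = y * (z * x) * y⁻¹ by
      simp only [← mul_assoc, Subgroup.mem_center_iff.1 hz y], hχ.isClassFunction]
  have hkey : ∀ ψ : G → ℂ, IsIrrCharacter G ψ → ∃ n : ℕ, classInner χ ψ = n ∧
      (classInner (fun x => χ (z * x)) ψ = n ∨ classInner (fun x => χ (z * x)) ψ = -n) := by
    intro ψ hψ
    obtain ⟨n, hn⟩ := hχ.exists_nat_classInner hψ.isCharacter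
    refine ⟨n, hn, ?_⟩
    obtain ⟨c, -, hc⟩ := Cfsg.Lib.Block.exists_central_scalar (⟨ψ, hψ⟩ : IrrCharacter G) hz
    have hsub : ∀ F : G → ℂ, classInner (fun x => F (z * x)) ψ * conj c = classInner F ψ := by
      intro F
      simp only [classInner]
      rw [← Equiv.sum_comp (Equiv.mulLeft z) (fun x => F x * conj (ψ x)), mul_assoc, Finset.sum_mul]
      congr 1
      refine Finset.sum_congr rfl fun x _ => ?_
      have hcx : ψ (z * x) = c * ψ x := hc x
      simp only [Equiv.coe_mulLeft, hcx, map_mul]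
      ring
    have h1 := hsub χ
    have h3 := hsub fun x => χ (z * x)
    rw [show (fun x => (fun x => χ (z * x)) (z * x)) = χ from funext h2, hn] at h3
    rw [hn] at h1
    rw [← h3] at h1 ⊢
    by_cases hn0 : (n : ℂ) = 0
    · left; rw [hn0, zero_mul]
    have hcc : conj c * conj c = 1 := by
      have : (n : ℂ) * (conj c * conj c) = n * 1 := by rw [← mul_assoc, h1, mul_one]
      exact mul_left_cancel₀ hn0 this
    rcases mul_self_eq_one_iff.1 hcc with h | h <;> rw [h]
    · left; rw [mul_one]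
    · right; rw [mul_neg, mul_one]
  constructor
  · refine isCharacter_iff.mpr ⟨fun x y => ?_, fun ψ hψ => ?_⟩
    · show (χ (y * x * y⁻¹) + χ (z * (y * x * y⁻¹))) / 2 = _
      rw [hχ.isClassFunction, show χ (z * (y * x * y⁻¹)) = χ (z * x) from hcl x y]
    · obtain ⟨n, hn, hn'⟩ := hkey ψ hψ
      rw [show (fun x => (χ x + χ (z * x)) / 2) = (2 : ℂ)⁻¹ • (χ + fun x => χ (z * x)) from
        funext fun x => by simp; ring, classInner_smul_left, classInner_add_left, hn]
      rcases hn' with h | h <;> rw [h]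
      · exact ⟨n, by ring⟩
      · exact ⟨0, by simp⟩
  · refine isCharacter_iff.mpr ⟨fun x y => ?_, fun ψ hψ => ?_⟩
    · show (χ (y * x * y⁻¹) - χ (z * (y * x * y⁻¹))) / 2 = _
      rw [hχ.isClassFunction, show χ (z * (y * x * y⁻¹)) = χ (z * x) from hcl x y]
    · obtain ⟨n, hn, hn'⟩ := hkey ψ hψ
      rw [show (fun x => (χ x - χ (z * x)) / 2) = (2 : ℂ)⁻¹ • (χ - fun x => χ (z * x)) from
        funext fun x => by simp; ring, classInner_smul_left, classInner_sub_left, hn]
      rcases hn' with h | h <;> rw [h]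
      · exact ⟨0, by simp⟩
      · exact ⟨n, by ring⟩

variable {ζ : G → ℂ} {P : Subgroup G} {k : P ≃ ZMod p} (hS : Setting p ζ P k)

include hS

theorem Setting.eta_pow_orderOf {z : G} (hz : z ∈ Subgroup.center G) :
    eta p ζ z ^ orderOf z = 1 := by
  have h := hS.apply_pow_mul hz 1 (orderOf z)
  rw [mul_one, one_pow, pow_orderOf_eq_one, hS.deg] at h
  exact (mul_eq_right₀ hS.degree_ne).1 h.symm

theorem Setting.eta_two_elem {z : G} (hz : z ∈ Subgroup.center G) {l : ℕ} (ho : orderOf z ∣ 2 ^ l) :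
    eta p ζ z = 1 := by
  have h1 := hS.eta_pow_orderOf hz
  obtain ⟨d, hd⟩ := ho
  have h2 : eta p ζ z ^ (2 ^ l) = 1 := by rw [hd, pow_mul, h1, one_pow]
  have hg : Nat.gcd (2 ^ l) (oddPart p G) = 1 :=
    Nat.Coprime.pow_left _ (Nat.coprime_two_left.2 hS.oddPart_odd)
  have h3 := pow_gcd_eq_one.2 ⟨h2, hS.etaOdd z hz⟩
  rwa [hg, pow_one] at h3

theorem Setting.apply_center {z : G} (hz : z ∈ Subgroup.center G) :
    ζ z = eta p ζ z * ((p - 2 : ℕ) : ℂ) := by
  rw [← hS.deg, ← hS.scalar hz, mul_one]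

theorem Setting.three_lt : (0 : ℝ) < (p : ℝ) - 3 := by
  have : (3 : ℝ) < p := by exact_mod_cast (show 3 < p by have := hS.five; omega)
  linarith

theorem Setting.sub_two_cast : ((p - 2 : ℕ) : ℂ) = (p : ℂ) - 2 := by
  rw [Nat.cast_sub (by have := hS.five; omega), Nat.cast_ofNat]

/-- Values at elements of odd order prime to `p`. -/
theorem Setting.odd_value {g : G} (hg : ¬ p ∣ orderOf g) (ho : Odd (orderOf g)) :
    ζ g = 0 ∨ g ∈ Subgroup.center G := by
  obtain ⟨c, -, -, hcT, hcO⟩ := hS.exists_exponent (u := 1)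
    (fun h => (Fact.out : p.Prime).ne_one (Nat.dvd_one.1 h))
  have hsq : ∀ j : ℕ, ‖ζ (g ^ (2 ^ j))‖ ^ 2 =
      ((p - 2 : ℕ) : ℝ) * ‖ζ (g ^ (2 ^ (j + 1)))‖ := by
    intro j
    set x := g ^ (2 ^ j) with hx
    have hdvd : orderOf x ∣ orderOf g := orderOf_pow_dvd _
    have hxp : ¬ p ∣ orderOf x := fun h => hg (h.trans hdvd)
    have h := hS.regular_identity hxp hcT hcO
    rw [pow_inj_mod.2 (hcO.of_dvd (hS.odd_dvd hxp (ho.of_dvd_nat hdvd))), ← sq x] at h
    have hx2 : g ^ (2 ^ (j + 1)) = x ^ 2 := by rw [hx, ← pow_mul, pow_succ]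
    rw [hx2, sq ‖ζ x‖, ← norm_mul, eq_add_of_sub_eq h,
      show ((p : ℂ) - 3) * ζ (x ^ 2) + ζ (x ^ 2) = ((p - 2 : ℕ) : ℂ) * ζ (x ^ 2) by
        rw [hS.sub_two_cast]; ring, norm_mul, Complex.norm_natCast]
  obtain ⟨L, hL, hLg⟩ := exists_pow_two_fixed ho
  have hn := hS.degree_pos
  rcases eq_zero_or_one_of_periodic (fun j => ‖ζ (g ^ (2 ^ j))‖ / ((p - 2 : ℕ) : ℝ)) (by positivity)
    (fun j => by rw [div_pow, hsq j]; field_simp) hL (by simp [hLg]) with h | h <;>
    simp only [pow_zero, pow_one] at h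
  · rw [div_eq_zero_iff] at h
    exact Or.inl (norm_eq_zero.1 (h.resolve_right hn.ne'))
  · exact Or.inr (hS.scal g ((div_eq_one_iff_eq hn.ne').1 h))

/-- Elements of two-power order square into the center. -/
theorem Setting.two_value : ∀ (l : ℕ) (g : G), orderOf g = 2 ^ l →
    g * g ∈ Subgroup.center G ∧ (g ∉ Subgroup.center G → ζ g = -1) := by
  intro l
  induction l with
  | zero =>
    intro g hg
    rw [pow_zero, orderOf_eq_one_iff] at hg
    subst hg
    simp [one_mem]
  | succ l ih =>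
    intro g hg
    have hpp : p.Prime := Fact.out
    have h5 := hS.five
    have hgp : ¬ p ∣ orderOf g := fun h => by
      rw [hg] at h
      have := (Nat.prime_dvd_prime_iff_eq hpp Nat.prime_two).1 (hpp.dvd_of_dvd_pow h)
      omega
    have hgg : orderOf (g * g) = 2 ^ l := by
      rw [← sq, orderOf_pow' g two_ne_zero, hg, Nat.gcd_eq_right (dvd_pow_self 2 (by omega)),
        pow_succ, Nat.mul_div_cancel _ two_pos]
    obtain ⟨c, -, -, hcT, hcO⟩ := hS.exists_exponent (u := 1)
      (fun h => hpp.ne_one (Nat.dvd_one.1 h))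
    have hT : orderOf g ∣ twoPart p G := by
      refine (Nat.Coprime.dvd_of_dvd_mul_right ?_ (hS.regular_dvd hgp))
      rw [hg]
      exact Nat.Coprime.pow_left _ (Nat.coprime_two_left.2 hS.oddPart_odd)
    have hid := hS.regular_identity hgp hcT hcO
    rw [pow_inj_mod.2 (hcT.of_dvd hT), pow_one] at hid
    by_cases hggc : g * g ∈ Subgroup.center G
    · refine ⟨hggc, fun hgc => ?_⟩
      rw [hS.apply_center hggc, hS.eta_two_elem hggc (l := l) hgg.dvd, one_mul,
        hS.sub_two_cast] at hid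
      have h : (ζ g - ((p : ℂ) - 2)) * (ζ g + 1) = 0 := by linear_combination hid
      rcases mul_eq_zero.1 h with h | h
      · refine absurd (hS.scal g ?_) hgc
        rw [sub_eq_zero.1 h, ← hS.sub_two_cast, Complex.norm_natCast]
      · exact eq_neg_of_add_eq_zero_left h
    · exfalso
      obtain ⟨h4, hval⟩ := ih _ hgg
      rw [hval hggc] at hid
      have heq : ζ g * ζ g - ((p : ℂ) - 3) * ζ g + 1 = 0 := by linear_combination hid
      have him : (ζ g).im = 0 := by
        have h1 := congrArg Complex.im heq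
        have h2 := congrArg Complex.re heq
        simp only [Complex.add_im, Complex.sub_im, Complex.mul_im, Complex.mul_re, Complex.add_re,
          Complex.sub_re, Complex.one_im, Complex.one_re, Complex.zero_im, Complex.zero_re,
          Complex.natCast_im, Complex.natCast_re, Complex.re_ofNat, Complex.im_ofNat, sub_zero,
          zero_mul, add_zero] at h1 h2
        have hp3 : (3 : ℝ) ≤ (p : ℝ) - 3 := by
          have : (6 : ℝ) ≤ p := by exact_mod_cast (show 6 ≤ p by omega)
          linarith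
        have h1' : (ζ g).im * (2 * (ζ g).re - ((p : ℝ) - 3)) = 0 := by linear_combination h1
        rcases mul_eq_zero.1 h1' with h | h
        · exact h
        · exfalso
          have hre : (ζ g).re = ((p : ℝ) - 3) / 2 := by linarith
          rw [hre] at h2
          nlinarith [mul_self_nonneg (ζ g).im]
      have hinv : ∀ j : ℕ, j.Coprime (Nat.card G) → ζ (g ^ j) = ζ g := by
        intro j hj
        have h2d : 2 ∣ Nat.card G :=
          (hg ▸ dvd_pow_self 2 (by omega) : 2 ∣ orderOf g).trans (orderOf_dvd_natCard g)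
        have hjo : Odd j := Nat.coprime_two_left.1 ((hj.coprime_dvd_right h2d).symm)
        have h4' : g ^ 4 ∈ Subgroup.center G := by
          rw [show g ^ 4 = g * g * (g * g) by simp only [pow_succ, pow_zero, one_mul, mul_assoc]]
          exact h4
        have he4 : eta p ζ (g ^ 4) = 1 :=
          hS.eta_two_elem h4' (l := l + 1) (hg ▸ orderOf_pow_dvd 4)
        have hzj : ∀ x : G, ∀ q : ℕ, ζ ((g ^ 4) ^ q * x) = ζ x := by
          intro x q
          induction q with
          | zero => simp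
          | succ i ih' => rw [pow_succ', mul_assoc, hS.scalar h4', he4, one_mul, ih']
        obtain ⟨u, rfl⟩ := hjo
        rcases Nat.even_or_odd' u with ⟨q, rfl | rfl⟩
        · rw [show 2 * (2 * q) + 1 = 4 * q + 1 by ring, pow_succ, pow_mul]
          exact hzj g q
        · have e : g ^ (2 * (2 * q + 1) + 1) = (g ^ 4) ^ (q + 1) * g⁻¹ := by
            rw [← pow_mul, eq_mul_inv_iff_mul_eq, ← pow_succ]
            congr 1
            ring
          rw [e, hzj, hS.irr.isGeneralized.apply_inv, Complex.conj_eq_iff_im.2 him]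
      obtain ⟨X, hX⟩ := exists_int_of_pow_invariant hS.irr.isCharacter g hinv
      rw [hX] at heq
      have hz : X * (((p : ℤ) - 3) - X) = 1 := by
        have : ((X * (((p : ℤ) - 3) - X) : ℤ) : ℂ) = ((1 : ℤ) : ℂ) := by
          push_cast; linear_combination -heq
        exact_mod_cast this
      rcases Int.eq_one_or_neg_one_of_mul_eq_one hz with h | h <;> subst h <;> omega

/-- An element of odd order commuting with a noncentral 2-element is central modulo a prime. -/
theorem Setting.commute_prime {i h : G} {l r : ℕ} (hi : orderOf i = 2 ^ l)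
    (hiZ : i ∉ Subgroup.center G) (hcomm : Commute i h) (hr : r.Prime) (ho : Odd (orderOf h))
    (hp : ¬ p ∣ orderOf h) (hhr : h ^ r ∈ Subgroup.center G) : h ∈ Subgroup.center G := by
  classical
  by_contra hhZ
  have hpp : p.Prime := Fact.out
  have h5 := hS.five
  set t := (p - 1) / 2 with ht
  have hpt : p = 2 * t + 1 := by
    rcases hpp.eq_two_or_odd with h | h <;> omega
  obtain ⟨c, -, -, hcT, hcO⟩ := hS.exists_exponent (u := 1) (fun h => hpp.ne_one (Nat.dvd_one.1 h))
  obtain ⟨hiiZ, hiv⟩ := hS.two_value l i hi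
  have hi1 : ζ i = -1 := hiv hiZ
  have hii1 : eta p ζ (i * i) = 1 := by
    refine hS.eta_two_elem hiiZ (l := l) ?_
    rw [← sq, ← hi]
    exact orderOf_pow_dvd 2
  set H := Subgroup.zpowers h with hH
  have hHo : ∀ x : H, Odd (orderOf (x : G)) := fun x => ho.of_dvd_nat (by
    have h' := Subgroup.orderOf_dvd_natCard H x.2
    rwa [Nat.card_zpowers] at h')
  have hHp : ∀ x : H, ¬ p ∣ orderOf (x : G) := fun x h' => hp (h'.trans (by
    have h'' := Subgroup.orderOf_dvd_natCard H x.2
    rwa [Nat.card_zpowers] at h''))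
  have hHc : ∀ x : H, Commute i (x : G) := fun x => by
    obtain ⟨m, hm⟩ := Subgroup.mem_zpowers_iff.1 x.2
    rw [← hm]
    exact hcomm.zpow_right m
  have hoi2 : orderOf i ∣ twoPart p G := by
    have hip : ¬ p ∣ orderOf i := fun h => by
      rw [hi] at h
      have := (Nat.prime_dvd_prime_iff_eq hpp Nat.prime_two).1 (hpp.dvd_of_dvd_pow h)
      omega
    refine (Nat.Coprime.dvd_of_dvd_mul_right ?_ (hS.regular_dvd hip))
    rw [hi]
    exact Nat.Coprime.pow_left _ (Nat.coprime_two_left.2 hS.oddPart_odd)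
  -- values off the center
  have hX0 : ∀ x : H, (x : G) ∉ Subgroup.center G → ζ (x : G) = 0 := fun x hx =>
    (hS.odd_value (hHp x) (hHo x)).resolve_right hx
  have hp2Z : ∀ x : G, Odd (orderOf x) → ∀ j : ℕ, x ^ (2 ^ j) ∈ Subgroup.center G →
      x ∈ Subgroup.center G := by
    intro x hx j hxc
    obtain ⟨m, hm⟩ := exists_pow_eq_self_of_coprime
      ((Nat.coprime_two_left.2 hx).pow_left j)
    rw [← hm]
    exact pow_mem hxc m
  have hY : ∀ x : H, (x : G) ∉ Subgroup.center G →
      ‖ζ (i * x)‖ = 0 ∨ ‖ζ (i * x)‖ = (p : ℝ) - 3 := by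
    intro x hx
    have hsq : ∀ j : ℕ, ‖ζ (i * (x : G) ^ (2 ^ j))‖ ^ 2 =
        ((p : ℝ) - 3) * ‖ζ (i * (x : G) ^ (2 ^ (j + 1)))‖ := by
      intro j
      set y := (x : G) ^ (2 ^ j) with hy
      have hyd : orderOf y ∣ orderOf (x : G) := orderOf_pow_dvd _
      have hci : Commute i y := (hHc x).pow_right _
      have hyp : ¬ p ∣ orderOf y := fun h => hHp x (h.trans hyd)
      have hreg : ¬ p ∣ orderOf (i * y) := by
        intro hd
        rcases hpp.dvd_mul.1 (hd.trans hci.orderOf_mul_dvd_mul_orderOf) with h' | h'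
        · have h2 := (Nat.prime_dvd_prime_iff_eq hpp Nat.prime_two).1
            (hpp.dvd_of_dvd_pow (hi ▸ h'))
          omega
        · exact hyp h'
      have hid := hS.regular_identity hreg hcT hcO
      have hy2 : y * y = (x : G) ^ (2 ^ (j + 1)) := by rw [hy, ← pow_add, pow_succ]; ring_nf
      have e1 : (i * y) ^ c = i * (y * y) := by
        rw [hci.mul_pow, pow_inj_mod.2 (hcT.of_dvd hoi2), pow_one,
          pow_inj_mod.2 (hcO.of_dvd (hS.odd_dvd hyp ((hHo x).of_dvd_nat hyd))), sq]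
      have e2 : ζ (i * y * (i * y)) = 0 := by
        have hmem : y * y ∈ H := by rw [hy2]; exact pow_mem x.2 _
        have hnot : y * y ∉ Subgroup.center G := fun h' =>
          hx (hp2Z _ (hHo x) (j + 1) (hy2 ▸ h'))
        rw [show i * y * (i * y) = i * i * (y * y) by
          rw [mul_assoc, ← mul_assoc y, ← hci.eq, mul_assoc, mul_assoc],
          hS.scalar hiiZ, show ζ (y * y) = 0 from hX0 ⟨_, hmem⟩ hnot, mul_zero]
      rw [e1, e2, sub_zero] at hid
      rw [← hy2, sq ‖ζ (i * y)‖, ← norm_mul, hid, norm_mul,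
        show ((p : ℂ) - 3) = (((p : ℝ) - 3 : ℝ) : ℂ) by push_cast; rfl, Complex.norm_real,
        Real.norm_eq_abs, abs_of_pos hS.three_lt]
    obtain ⟨L, hL, hLx⟩ := exists_pow_two_fixed (hHo x)
    have hp3 := hS.three_lt
    rcases eq_zero_or_one_of_periodic
      (fun j => ‖ζ (i * (x : G) ^ (2 ^ j))‖ / ((p : ℝ) - 3)) (by positivity)
      (fun j => by rw [div_pow, hsq j]; field_simp) hL (by simp [hLx]) with h | h <;>
      simp only [pow_zero, pow_one] at h
    · exact Or.inl ((div_eq_zero_iff.1 h).resolve_right hp3.ne')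
    · exact Or.inr ((div_eq_one_iff_eq hp3.ne').1 h)
  -- the two characters
  set K := Subgroup.centralizer ({i} : Set G) with hK
  have hiK : i ∈ K := Subgroup.mem_centralizer_singleton_iff.2 rfl
  have hiKc : (⟨i, hiK⟩ : K) ∈ Subgroup.center K :=
    Subgroup.mem_center_iff.2 fun y => Subtype.ext (Subgroup.mem_centralizer_singleton_iff.1 y.2)
  have hχK : IsCharacter K (fun y : K => ζ y) := hS.irr.isCharacter.comp K.subtype
  obtain ⟨hA, hB⟩ := isCharacter_halfSum hχK hiKc (fun y => by
    show ζ (i * (i * (y : G))) = ζ y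
    rw [← mul_assoc, hS.scalar hiiZ, hii1, one_mul])
  have hHK : H ≤ K := fun x hx => Subgroup.mem_centralizer_singleton_iff.2 (hHc ⟨x, hx⟩).eq.symm
  set A : H → ℂ := fun x => (ζ (x : G) + ζ (i * x)) / 2 with hAdef
  set B : H → ℂ := fun x => (ζ (x : G) - ζ (i * x)) / 2 with hBdef
  have hAc : IsCharacter H A := hA.comp (Subgroup.inclusion hHK)
  have hBc : IsCharacter H B := hB.comp (Subgroup.inclusion hHK)
  have hiz : ∀ z ∈ Subgroup.center G, ∀ y : G, ζ (i * (z * y)) = eta p ζ z * ζ (i * y) := by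
    intro z hz y
    rw [← mul_assoc, Subgroup.mem_center_iff.1 hz i, mul_assoc, hS.scalar hz]
  have hAZ : ∀ x : H, (x : G) ∈ Subgroup.center G →
      A x = eta p ζ x * ((t : ℂ) - 1) ∧ B x = eta p ζ x * (t : ℂ) := by
    intro x hx
    have h1 := hS.apply_center hx
    have h2 := hiz _ hx 1
    rw [mul_one, mul_one, hi1] at h2
    have hp2 : ((p - 2 : ℕ) : ℂ) = 2 * (t : ℂ) - 1 := by
      have hpc : (p : ℂ) = 2 * (t : ℂ) + 1 := by exact_mod_cast hpt
      rw [hS.sub_two_cast, hpc]; ring
    simp only [hAdef, hBdef, h1, h2, hp2]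
    constructor <;> ring
  have hAn : ∀ x : H, (x : G) ∉ Subgroup.center G →
      A x = ζ (i * x) / 2 ∧ B x = -(ζ (i * x) / 2) := by
    intro x hx
    simp only [hAdef, hBdef, hX0 x hx]
    constructor <;> ring
  -- counting in `H`
  set W := Finset.univ.filter (fun x : H => (x : G) ∈ Subgroup.center G) with hW
  have hrcard : Nat.card H = r * W.card := by
    let D := (Subgroup.center G).subgroupOf H
    have hidx : D.index = r := by
      have hgen : ∀ q : H ⧸ D, q ∈ Subgroup.zpowers
          ((QuotientGroup.mk (⟨h, Subgroup.mem_zpowers h⟩ : H)) : H ⧸ D) := by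
        intro q
        obtain ⟨⟨x, hx⟩, rfl⟩ := QuotientGroup.mk_surjective q
        obtain ⟨m, rfl⟩ := Subgroup.mem_zpowers_iff.1 hx
        exact ⟨m, rfl⟩
      rw [Subgroup.index_eq_card, ← orderOf_eq_card_of_forall_mem_zpowers hgen]
      haveI := Fact.mk hr
      refine orderOf_eq_prime ?_ ?_
      · rw [← QuotientGroup.mk_pow, QuotientGroup.eq_one_iff]
        exact hhr
      · rw [Ne, QuotientGroup.eq_one_iff]
        exact hhZ
    rw [← Subgroup.index_mul_card D, hidx]
    congr 1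
    rw [hW, ← Fintype.card_subtype, ← Nat.card_eq_fintype_card]
    exact Nat.card_congr (Equiv.subtypeEquivRight fun x => Subgroup.mem_subgroupOf)
  have hcompl : (Finset.univ.filter (fun x : H => ¬ (x : G) ∈ Subgroup.center G)).card =
      (r - 1) * W.card := by
    have hs := Finset.card_filter_add_card_filter_not
      (s := (Finset.univ : Finset H)) (fun x : H => (x : G) ∈ Subgroup.center G)
    rw [Finset.card_univ, ← Nat.card_eq_fintype_card, hrcard, ← hW] at hs
    rw [Nat.sub_mul, one_mul]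
    omega
  have hW0 : (W.card : ℂ) ≠ 0 := by
    refine Nat.cast_ne_zero.2 (Finset.card_ne_zero.2 ⟨1, ?_⟩)
    simp [hW, one_mem]
  have hinner : ∀ (F F' : H → ℂ) (a b : ℂ),
      (∀ x : H, (x : G) ∈ Subgroup.center G → F x * conj (F' x) = a) →
      (∀ x : H, (x : G) ∉ Subgroup.center G → F x * conj (F' x) = b) →
      (r : ℂ) * classInner F F' = a + ((r : ℂ) - 1) * b := by
    intro F F' a b ha hb
    simp only [classInner]
    rw [hrcard, ← Finset.sum_filter_add_sum_filter_not Finset.univ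
      (fun x : H => (x : G) ∈ Subgroup.center G), ← hW,
      Finset.sum_congr rfl fun x hx => ha x (Finset.mem_filter.1 hx).2,
      Finset.sum_congr rfl fun x hx => hb x (Finset.mem_filter.1 hx).2, Finset.sum_const,
      Finset.sum_const, hcompl, nsmul_eq_mul, nsmul_eq_mul, Nat.cast_mul, Nat.cast_mul,
      Nat.cast_sub hr.one_le]
    have hr0 : (r : ℂ) ≠ 0 := Nat.cast_ne_zero.2 hr.ne_zero
    field_simp
    ring
  have hunit : ∀ x : H, (x : G) ∈ Subgroup.center G →
      eta p ζ x * conj (eta p ζ x) = 1 := fun x hx => by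
    rw [Complex.mul_conj, Complex.normSq_eq_norm_sq, hS.eta_norm hx]; simp
  have hZab : ∀ x : H, (x : G) ∈ Subgroup.center G →
      A x * conj (B x) = ((t : ℂ) - 1) * t ∧ A x * conj (A x) = ((t : ℂ) - 1) ^ 2 ∧
        B x * conj (B x) = (t : ℂ) ^ 2 := by
    intro x hx
    obtain ⟨e1, e2⟩ := hAZ x hx
    have h1 := hunit x hx
    refine ⟨?_, ?_, ?_⟩ <;> simp only [e1, e2, map_mul, map_sub, map_one, Complex.conj_natCast]
    · linear_combination ((t : ℂ) - 1) * t * h1
    · linear_combination ((t : ℂ) - 1) ^ 2 * h1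
    · linear_combination (t : ℂ) ^ 2 * h1
  have ht3 : 3 ≤ t := by omega
  by_cases hall : ∀ x : H, (x : G) ∉ Subgroup.center G → ζ (i * x) = 0
  · obtain ⟨a, ha⟩ := hAc.exists_nat_classInner hAc
    obtain ⟨b, hb⟩ := hBc.exists_nat_classInner hBc
    have eA := hinner A A _ 0 (fun x hx => (hZab x hx).2.1)
      (fun x hx => by rw [(hAn x hx).1, hall x hx]; simp)
    have eB := hinner B B _ 0 (fun x hx => (hZab x hx).2.2)
      (fun x hx => by rw [(hAn x hx).2, hall x hx]; simp)
    rw [ha, mul_zero, add_zero] at eA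
    rw [hb, mul_zero, add_zero] at eB
    have eA' : ((r * a : ℕ) : ℂ) = (((t - 1) ^ 2 : ℕ) : ℂ) := by
      rw [Nat.cast_pow, Nat.cast_sub (by omega), Nat.cast_mul]; push_cast; linear_combination eA
    have eB' : ((r * b : ℕ) : ℂ) = ((t ^ 2 : ℕ) : ℂ) := by push_cast; linear_combination eB
    have d1 : r ∣ t - 1 := hr.dvd_of_dvd_pow ⟨a, ((Nat.cast_inj (R := ℂ)).1 eA').symm⟩
    have d2 : r ∣ t := hr.dvd_of_dvd_pow ⟨b, ((Nat.cast_inj (R := ℂ)).1 eB').symm⟩
    have := Nat.dvd_sub d2 d1
    rw [show t - (t - 1) = 1 by omega] at this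
    exact hr.ne_one (Nat.dvd_one.1 this)
  · push Not at hall
    obtain ⟨x₀, hx₀, hx₀'⟩ := hall
    have hn0 : ‖ζ (i * x₀)‖ = (p : ℝ) - 3 :=
      (hY x₀ hx₀).resolve_left fun h => hx₀' (norm_eq_zero.1 h)
    obtain ⟨n, ρ, hρ⟩ := hAc
    -- `x₀` acts as a scalar on the first half
    have hnval : (n : ℂ) = (t : ℂ) - 1 := by
      have h1 := (hAZ 1 (one_mem _)).1
      rw [← hρ, Representation.char_one, Module.finrank_fin_fun] at h1
      rw [h1, Subgroup.coe_one, eta, hS.deg, div_self hS.degree_ne, one_mul]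
    have hnA : ‖A x₀‖ = (n : ℝ) := by
      have hn' : (n : ℝ) = (t : ℝ) - 1 := by
        have h' := congrArg Complex.re hnval
        simpa using h'
      rw [(hAn x₀ hx₀).1, norm_div, hn0, Complex.norm_ofNat, hn', hpt]
      push_cast
      ring
    obtain ⟨μ, hμ, hsum, -, hkpow, -, -⟩ := character_eq_sum_roots ρ x₀
    have hμn : ∀ j, ‖μ j‖ = 1 := fun j =>
      Complex.norm_eq_one_of_pow_eq_one (hμ j) (orderOf_pos x₀).ne'
    have hmu := Cfsg.Lib.Block.eq_avg_of_norm_sum hμn (Module.finrank_fin_fun ℂ)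
      (by rw [← hsum, hρ]; exact hnA)
    have hnorm : ∀ m : ℕ, ‖A (x₀ ^ m)‖ = (n : ℝ) := by
      intro m
      rw [← hρ, hkpow m]
      rcases Nat.eq_zero_or_pos (Module.finrank ℂ (Fin n → ℂ)) with h0 | hpos
      · rw [Module.finrank_fin_fun] at h0
        have : (t : ℂ) = 1 := by rw [h0] at hnval; push_cast at hnval; linear_combination -hnval
        norm_cast at this
        omega
      · set cst := (∑ j, μ j) / (n : ℂ) with hcst
        rw [Finset.sum_congr rfl fun j _ => by rw [hmu j], Finset.sum_const, Finset.card_univ,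
          Fintype.card_fin, nsmul_eq_mul, norm_mul, norm_pow, Complex.norm_natCast]
        have : ‖cst‖ = 1 := by rw [← hmu ⟨0, hpos⟩]; exact hμn _
        rw [this, one_pow, mul_one, Module.finrank_fin_fun]
    -- every noncentral element of `H` is a power of `x₀` modulo the center
    have hcover : ∀ x : H, ∃ (m : ℕ) (z : H), (z : G) ∈ Subgroup.center G ∧ x = z * x₀ ^ m := by
      intro x
      let D := (Subgroup.center G).subgroupOf H
      haveI := Fact.mk hr
      have hcard : Nat.card (H ⧸ D) = r := by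
        have h := Subgroup.index_mul_card D
        rw [hrcard] at h
        have hD : Nat.card D = W.card := by
          rw [hW, ← Fintype.card_subtype, ← Nat.card_eq_fintype_card]
          exact Nat.card_congr (Equiv.subtypeEquivRight fun x => Subgroup.mem_subgroupOf)
        rw [hD] at h
        rw [← Subgroup.index_eq_card]
        exact Nat.eq_of_mul_eq_mul_right (Finset.card_pos.2 ⟨1, by simp [hW, one_mem]⟩) h
      obtain ⟨m, hm⟩ := mem_powers_of_prime_card hcard
        (g := ((x₀ : H) : H ⧸ D)) (g' := ((x : H) : H ⧸ D))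
        (by rw [Ne, QuotientGroup.eq_one_iff]; exact hx₀)
      have hm' : ((x₀ ^ m : H) : H ⧸ D) = x := hm
      refine ⟨m, x * (x₀ ^ m)⁻¹, ?_, by rw [inv_mul_cancel_right]⟩
      have : x * (x₀ ^ m)⁻¹ ∈ D := by
        rw [← QuotientGroup.eq_one_iff, QuotientGroup.mk_mul, QuotientGroup.mk_inv, hm',
          mul_inv_cancel]
      exact this
    have hfull : ∀ x : H, (x : G) ∉ Subgroup.center G →
        A x * conj (B x) = -((t : ℂ) - 1) ^ 2 := by
      intro x hx
      obtain ⟨m, z, hz, rfl⟩ := hcover x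
      have hAz : A (z * x₀ ^ m) = eta p ζ z * A (x₀ ^ m) := by
        simp only [hAdef, Subgroup.coe_mul, hS.scalar hz, hiz _ hz]
        ring
      have hBA : B (z * x₀ ^ m) = -A (z * x₀ ^ m) := by
        rw [(hAn _ hx).1, (hAn _ hx).2]
      rw [hBA, map_neg, mul_neg, Complex.mul_conj, Complex.normSq_eq_norm_sq, hAz, norm_mul,
        hS.eta_norm hz, one_mul, hnorm, ← hnval]
      push_cast
      ring
    obtain ⟨j, hj⟩ := (show IsCharacter H A from ⟨n, ρ, hρ⟩).exists_nat_classInner hBc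
    have e := hinner A B _ _ (fun x hx => (hZab x hx).1) hfull
    rw [hj] at e
    have e' : ((r : ℤ) * j : ℤ) = ((t : ℤ) - 1) * t + ((r : ℤ) - 1) * -((t : ℤ) - 1) ^ 2 := by
      have : (((r : ℤ) * j : ℤ) : ℂ) =
          ((((t : ℤ) - 1) * t + ((r : ℤ) - 1) * -((t : ℤ) - 1) ^ 2 : ℤ) : ℂ) := by
        push_cast; linear_combination e
      exact_mod_cast this
    have hr3 : 3 ≤ r := by
      rcases hr.two_le.lt_or_eq with h | h
      · omega
      · exfalso
        subst h
        exact hhZ (hp2Z h ho 1 (by simpa using hhr))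
    have h1 : (t : ℤ) ≤ ((r : ℤ) - 1) * ((t : ℤ) - 1) - 1 := by nlinarith
    nlinarith [mul_le_mul_of_nonneg_left h1 (show (0 : ℤ) ≤ (t : ℤ) - 1 by omega),
      mul_nonneg (Nat.cast_nonneg (α := ℤ) r) (Nat.cast_nonneg (α := ℤ) j)]

/-- An element of odd order commuting with a noncentral 2-element is central. -/
theorem Setting.commute_odd {i h : G} {l : ℕ} (hi : orderOf i = 2 ^ l)
    (hiZ : i ∉ Subgroup.center G) (hcomm : Commute i h) (ho : Odd (orderOf h))
    (hp : ¬ p ∣ orderOf h) : h ∈ Subgroup.center G := by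
  by_contra hh
  set o := orderOf (QuotientGroup.mk h : G ⧸ Subgroup.center G) with hq
  have ho1 : o ≠ 1 := fun h1 => hh ((QuotientGroup.eq_one_iff h).1 (orderOf_eq_one_iff.1 h1))
  obtain ⟨r, hr, hrq⟩ := Nat.exists_prime_and_dvd ho1
  have hd : orderOf (h ^ (o / r)) ∣ orderOf h := orderOf_pow_dvd _
  have hmem := hS.commute_prime hi hiZ (hcomm.pow_right (o / r)) hr (ho.of_dvd_nat hd)
    (fun h' => hp (h'.trans hd)) (by
      rw [← pow_mul, Nat.div_mul_cancel hrq, ← QuotientGroup.eq_one_iff, QuotientGroup.mk_pow]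
      exact pow_orderOf_eq_one _)
  rw [← QuotientGroup.eq_one_iff, QuotientGroup.mk_pow, ← orderOf_dvd_iff_pow_eq_one, ← hq] at hmem
  have hpos : 0 < o := orderOf_pos _
  have := Nat.le_of_dvd (Nat.div_pos (Nat.le_of_dvd hpos hrq) hr.pos) hmem
  have := Nat.div_lt_self hpos hr.one_lt
  omega

/-- A conjugate of a noncentral 2-element does not centralize `P`. -/
theorem Setting.two_not_cent {i x : G} {l : ℕ} (hi : orderOf i = 2 ^ l)
    (hiZ : i ∉ Subgroup.center G) : x⁻¹ * i * x ∉ Subgroup.centralizer (P : Set G) := by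
  intro hc
  obtain ⟨y, hy, z, hz, hyz⟩ := hS.mem_cent_iff.1 hc
  have hord : ¬ p ∣ orderOf (y * z) := by
    rw [hyz, show x⁻¹ * i * x = MulAut.conj x⁻¹ i by simp, MulEquiv.orderOf_eq, hi]
    intro h
    have := (Nat.prime_dvd_prime_iff_eq (Fact.out : p.Prime) Nat.prime_two).1
      ((Fact.out : p.Prime).dvd_of_dvd_pow h)
    have := hS.five
    omega
  rw [hS.regular_cent hy hz hord, one_mul] at hyz
  refine hiZ ?_
  have hiz : i = x * z * x⁻¹ := by rw [hyz]; group
  rw [hiz, Subgroup.mem_center_iff.1 hz x, mul_inv_cancel_right]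
  exact hz

/-- An element commuting with a noncentral 2-element modulo the center squares into the center. -/
theorem Setting.cent_mod {i g : G} {l : ℕ} (hi : orderOf i = 2 ^ l) (hiZ : i ∉ Subgroup.center G)
    (hg : Commute (QuotientGroup.mk g : G ⧸ Subgroup.center G) (QuotientGroup.mk i)) :
    g * g ∈ Subgroup.center G := by
  obtain ⟨a, b, hb, hab⟩ := Nat.exists_eq_two_pow_mul_odd (orderOf_pos g).ne'
  set h := g ^ (2 ^ a) with hh
  have hho : orderOf h = b := by
    rw [hh, orderOf_pow' g (by positivity), hab, Nat.gcd_eq_right (dvd_mul_right _ _),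
      Nat.mul_div_cancel_left _ (by positivity)]
  have hhi : Commute h i := by
    have hq : Commute (QuotientGroup.mk h : G ⧸ Subgroup.center G) (QuotientGroup.mk i) := by
      rw [hh, QuotientGroup.mk_pow]; exact hg.pow_left _
    obtain ⟨z, hz⟩ : ∃ z, z = h * i * h⁻¹ * i⁻¹ := ⟨_, rfl⟩
    have hzc : z ∈ Subgroup.center G := by
      rw [← QuotientGroup.eq_one_iff, hz, QuotientGroup.mk_mul, QuotientGroup.mk_mul,
        QuotientGroup.mk_mul, QuotientGroup.mk_inv, QuotientGroup.mk_inv, hq.eq,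
        mul_inv_cancel_right, mul_inv_cancel]
    have hconj : h * i * h⁻¹ = z * i := by rw [hz]; group
    have hii := (hS.two_value l i hi).1
    have hz2 : z * z = 1 := by
      have e1 : h * (i * i) * h⁻¹ = i * i := by
        rw [Subgroup.mem_center_iff.1 hii h, mul_inv_cancel_right]
      have e2 : h * (i * i) * h⁻¹ = z * i * (z * i) := by rw [← hconj]; group
      rw [e1, show z * i * (z * i) = z * z * (i * i) by
        rw [mul_assoc, ← mul_assoc i z, Subgroup.mem_center_iff.1 hzc i, mul_assoc, mul_assoc]] at e2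
      exact (mul_eq_right.1 e2.symm)
    have hpow : ∀ j : ℕ, h ^ j * i * (h ^ j)⁻¹ = z ^ j * i := by
      intro j
      induction j with
      | zero => simp
      | succ m ih =>
        calc h ^ (m + 1) * i * (h ^ (m + 1))⁻¹ = h * (h ^ m * i * (h ^ m)⁻¹) * h⁻¹ := by
              rw [pow_succ' h, mul_inv_rev]; simp only [mul_assoc]
          _ = h * (z ^ m * i) * h⁻¹ := by rw [ih]
          _ = z ^ m * (h * i * h⁻¹) := by
              rw [← mul_assoc h, Subgroup.mem_center_iff.1 (pow_mem hzc m) h]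
              simp only [mul_assoc]
          _ = z ^ (m + 1) * i := by rw [hconj, pow_succ, mul_assoc]
    have hzb : z ^ b = 1 := by
      have e := hpow b
      rw [← hho, pow_orderOf_eq_one, one_mul, inv_one, mul_one] at e
      rw [← hho]
      exact mul_eq_right.1 e.symm
    have hz1 : z = 1 := by
      have h2b : Nat.gcd 2 b = 1 := Nat.coprime_two_left.2 hb
      have := pow_gcd_eq_one.2 ⟨(sq z).trans hz2, hzb⟩
      rwa [h2b, pow_one] at this
    rw [hz1, one_mul, mul_inv_eq_iff_eq_mul] at hconj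
    exact hconj
  have hhc : h ∈ Subgroup.center G := by
    by_cases hpb : p ∣ b
    · exfalso
      set y₀ := h ^ (b / p) with hy₀
      have hyo : orderOf y₀ = p := by
        rw [hy₀, ← hho]
        exact orderOf_pow_orderOf_div (orderOf_pos h).ne' (hho ▸ hpb)
      obtain ⟨x, hx⟩ := hS.exists_conj_cent (g := y₀) hyo.symm.dvd
      have hxP : x⁻¹ * y₀ * x ∈ P := hS.mem_P_of_pow hx (by
        have := conj_pow (a := x⁻¹) (b := y₀) (i := p)
        rw [inv_inv] at this
        rw [this, ← hyo, pow_orderOf_eq_one, mul_one, inv_mul_cancel])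
      have hne : x⁻¹ * y₀ * x ≠ 1 := fun h1 => by
        have : y₀ = x * (x⁻¹ * y₀ * x) * x⁻¹ := by group
        rw [h1, mul_one, mul_inv_cancel] at this
        rw [this, orderOf_one] at hyo
        exact (Fact.out : p.Prime).ne_one hyo.symm
      refine hS.two_not_cent (x := x) hi hiZ ?_
      rw [← hS.centralizer_singleton hxP hne, Subgroup.mem_centralizer_singleton_iff]
      have hc : i * y₀ = y₀ * i := (hhi.symm.pow_right _).eq
      calc x⁻¹ * i * x * (x⁻¹ * y₀ * x) = x⁻¹ * (i * y₀) * x := by group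
        _ = x⁻¹ * (y₀ * i) * x := by rw [hc]
        _ = x⁻¹ * y₀ * x * (x⁻¹ * i * x) := by group
    · exact hS.commute_odd hi hiZ hhi.symm (hho ▸ hb) (hho ▸ hpb)
  have ho2 : orderOf (g ^ b) = 2 ^ a := by
    rw [orderOf_pow' g hb.pos.ne', hab, Nat.gcd_eq_right (dvd_mul_left _ _),
      Nat.mul_div_cancel _ hb.pos]
  have h2b : g ^ (b * 2) ∈ Subgroup.center G := by
    rw [pow_mul, sq]; exact (hS.two_value a _ ho2).1
  rw [← QuotientGroup.eq_one_iff, QuotientGroup.mk_pow] at h2b
  rw [hh, ← QuotientGroup.eq_one_iff, QuotientGroup.mk_pow] at hhc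
  have e := pow_gcd_eq_one.2 ⟨h2b, hhc⟩
  have hdvd : Nat.gcd (b * 2) (2 ^ a) ∣ 2 := by
    refine Nat.Coprime.dvd_of_dvd_mul_left ?_ (Nat.gcd_dvd_left _ _)
    exact ((Nat.coprime_two_left.2 hb).pow_left a).coprime_dvd_left (Nat.gcd_dvd_right _ _)
  obtain ⟨d, hd⟩ := hdvd
  rw [← QuotientGroup.eq_one_iff, ← sq, QuotientGroup.mk_pow, hd, pow_mul, e, one_pow]

/-- The values at regular elements outside the center. -/
theorem Setting.regular_value {g : G} (hg : ¬ p ∣ orderOf g) (hgc : g ∉ Subgroup.center G) :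
    (g * g ∉ Subgroup.center G ∧ ζ g = 0) ∨ (g * g ∈ Subgroup.center G ∧ ‖ζ g‖ = 1) := by
  obtain ⟨a, b, hb, hab⟩ := Nat.exists_eq_two_pow_mul_odd (orderOf_pos g).ne'
  set h := g ^ (2 ^ a) with hh
  set i := g ^ b with hi
  have hho : orderOf h = b := by
    rw [hh, orderOf_pow' g (by positivity), hab, Nat.gcd_eq_right (dvd_mul_right _ _),
      Nat.mul_div_cancel_left _ (by positivity)]
  have ho2 : orderOf i = 2 ^ a := by
    rw [hi, orderOf_pow' g hb.pos.ne', hab, Nat.gcd_eq_right (dvd_mul_left _ _),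
      Nat.mul_div_cancel _ hb.pos]
  have hbp : ¬ p ∣ b := fun h => hg (hab ▸ h.mul_left _)
  obtain ⟨u, v, huv⟩ : ∃ u v : ℕ, g = i ^ u * h ^ v := by
    obtain ⟨n, hn1, hn2⟩ := Nat.chineseRemainder ((Nat.coprime_two_left.2 hb).pow_left a) 1 0
    obtain ⟨n', hn1', hn2'⟩ := Nat.chineseRemainder ((Nat.coprime_two_left.2 hb).pow_left a) 0 1
    obtain ⟨u, rfl⟩ := Nat.modEq_zero_iff_dvd.1 hn2
    obtain ⟨v, rfl⟩ := Nat.modEq_zero_iff_dvd.1 hn1'
    refine ⟨u, v, ?_⟩
    have hmod : b * u + 2 ^ a * v ≡ 1 [MOD orderOf g] := by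
      rw [hab]
      refine (Nat.modEq_and_modEq_iff_modEq_mul ((Nat.coprime_two_left.2 hb).pow_left a)).1
        ⟨?_, ?_⟩
      · simpa using hn1.add (Nat.modEq_zero_iff_dvd.2 (dvd_mul_right (2 ^ a) v))
      · simpa using (Nat.modEq_zero_iff_dvd.2 (dvd_mul_right b u)).add hn2'
    rw [hi, hh, ← pow_mul, ← pow_mul, ← pow_add, pow_inj_mod.2 hmod, pow_one]
  have hcomm : Commute i h := Commute.pow_pow_self g b (2 ^ a)
  by_cases hiZ : i ∈ Subgroup.center G
  · left
    have hiu := pow_mem hiZ u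
    have hhZ : h ^ v ∉ Subgroup.center G := fun hc => hgc (huv ▸ mul_mem hiu hc)
    have hd : orderOf (h ^ v) ∣ b := hho ▸ orderOf_pow_dvd v
    have hval := (hS.odd_value (fun h' => hbp (h'.trans hd)) (hb.of_dvd_nat hd)).resolve_right hhZ
    refine ⟨fun hgg => hhZ (pow_mem ?_ v), by rw [huv, hS.scalar hiu, hval, mul_zero]⟩
    -- `h` is a power of `g * g` and of a central element
    rcases Nat.eq_zero_or_pos a with ha | ha
    · obtain ⟨m, hm⟩ := exists_pow_eq_self_of_coprime (n := 2) (x := g)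
        (Nat.coprime_two_left.2 (by rw [hab, ha, pow_zero, one_mul]; exact hb))
      refine absurd ?_ hgc
      rw [← hm, sq]
      exact pow_mem hgg m
    · rw [hh, show 2 ^ a = 2 * 2 ^ (a - 1) by rw [← pow_succ']; congr 1; omega, pow_mul, sq]
      exact pow_mem hgg _
  · right
    have hhc : h ∈ Subgroup.center G := hS.commute_odd ho2 hiZ hcomm (hho ▸ hb) (hho ▸ hbp)
    have hhv := pow_mem hhc v
    have hiu : i ^ u ∉ Subgroup.center G := fun hc => hgc (huv ▸ mul_mem hc hhv)
    obtain ⟨a', -, ha'⟩ := (Nat.dvd_prime_pow Nat.prime_two).1 (ho2 ▸ orderOf_pow_dvd u :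
      orderOf (i ^ u) ∣ 2 ^ a)
    obtain ⟨hsq, hval⟩ := hS.two_value a' _ ha'
    have hgz : g = h ^ v * i ^ u := huv.trans (Subgroup.mem_center_iff.1 hhv _)
    refine ⟨?_, by rw [hgz, hS.scalar hhv, hval hiu, norm_mul, hS.eta_norm hhv, norm_neg,
      norm_one, mul_one]⟩
    rw [show g * g = h ^ v * h ^ v * (i ^ u * i ^ u) by
      rw [hgz, mul_assoc, ← mul_assoc (i ^ u) (h ^ v), Subgroup.mem_center_iff.1 hhv (i ^ u),
        mul_assoc, mul_assoc]]
    exact mul_mem (mul_mem hhv hhv) hsq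

end Cfsg.Agent.DegreePSubTwo
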