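import Cfsg.Agent.Lib.Char.Linear
import Cfsg.Agent.Lib.Char.Quotient
import Mathlib.GroupTheory.SpecificGroups.Cyclic
import Cfsg.Agent.Lib.Char.Constituents
import Cfsg.Prelude.Def_Transfer

/-!
# Characters of extraspecial groups
-/

set_option autoImplicit false
set_option linter.unusedSectionVars false
set_option linter.style.haveILetI false

namespace Cfsg.Lib.Char

open Cfsg
open scoped ComplexConjugate commutatorElement

universe u

variable {P : Type u} [Group P] [Fintype P] {p n : ℕ} [hp : Fact p.Prime]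

theorem extraspecial_vanish (hP : IsExtraspecial p P) {χ : P → ℂ} (hχ : IsIrrCharacter P χ)
    (hne : ∃ z ∈ Subgroup.center P, χ z ≠ χ 1) {x : P} (hx : x ∉ Subgroup.center P) : χ x = 0 := by
  obtain ⟨m, ρ, hρ, rfl⟩ := hχ
  obtain ⟨z₀, hz₀, hne⟩ := hne
  obtain ⟨y, hy⟩ : ∃ y, y * x ≠ x * y := by
    by_contra hcon
    push Not at hcon
    exact hx (Subgroup.mem_center_iff.mpr hcon)
  set c : P := x⁻¹ * (y * x * y⁻¹) with hc
  have hcc : c ∈ Subgroup.center P := by
    rw [← hP.1.2.2]
    have h : c = x⁻¹ * y * (x⁻¹)⁻¹ * y⁻¹ := by rw [hc]; group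
    rw [h, ← commutatorElement_def]
    exact Subgroup.commutator_mem_commutator (Subgroup.mem_top _) (Subgroup.mem_top _)
  have hc1 : c ≠ 1 := by
    intro e
    rw [hc, inv_mul_eq_one, eq_mul_inv_iff_mul_eq] at e
    exact hy e.symm
  let T : Representation.IntertwiningMap ρ ρ := ⟨ρ c, fun g => by
    show ρ c ∘ₗ ρ g = ρ g ∘ₗ ρ c
    rw [← Module.End.mul_eq_comp, ← Module.End.mul_eq_comp, ← map_mul, ← map_mul,
      Subgroup.mem_center_iff.mp hcc g]⟩
  obtain ⟨a, ha⟩ :=
    (Representation.IsIrreducible.algebraMap_intertwiningMap_bijective_of_isAlgClosed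
      (ρ := ρ)).2 T
  have haT : ρ c = a • LinearMap.id :=
    (congrArg Representation.IntertwiningMap.toLinearMap ha).symm
  have ha1 : a ≠ 1 := by
    intro e
    rw [e, one_smul] at haT
    apply hne
    haveI : Fact (Nat.card (Subgroup.center P)).Prime := ⟨by rw [hP.2]; exact hp.out⟩
    have htop := zpowers_eq_top_of_prime_card (G := Subgroup.center P) (g := ⟨c, hcc⟩) rfl
      (fun e' => hc1 (congrArg Subtype.val e'))
    have hz : (⟨z₀, hz₀⟩ : Subgroup.center P) ∈ Subgroup.zpowers ⟨c, hcc⟩ :=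
      htop ▸ Subgroup.mem_top _
    obtain ⟨j, hj⟩ := mem_powers_iff_mem_zpowers.mpr hz
    have hj' : c ^ j = z₀ := congrArg Subtype.val hj
    have h1 : ρ z₀ = ρ 1 := by
      rw [← hj', map_pow, show ρ c = 1 from haT, one_pow, show ρ 1 = 1 from map_one ρ]
    show LinearMap.trace ℂ _ (ρ z₀) = LinearMap.trace ℂ _ (ρ 1)
    rw [h1]
  have h1 : ρ.character (y * x * y⁻¹) = a * ρ.character x := by
    have he : y * x * y⁻¹ = x * c := by rw [hc, mul_inv_cancel_left]
    show LinearMap.trace ℂ _ (ρ (y * x * y⁻¹)) = _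
    rw [he, map_mul, haT, show ρ x * (a • LinearMap.id) = a • ρ x by ext v; simp,
      map_smul, smul_eq_mul]
    rfl
  rw [ρ.char_conj] at h1
  by_contra h0
  exact ha1 (mul_right_cancel₀ h0 ((one_mul _).trans h1)).symm

theorem extraspecial_degree (hP : IsExtraspecial p P) (hcard : Nat.card P = p ^ (2 * n + 1))
    {χ : P → ℂ} (hχ : IsIrrCharacter P χ) (hne : ∃ z ∈ Subgroup.center P, χ z ≠ χ 1) :
    χ 1 = (p : ℂ) ^ n := by
  classical
  obtain ⟨d, hd⟩ := hχ.isCharacter.exists_degree
  haveI := Fintype.ofFinite (Subgroup.center P)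
  have h := classInner_irr_self hχ
  rw [classInner, inv_mul_eq_iff_eq_mul₀ card_cast_ne_zero, mul_one,
    ← Finset.sum_filter_add_sum_filter_not Finset.univ (fun g => g ∈ Subgroup.center P),
    Finset.sum_eq_zero (s := Finset.univ.filter fun g => g ∉ Subgroup.center P) (fun g hg => by
      rw [extraspecial_vanish hP hχ hne (Finset.mem_filter.mp hg).2, zero_mul]), add_zero,
    Finset.sum_congr rfl (g := fun _ => (d : ℂ) * d) (fun g hg => ?_), Finset.sum_const,
    nsmul_eq_mul, ← Fintype.card_subtype, ← Nat.card_eq_fintype_card, hP.2, hcard] at h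
  · norm_cast at h
    have hd2 : d * d = p ^ n * p ^ n := by
      apply Nat.eq_of_mul_eq_mul_left hp.out.pos
      rw [h]; ring
    rw [hd, Nat.mul_self_inj.mp hd2, Nat.cast_pow]
  · have hg' : g ∈ Subgroup.center P := (Finset.mem_filter.mp hg).2
    obtain ⟨m, ρ, hρ, rfl⟩ := hχ
    let T : Representation.IntertwiningMap ρ ρ := ⟨ρ g, fun k => by
      show ρ g ∘ₗ ρ k = ρ k ∘ₗ ρ g
      rw [← Module.End.mul_eq_comp, ← Module.End.mul_eq_comp, ← map_mul, ← map_mul,
        Subgroup.mem_center_iff.mp hg' k]⟩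
    obtain ⟨a, ha⟩ :=
      (Representation.IsIrreducible.algebraMap_intertwiningMap_bijective_of_isAlgClosed
        (ρ := ρ)).2 T
    have haT : ρ g = a • LinearMap.id :=
      (congrArg Representation.IntertwiningMap.toLinearMap ha).symm
    have hn := (norm_character_eq_iff ρ g).mpr ⟨a, haT⟩
    rw [Representation.char_one, Nat.cast_inj] at hd
    rw [Complex.mul_conj', hn, hd]
    push_cast
    ring

theorem extraspecial_trivial_on_center (hP : IsExtraspecial p P) {χ : P → ℂ}
    (hχ : IsIrrCharacter P χ) (h : ∀ z ∈ Subgroup.center P, χ z = χ 1) : χ 1 = 1 := by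
  haveI : (Subgroup.center P).Normal := inferInstance
  obtain ⟨ψ, hψ, he⟩ := exists_deflate_irr (Subgroup.center P) hχ h
  have h1 := degree_eq_one_of_comm (fun a b => ?_) hψ
  · have h2 := he 1
    rw [QuotientGroup.mk_one] at h2
    rw [← h2, h1]
  · haveI : IsMulCommutative (P ⧸ Subgroup.center P) :=
      Subgroup.Normal.quotient_commutative_iff_commutator_le.mpr hP.1.2.2.le
    exact mul_comm' a b

end Cfsg.Lib.Char
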