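import Cfsg.Agent.Lib.Char.LargerDegree
import Cfsg.Agent.Lib.Char.Quotient
import Cfsg.Agent.Lib.Core.Fitting
import Mathlib.GroupTheory.Nilpotent

/-!
# A nilpotent series no longer than the number of degrees
-/

set_option autoImplicit false
set_option linter.unusedSectionVars false
set_option linter.style.haveILetI false

namespace Cfsg.Lib.Char

open Cfsg

universe u

/-- A normal series with `n` nilpotent factors. -/
def HasNilSeries (n : ℕ) (G : Type u) [Group G] : Prop :=
  ∃ N : Fin (n + 1) → Subgroup G, N 0 = ⊥ ∧ N (Fin.last n) = ⊤ ∧ Monotone N ∧ (∀ i, (N i).Normal) ∧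
    ∀ i : Fin n, ∀ h : (N i.castSucc).subgroupOf (N i.succ) |>.Normal,
      Group.IsNilpotent (↥(N i.succ) ⧸ (N i.castSucc).subgroupOf (N i.succ))

theorem hasNilSeries_of_subsingleton (n : ℕ) (G : Type u) [Group G] [Subsingleton G] :
    HasNilSeries n G :=
  ⟨fun _ => ⊥, rfl, Subsingleton.elim _ _, fun _ _ _ => le_rfl, fun _ => inferInstance, fun _ _ =>
    inferInstance⟩

theorem isNilpotent_factor {G Q : Type u} [Group G] [Group Q] (f : G →* Q) (A B : Subgroup Q)
    (hn : (A.subgroupOf B).Normal) (hnil : Group.IsNilpotent (↥B ⧸ A.subgroupOf B))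
    (A' B' : Subgroup G) (hA : A' = A.comap f) (hB : B' = B.comap f)
    (hn' : (A'.subgroupOf B').Normal) : Group.IsNilpotent (↥B' ⧸ A'.subgroupOf B') := by
  subst hA hB
  haveI := hn
  haveI := hn'
  haveI := hnil
  let φ : ↥(B.comap f) →* ↥B ⧸ A.subgroupOf B :=
    (QuotientGroup.mk' (A.subgroupOf B)).comp (f.subgroupComap B)
  have hker : φ.ker = (A.comap f).subgroupOf (B.comap f) := by
    ext x
    rw [MonoidHom.mem_ker, MonoidHom.comp_apply, QuotientGroup.mk'_apply, QuotientGroup.eq_one_iff,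
      Subgroup.mem_subgroupOf, Subgroup.mem_subgroupOf, Subgroup.mem_comap]
    rfl
  refine Subgroup.isNilpotent_of_ker_le_center (QuotientGroup.lift _ φ hker.ge) ?_
  intro x hx
  obtain ⟨y, rfl⟩ := QuotientGroup.mk_surjective x
  have hy : y ∈ φ.ker := hx
  rw [hker] at hy
  rw [(QuotientGroup.eq_one_iff y).2 hy]
  exact one_mem _

/-- Adding a nilpotent bottom. -/
theorem hasNilSeries_extend {n : ℕ} {G : Type u} [Group G] (F : Subgroup G) [F.Normal]
    (hF : Group.IsNilpotent F) (h : HasNilSeries n (G ⧸ F)) : HasNilSeries (n + 1) G := by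
  obtain ⟨N, h0, hlast, hmono, hnorm, hfac⟩ := h
  let π := QuotientGroup.mk' F
  obtain ⟨N', hz, hs⟩ : ∃ N' : Fin (n + 1 + 1) → Subgroup G, N' 0 = ⊥ ∧
      ∀ i, N' i.succ = (N i).comap π :=
    ⟨Fin.cons ⊥ fun i => (N i).comap π, Fin.cons_zero _ _, fun i => Fin.cons_succ _ _ i⟩
  refine ⟨N', hz, ?_, ?_, ?_, ?_⟩
  · rw [← Fin.succ_last, hs, hlast, Subgroup.comap_top]
  · refine Fin.monotone_iff_le_succ.2 fun i => ?_
    induction i using Fin.cases with
    | zero => rw [Fin.castSucc_zero, hz]; exact bot_le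
    | succ j =>
      rw [← Fin.succ_castSucc, hs, hs]
      exact Subgroup.comap_mono (hmono (Fin.castSucc_le_succ j))
  · intro i
    induction i using Fin.cases with
    | zero => rw [hz]; infer_instance
    | succ j => rw [hs]; exact (hnorm j).comap π
  · intro i
    induction i using Fin.cases with
    | zero =>
      intro hn
      haveI : Group.IsNilpotent ↥(N' (Fin.succ (0 : Fin (n + 1)))) := by
        rw [hs, h0, MonoidHom.comap_bot, QuotientGroup.ker_mk']; exact hF
      haveI := hn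
      exact Group.nilpotent_of_surjective (QuotientGroup.mk' _) (QuotientGroup.mk'_surjective _)
    | succ j =>
      intro hn
      refine isNilpotent_factor π (N j.castSucc) (N j.succ) ?_ ?_ _ _ ?_ (hs _) hn
      · exact (hnorm _).subgroupOf _
      · exact hfac j _
      · rw [← Fin.succ_castSucc, hs]

theorem hasNilSeries_of_degrees : ∀ (n : ℕ) {G : Type u} [Group G] [Finite G],
    Group.IsSolvable G → Nat.card {d : ℕ // ∃ χ : IrrCharacter G, charDegree (χ : G → ℂ) = d} ≤ n →
      HasNilSeries n G := by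
  intro n
  induction n with
  | zero =>
    intro G _ _ _ hn
    exfalso
    haveI := Fintype.ofFinite G
    haveI : Finite {d : ℕ // ∃ χ : IrrCharacter G, charDegree (χ : G → ℂ) = d} :=
      Finite.of_surjective (fun χ : IrrCharacter G => (⟨_, χ, rfl⟩ :
        {d : ℕ // ∃ χ : IrrCharacter G, charDegree (χ : G → ℂ) = d}))
        fun ⟨_, χ, h⟩ => ⟨χ, Subtype.ext h⟩
    haveI : Nonempty {d : ℕ // ∃ χ : IrrCharacter G, charDegree (χ : G → ℂ) = d} :=
      ⟨⟨_, ⟨_, isIrrCharacter_one⟩, rfl⟩⟩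
    exact absurd Nat.card_pos (Nat.not_lt.2 hn)
  | succ n ih =>
    intro G _ _ hsolv hn
    classical
    haveI := Fintype.ofFinite G
    set F := fittingSubgroup G with hF
    haveI : F.Normal := Core.fittingSubgroup_normal' G
    refine hasNilSeries_extend F (Core.fittingSubgroup_isNilpotent G) ?_
    by_cases htop : F = ⊤
    · haveI : Subsingleton (G ⧸ F) := QuotientGroup.subsingleton_iff.2 htop
      exact hasNilSeries_of_subsingleton n _
    refine ih inferInstance ?_
    obtain ⟨χ, -, hmax⟩ := (Finset.univ : Finset (IrrCharacter G)).exists_max_image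
      (fun χ => charDegree (χ : G → ℂ)) ⟨⟨_, isIrrCharacter_one⟩, Finset.mem_univ _⟩
    -- a character of the largest degree is nontrivial on the Fitting subgroup
    have hnot : ∀ ψ : IrrCharacter G, (∀ g ∈ F, (ψ : G → ℂ) g = (ψ : G → ℂ) 1) →
        charDegree (ψ : G → ℂ) < charDegree (χ : G → ℂ) := by
      intro ψ hψ
      by_contra hlt
      push Not at hlt
      set K := charKer ψ.2.isCharacter with hK
      haveI : K.Normal := charKer_normal ψ.2.isCharacter
      have hKmem : ∀ g : G, g ∈ K ↔ (ψ : G → ℂ) g = (ψ : G → ℂ) 1 := fun g =>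
        mem_charKer ψ.2.isCharacter
      by_cases hKF : K ≤ F
      · obtain ⟨η, hη, -⟩ := exists_larger_of_fitting ψ K hKmem
          (le_antisymm hKF fun g hg => (hKmem g).2 (hψ g hg)) inferInstance
          (fun h => htop (top_le_iff.1 (h ▸ hKF)))
        exact absurd (hmax η (Finset.mem_univ _)) (not_le.2 (hlt.trans_lt hη))
      · obtain ⟨η, hη, -⟩ := exists_larger_of_not_nilpotent ψ K hKmem hKF
        exact absurd (hmax η (Finset.mem_univ _)) (not_le.2 (hlt.trans_lt hη))
    haveI : Finite {d : ℕ // ∃ ψ : IrrCharacter G, charDegree (ψ : G → ℂ) = d} :=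
      Finite.of_surjective (fun ψ : IrrCharacter G => (⟨_, ψ, rfl⟩ :
        {d : ℕ // ∃ ψ : IrrCharacter G, charDegree (ψ : G → ℂ) = d}))
        fun ⟨_, ψ, h⟩ => ⟨ψ, Subtype.ext h⟩
    have hlift : ∀ d : {d : ℕ // ∃ ψ : IrrCharacter (G ⧸ F), charDegree (ψ : G ⧸ F → ℂ) = d},
        (∃ ψ : IrrCharacter G, charDegree (ψ : G → ℂ) = d.1) ∧ d.1 < charDegree (χ : G → ℂ) := by
      rintro ⟨d, ψ, rfl⟩
      refine ⟨⟨⟨_, isIrrCharacter_inflate F ψ.2⟩, rfl⟩, hnot ⟨_, isIrrCharacter_inflate F ψ.2⟩
        fun g hg => ?_⟩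
      show (ψ : G ⧸ F → ℂ) (g : G ⧸ F) = (ψ : G ⧸ F → ℂ) ((1 : G) : G ⧸ F)
      rw [(QuotientGroup.eq_one_iff g).2 hg, QuotientGroup.mk_one]
    let f : Option {d : ℕ // ∃ ψ : IrrCharacter (G ⧸ F), charDegree (ψ : G ⧸ F → ℂ) = d} →
        {d : ℕ // ∃ ψ : IrrCharacter G, charDegree (ψ : G → ℂ) = d} :=
      fun o => match o with
        | none => ⟨_, χ, rfl⟩
        | some d => ⟨d.1, (hlift d).1⟩
    have hf : Function.Injective f := by
      rintro (_ | a) (_ | b) h
      · rfl
      · exact absurd (congrArg Subtype.val h) (hlift b).2.ne'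
      · exact absurd (congrArg Subtype.val h) (hlift a).2.ne
      · exact congrArg some (Subtype.ext (congrArg Subtype.val h :))
    haveI : Finite (Option {d : ℕ // ∃ ψ : IrrCharacter (G ⧸ F), charDegree (ψ : G ⧸ F → ℂ) = d}) :=
      Finite.of_injective f hf
    haveI : Finite {d : ℕ // ∃ ψ : IrrCharacter (G ⧸ F), charDegree (ψ : G ⧸ F → ℂ) = d} :=
      Finite.of_injective _ (Option.some_injective _)
    have hc := Nat.card_le_card_of_injective f hf
    rw [Finite.card_option] at hc
    omega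

end Cfsg.Lib.Char
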