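import Cfsg.Agent.Lib.Char.GlaubermanCyclic
import Cfsg.Agent.Lib.Char.Linear

/-!
# Slices at all the elements of a cyclic group of operators with a common centralizer

A character of an abelian group whose values off the identity have the smallest possible sum of
squared norms is a multiple of the regular character plus or minus a linear character.
-/

set_option autoImplicit false
set_option linter.unusedSectionVars false
set_option linter.style.haveILetI false
set_option maxHeartbeats 800000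

namespace Cfsg.Lib.Char

open Cfsg
open scoped ComplexConjugate

universe u

/-- Integers: the least positive variance. -/
theorem variance_cases {ι : Type*} [Fintype ι] [Nonempty ι] (a : ι → ℕ) (hne : ∃ i j, a i ≠ a j) :
    Fintype.card ι - 1 + (∑ i, a i) ^ 2 ≤ Fintype.card ι * ∑ i, a i ^ 2 ∧
      (Fintype.card ι * ∑ i, a i ^ 2 = Fintype.card ι - 1 + (∑ i, a i) ^ 2 →
        ∃ (i₀ : ι) (m : ℕ), (a i₀ = m + 1 ∧ ∀ i, i ≠ i₀ → a i = m) ∨
          (a i₀ = m ∧ ∀ i, i ≠ i₀ → a i = m + 1)) := by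
  classical
  obtain ⟨j₀, -, hmin⟩ := Finset.exists_min_image Finset.univ a Finset.univ_nonempty
  set m := a j₀ with hm
  set b : ι → ℕ := fun i => a i - m with hb
  have hab : ∀ i, a i = b i + m := fun i => by
    have := hmin i (Finset.mem_univ i)
    simp only [hb]; omega
  have h1 : ∑ i, a i = (∑ i, b i) + Fintype.card ι * m := by
    simp only [hab, Finset.sum_add_distrib, Finset.sum_const, Finset.card_univ, smul_eq_mul]
  have h2 : ∑ i, a i ^ 2 = (∑ i, b i ^ 2) + 2 * m * (∑ i, b i) + Fintype.card ι * m ^ 2 := by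
    simp only [hab, add_sq, Finset.sum_add_distrib, Finset.sum_const, Finset.card_univ, smul_eq_mul,
      Finset.mul_sum]
    congr 2
    exact Finset.sum_congr rfl fun i _ => by ring
  set T := Finset.univ.filter fun i => b i ≠ 0 with hT
  set Z := Finset.univ.filter fun i => ¬ b i ≠ 0 with hZ
  have hcard : T.card + Z.card = Fintype.card ι := by
    rw [← Finset.card_univ]
    exact Finset.card_filter_add_card_filter_not _
  have hZpos : 1 ≤ Z.card := Finset.card_pos.2 ⟨j₀, by simp [hZ, hb, hm]⟩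
  have hTpos : 1 ≤ T.card := by
    obtain ⟨i, j, hij⟩ := hne
    refine Finset.card_pos.2 ?_
    by_cases hi : b i = 0
    · refine ⟨j, Finset.mem_filter.2 ⟨Finset.mem_univ _, fun hj => hij ?_⟩⟩
      rw [hab i, hab j, hi, hj]
    · exact ⟨i, Finset.mem_filter.2 ⟨Finset.mem_univ _, hi⟩⟩
  have hS : ∑ i, b i = ∑ i ∈ T, b i := by
    rw [hT, Finset.sum_filter_ne_zero]
  have hS2 : ∑ i ∈ T, b i ^ 2 = ∑ i, b i ^ 2 := by
    refine Finset.sum_subset (Finset.subset_univ T) fun i _ hi => ?_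
    simp only [hT, Finset.mem_filter, Finset.mem_univ, true_and, not_not] at hi
    rw [hi]; norm_num
  have hCS : (∑ i, b i) ^ 2 ≤ T.card * ∑ i, b i ^ 2 := by
    rw [hS, ← hS2]
    simpa only [mul_one, one_pow, Finset.sum_const, smul_eq_mul] using
      Finset.sum_mul_sq_le_sq_mul_sq T (fun _ => 1) b |>.trans_eq' (by simp)
  have hge : T.card ≤ ∑ i, b i ^ 2 := by
    rw [← hS2, Finset.card_eq_sum_ones]
    refine Finset.sum_le_sum fun i hi => ?_
    exact Nat.one_le_pow _ _ (Nat.pos_of_ne_zero (Finset.mem_filter.1 hi).2)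
  have hprod : Fintype.card ι ≤ Z.card * T.card + 1 := by
    rw [← hcard]; nlinarith
  refine ⟨?_, fun heq => ?_⟩
  · have key : Fintype.card ι + (∑ i, a i) ^ 2 ≤ Fintype.card ι * ∑ i, a i ^ 2 + 1 := by
      rw [h1, h2, ← hcard] at *
      nlinarith
    have hpos : 1 ≤ Fintype.card ι := by omega
    omega
  have heq' : Fintype.card ι * ∑ i, a i ^ 2 + 1 = Fintype.card ι + (∑ i, a i) ^ 2 := by omega
  rw [h1, h2, ← hcard] at heq'
  have hle : Z.card * (∑ i, b i ^ 2) + 1 ≤ T.card + Z.card := by nlinarith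
  have hb2 : ∑ i, b i ^ 2 = T.card := by nlinarith
  have hb1 : ∀ i ∈ T, b i = 1 := by
    intro i hi
    have h0 : ∑ j ∈ T, (1 : ℕ) = ∑ j ∈ T, b j ^ 2 := by rw [hS2, hb2, Finset.card_eq_sum_ones]
    have h3 := (Finset.sum_eq_sum_iff_of_le (fun j hj =>
      Nat.one_le_pow _ _ (Nat.pos_of_ne_zero (Finset.mem_filter.1 hj).2))).1 h0 i hi
    exact (Nat.pow_eq_one.1 h3.symm).resolve_right two_ne_zero
  have hb0 : ∀ i, i ∉ T → b i = 0 := fun i hi => by
    simpa [hT] using hi
  have hzero : T.card = 1 ∨ Z.card = 1 := by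
    rw [hb2] at hle
    rcases Nat.lt_or_ge 1 T.card with h | h
    · rcases Nat.lt_or_ge 1 Z.card with h' | h'
      · nlinarith
      · exact Or.inr (by omega)
    · exact Or.inl (by omega)
  rcases hzero with h | h
  · obtain ⟨i₀, hi₀⟩ := Finset.card_eq_one.1 h
    refine ⟨i₀, m, Or.inl ⟨?_, fun i hi => ?_⟩⟩
    · rw [hab, hb1 i₀ (by simp [hi₀]), add_comm]
    · rw [hab, hb0 i (by simp [hi₀, hi]), zero_add]
  · obtain ⟨i₀, hi₀⟩ := Finset.card_eq_one.1 h
    have hout : ∀ i, i ≠ i₀ → i ∈ T := fun i hi => by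
      have : i ∉ Z := by simp [hi₀, hi]
      simpa [hZ, hT] using this
    have hin : i₀ ∉ T := by
      have : i₀ ∈ Z := by simp [hi₀]
      simpa [hZ, hT] using this
    refine ⟨i₀, m, Or.inr ⟨?_, fun i hi => ?_⟩⟩
    · rw [hab, hb0 _ hin, zero_add]
    · rw [hab, hb1 i (hout i hi), add_comm]

section Abelian

variable {S : Type u} [Group S] [Fintype S]

/-- The irreducible characters of an abelian group: their number and their sum. -/
theorem irr_abelian_facts (hc : ∀ a b : S, a * b = b * a) :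
    Fintype.card (IrrCharacter S) = Fintype.card S ∧
      ∀ y : S, y ≠ 1 → ∑ ν : IrrCharacter S, (ν : S → ℂ) y = 0 := by
  classical
  have hS : (Nat.card S : ℂ) ≠ 0 := card_cast_ne_zero
  set f : S → ℂ := fun x => if x = 1 then 1 else 0 with hf
  have hfc : IsClassFunction S f := fun g h => by
    rw [hc h g, mul_inv_cancel_right]
  have h1 : ∀ ν : IrrCharacter S, classInner f (ν : S → ℂ) = (Nat.card S : ℂ)⁻¹ := fun ν => by
    simp only [classInner, hf, ite_mul, one_mul, zero_mul, Finset.sum_ite_eq', Finset.mem_univ,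
      if_true, degree_eq_one_of_comm hc ν.2, map_one, mul_one]
  refine ⟨?_, fun y hy => ?_⟩
  · have h2 := classInner_eq_sum (f' := f) hfc
    simp only [h1, map_inv₀, Complex.conj_natCast, Finset.sum_const, Finset.card_univ,
      nsmul_eq_mul] at h2
    rw [show classInner f f = (Nat.card S : ℂ)⁻¹ from by
      simp [classInner, hf]] at h2
    field_simp at h2
    rw [← Nat.card_eq_fintype_card (α := S)]
    exact_mod_cast h2.symm
  · have h2 := congrFun (eq_sum_classInner hfc) y
    simp only [Finset.sum_apply, Pi.smul_apply, smul_eq_mul, h1, ← Finset.mul_sum, hf,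
      if_neg hy] at h2
    rw [Finset.sum_congr rfl fun ν _ => by rw [show classInner (fun x : S => if x = 1 then (1 : ℂ) else 0)
      (ν : S → ℂ) = (Nat.card S : ℂ)⁻¹ from h1 ν], ← Finset.mul_sum] at h2
    exact (mul_eq_zero.1 h2.symm).resolve_left (inv_ne_zero hS)

theorem sum_normSq_cases [DecidableEq S] (hc : ∀ a b : S, a * b = b * a) {T : S → ℂ} (hT : IsCharacter S T)
    (hnz : ∃ y : S, y ≠ 1 ∧ T y ≠ 0) :
    ((Fintype.card S - 1 : ℕ) : ℝ) ≤ ∑ y ∈ Finset.univ.erase 1, Complex.normSq (T y) ∧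
      (∑ y ∈ Finset.univ.erase 1, Complex.normSq (T y) = ((Fintype.card S - 1 : ℕ) : ℝ) →
        ∃ (ν : IrrCharacter S) (ε : ℤ) (m : ℕ), (ε = 1 ∨ ε = -1) ∧
          T 1 = (Fintype.card S : ℂ) * m + ε ∧ ∀ y : S, y ≠ 1 → T y = ε * (ν : S → ℂ) y) := by
  classical
  obtain ⟨hcard, hcol⟩ := irr_abelian_facts hc
  choose a ha using fun ν : IrrCharacter S => hT.exists_nat_classInner ν.2.isCharacter
  have hexp : ∀ y, T y = ∑ ν : IrrCharacter S, (a ν : ℂ) * (ν : S → ℂ) y := fun y => by
    conv_lhs => rw [eq_sum_classInner hT.isClassFunction]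
    simp only [Finset.sum_apply, Pi.smul_apply, smul_eq_mul, ha]
  have hdeg : ∀ ν : IrrCharacter S, (ν : S → ℂ) 1 = 1 := fun ν => degree_eq_one_of_comm hc ν.2
  have hT1 : T 1 = ((∑ ν, a ν : ℕ) : ℂ) := by
    rw [hexp, Nat.cast_sum]
    simp only [hdeg, mul_one]
  have hpar : ∑ y, Complex.normSq (T y) = ((Fintype.card S * ∑ ν, a ν ^ 2 : ℕ) : ℝ) := by
    have h2 := classInner_eq_sum (f' := T) hT.isClassFunction
    simp only [ha, Complex.conj_natCast] at h2
    simp only [classInner, Complex.mul_conj] at h2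
    rw [inv_mul_eq_iff_eq_mul₀ card_cast_ne_zero] at h2
    simp only [← sq, ← Nat.cast_pow, ← Nat.cast_sum, ← Complex.ofReal_sum,
      Nat.card_eq_fintype_card, ← Nat.cast_mul] at h2
    exact_mod_cast h2
  have hsplit : ∑ y, Complex.normSq (T y) =
      ((∑ ν, a ν : ℕ) : ℝ) ^ 2 + ∑ y ∈ Finset.univ.erase 1, Complex.normSq (T y) := by
    rw [← Finset.add_sum_erase _ _ (Finset.mem_univ (1 : S)), hT1, Complex.normSq_natCast, sq]
  obtain ⟨y₀, hy₀, hTy₀⟩ := hnz
  haveI : Nonempty (IrrCharacter S) := Fintype.card_pos_iff.1 (hcard ▸ Fintype.card_pos)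
  have hne : ∃ i j, a i ≠ a j := by
    by_contra h
    push Not at h
    refine hTy₀ ?_
    obtain ⟨ν₀⟩ := (inferInstance : Nonempty (IrrCharacter S))
    rw [hexp, Finset.sum_congr rfl fun ν _ => by rw [h ν ν₀], ← Finset.mul_sum, hcol y₀ hy₀,
      mul_zero]
  obtain ⟨hle, heq⟩ := variance_cases a hne
  rw [hcard] at hle heq
  have key : ∑ y ∈ Finset.univ.erase 1, Complex.normSq (T y) =
      ((Fintype.card S * ∑ ν, a ν ^ 2 : ℕ) : ℝ) - ((∑ ν, a ν : ℕ) : ℝ) ^ 2 := by
    rw [← hpar, hsplit]; ring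
  refine ⟨?_, fun he => ?_⟩
  · rw [key, le_sub_iff_add_le]
    exact_mod_cast hle
  rw [key, sub_eq_iff_eq_add] at he
  obtain ⟨ν, m, hcase⟩ := heq (by exact_mod_cast he)
  rcases hcase with ⟨h1, h2⟩ | ⟨h1, h2⟩
  · have hval : ∀ η, (a η : ℂ) = (m : ℂ) + if η = ν then 1 else 0 := fun η => by
      by_cases h : η = ν
      · rw [h, h1, if_pos rfl]; push_cast; rfl
      · rw [h2 η h, if_neg h, add_zero]
    refine ⟨ν, 1, m, Or.inl rfl, ?_, fun y hy => ?_⟩
    · rw [hexp]
      simp only [hval, hdeg, mul_one, Finset.sum_add_distrib, Finset.sum_const, Finset.card_univ,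
        hcard, nsmul_eq_mul, Finset.sum_ite_eq', Finset.mem_univ, if_true, Int.cast_one]
    · rw [hexp]
      simp only [hval, add_mul, ite_mul, one_mul, zero_mul, Finset.sum_add_distrib, ← Finset.mul_sum,
        hcol y hy, mul_zero, zero_add, Finset.sum_ite_eq', Finset.mem_univ, if_true, Int.cast_one]
  · have hval : ∀ η, (a η : ℂ) = ((m + 1 : ℕ) : ℂ) - if η = ν then 1 else 0 := fun η => by
      by_cases h : η = ν
      · rw [h, h1, if_pos rfl]; push_cast; ring
      · rw [h2 η h, if_neg h, sub_zero]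
    refine ⟨ν, -1, m + 1, Or.inr rfl, ?_, fun y hy => ?_⟩
    · rw [hexp]
      simp only [hval, hdeg, mul_one, Finset.sum_sub_distrib, Finset.sum_const, Finset.card_univ,
        hcard, nsmul_eq_mul, Finset.sum_ite_eq', Finset.mem_univ, if_true]
      push_cast; ring
    · rw [hexp]
      simp only [hval, sub_mul, ite_mul, one_mul, zero_mul, Finset.sum_sub_distrib, ← Finset.mul_sum,
        hcol y hy, mul_zero, zero_sub, Finset.sum_ite_eq', Finset.mem_univ, if_true]
      push_cast; ring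

end Abelian

section Slices

variable {Γ : Type u} [Group Γ] [Fintype Γ] {N C : Subgroup Γ} [Fintype N] [Fintype C] {s : Γ}

/-- The slices at all non-identity elements of `⟨s⟩` carry one character. -/
theorem slices_of_common_centralizer [N.Normal] (hcop : (Nat.card N).Coprime (orderOf s))
    (hs : s ≠ 1)
    (hC : ∀ y ∈ Subgroup.zpowers s, y ≠ 1 → ∀ x, x ∈ C ↔ x ∈ N ∧ Commute x y) {χ : N → ℂ}
    (hχ : IsIrrCharacter N χ) {χh : Γ → ℂ} (hh : IsIrrCharacter Γ χh)
    (hres : ∀ n : N, χh (n : Γ) = χ n) (β : IrrCharacter C) {ε₀ : ℤ} (hε₀ : ε₀ = 1 ∨ ε₀ = -1)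
    (hβ : ∀ c : C, χh ((c : Γ) * s) = (ε₀ : ℂ) * (β : C → ℂ) c) :
    ∃ ε : ℤ, (ε = 1 ∨ ε = -1) ∧ ∃ μ : Subgroup.zpowers s → ℂ,
      IsCharacter (Subgroup.zpowers s) μ ∧ μ 1 = 1 ∧ (∀ y, μ y * μ y = 1) ∧
        (∀ c : C, ∀ y : Subgroup.zpowers s, y ≠ 1 →
          χh ((c : Γ) * y) = (ε : ℂ) * (β : C → ℂ) c * μ y) ∧
        ∃ ϑ : C → ℂ, IsCharacter C ϑ ∧ ∀ c : C,
          χh (c : Γ) = (Nat.card (Subgroup.zpowers s) : ℂ) * ϑ c + (ε : ℂ) * (β : C → ℂ) c := by
  classical
  haveI := Fintype.ofFinite (Subgroup.zpowers s)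
  set S := Subgroup.zpowers s with hSdef
  set n := Fintype.card S with hn
  have hcS : ∀ a b : S, a * b = b * a := fun a b => Subtype.ext (by
    obtain ⟨i, hi⟩ := a.2
    obtain ⟨l, hl⟩ := b.2
    simp only [Subgroup.coe_mul, ← hi, ← hl]
    exact ((Commute.refl s).zpow_zpow i l).eq)
  set y₀ : S := ⟨s, Subgroup.mem_zpowers s⟩ with hy₀
  have hy₀1 : y₀ ≠ 1 := fun h => hs (congrArg Subtype.val h)
  have hCs : ∀ c ∈ C, Commute c s := fun c hc =>
    ((hC s (Subgroup.mem_zpowers s) hs c).1 hc).2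
  set T : IrrCharacter C → S → ℂ := fun η => sliceMult (s := s) χh (η : C → ℂ) with hTdef
  have hT : ∀ η, IsCharacter S (T η) := fun η => isCharacter_sliceMult hCs hh.isCharacter η.2
  have hcl := hh.isClassFunction
  have hfc : ∀ y : S, y ≠ 1 → IsClassFunction C (fun c : C => χh ((c : Γ) * (y : Γ))) := by
    intro y hy
    have := isClassFunction_slice (N := N) (s := (y : Γ))
      (hC y y.2 fun h => hy (Subtype.ext h)) hcl 1
    simpa using this
  have hnorm : ∀ y : S, y ≠ 1 → ∑ η, Complex.normSq (T η y) = 1 := by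
    intro y hy
    have hy' : (y : Γ) ≠ 1 := fun h => hy (Subtype.ext h)
    have hcopy : (Nat.card N).Coprime (orderOf (y : Γ)) :=
      hcop.coprime_dvd_right (orderOf_dvd_of_mem_zpowers y.2)
    have h1 := classInner_slice (N := N) (s := (y : Γ)) hcopy (hC y y.2 hy') hcl hcl
    rw [sum_coset_self hχ hh.isCharacter hres, inv_mul_cancel₀ card_cast_ne_zero,
      classInner_eq_sum (hfc y hy)] at h1
    simp only [Complex.mul_conj] at h1
    rw [← Complex.ofReal_inj, Complex.ofReal_sum, Complex.ofReal_one]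
    exact h1
  have hgen : ∀ η : IrrCharacter C, T η y₀ = if η = β then (ε₀ : ℂ) else 0 := by
    intro η
    show classInner (fun c : C => χh ((c : Γ) * s)) (η : C → ℂ) = _
    rw [show (fun c : C => χh ((c : Γ) * s)) = (ε₀ : ℂ) • (β : C → ℂ) from funext hβ,
      classInner_smul_left]
    split_ifs with h
    · rw [h, classInner_irr_self β.2, mul_one]
    · rw [classInner_irr_ne β.2 η.2 fun e => h (Subtype.ext e.symm), mul_zero]
  have hβne : T β y₀ ≠ 0 := by
    rw [hgen, if_pos rfl]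
    rcases hε₀ with rfl | rfl <;> norm_num
  have htot : ∑ η, ∑ y ∈ Finset.univ.erase 1, Complex.normSq (T η y) = ((n - 1 : ℕ) : ℝ) := by
    rw [Finset.sum_comm, Finset.sum_congr rfl fun y hy => hnorm y (Finset.ne_of_mem_erase hy),
      Finset.sum_const, Finset.card_erase_of_mem (Finset.mem_univ _), Finset.card_univ, nsmul_one]
  obtain ⟨hle, heq⟩ := sum_normSq_cases hcS (hT β) ⟨y₀, hy₀1, hβne⟩
  rw [← Finset.add_sum_erase _ _ (Finset.mem_univ β)] at htot
  have hnonneg : ∀ η ∈ Finset.univ.erase β,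
      0 ≤ ∑ y ∈ (Finset.univ : Finset S).erase 1, Complex.normSq (T η y) :=
    fun η _ => Finset.sum_nonneg fun y _ => Complex.normSq_nonneg _
  have hrest : ∑ η ∈ Finset.univ.erase β,
      ∑ y ∈ (Finset.univ : Finset S).erase 1, Complex.normSq (T η y) = 0 :=
    le_antisymm (by linarith) (Finset.sum_nonneg hnonneg)
  obtain ⟨ν, ε, m, hε, hT1, hTy⟩ := heq (by linarith)
  have hzero : ∀ η, η ≠ β → ∀ y : S, y ≠ 1 → T η y = 0 := fun η hη y hy =>
    Complex.normSq_eq_zero.1 ((Finset.sum_eq_zero_iff_of_nonneg fun y _ => Complex.normSq_nonneg _).1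
      ((Finset.sum_eq_zero_iff_of_nonneg hnonneg).1 hrest η (Finset.mem_erase.2 ⟨hη, Finset.mem_univ _⟩))
      y (Finset.mem_erase.2 ⟨hy, Finset.mem_univ _⟩))
  refine ⟨ε, hε, (ν : S → ℂ), ν.2.isCharacter, degree_eq_one_of_comm hcS ν.2, ?_, ?_, ?_⟩
  · -- the linear character takes the values `±1`
    obtain ⟨φ, hφ⟩ := exists_hom_of_degree_one ν.2.isCharacter (degree_eq_one_of_comm hcS ν.2)
    have h0 : (φ y₀ : ℂ) * (φ y₀ : ℂ) = 1 := by
      have h1 := hTy y₀ hy₀1
      rw [hgen, if_pos rfl, hφ] at h1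
      rcases hε with rfl | rfl <;> rcases hε₀ with rfl | rfl <;> push_cast at h1
      · have e : (φ y₀ : ℂ) = 1 := by linear_combination -h1
        rw [e, mul_one]
      · have e : (φ y₀ : ℂ) = -1 := by linear_combination -h1
        rw [e]; ring
      · have e : (φ y₀ : ℂ) = -1 := by linear_combination h1
        rw [e]; ring
      · have e : (φ y₀ : ℂ) = 1 := by linear_combination h1
        rw [e, mul_one]
    intro y
    rw [hφ]
    have h2 : φ y₀ ^ 2 = 1 := Units.ext (by rw [Units.val_pow_eq_pow_val, sq, h0, Units.val_one])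
    obtain ⟨i, hi⟩ := y.2
    have hy : y = y₀ ^ i := Subtype.ext (by rw [← hi]; rfl)
    show (φ y : ℂ) * (φ y : ℂ) = 1
    rw [← Units.val_mul, ← sq, hy, map_zpow, ← zpow_natCast, ← zpow_mul, mul_comm, zpow_mul,
      zpow_natCast, h2, one_zpow, Units.val_one]
  · intro c y hy
    have h1 := congrFun (eq_sum_classInner (hfc y hy)) c
    rw [h1, Finset.sum_apply, Finset.sum_eq_single β]
    · rw [Pi.smul_apply, smul_eq_mul]
      show T β y * _ = _
      rw [hTy y hy]; ring
    · intro η _ hη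
      rw [Pi.smul_apply, smul_eq_mul]
      show T η y * _ = 0
      rw [hzero η hη y hy, zero_mul]
    · simp
  · -- the restriction to the centraliser
    have hdiv : ∀ η, η ≠ β → ∃ k : ℕ, T η 1 = (n : ℂ) * k := by
      intro η hη
      obtain ⟨k, hk⟩ := (hT η).exists_nat_classInner (isCharacter_one (G := S))
      refine ⟨k, ?_⟩
      rw [← hk, classInner, Finset.sum_eq_single (1 : S)]
      · rw [map_one, mul_one, Nat.card_eq_fintype_card, mul_inv_cancel_left₀]
        exact_mod_cast Fintype.card_ne_zero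
      · intro y _ hy
        rw [hzero η hη y hy, zero_mul]
      · simp
    choose! k hk using hdiv
    set k' : IrrCharacter C → ℕ := fun η => if η = β then m else k η with hk'
    refine ⟨∑ η, (k' η : ℂ) • (η : C → ℂ), IsCharacter.sum _ _ fun η _ =>
      η.2.isCharacter.natCast_smul _, fun c => ?_⟩
    have hres1 : IsClassFunction C (fun c : C => χh (c : Γ)) :=
      (hh.isCharacter.comp C.subtype).isClassFunction
    have h1 := congrFun (eq_sum_classInner hres1) c
    rw [h1, Nat.card_eq_fintype_card, ← hn, Finset.sum_apply, Finset.sum_apply,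
      ← Finset.add_sum_erase _ _ (Finset.mem_univ β), ← Finset.add_sum_erase _ _ (Finset.mem_univ β)]
    have hone : ∀ η : IrrCharacter C, classInner (fun c : C => χh (c : Γ)) (η : C → ℂ) = T η 1 :=
      fun η => (sliceMult_one χh (η : C → ℂ)).symm
    simp only [Pi.smul_apply, smul_eq_mul, hone, mul_add, Finset.mul_sum]
    rw [Finset.sum_congr rfl fun η hη => show T η 1 * (η : C → ℂ) c =
      (n : ℂ) * ((k' η : ℂ) * (η : C → ℂ) c) by
        rw [hk η (Finset.ne_of_mem_erase hη), hk', ← mul_assoc]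
        simp only [if_neg (Finset.ne_of_mem_erase hη)]]
    rw [hT1, show k' β = m from if_pos rfl]
    ring

end Slices

end Cfsg.Lib.Char
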