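import Cfsg.Agent.Lib.Char.CanonExt
import Cfsg.Agent.Lib.Char.Linear
import Cfsg.Agent.Lib.Char.Clifford2
import Cfsg.Agent.Lib.Char.Quotient

/-!
# Characters fully ramified over a normal subgroup
-/

set_option autoImplicit false
set_option linter.unusedSectionVars false
set_option linter.style.haveILetI false
set_option maxHeartbeats 800000

namespace Cfsg.Lib.Char

open Cfsg
open scoped ComplexConjugate

universe u

variable {H : Type u} [Group H] [Fintype H] {Z : Subgroup H} [hZ : Z.Normal] [Fintype Z]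
  {χ : H → ℂ} (hχ : IsIrrCharacter H χ) {θ : Z → ℂ} (hθ : IsIrrCharacter Z θ) {e : ℕ}
  (he : e ^ 2 = Z.index) (hres : ∀ z : Z, χ z = (e : ℂ) * θ z)

include he in
theorem fullyRamified_mult_ne_zero : (e : ℂ) ≠ 0 := by
  have : e ≠ 0 := by
    rintro rfl
    exact Subgroup.index_ne_zero_of_finite (H := Z) (by simpa using he.symm)
  exact_mod_cast this

include hχ he hres in
theorem fullyRamified_invariant (g : H) : conjTwist Z θ g = θ := by
  funext z
  refine mul_left_cancel₀ (fullyRamified_mult_ne_zero he) ?_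
  show (e : ℂ) * θ (MulAut.conjNormal g z) = (e : ℂ) * θ z
  rw [← hres, ← hres, MulAut.conjNormal_apply, hχ.isClassFunction]

include hχ hθ he hres in
theorem indFun_eq_smul : indFun Z θ = (e : ℂ) • χ := by
  have hinv := fullyRamified_invariant hχ he hres
  have hc : classInner θ (fun z : Z => χ z) = (e : ℂ) := by
    rw [show (fun z : Z => χ z) = (e : ℂ) • θ from funext hres, classInner_smul_right,
      classInner_irr_self hθ, Complex.conj_natCast, mul_one]
  have h1 : classInner (indFun Z θ) χ = (e : ℂ) := by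
    rw [classInner_indFun Z θ hχ.isClassFunction, hc]
  have h2 : classInner (indFun Z θ) (indFun Z θ) = (e : ℂ) ^ 2 := by
    rw [classInner_indFun Z θ (isClassFunction_indFun Z θ)]
    have hidx : ((Z.index : ℕ) : ℂ) = (e : ℂ) ^ 2 := by rw [← he, Nat.cast_pow]
    have hr : (fun z : Z => indFun Z θ z) = (e : ℂ) ^ 2 • θ := by
      funext z
      rw [show indFun Z θ z = _ from congrFun (indFun_res Z θ) z]
      simp only [Pi.smul_apply, Finset.sum_apply, smul_eq_mul, hinv, Finset.sum_const,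
        Finset.card_univ, nsmul_eq_mul]
      rw [Pi.mul_apply, Pi.natCast_apply, ← mul_assoc, ← Nat.card_eq_fintype_card, card_inv_mul_card, hidx]
    rw [hr, classInner_smul_right, classInner_irr_self hθ, mul_one, map_pow, Complex.conj_natCast]
  refine sub_eq_zero.1 (eq_zero_of_classInner_self ?_)
  rw [classInner_sub_left, classInner_sub_right, classInner_sub_right, classInner_smul_left,
    classInner_smul_left, classInner_smul_right, classInner_smul_right, h1, h2,
    ← classInner_conj_symm (indFun Z θ) χ, h1, classInner_irr_self hχ, Complex.conj_natCast]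
  ring

include hχ hθ he hres in
theorem fullyRamified_eq_zero {h : H} (hh : h ∉ Z) : χ h = 0 := by
  have h0 : indFun Z θ h = 0 := by
    simp only [indFun]
    rw [Finset.sum_eq_zero, mul_zero]
    intro x _
    refine extendByZero_of_notMem Z θ fun hx => hh ?_
    have := hZ.conj_mem _ hx x
    rwa [show x * (x⁻¹ * h * x) * x⁻¹ = h by group] at this
  rw [indFun_eq_smul hχ hθ he hres, Pi.smul_apply, smul_eq_mul] at h0
  exact (mul_eq_zero.1 h0).resolve_left (fullyRamified_mult_ne_zero he)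

include hχ hθ he hres in
theorem fullyRamified_unique {η : H → ℂ} (hη : IsIrrCharacter H η)
    (hc : classInner θ (fun z : Z => η z) ≠ 0) : η = χ := by
  by_contra hne
  refine hc ?_
  rw [← classInner_indFun Z θ hη.isClassFunction, indFun_eq_smul hχ hθ he hres,
    classInner_smul_left, classInner_irr_ne hχ hη (fun h => hne h.symm), mul_zero]

include hχ hθ he hres in
/-- A character of a subgroup over `θ` induces a function vanishing off `Z`. -/
theorem indFun_eq_zero_of_over {D : Subgroup H} [Fintype D] {φ : D → ℂ} (hφ : IsCharacter D φ)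
    (hZD : Z ≤ D) {c : ℂ} (hφres : ∀ z : Z, φ ⟨z, hZD z.2⟩ = c * θ z) {h : H} (hh : h ∉ Z) :
    indFun D φ h = 0 := by
  have hinv := fullyRamified_invariant hχ he hres
  have hf : IsCharacter H (indFun D φ) := isCharacter_indFun D hφ
  have hmult : (fun z : Z => indFun D φ z) =
      ((Nat.card D : ℂ)⁻¹ * (Fintype.card H : ℂ) * c) • θ := by
    funext z
    simp only [indFun, Pi.smul_apply, smul_eq_mul]
    rw [Finset.sum_congr rfl fun x _ => show extendByZero D φ (x⁻¹ * (z : H) * x) = c * θ z by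
      have hm : x⁻¹ * (z : H) * x ∈ Z := by simpa using hZ.conj_mem _ z.2 x⁻¹
      rw [extendByZero_of_mem D φ (hZD hm)]
      refine (hφres ⟨_, hm⟩).trans ?_
      congr 1
      have h1 := congrFun (hinv x⁻¹) z
      rw [← h1]
      refine congrArg θ (Subtype.ext ?_)
      simp [MulAut.conjNormal_apply]]
    rw [Finset.sum_const, Finset.card_univ, nsmul_eq_mul]
    ring
  have hexp := congrFun (eq_sum_classInner hf.isClassFunction) h
  rw [hexp, Finset.sum_apply]
  refine Finset.sum_eq_zero fun η _ => ?_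
  rw [Pi.smul_apply, smul_eq_mul]
  by_cases h0 : classInner (indFun D φ) (η : H → ℂ) = 0
  · rw [h0, zero_mul]
  suffices (η : H → ℂ) = χ by rw [this, fullyRamified_eq_zero hχ hθ he hres hh, mul_zero]
  refine fullyRamified_unique hχ hθ he hres η.2 fun hc => ?_
  -- a constituent of a multiple of `θ` lies over `θ`
  obtain ⟨ζ, hζ⟩ := exists_constituent (η.2.isCharacter.comp Z.subtype) (by
    show (η : H → ℂ) (Z.subtype 1) ≠ 0
    rw [map_one]; exact η.2.apply_one_ne_zero)
  have hle := classInner_res_le_of_constituent Z hf η.2 h0 ζ.2.isCharacter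
  rw [hmult, classInner_smul_left] at hle
  have hne : (ζ : Z → ℂ) ≠ θ := fun e => hζ (by
    rw [e, ← classInner_conj_symm]
    show (starRingEnd ℂ) (classInner θ fun z : Z => (η : H → ℂ) z) = 0
    rw [hc, map_zero])
  rw [classInner_irr_ne hθ ζ.2 (fun e => hne e.symm), mul_zero, Complex.zero_re] at hle
  have h1 := classInner_re_nonneg (η.2.isCharacter.comp Z.subtype) ζ.2.isCharacter
  exact hζ ((eq_zero_iff_re_classInner (η.2.isCharacter.comp Z.subtype) ζ.2.isCharacter).2
    (le_antisymm hle h1))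

include hχ hθ he hres in
/-- No cyclic subgroup of the quotient is its own centralizer. -/
theorem centralizer_ne_of_fullyRamified (hne : Z ≠ ⊤) (C : Subgroup (H ⧸ Z)) (hC : IsCyclic C) :
    Subgroup.centralizer (C : Set (H ⧸ Z)) ≠ C := by
  classical
  intro hself
  obtain ⟨x', rfl⟩ := (Subgroup.isCyclic_iff_exists_zpowers_eq_top C).1 hC
  obtain ⟨x, rfl⟩ := QuotientGroup.mk_surjective x'
  set C : Subgroup (H ⧸ Z) := Subgroup.zpowers (x : H ⧸ Z) with hCdef
  set D : Subgroup H := C.comap (QuotientGroup.mk' Z) with hD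
  haveI := Fintype.ofFinite D
  haveI := Fintype.ofFinite (Z.subgroupOf D)
  have hxZ : x ∉ Z := by
    intro hx
    refine hne ?_
    have h1 : C = ⊥ := by
      rw [hCdef, (QuotientGroup.eq_one_iff x).2 hx, Subgroup.zpowers_one_eq_bot]
    rw [h1, Subgroup.coe_bot] at hself
    rw [eq_top_iff]
    intro h _
    have : (h : H ⧸ Z) ∈ Subgroup.centralizer ({1} : Set (H ⧸ Z)) := by
      simp [Subgroup.mem_centralizer_iff]
    rw [hself, Subgroup.mem_bot] at this
    exact (QuotientGroup.eq_one_iff h).1 this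
  have hZD : Z ≤ D := fun z hz => by
    show (z : H ⧸ Z) ∈ C
    rw [(QuotientGroup.eq_one_iff z).2 hz]; exact one_mem _
  have hxD : x ∈ D := Subgroup.mem_zpowers _
  set y : D := ⟨x, hxD⟩ with hy
  set Z' : Subgroup D := Z.subgroupOf D with hZ'
  -- extend `θ` to `D`
  have hinv := fullyRamified_invariant hχ he hres
  obtain ⟨n, σ, hσ, hσc⟩ := isIrrCharacter_resTo Z hθ hZD
  haveI := hσ
  have hcycQ : IsCyclic (D ⧸ Z') := by
    refine ⟨⟨(y : D ⧸ Z'), fun q => ?_⟩⟩
    obtain ⟨d, rfl⟩ := QuotientGroup.mk_surjective q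
    obtain ⟨i, hi⟩ := d.2
    refine ⟨i, ?_⟩
    show ((y : D ⧸ Z') ^ i) = _
    rw [← QuotientGroup.mk_zpow, QuotientGroup.eq, hZ', Subgroup.mem_subgroupOf]
    show ((y ^ i : D) : H)⁻¹ * (d : H) ∈ Z
    rw [← QuotientGroup.eq, Subgroup.coe_zpow, QuotientGroup.mk_zpow]
    exact hi
  obtain ⟨ρ, hρ⟩ := exists_extension_of_cyclic σ (fun g z => by
    rw [hσc]
    show θ ⟨_, _⟩ = θ ⟨_, _⟩
    have h1 := congrFun (hinv (g : H)) ⟨((z : D) : H), Subgroup.mem_subgroupOf.1 z.2⟩
    rw [← h1]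
    refine congrArg θ (Subtype.ext ?_)
    rfl) hcycQ
  set φ : D → ℂ := ρ.character with hφdef
  have hφ : IsCharacter D φ := isCharacter_character ρ
  have hφres : ∀ z : Z, φ ⟨z, hZD z.2⟩ = θ z := fun z => by
    have h1 := hρ ⟨⟨z, hZD z.2⟩, z.2⟩
    show LinearMap.trace ℂ _ (ρ _) = _
    rw [h1]
    exact congrFun hσc ⟨⟨z, hZD z.2⟩, z.2⟩
  -- `φ` vanishes on the coset of `x`
  letI : CommGroup (D ⧸ Z') := IsCyclic.commGroup
  haveI := Fintype.ofFinite (D ⧸ Z')
  have hcardIrr : ∀ q : D ⧸ Z', ∑ μ : IrrCharacter (D ⧸ Z'),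
      (μ : D ⧸ Z' → ℂ) q * conj ((μ : D ⧸ Z' → ℂ) (y : D ⧸ Z')) =
        if q = (y : D ⧸ Z') then (Nat.card (D ⧸ Z') : ℂ) else 0 := by
    intro q
    set f : D ⧸ Z' → ℂ := fun r => if r = (y : D ⧸ Z') then 1 else 0 with hf
    have hfc : IsClassFunction (D ⧸ Z') f := fun a b => by
      rw [mul_comm b, mul_inv_cancel_right]
    have h1 : ∀ μ : IrrCharacter (D ⧸ Z'), classInner f (μ : D ⧸ Z' → ℂ) =
        (Nat.card (D ⧸ Z') : ℂ)⁻¹ * conj ((μ : D ⧸ Z' → ℂ) (y : D ⧸ Z')) := fun μ => by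
      simp only [classInner, hf, ite_mul, one_mul, zero_mul, Finset.sum_ite_eq', Finset.mem_univ,
        if_true]
    have h2 := congrFun (eq_sum_classInner hfc) q
    simp only [Finset.sum_apply, Pi.smul_apply, smul_eq_mul] at h2
    rw [Finset.sum_congr rfl fun μ _ => by rw [h1 μ, mul_assoc], ← Finset.mul_sum,
      eq_inv_mul_iff_mul_eq₀ card_cast_ne_zero] at h2
    rw [Finset.sum_congr rfl fun μ _ => mul_comm _ _, ← h2]
    simp [hf, mul_ite]
  have hvan : ∀ z : Z', φ ((z : D) * y) = 0 := by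
    intro z
    set h : H := ((z : D) : H) * x with hh
    have hhD : h ∈ D := mul_mem (z : D).2 hxD
    have hhZ : h ∉ Z := fun hm => hxZ ((Subgroup.mul_mem_cancel_left _
      (Subgroup.mem_subgroupOf.1 z.2)).1 hm)
    have hqh : ((⟨h, hhD⟩ : D) : D ⧸ Z') = (y : D ⧸ Z') := by
      rw [show (⟨h, hhD⟩ : D) = (z : D) * y from rfl, QuotientGroup.mk_mul,
        (QuotientGroup.eq_one_iff (z : D)).2 z.2, one_mul]
    have hzero : ∀ μ : IrrCharacter (D ⧸ Z'),
        ∑ g : H, extendByZero D (fun d => φ d * (μ : D ⧸ Z' → ℂ) d) (g⁻¹ * h * g) = 0 := by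
      intro μ
      have h0 := indFun_eq_zero_of_over hχ hθ he hres
        (D := D) (φ := fun d => φ d * (μ : D ⧸ Z' → ℂ) d)
        (hφ.mul (isCharacter_inflate Z' μ.2.isCharacter)) hZD (c := (μ : D ⧸ Z' → ℂ) 1)
        (fun w => by
          rw [hφres, show ((⟨(w : H), hZD w.2⟩ : D) : D ⧸ Z') = 1 from
            (QuotientGroup.eq_one_iff _).2 w.2, mul_comm]) hhZ
      simp only [indFun] at h0
      exact (mul_eq_zero.1 h0).resolve_left (inv_ne_zero card_cast_ne_zero)
    have hterm : ∀ g : H, ∑ μ : IrrCharacter (D ⧸ Z'),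
        conj ((μ : D ⧸ Z' → ℂ) (y : D ⧸ Z')) *
          extendByZero D (fun d => φ d * (μ : D ⧸ Z' → ℂ) d) (g⁻¹ * h * g) =
        if g ∈ D then (Nat.card (D ⧸ Z') : ℂ) * φ ⟨h, hhD⟩ else 0 := by
      intro g
      by_cases hg : g⁻¹ * h * g ∈ D
      · simp only [extendByZero_of_mem D _ hg]
        rw [Finset.sum_congr rfl fun (μ : IrrCharacter (D ⧸ Z')) _ => show conj ((μ : D ⧸ Z' → ℂ) (y : D ⧸ Z')) *
            (φ ⟨g⁻¹ * h * g, hg⟩ * (μ : D ⧸ Z' → ℂ) ((⟨g⁻¹ * h * g, hg⟩ : D) : D ⧸ Z')) =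
          φ ⟨g⁻¹ * h * g, hg⟩ * ((μ : D ⧸ Z' → ℂ) ((⟨g⁻¹ * h * g, hg⟩ : D) : D ⧸ Z') *
            conj ((μ : D ⧸ Z' → ℂ) (y : D ⧸ Z'))) by ring, ← Finset.mul_sum, hcardIrr]
        by_cases hgD : g ∈ D
        · rw [if_pos hgD, if_pos, mul_comm]
          · congr 1
            have := hφ.isClassFunction ⟨h, hhD⟩ (⟨g, hgD⟩ : D)⁻¹
            rw [inv_inv] at this
            exact this
          · rw [show (⟨g⁻¹ * h * g, hg⟩ : D) = (⟨g, hgD⟩ : D)⁻¹ * ⟨h, hhD⟩ * ⟨g, hgD⟩ from rfl,
              QuotientGroup.mk_mul, QuotientGroup.mk_mul, mul_comm (_ : D ⧸ Z') ((⟨h, hhD⟩ : D) : D ⧸ Z'),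
              QuotientGroup.mk_inv, inv_mul_cancel_right, hqh]
        · rw [if_neg hgD, if_neg, mul_zero]
          intro hq
          refine hgD ?_
          show (g : H ⧸ Z) ∈ C
          have hmem := Subgroup.mem_subgroupOf.1 (QuotientGroup.eq.1 hq)
          have e2 : ((g⁻¹ * h * g : H) : H ⧸ Z) = (x : H ⧸ Z) := QuotientGroup.eq.2 hmem
          have hhx : (h : H ⧸ Z) = (x : H ⧸ Z) := by
            rw [hh, QuotientGroup.mk_mul, (QuotientGroup.eq_one_iff _).2
              (Subgroup.mem_subgroupOf.1 z.2), one_mul]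
          rw [QuotientGroup.mk_mul, QuotientGroup.mk_mul, QuotientGroup.mk_inv, hhx] at e2
          rw [← hself, Subgroup.mem_centralizer_iff]
          rintro _ ⟨i, rfl⟩
          have hc : Commute (x : H ⧸ Z) (g : H ⧸ Z) := by
            have := congrArg (fun w => (g : H ⧸ Z) * w) e2
            show _ = _
            simpa [mul_assoc] using this
          exact (hc.zpow_left i).eq
      · simp only [extendByZero_of_notMem D _ hg, mul_zero, Finset.sum_const_zero]
        rw [if_neg]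
        intro hgD
        exact hg (mul_mem (mul_mem (inv_mem hgD) hhD) hgD)
    have htot : ∑ g : H, (if g ∈ D then (Nat.card (D ⧸ Z') : ℂ) * φ ⟨h, hhD⟩ else 0) = 0 := by
      rw [← Finset.sum_congr rfl fun g _ => hterm g, Finset.sum_comm]
      refine Finset.sum_eq_zero fun μ _ => ?_
      rw [← Finset.mul_sum, hzero, mul_zero]
    rw [← Finset.sum_filter, Finset.sum_const, nsmul_eq_mul, mul_eq_zero, mul_eq_zero] at htot
    rcases htot with h0 | h0 | h0
    · exact absurd (Finset.card_eq_zero.1 (Nat.cast_eq_zero.1 h0))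
        (Finset.ne_empty_of_mem (Finset.mem_filter.2 ⟨Finset.mem_univ _, hxD⟩))
    · exact absurd h0 card_cast_ne_zero
    · exact h0
  have hsum := sum_coset_self (N := Z') (χ := resTo Z θ D) (isIrrCharacter_resTo Z hθ hZD) hφ
    (fun w => hφres ⟨((w : D) : H), Subgroup.mem_subgroupOf.1 w.2⟩) y
  rw [Finset.sum_eq_zero fun w _ => by rw [hvan w, zero_mul]] at hsum
  exact card_cast_ne_zero hsum.symm

end Cfsg.Lib.Char
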