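import Mathlib.Data.Nat.Totient
import Cfsg.Agent.Lib.Char.Galois
import Cfsg.Agent.Lib.Char.Linear
import Cfsg.Agent.Lib.Char.Quotient
import Cfsg.Agent.Lib.Char.Clifford
import Cfsg.Agent.Lib.Block.CentralDefect
import Cfsg.Agent.Lib.PGroup.Basic
import Cfsg.Agent.Lib.PGroup.NormalSq

/-!
# The order of a p-group with a faithful irreducible character of given degree and field of values

If `P` has order `p ^ n` and a faithful irreducible character of degree `f` with values in a number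
field of degree at most `(p - 1) * p ^ t`, then `(p - 1) * n + 1 ≤ f + (p - 1) * (t + 1) * f`.
-/

set_option autoImplicit false
set_option linter.unusedSectionVars false
set_option linter.style.haveILetI false
set_option maxHeartbeats 1000000

namespace Cfsg.Lib.Char

open Cfsg
open scoped ComplexConjugate IntermediateField

universe u

/-- Multiplicity of an irreducible character in a character. -/
noncomputable def multIn {G : Type u} [Group G] [Fintype G] {f : G → ℂ} (hf : IsCharacter G f)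
    (φ : IrrCharacter G) : ℕ :=
  (hf.exists_nat_classInner φ.2.isCharacter).choose

theorem classInner_eq_multIn {G : Type u} [Group G] [Fintype G] {f : G → ℂ} (hf : IsCharacter G f)
    (φ : IrrCharacter G) : classInner f (φ : G → ℂ) = (multIn hf φ : ℂ) :=
  (hf.exists_nat_classInner φ.2.isCharacter).choose_spec

theorem apply_eq_sum_multIn {G : Type u} [Group G] [Fintype G] {f : G → ℂ} (hf : IsCharacter G f)
    (g : G) : f g = ∑ φ : IrrCharacter G, (multIn hf φ : ℂ) * (φ : G → ℂ) g := by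
  conv_lhs => rw [eq_sum_classInner hf.isClassFunction]
  simp [Finset.sum_apply, classInner_eq_multIn hf]

theorem classInner_self_eq_sum_multIn {G : Type u} [Group G] [Fintype G] {f : G → ℂ}
    (hf : IsCharacter G f) : classInner f f = ((∑ φ, multIn hf φ ^ 2 : ℕ) : ℂ) := by
  rw [classInner_eq_sum hf.isClassFunction]
  push_cast
  simp [classInner_eq_multIn hf, sq]

/-- The squared norm of the restriction of an irreducible character is at most the index. -/
theorem sum_sq_multIn_le_index {G : Type u} [Group G] [Fintype G] (H : Subgroup G) [Fintype H]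
    {χ : G → ℂ} (hχ : IsIrrCharacter G χ) (hf : IsCharacter H (fun h : H => χ h)) :
    ∑ φ, multIn hf φ ^ 2 ≤ H.index := by
  classical
  have h1 := classInner_self_eq_sum_multIn hf
  rw [classInner_self] at h1
  have h2 := classInner_irr_self hχ
  rw [classInner_self] at h2
  have h1' : (Nat.card H : ℝ)⁻¹ * ∑ h : H, ‖χ h‖ ^ 2 = ((∑ φ, multIn hf φ ^ 2 : ℕ) : ℝ) := by
    exact_mod_cast h1
  have h2' : (Nat.card G : ℝ)⁻¹ * ∑ g : G, ‖χ g‖ ^ 2 = 1 := by exact_mod_cast h2
  have hle : ∑ h : H, ‖χ h‖ ^ 2 ≤ ∑ g : G, ‖χ g‖ ^ 2 := by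
    calc ∑ h : H, ‖χ h‖ ^ 2
        = ∑ g ∈ (Finset.univ : Finset H).map (Function.Embedding.subtype _), ‖χ g‖ ^ 2 := by
          rw [Finset.sum_map]; rfl
      _ ≤ _ := Finset.sum_le_sum_of_subset_of_nonneg (Finset.subset_univ _) fun g _ _ => by
          positivity
  have hG : (0 : ℝ) < Nat.card G := Nat.cast_pos.2 Nat.card_pos
  have hH : (0 : ℝ) < Nat.card H := Nat.cast_pos.2 Nat.card_pos
  rw [inv_mul_eq_iff_eq_mul₀ hG.ne'] at h2'
  rw [inv_mul_eq_iff_eq_mul₀ hH.ne'] at h1'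
  have hcard : (Nat.card H : ℝ) * (H.index : ℝ) = Nat.card G := by exact_mod_cast H.card_mul_index
  have : (Nat.card H : ℝ) * ((∑ φ, multIn hf φ ^ 2 : ℕ) : ℝ) ≤ (Nat.card H : ℝ) * (H.index : ℝ) := by
    rw [← h1', hcard]; linarith
  exact_mod_cast le_of_mul_le_mul_left this hH

theorem res_apply_eq_sum {G : Type u} [Group G] (H : Subgroup G) [Fintype H] {χ : G → ℂ}
    (hf : IsCharacter H (fun h : H => χ h)) (h : H) :
    χ (h : G) = ∑ φ : IrrCharacter H, (multIn hf φ : ℂ) * (φ : H → ℂ) h :=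
  apply_eq_sum_multIn hf h

theorem index_finset_inf_le {G : Type u} [Group G] {ι : Type*} (s : Finset ι)
    (K : ι → Subgroup G) : (s.inf K).index ≤ ∏ i ∈ s, (K i).index := by
  classical
  induction s using Finset.induction with
  | empty => simp
  | insert a s ha ih =>
    rw [Finset.inf_insert, Finset.prod_insert ha]
    exact Subgroup.index_inf_le.trans (Nat.mul_le_mul_left _ ih)

theorem finrank_adjoin_rootOfUnity {m : ℕ} (hm : 0 < m) {ζ : ℂ} (hζ : IsPrimitiveRoot ζ m) :
    Module.finrank ℚ ℚ⟮ζ⟯ = m.totient := by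
  rw [IntermediateField.adjoin.finrank ((hζ.isIntegral hm).tower_top),
    ← Polynomial.cyclotomic_eq_minpoly_rat hζ hm, Polynomial.natDegree_cyclotomic]

theorem sub_one_mul_add_one_le_pow {p : ℕ} (hp : 0 < p) (j : ℕ) : (p - 1) * j + 1 ≤ p ^ j := by
  obtain ⟨q, rfl⟩ : ∃ q, p = q + 1 := ⟨p - 1, by omega⟩
  rw [Nat.add_sub_cancel]
  induction j with
  | zero => simp
  | succ j ih =>
    rw [pow_succ]
    nlinarith [Nat.mul_le_mul_right (q + 1) ih, Nat.zero_le (q * q * j)]

/-- The bound to be proved, for a fixed exponent. -/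
def PBound (p n : ℕ) : Prop :=
  ∀ (P : Type u) [Group P] [Finite P], Nat.card P = p ^ n → ∀ (η : P → ℂ), IsIrrCharacter P η →
    (∀ g : P, η g = η 1 → g = 1) → ∀ (K : IntermediateField ℚ ℂ) [FiniteDimensional ℚ K],
    (∀ g, η g ∈ K) → ∀ t : ℕ, Module.finrank ℚ K ≤ (p - 1) * p ^ t → ∀ f : ℕ, η 1 = (f : ℂ) →
    (p - 1) * n + 1 ≤ f + (p - 1) * (t + 1) * f

/-- The bound for the exponent of the index of the kernel. -/
theorem PBound.kernel {p n : ℕ} (hp : p.Prime) (IH : ∀ k < n, PBound.{u} p k) {M : Type u} [Group M]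
    [Finite M] {k : ℕ} (hkn : k < n) (hM : Nat.card M = p ^ k) {φ : M → ℂ} (hφ : IsIrrCharacter M φ)
    (K : IntermediateField ℚ ℂ) [FiniteDimensional ℚ K] (hK : ∀ h, φ h ∈ K) {t : ℕ}
    (ht : Module.finrank ℚ K ≤ (p - 1) * p ^ t) {f : ℕ} (hf : φ 1 = (f : ℂ)) :
    ∃ a, (charKer hφ.isCharacter).index = p ^ a ∧
      (p - 1) * a + 1 ≤ f + (p - 1) * (t + 1) * f := by
  haveI := charKer_normal hφ.isCharacter
  obtain ⟨a, hak, ha⟩ := (Nat.dvd_prime_pow hp).1
    (hM ▸ Subgroup.index_dvd_card (charKer hφ.isCharacter))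
  refine ⟨a, ha, ?_⟩
  obtain ⟨ψ, hψ, hψe⟩ := exists_deflate_irr (charKer hφ.isCharacter) hφ fun x hx => hx
  have h1 : ψ 1 = φ 1 := hψe 1
  refine IH a (lt_of_le_of_lt hak hkn) (M ⧸ charKer hφ.isCharacter) ha ψ hψ (fun q hq => ?_) K
    (fun q => ?_) t ht f (by rw [h1, hf])
  · obtain ⟨g, rfl⟩ := QuotientGroup.mk_surjective q
    rw [hψe, h1] at hq
    exact (QuotientGroup.eq_one_iff g).2 hq
  · obtain ⟨g, rfl⟩ := QuotientGroup.mk_surjective q
    rw [hψe]; exact hK g

/-- Restriction to a normal subgroup whose constituents have values in the field. -/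
theorem bound_of_constituents {p n t f : ℕ} (hp : p.Prime) (IH : ∀ k < n, PBound.{u} p k)
    {P : Type u} [Group P] [Fintype P] {η : P → ℂ} (hη : IsIrrCharacter P η)
    (hfaith : ∀ g : P, η g = η 1 → g = 1) (hcard : Nat.card P = p ^ n)
    (K : IntermediateField ℚ ℂ) [FiniteDimensional ℚ K] (ht : Module.finrank ℚ K ≤ (p - 1) * p ^ t)
    (hf : η 1 = (f : ℂ)) (M : Subgroup P) [Fintype M] {j : ℕ} (hj : M.index = p ^ j) (hj0 : 1 ≤ j)
    (hres : IsCharacter M (fun h : M => η h))
    (hcount : p ^ j ≤ (Finset.univ.filter fun φ => multIn hres φ ≠ 0).card)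
    (hK : ∀ φ : IrrCharacter M, multIn hres φ ≠ 0 → ∀ h, (φ : M → ℂ) h ∈ K) :
    (p - 1) * n + 1 ≤ f + (p - 1) * (t + 1) * f := by
  classical
  have hMc := M.card_mul_index
  obtain ⟨k, -, hk⟩ := (Nat.dvd_prime_pow hp).1 (hcard ▸ M.card_subgroup_dvd_card)
  rw [hj, hk, hcard, ← pow_add] at hMc
  have hkj : k + j = n := Nat.pow_right_injective hp.two_le hMc
  set S : Finset (IrrCharacter M) := Finset.univ.filter fun φ => multIn hres φ ≠ 0 with hS
  have hmem : ∀ φ, φ ∈ S ↔ multIn hres φ ≠ 0 := fun φ => by simp [hS]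
  choose d hd0 hd using fun φ : IrrCharacter M => φ.2.exists_degree
  have hbnd : ∀ φ ∈ S, ∃ a, (charKer φ.2.isCharacter).index = p ^ a ∧
      (p - 1) * a + 1 ≤ d φ + (p - 1) * (t + 1) * d φ :=
    fun φ hφ => PBound.kernel hp IH (by omega) hk φ.2 K (hK φ ((hmem φ).1 hφ)) ht (hd φ)
  choose! a ha hab using hbnd
  have hinf : S.inf (fun φ : IrrCharacter M => charKer φ.2.isCharacter) = ⊥ := by
    rw [eq_bot_iff]
    intro h hh
    have hall : ∀ φ ∈ S, (φ : M → ℂ) h = (φ : M → ℂ) 1 := fun φ hφ =>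
      (mem_charKer φ.2.isCharacter).1
        ((Finset.inf_le hφ : S.inf (fun φ : IrrCharacter M => charKer φ.2.isCharacter) ≤ _) hh)
    have : η (h : P) = η 1 := by
      rw [res_apply_eq_sum M hres h, show η 1 = η ((1 : M) : P) from rfl, res_apply_eq_sum M hres 1]
      refine Finset.sum_congr rfl fun φ _ => ?_
      by_cases h0 : multIn hres φ = 0
      · simp [h0]
      · rw [hall φ ((hmem φ).2 h0)]
    exact Subgroup.mem_bot.2 (Subtype.ext (hfaith _ this))
  have hle : k ≤ ∑ φ ∈ S, a φ := by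
    have h := index_finset_inf_le S (fun φ : IrrCharacter M => charKer φ.2.isCharacter)
    rw [hinf, Subgroup.index_bot, hk, Finset.prod_congr rfl ha, Finset.prod_pow_eq_pow_sum] at h
    exact (Nat.pow_le_pow_iff_right hp.one_lt).1 h
  have hdeg : ∑ φ ∈ S, d φ ≤ f := by
    have h := apply_eq_sum_multIn hres 1
    simp only [OneMemClass.coe_one, hf, hd] at h
    have h' : f = ∑ φ, multIn hres φ * d φ := by exact_mod_cast h
    rw [h']
    calc ∑ φ ∈ S, d φ ≤ ∑ φ ∈ S, multIn hres φ * d φ :=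
          Finset.sum_le_sum fun φ hφ => Nat.le_mul_of_pos_left _ (Nat.pos_of_ne_zero ((hmem φ).1 hφ))
      _ ≤ _ := Finset.sum_le_univ_sum_of_nonneg fun _ => Nat.zero_le _
  have hsum : (p - 1) * ∑ φ ∈ S, a φ + S.card ≤ f + (p - 1) * (t + 1) * f := by
    have h1 := Finset.sum_le_sum hab
    rw [Finset.sum_add_distrib, Finset.sum_add_distrib, Finset.sum_const, smul_eq_mul, mul_one,
      ← Finset.mul_sum, ← Finset.mul_sum] at h1
    exact h1.trans (Nat.add_le_add hdeg (Nat.mul_le_mul_left _ hdeg))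
  have hj1 := sub_one_mul_add_one_le_pow hp.pos j
  have hk2 : (p - 1) * k ≤ (p - 1) * ∑ φ ∈ S, a φ := Nat.mul_le_mul_left _ hle
  rw [← hkj, Nat.mul_add]
  omega

variable {P : Type u} [Group P] [Fintype P]

theorem exists_translate_multIn (M : Subgroup P) [Fintype M] {η : P → ℂ}
    (hη : IsIrrCharacter P η) (hres : IsCharacter M (fun h : M => η h)) (φ : IrrCharacter M)
    (hφ : multIn hres φ ≠ 0) {c : M} (hc : (c : P) ∈ Subgroup.center P) :
    ∃ ω : ℂ, (φ : M → ℂ) c = ω * (φ : M → ℂ) 1 ∧ η c = ω * η 1 := by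
  classical
  obtain ⟨ω, -, hω⟩ := Block.exists_central_scalar ⟨η, hη⟩ hc
  have hcM : c ∈ Subgroup.center M := Subgroup.mem_center_iff.2 fun g =>
    Subtype.ext (Subgroup.mem_center_iff.1 hc g)
  refine ⟨ω, ?_, by simpa using hω 1⟩
  choose l hl1 hl using fun ψ : IrrCharacter M => Block.exists_central_scalar ψ hcM
  have hexp : (fun h : M => η ((c * h : M) : P)) =
      ∑ ψ : IrrCharacter M, ((multIn hres ψ : ℂ) * l ψ) • (ψ : M → ℂ) := by
    funext h
    rw [res_apply_eq_sum M hres (c * h), Finset.sum_apply]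
    refine Finset.sum_congr rfl fun ψ _ => ?_
    rw [Pi.smul_apply, smul_eq_mul, hl, mul_assoc]
  have h1 : classInner (fun h : M => η ((c * h : M) : P)) (φ : M → ℂ) = (multIn hres φ : ℂ) * l φ := by
    rw [hexp, classInner_sum_left, Finset.sum_eq_single φ]
    · rw [classInner_smul_left, classInner_irr_self φ.2, mul_one]
    · intro ψ _ hψ
      rw [classInner_smul_left, classInner_irr_ne ψ.2 φ.2 fun h => hψ (Subtype.ext h), mul_zero]
    · simp
  have h2 : classInner (fun h : M => η ((c * h : M) : P)) (φ : M → ℂ) = ω * (multIn hres φ : ℂ) := by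
    rw [show (fun h : M => η ((c * h : M) : P)) = ω • (fun h : M => η h) from
      funext fun h => by simpa using hω h, classInner_smul_left, classInner_eq_multIn]
  have hlω : l φ = ω := by
    rw [h1, mul_comm] at h2
    exact mul_right_cancel₀ (Nat.cast_ne_zero.2 hφ) h2
  have := hl φ 1
  rw [mul_one] at this
  rw [this, hlω]

theorem root_mem_field {p : ℕ} (hp : p.Prime) {ω : ℂ} (hω : IsPrimitiveRoot ω p)
    {K : IntermediateField ℚ ℂ} (hK : ω ∈ K) {c : ℂ} (hc : c ^ p = 1) : c ∈ K := by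
  haveI : NeZero p := ⟨hp.ne_zero⟩
  obtain ⟨i, -, rfl⟩ := hω.eq_pow_of_pow_eq_one hc
  exact pow_mem hK i

theorem sum_conj_mul_eq_zero {E : Type*} [Group E] [Fintype E] (a b : E →* ℂ) (hne : a ≠ b)
    (ha : ∀ e, ‖a e‖ = 1) : ∑ e : E, conj (a e) * b e = 0 := by
  obtain ⟨e₀, he₀⟩ := not_forall.1 fun h => hne (MonoidHom.ext h)
  have hr : conj (a e₀) * b e₀ ≠ 1 := by
    intro h
    apply he₀
    have h2 := congrArg (fun z => a e₀ * z) h
    simp only [← mul_assoc, Complex.mul_conj', ha, mul_one, Complex.ofReal_one, one_pow,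
      one_mul] at h2
    exact h2.symm
  have hshift : (conj (a e₀) * b e₀) * ∑ e : E, conj (a e) * b e = ∑ e : E, conj (a e) * b e := by
    rw [Finset.mul_sum]
    refine Fintype.sum_equiv (Equiv.mulLeft e₀) _ _ fun e => ?_
    simp only [Equiv.coe_mulLeft, map_mul]
    ring
  have : (conj (a e₀) * b e₀ - 1) * ∑ e : E, conj (a e) * b e = 0 := by
    rw [sub_mul, hshift, one_mul, sub_self]
  exact (mul_eq_zero.1 this).resolve_left (sub_ne_zero.2 hr)

/-- The step through a normal elementary abelian subgroup of order `p²`. -/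
theorem bound_of_normalSq {p n t f : ℕ} (hp : p.Prime) (IH : ∀ k < n, PBound.{u} p k) {η : P → ℂ}
    (hη : IsIrrCharacter P η) (hfaith : ∀ g : P, η g = η 1 → g = 1) (hcard : Nat.card P = p ^ n)
    (K : IntermediateField ℚ ℂ) [FiniteDimensional ℚ K] (hKv : ∀ g, η g ∈ K)
    (ht : Module.finrank ℚ K ≤ (p - 1) * p ^ t) (hf : η 1 = (f : ℂ)) {E : Subgroup P} [E.Normal]
    (hEe : Cfsg.IsElementaryAbelian p E) (hE : Nat.card E = p ^ 2) :
    (p - 1) * n + 1 ≤ f + (p - 1) * (t + 1) * f := by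
  classical
  haveI : Fact p.Prime := ⟨hp⟩
  haveI : Fintype E := Fintype.ofFinite E
  have hP : IsPGroup p P := IsPGroup.of_card hcard
  have hη1 := hη.apply_one_ne_zero
  -- `E` is not central
  have hEc : ¬ E ≤ Subgroup.center P := by
    intro hle
    choose c hc1 hc using fun e : E => Block.exists_central_scalar ⟨η, hη⟩ (hle e.2)
    have hcv : ∀ e : E, η e = c e * η 1 := fun e => by simpa using hc e 1
    have hcp : ∀ e, c e ∈ Polynomial.nthRootsFinset p (1 : ℂ) := fun e => by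
      rw [Polynomial.mem_nthRootsFinset hp.pos]
      obtain ⟨i, hi⟩ := orderOf_dvd_of_pow_eq_one (hEe.2 e e.2)
      rw [hi, pow_mul, hc1, one_pow]
    have hinj : Function.Injective c := fun e e' h => by
      have h1 := hc e ((e' : P)⁻¹)
      have h2 := hc e' ((e' : P)⁻¹)
      simp only at h1 h2
      rw [h, ← h2, mul_inv_cancel] at h1
      exact Subtype.ext (mul_inv_eq_one.1 (hfaith _ h1))
    have hle' := Finset.card_le_card_of_injOn c (s := Finset.univ) (fun e _ => hcp e) hinj.injOn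
    rw [(Complex.isPrimitiveRoot_exp p hp.ne_zero).card_nthRootsFinset, Finset.card_univ,
      ← Nat.card_eq_fintype_card, hE] at hle'
    nlinarith [hp.two_le]
  obtain ⟨z, hzE, hzc, hzo⟩ := PGroup.exists_mem_center_orderOf_eq hP (N := E) (fun h => by
    rw [h, Subgroup.card_bot] at hE
    exact (Nat.one_lt_pow two_ne_zero hp.one_lt).ne hE)
  obtain ⟨ω, hω1, hω⟩ := Block.exists_central_scalar ⟨η, hη⟩ hzc
  have hωp : IsPrimitiveRoot ω p := by
    have hne : ω ≠ 1 := by
      rintro rfl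
      have : z = 1 := hfaith z (by simpa using hω 1)
      rw [this, orderOf_one] at hzo
      exact hp.one_lt.ne hzo
    rw [hzo] at hω1
    have := IsPrimitiveRoot.orderOf ω
    rwa [orderOf_eq_prime hω1 hne] at this
  have hωK : ω ∈ K := by
    have : ω = η z * (η 1)⁻¹ := by
      rw [show η z = ω * η 1 by simpa using hω 1, mul_inv_cancel_right₀ hη1]
    rw [this]
    exact mul_mem (hKv z) (inv_mem (hKv 1))
  -- commutators with `E` are central
  have hcomm : ∀ g : P, ∀ e ∈ E, g * e * g⁻¹ * e⁻¹ ∈ Subgroup.center P := by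
    have hZc : Subgroup.zpowers z ≤ Subgroup.center P := Subgroup.zpowers_le.2 hzc
    haveI hZn : (Subgroup.zpowers z).Normal := ⟨fun x hx g => by
      rwa [Subgroup.mem_center_iff.1 (hZc hx) g, mul_inv_cancel_right]⟩
    have hcardq : Nat.card (E.map (QuotientGroup.mk' (Subgroup.zpowers z))) = p := by
      have h := (E.subgroupOf E).card_mul_index
      have hZE : Subgroup.zpowers z ≤ E := Subgroup.zpowers_le.2 hzE
      have h3 : Nat.card ((Subgroup.zpowers z).subgroupOf E) = p := by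
        rw [Nat.card_congr (Subgroup.subgroupOfEquivOfLe hZE).toEquiv, Nat.card_zpowers, hzo]
      have h4 := ((Subgroup.zpowers z).subgroupOf E).card_mul_index
      rw [h3, hE, sq] at h4
      have h5 : ((Subgroup.zpowers z).subgroupOf E).index = p := Nat.eq_of_mul_eq_mul_left hp.pos h4
      have h6 := Subgroup.index_ker ((QuotientGroup.mk' (Subgroup.zpowers z)).comp E.subtype)
      rw [MonoidHom.range_comp, Subgroup.range_subtype] at h6
      rw [← h6, ← MonoidHom.comap_ker, QuotientGroup.ker_mk']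
      exact h5
    haveI : (E.map (QuotientGroup.mk' (Subgroup.zpowers z))).Normal :=
      (inferInstance : E.Normal).map _ (QuotientGroup.mk'_surjective _)
    intro g e he
    have hc := PGroup.le_center_of_card_eq_prime (hP.to_quotient (Subgroup.zpowers z)) hcardq
      (Subgroup.mem_map_of_mem _ he)
    have h1 := Subgroup.mem_center_iff.1 hc (QuotientGroup.mk' (Subgroup.zpowers z) g)
    refine hZc ((QuotientGroup.eq_one_iff _).1 ?_)
    show (QuotientGroup.mk' (Subgroup.zpowers z)) (g * e * g⁻¹ * e⁻¹) = 1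
    rw [map_mul, map_mul, map_mul, map_inv, map_inv, h1]
    group
  set M : Subgroup P := Subgroup.centralizer (E : Set P) with hM
  haveI : Fintype M := Fintype.ofFinite M
  haveI hMn : M.Normal := by rw [hM]; infer_instance
  have hEM : E ≤ M := fun e he => Subgroup.mem_centralizer_iff.2 fun v hv =>
    congrArg Subtype.val (hEe.1.is_comm.comm ⟨v, hv⟩ ⟨e, he⟩)
  obtain ⟨j, -, hj⟩ := (Nat.dvd_prime_pow hp).1 (hcard ▸ Subgroup.index_dvd_card M)
  have hj0 : 1 ≤ j := by
    refine Nat.one_le_iff_ne_zero.2 fun hj0 => hEc fun e he => Subgroup.mem_center_iff.2 fun g => ?_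
    have hgM : g ∈ M := by
      rw [show M = ⊤ from Subgroup.index_eq_one.1 (by rw [hj, hj0, pow_zero])]
      trivial
    exact (Subgroup.mem_centralizer_iff.1 hgM e he).symm
  have hres : IsCharacter M (fun h : M => η h) := hη.isCharacter.comp M.subtype
  -- the linear characters of `E` attached to the characters of `M`
  have hEcen : ∀ e : E, (⟨e, hEM e.2⟩ : M) ∈ Subgroup.center M := fun e =>
    Subgroup.mem_center_iff.2 fun g => Subtype.ext (Subgroup.mem_centralizer_iff.1 g.2 e e.2).symm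
  let lv : IrrCharacter M → E → ℂ := fun φ e => (φ : M → ℂ) ⟨e, hEM e.2⟩ * ((φ : M → ℂ) 1)⁻¹
  have hlapply : ∀ (φ : IrrCharacter M) (e : E) (h : M),
      (φ : M → ℂ) (⟨e, hEM e.2⟩ * h) = lv φ e * (φ : M → ℂ) h := by
    intro φ e h
    obtain ⟨c, -, hc⟩ := Block.exists_central_scalar φ (hEcen e)
    have h1 := hc 1
    rw [mul_one] at h1
    show _ = (φ : M → ℂ) ⟨e, hEM e.2⟩ * ((φ : M → ℂ) 1)⁻¹ * _
    rw [h1, mul_inv_cancel_right₀ φ.2.apply_one_ne_zero, hc]
  let l : IrrCharacter M → (E →* ℂ) := fun φ =>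
    { toFun := lv φ
      map_one' := mul_inv_cancel₀ φ.2.apply_one_ne_zero
      map_mul' := fun e e' => by
        have h := hlapply φ e ⟨e', hEM e'.2⟩
        show (φ : M → ℂ) (⟨e, hEM e.2⟩ * ⟨e', hEM e'.2⟩) * ((φ : M → ℂ) 1)⁻¹ = _
        rw [h, mul_assoc] }
  have hlp : ∀ φ e, l φ e ^ p = 1 := fun φ e => by
    rw [← map_pow, show e ^ p = 1 from Subtype.ext (hEe.2 e e.2), map_one]
  have hlK : ∀ φ e, l φ e ∈ K := fun φ e => root_mem_field hp hωp hωK (hlp φ e)
  have hlnorm : ∀ φ e, ‖l φ e‖ = 1 := fun φ e =>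
    Complex.norm_eq_one_of_pow_eq_one (hlp φ e) hp.ne_zero
  -- the stabiliser of a constituent is `M`
  have hstab : ∀ φ : IrrCharacter M, multIn hres φ ≠ 0 →
      inertia M (φ : M → ℂ) = M := by
    intro φ hφ
    refine le_antisymm (fun g hg => Subgroup.mem_centralizer_iff.2 fun e he => ?_)
      (le_inertia M φ.2.isClassFunction)
    have hgi := (mem_inertia_iff M).1 hg ⟨e, hEM he⟩
    set c : P := g * e * g⁻¹ * e⁻¹ with hc
    have hcE : c ∈ E := mul_mem ((inferInstance : E.Normal).conj_mem e he g) (inv_mem he)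
    obtain ⟨ω', hφc, hηc⟩ := exists_translate_multIn M hη hres φ hφ (c := ⟨c, hEM hcE⟩)
      (hcomm g e he)
    have hlc : l φ ⟨c, hcE⟩ = 1 := by
      have h1 : l φ ⟨c, hcE⟩ * l φ ⟨e, he⟩ = l φ ⟨e, he⟩ := by
        rw [← map_mul]
        show (φ : M → ℂ) ⟨c * e, _⟩ * _ = (φ : M → ℂ) ⟨e, _⟩ * _
        rw [← hgi]
        congr 2
        exact congrArg (φ : M → ℂ) (Subtype.ext (show c * e = g * e * g⁻¹ by rw [hc]; group))
      exact mul_right_cancel₀ (fun h0 => zero_ne_one (norm_zero.symm.trans ((congrArg norm h0).symm.trans (hlnorm φ ⟨e, he⟩))))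
        (h1.trans (one_mul _).symm)
    have hω' : ω' = 1 := by
      have h2 : l φ ⟨c, hcE⟩ = ω' := by
        show (φ : M → ℂ) ⟨c, hEM hcE⟩ * ((φ : M → ℂ) 1)⁻¹ = ω'
        rw [hφc, mul_inv_cancel_right₀ φ.2.apply_one_ne_zero]
      rw [← h2, hlc]
    have : c = 1 := hfaith c (by simpa [hω'] using hηc)
    have h3 : g * e * g⁻¹ = e := mul_inv_eq_one.1 this
    calc e * g = (g * e * g⁻¹) * g := by rw [h3]
      _ = g * e := by group
  set S : Finset (IrrCharacter M) := Finset.univ.filter fun φ => multIn hres φ ≠ 0 with hS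
  have hmem : ∀ φ, φ ∈ S ↔ multIn hres φ ≠ 0 := fun φ => by simp [hS]
  have hne : ∀ {φ : IrrCharacter M}, multIn hres φ ≠ 0 →
      classInner (fun h : M => η h) (φ : M → ℂ) ≠ 0 := fun {φ} h => by
    rw [classInner_eq_multIn hres]; exact Nat.cast_ne_zero.2 h
  have horb : ∀ φ ∈ S, twistOrbit M (φ : M → ℂ) ⊆ S.image (fun ψ : IrrCharacter M => (ψ : M → ℂ)) := by
    intro φ hφ ψ hψ
    obtain ⟨g, rfl⟩ := (mem_twistOrbit M).1 hψ
    refine Finset.mem_image.2 ⟨⟨_, isIrrCharacter_conjTwist M φ.2 g⟩, (hmem _).2 fun h0 => ?_, rfl⟩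
    have h := classInner_eq_multIn hres ⟨_, isIrrCharacter_conjTwist M φ.2 g⟩
    rw [h0, Nat.cast_zero] at h
    have h2 := classInner_conjTwist M (fun x : M => η x) (φ : M → ℂ) g
    rw [conjTwist_res M hη.isClassFunction g] at h2
    exact hne ((hmem φ).1 hφ) (h2.symm.trans h)
  obtain ⟨φ₀, hφ₀⟩ : ∃ φ, φ ∈ S := by
    obtain ⟨θ, hθ⟩ := exists_irr_constituent_res M hη
    refine ⟨θ, (hmem θ).2 fun h0 => hθ ?_⟩
    rw [classInner_eq_multIn hres, h0, Nat.cast_zero]
  have hqcard : ∀ φ ∈ S, (twistOrbit M (φ : M → ℂ)).card = p ^ j := fun φ hφ => by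
    rw [card_twistOrbit, hstab φ ((hmem φ).1 hφ), hj]
  have hSge : p ^ j ≤ S.card := by
    rw [← hqcard φ₀ hφ₀]
    exact (Finset.card_le_card (horb φ₀ hφ₀)).trans Finset.card_image_le
  have hsq := sum_sq_multIn_le_index M hη hres
  rw [hj] at hsq
  have hsqS : ∑ φ ∈ S, multIn hres φ ^ 2 ≤ p ^ j :=
    le_trans (Finset.sum_le_univ_sum_of_nonneg fun _ => Nat.zero_le _) hsq
  have hone : ∀ φ ∈ S, multIn hres φ = 1 := by
    intro φ hφ
    by_contra hne1
    have h2 : 2 ≤ multIn hres φ := by have := (hmem φ).1 hφ; omega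
    have hlt : ∑ ψ ∈ S, 1 < ∑ ψ ∈ S, multIn hres ψ ^ 2 := by
      refine Finset.sum_lt_sum (fun ψ hψ => Nat.one_le_pow _ _ (Nat.pos_of_ne_zero ((hmem ψ).1 hψ)))
        ⟨φ, hφ, ?_⟩
      nlinarith
    rw [Finset.sum_const, smul_eq_mul, mul_one] at hlt
    omega
  have hScard : S.card = p ^ j := by
    refine le_antisymm ?_ hSge
    calc S.card = ∑ φ ∈ S, multIn hres φ ^ 2 := by
          rw [Finset.card_eq_sum_ones]
          exact Finset.sum_congr rfl fun φ hφ => by rw [hone φ hφ, one_pow]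
      _ ≤ _ := hsqS
  have hinjl : ∀ φ ∈ S, ∀ ψ ∈ S, l φ = l ψ → φ = ψ := by
    intro φ hφ ψ hψ hl
    have himg : twistOrbit M (φ : M → ℂ) = S.image (fun ψ : IrrCharacter M => (ψ : M → ℂ)) :=
      Finset.eq_of_subset_of_card_le (horb φ hφ)
        ((Finset.card_image_le).trans_eq (hScard.trans (hqcard φ hφ).symm))
    have hψm : (ψ : M → ℂ) ∈ twistOrbit M (φ : M → ℂ) := by
      rw [himg]; exact Finset.mem_image.2 ⟨ψ, hψ, rfl⟩
    obtain ⟨g, hg⟩ := (mem_twistOrbit M).1 hψm
    have hgM : g ∈ M := by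
      refine Subgroup.mem_centralizer_iff.2 fun e he => ?_
      set c : P := g * e * g⁻¹ * e⁻¹ with hc
      have hcE : c ∈ E := mul_mem ((inferInstance : E.Normal).conj_mem e he g) (inv_mem he)
      have hψe : l ψ ⟨e, he⟩ = l φ (⟨c, hcE⟩ * ⟨e, he⟩) := by
        show (ψ : M → ℂ) ⟨e, _⟩ * ((ψ : M → ℂ) 1)⁻¹ = (φ : M → ℂ) ⟨c * e, _⟩ * _
        rw [← hg, conjTwist_apply_one, conjTwist_apply]
        congr 2
        exact congrArg (φ : M → ℂ) (Subtype.ext (show g * e * g⁻¹ = c * e by rw [hc]; group))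
      rw [← hl, map_mul] at hψe
      have hlc : l φ ⟨c, hcE⟩ = 1 := (mul_right_cancel₀
        (fun h0 => zero_ne_one (norm_zero.symm.trans ((congrArg norm h0).symm.trans (hlnorm φ ⟨e, he⟩)))) ((one_mul _).trans hψe)).symm
      obtain ⟨ω', hφc, hηc⟩ := exists_translate_multIn M hη hres φ ((hmem φ).1 hφ)
        (c := ⟨c, hEM hcE⟩) (hcomm g e he)
      have h2 : l φ ⟨c, hcE⟩ = ω' := by
        show (φ : M → ℂ) ⟨c, hEM hcE⟩ * ((φ : M → ℂ) 1)⁻¹ = ω'
        rw [hφc, mul_inv_cancel_right₀ φ.2.apply_one_ne_zero]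
      have : c = 1 := hfaith c (by simpa [← h2, hlc] using hηc)
      have h3 : g * e * g⁻¹ = e := mul_inv_eq_one.1 this
      calc e * g = (g * e * g⁻¹) * g := by rw [h3]
        _ = g * e := by group
    apply Subtype.ext
    rw [← hg]
    have hgi : g ∈ inertia M (φ : M → ℂ) := le_inertia M φ.2.isClassFunction hgM
    exact ((mem_inertia M).1 hgi).symm
  have hKφ : ∀ φ : IrrCharacter M, multIn hres φ ≠ 0 → ∀ h, (φ : M → ℂ) h ∈ K := by
    intro θ hθ h
    have hF : ∑ e : E, conj (l θ e) * η ((⟨e, hEM e.2⟩ * h : M) : P) =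
        (Nat.card E : ℂ) * (θ : M → ℂ) h := by
      have h1 : ∀ e : E, η ((⟨e, hEM e.2⟩ * h : M) : P) =
          ∑ φ ∈ S, l φ e * (φ : M → ℂ) h := by
        intro e
        rw [res_apply_eq_sum M hres (⟨e, hEM e.2⟩ * h), ← Finset.sum_subset (Finset.subset_univ S)
          (fun φ _ hφ => by
            rw [not_not.1 (fun h0 => hφ ((hmem φ).2 h0)), Nat.cast_zero, zero_mul])]
        refine Finset.sum_congr rfl fun φ hφ => ?_
        rw [hone φ hφ, Nat.cast_one, one_mul, hlapply]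
        rfl
      simp only [h1, Finset.mul_sum, ← mul_assoc]
      rw [Finset.sum_comm]
      simp only [← Finset.sum_mul]
      rw [Finset.sum_eq_single θ]
      · congr 1
        simp only [Complex.conj_mul', hlnorm, Complex.ofReal_one, one_pow, Finset.sum_const,
          Finset.card_univ, nsmul_eq_mul, mul_one, Nat.card_eq_fintype_card]
      · intro φ hφ hφθ
        rw [sum_conj_mul_eq_zero (l θ) (l φ)
          (fun h0 => hφθ (hinjl φ hφ θ ((hmem θ).2 hθ) h0.symm)) (hlnorm θ), zero_mul]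
      · exact fun h0 => absurd ((hmem θ).2 hθ) h0
    have hcard0 : (Nat.card E : ℂ) ≠ 0 := Nat.cast_ne_zero.2 Nat.card_pos.ne'
    have : (θ : M → ℂ) h = ((Nat.card E : ℂ))⁻¹ *
        ∑ e : E, conj (l θ e) * η ((⟨e, hEM e.2⟩ * h : M) : P) := by
      rw [hF, inv_mul_cancel_left₀ hcard0]
    rw [this]
    refine mul_mem (inv_mem (natCast_mem K _)) (sum_mem fun e _ => mul_mem ?_ (hKv _))
    have : conj (l θ e) = (l θ e)⁻¹ := (Complex.inv_eq_conj (hlnorm θ e)).symm
    rw [this]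
    exact inv_mem (hlK θ e)
  exact bound_of_constituents hp IH hη hfaith hcard K ht hf M hj hj0 hres hSge hKφ

/-- The cyclic case. -/
theorem bound_of_cyclic {p n t f : ℕ} (hp : p.Prime) {η : P → ℂ}
    (hη : IsIrrCharacter P η) (hfaith : ∀ g : P, η g = η 1 → g = 1) (hcard : Nat.card P = p ^ n)
    (K : IntermediateField ℚ ℂ) [FiniteDimensional ℚ K] (hKv : ∀ g, η g ∈ K)
    (ht : Module.finrank ℚ K ≤ (p - 1) * p ^ t) (hf : η 1 = (f : ℂ)) {c : P}
    (hc : Subgroup.zpowers c = ⊤) :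
    (p - 1) * n + 1 ≤ f + (p - 1) * (t + 1) * f := by
  classical
  rcases Nat.eq_zero_or_pos n with rfl | hn
  · obtain ⟨d, hd0, hd⟩ := hη.exists_degree
    have : f = d := by exact_mod_cast hf.symm.trans hd
    subst this
    nlinarith [Nat.zero_le ((p - 1) * (t + 1) * f)]
  have hco : ∀ a b : P, a * b = b * a := by
    intro a b
    obtain ⟨i, rfl⟩ := Subgroup.mem_zpowers_iff.1 (hc ▸ Subgroup.mem_top a)
    obtain ⟨k, rfl⟩ := Subgroup.mem_zpowers_iff.1 (hc ▸ Subgroup.mem_top b)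
    rw [← zpow_add, ← zpow_add, add_comm]
  have h1 := degree_eq_one_of_comm hco hη
  have hf1 : f = 1 := by exact_mod_cast hf.symm.trans h1
  obtain ⟨φ, hφ⟩ := exists_hom_of_degree_one hη.isCharacter h1
  have hφinj : Function.Injective φ := by
    rw [injective_iff_map_eq_one]
    intro g hg
    exact hfaith g (by simp [hφ, hg])
  have hord : orderOf (φ c : ℂ) = p ^ n := by
    rw [orderOf_units, orderOf_injective φ hφinj, ← Nat.card_zpowers, hc, Subgroup.card_top, hcard]
  have hζ : IsPrimitiveRoot (φ c : ℂ) (p ^ n) := hord ▸ IsPrimitiveRoot.orderOf _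
  have hle : ℚ⟮(φ c : ℂ)⟯ ≤ K := IntermediateField.adjoin_simple_le_iff.2 (by
    have := hKv c; rwa [hφ] at this)
  have h2 := (IntermediateField.finrank_le_of_le_right hle).trans ht
  rw [finrank_adjoin_rootOfUnity (pow_pos hp.pos n) hζ, Nat.totient_prime_pow hp hn,
    mul_comm] at h2
  have h3 := Nat.le_of_mul_le_mul_left h2 (by have := hp.two_le; omega)
  have h4 : n - 1 ≤ t := (Nat.pow_le_pow_iff_right hp.one_lt).1 h3
  subst hf1
  have := Nat.mul_le_mul_left (p - 1) (show n ≤ t + 1 by omega)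
  omega

/-- The case of a cyclic subgroup of index two. -/
theorem bound_of_index_two {n t f : ℕ} {η : P → ℂ}
    (hη : IsIrrCharacter P η) (hfaith : ∀ g : P, η g = η 1 → g = 1) (hcard : Nat.card P = 2 ^ n)
    (K : IntermediateField ℚ ℂ) [FiniteDimensional ℚ K] (hKv : ∀ g, η g ∈ K)
    (ht : Module.finrank ℚ K ≤ 2 ^ t) (hf : η 1 = (f : ℂ)) {a x : P}
    (hAn : (Subgroup.zpowers a).Normal) {k : ℤ} (hx : x * a * x⁻¹ = a ^ k) (hk : (4 : ℤ) ∣ k - 3)
    (hord : 4 ∣ orderOf a) (hidx : (Subgroup.zpowers a).index = 2) :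
    n + 1 ≤ f + (t + 1) * f := by
  classical
  set C : Subgroup P := Subgroup.zpowers a with hC
  haveI : Fintype C := Fintype.ofFinite C
  haveI := hAn
  have hmc := C.card_mul_index
  rw [hidx, hcard, hC, Nat.card_zpowers] at hmc
  have hne : a ^ k ≠ a := by
    intro h
    have h1 : a ^ k = a ^ (1 : ℤ) := by rw [h, zpow_one]
    rw [zpow_eq_zpow_iff_modEq, Int.modEq_iff_dvd] at h1
    have h4 : ((4 : ℕ) : ℤ) ∣ 1 - k := (Int.natCast_dvd_natCast.2 hord).trans h1
    omega
  have hres : IsCharacter C (fun h : C => η h) := hη.isCharacter.comp C.subtype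
  set S : Finset (IrrCharacter C) := Finset.univ.filter fun φ => multIn hres φ ≠ 0 with hS
  have hmem : ∀ φ, φ ∈ S ↔ multIn hres φ ≠ 0 := fun φ => by simp [hS]
  have hco : ∀ u v : C, u * v = v * u := by
    rintro ⟨u, hu⟩ ⟨v, hv⟩
    obtain ⟨i, rfl⟩ := Subgroup.mem_zpowers_iff.1 hu
    obtain ⟨l, rfl⟩ := Subgroup.mem_zpowers_iff.1 hv
    exact Subtype.ext (by simp [← zpow_add, add_comm])
  choose hom hhom using fun φ : IrrCharacter C =>
    exists_hom_of_degree_one φ.2.isCharacter (degree_eq_one_of_comm hco φ.2)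
  have hfaithS : ∀ u : C, (∀ φ ∈ S, hom φ u = 1) → u = 1 := by
    intro u hu
    refine Subtype.ext (hfaith _ ?_)
    rw [res_apply_eq_sum C hres u, show η 1 = η ((1 : C) : P) from rfl, res_apply_eq_sum C hres 1]
    refine Finset.sum_congr rfl fun φ _ => ?_
    by_cases h0 : multIn hres φ = 0
    · simp [h0]
    · rw [hhom φ]
      simp [hu φ ((hmem φ).2 h0)]
  let aC : C := ⟨a, Subgroup.mem_zpowers a⟩
  obtain ⟨φ, hφ, hφne⟩ : ∃ φ ∈ S, hom φ aC ^ k ≠ hom φ aC := by
    by_contra hcon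
    push Not at hcon
    have h1 := hfaithS (aC ^ k * aC⁻¹) fun φ hφ => by
      rw [map_mul, map_zpow, map_inv, hcon φ hφ, mul_inv_cancel]
    exact hne (congrArg Subtype.val (mul_inv_eq_one.1 h1))
  let ψ : IrrCharacter C := ⟨_, isIrrCharacter_conjTwist C φ.2 x⟩
  have hψv : ∀ u : C, (ψ : C → ℂ) u = (hom φ ⟨x * u * x⁻¹, hAn.conj_mem u u.2 x⟩ : ℂ) := fun u => by
    show (φ : C → ℂ) _ = _
    rw [hhom φ]
  have hψa : (ψ : C → ℂ) aC = ((hom φ aC ^ k : ℂˣ) : ℂ) := by
    rw [hψv, ← map_zpow]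
    congr 2
    exact Subtype.ext hx
  have hψS : multIn hres ψ ≠ 0 := by
    intro h0
    have h := classInner_eq_multIn hres ψ
    rw [h0, Nat.cast_zero] at h
    have h2 := classInner_conjTwist C (fun y : C => η y) (φ : C → ℂ) x
    rw [conjTwist_res C hη.isClassFunction x, classInner_eq_multIn hres φ] at h2
    exact Nat.cast_ne_zero.2 ((hmem φ).1 hφ) (h2.symm.trans h)
  have hψne : ψ ≠ φ := by
    intro h
    apply hφne
    apply Units.ext
    rw [← hψa, h, hhom φ]
  have hsq := sum_sq_multIn_le_index C hη hres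
  rw [hidx] at hsq
  have hpair : ({φ, ψ} : Finset (IrrCharacter C)) ⊆ Finset.univ := Finset.subset_univ _
  have h2 : multIn hres φ ^ 2 + multIn hres ψ ^ 2 +
      ∑ χ ∈ Finset.univ \ {φ, ψ}, multIn hres χ ^ 2 ≤ 2 := by
    rw [← Finset.sum_sdiff hpair, Finset.sum_pair hψne.symm] at hsq
    omega
  have hm1 : multIn hres φ = 1 := by
    have h3 : 1 ≤ multIn hres φ := Nat.pos_of_ne_zero ((hmem φ).1 hφ)
    have h4 : 1 ≤ multIn hres ψ ^ 2 := Nat.one_le_pow _ _ (Nat.pos_of_ne_zero hψS)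
    by_contra hh
    have h5 := Nat.pow_le_pow_left (show 2 ≤ multIn hres φ by omega) 2
    omega
  have hm2 : multIn hres ψ = 1 := by
    have h4 : 1 ≤ multIn hres ψ := Nat.pos_of_ne_zero hψS
    rw [hm1] at h2
    by_contra hh
    have h5 := Nat.pow_le_pow_left (show 2 ≤ multIn hres ψ by omega) 2
    omega
  have hm0 : ∀ χ, χ ≠ φ → χ ≠ ψ → multIn hres χ = 0 := by
    intro χ h5 h6
    have h7 : multIn hres χ ^ 2 ≤ ∑ χ ∈ Finset.univ \ {φ, ψ}, multIn hres χ ^ 2 :=
      Finset.single_le_sum (f := fun χ => multIn hres χ ^ 2) (fun _ _ => Nat.zero_le _) (by simp [h5, h6])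
    rw [hm1, hm2] at h2
    have : multIn hres χ ^ 2 = 0 := by omega
    simpa using this
  have hval : ∀ u : C, η u = (φ : C → ℂ) u + (ψ : C → ℂ) u := by
    intro u
    rw [res_apply_eq_sum C hres u, ← Finset.sum_subset hpair (fun χ _ hχ => by
      simp only [Finset.mem_insert, Finset.mem_singleton, not_or] at hχ
      simp [hm0 χ hχ.1 hχ.2]), Finset.sum_pair hψne.symm, hm1, hm2, Nat.cast_one, one_mul, one_mul]
  have hf2 : f = 2 := by
    have h := hval 1
    rw [show ((1 : C) : P) = 1 from rfl, hf, degree_eq_one_of_comm hco φ.2,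
      degree_eq_one_of_comm hco ψ.2] at h
    exact_mod_cast h.trans (by norm_num : (1 : ℂ) + 1 = ((2 : ℕ) : ℂ))
  -- the value on the generator is a primitive root
  set ζ : ℂ := (hom φ aC : ℂ) with hζdef
  set ξ : ℂ := ((hom φ aC ^ k : ℂˣ) : ℂ) with hξdef
  have hφa : (φ : C → ℂ) aC = ζ := by rw [hhom φ]
  have hψpow : ∀ m : ℕ, (ψ : C → ℂ) (aC ^ m) = ξ ^ m := by
    intro m
    rw [hψv, hξdef, ← Units.val_pow_eq_pow_val, ← map_zpow, ← map_pow]
    congr 2
    apply Subtype.ext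
    simp [aC, ← hx, conj_pow]
  have hζord : orderOf ζ = orderOf a := by
    rw [hζdef, orderOf_units]
    refine Nat.dvd_antisymm ((orderOf_map_dvd _ _).trans (by rw [Subgroup.orderOf_mk])) ?_
    refine orderOf_dvd_of_pow_eq_one ?_
    have hmm := pow_orderOf_eq_one (hom φ aC)
    have hk2 : (hom φ aC ^ k) ^ orderOf (hom φ aC) = 1 := by
      rw [← zpow_natCast, ← zpow_mul, mul_comm, zpow_mul, zpow_natCast, hmm, one_zpow]
    have h8 : aC ^ orderOf (hom φ aC) = 1 := by
      apply Subtype.ext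
      apply hfaith
      show η ((aC ^ orderOf (hom φ aC) : C) : P) = η 1
      rw [hval, hψpow, hξdef, ← Units.val_pow_eq_pow_val, hk2, hhom φ, hf, hf2]
      simp [hmm]
      norm_num
    simpa [aC] using congrArg Subtype.val h8
  have hζ : IsPrimitiveRoot ζ (orderOf a) := hζord ▸ IsPrimitiveRoot.orderOf ζ
  have hs : ζ + ξ ∈ K := by
    have := hKv (aC : P)
    rwa [hval aC, hφa, hψa] at this
  have hs2 : ζ ^ 2 + ξ ^ 2 ∈ K := by
    have := hKv ((aC ^ 2 : C) : P)
    rw [hval, hψpow, hhom φ] at this; simpa [map_pow, Units.val_pow_eq_pow_val] using this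
  have hprod : ζ * ξ ∈ K := by
    have h : ζ * ξ = ((ζ + ξ) * (ζ + ξ) - (ζ ^ 2 + ξ ^ 2)) * (2 : ℂ)⁻¹ := by ring
    rw [h]
    exact mul_mem (sub_mem (mul_mem hs hs) hs2) (inv_mem (natCast_mem K 2))
  -- the degree of `ζ` over `K` is at most two
  set q : Polynomial K := Polynomial.X ^ 2 - Polynomial.C ⟨_, hs⟩ * Polynomial.X +
    Polynomial.C ⟨_, hprod⟩ with hq
  have hqm : q.Monic := by rw [hq]; monicity!
  have hqd : q.natDegree = 2 := by rw [hq]; compute_degree!
  have hqζ : Polynomial.aeval ζ q = 0 := by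
    simp [hq]; ring
  have hint : IsIntegral K ζ := ⟨q, hqm, by simpa [Polynomial.aeval_def] using hqζ⟩
  have hL : Module.finrank K (IntermediateField.adjoin K {ζ}) ≤ 2 := by
    rw [IntermediateField.adjoin.finrank hint, ← hqd]
    exact Polynomial.natDegree_le_natDegree (minpoly.min K ζ hqm hqζ)
  haveI : FiniteDimensional K (IntermediateField.adjoin K {ζ}) :=
    IntermediateField.adjoin.finiteDimensional hint
  set L := (IntermediateField.adjoin K {ζ}).restrictScalars ℚ with hLdef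
  have hLr : Module.finrank ℚ L = Module.finrank ℚ K * Module.finrank K (IntermediateField.adjoin K {ζ}) :=
    (Module.finrank_mul_finrank ℚ K (IntermediateField.adjoin K {ζ})).symm
  haveI : FiniteDimensional ℚ L :=
    (Module.Finite.trans K (IntermediateField.adjoin K {ζ}) :
      Module.Finite ℚ (IntermediateField.adjoin K {ζ}))
  have hle : ℚ⟮ζ⟯ ≤ L := IntermediateField.adjoin_simple_le_iff.2
    (IntermediateField.mem_adjoin_simple_self K ζ)
  have h9 := IntermediateField.finrank_le_of_le_right hle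
  rw [finrank_adjoin_rootOfUnity (orderOf_pos a) hζ, hLr] at h9
  obtain ⟨m, -, hm⟩ := (Nat.dvd_prime_pow Nat.prime_two).1 (hcard ▸ orderOf_dvd_natCard a)
  have hm0 : 0 < m := by
    by_contra h
    rw [hm, show m = 0 by omega] at hord
    norm_num at hord
  have hmn : m + 1 = n := by
    rw [hm, ← pow_succ] at hmc
    exact Nat.pow_right_injective le_rfl hmc
  rw [hm, Nat.totient_prime_pow Nat.prime_two hm0, show 2 - 1 = 1 from rfl, mul_one] at h9
  have h10 : 2 ^ (m - 1) ≤ 2 ^ (t + 1) := by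
    rw [pow_succ]
    exact h9.trans (Nat.mul_le_mul ht hL)
  have h11 : m - 1 ≤ t + 1 := (Nat.pow_le_pow_iff_right (by norm_num)).1 h10
  subst hf2
  omega

/-- The order of a `p`-group with a faithful irreducible character of given degree and field. -/
theorem pBound_all {p : ℕ} (hp : p.Prime) : ∀ n, PBound.{u} p n := by
  intro n
  induction n using Nat.strong_induction_on with
  | h n IH =>
    intro P _ _ hcard η hη hfaith K _ hKv t ht f hf
    haveI := Fintype.ofFinite P
    haveI : Fact p.Prime := ⟨hp⟩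
    by_cases hE : ∃ E : Subgroup P, E.Normal ∧ Cfsg.IsElementaryAbelian p E ∧ Nat.card E = p ^ 2
    · obtain ⟨E, hEn, hEe, hEc⟩ := hE
      exact bound_of_normalSq hp IH hη hfaith hcard K hKv ht hf hEe hEc
    obtain ⟨a, ha, hcase⟩ := PGroup.NormalSq.cyclic_or_three_mod_four (IsPGroup.of_card hcard) hE
    rcases hcase with hc | ⟨rfl, x, k, hx, hk, -, hord, hidx⟩
    · exact bound_of_cyclic hp hη hfaith hcard K hKv ht hf hc
    · simp only [show 2 - 1 = 1 from rfl, one_mul] at ht ⊢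
      exact bound_of_index_two hη hfaith hcard K hKv ht hf ha hx hk hord hidx

end Cfsg.Lib.Char
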