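import Cfsg.Agent.Lib.Char.CanonExt
import Cfsg.Agent.Lib.Char.Clifford

/-!
# A character with prescribed restriction to a normal subgroup of coprime order

If `K` is normal in `G` of order prime to its index, an invariant sum of distinct irreducible
characters of `K` is the restriction of a character of `G` whose values are fixed by the Galois
automorphisms fixing the `|K|`-th roots of unity.
-/

set_option autoImplicit false
set_option linter.unusedSectionVars false
set_option linter.style.haveILetI false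
set_option maxHeartbeats 1000000

namespace Cfsg.Lib.Char

open Cfsg Module
open scoped ComplexConjugate

universe u

variable {G : Type u} [Group G] [Finite G] {N : Subgroup G} [hN : N.Normal]

theorem coprime_index_finrank (hcop : (Nat.card N).Coprime N.index) {m : ℕ}
    (σ : Representation ℂ N (Fin m → ℂ)) [σ.IsIrreducible] :
    Nat.Coprime N.index (finrank ℂ (Fin m → ℂ)) := by
  haveI := Fintype.ofFinite N
  have h := charDegree_dvd_card (isIrrCharacter_character σ)
  have h1 := (isIrrCharacter_character σ).apply_one_eq_charDegree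
  rw [Representation.char_one] at h1
  have h2 : finrank ℂ (Fin m → ℂ) = charDegree σ.character := by exact_mod_cast h1
  rw [h2]
  exact Nat.Coprime.coprime_dvd_right h hcop.symm

/-- The extension with determinant of order prime to the index. -/
theorem exists_extension_coprime (hcop : (Nat.card N).Coprime N.index) {m : ℕ}
    (σ : Representation ℂ N (Fin m → ℂ)) [σ.IsIrreducible]
    (hinv : ∀ (g : G) (n : N), σ.character (MulAut.conjNormal g n) = σ.character n) :
    ∃ ρ : Representation ℂ G (Fin m → ℂ), (∀ n : N, ρ (n : G) = σ n) ∧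
      ∀ x, detHom ρ x ^ Nat.card N = 1 := by
  have hfo : orderOf (detHom σ) ∣ Nat.card N := orderOf_dvd_of_pow_eq_one (MonoidHom.ext fun n => by
    rw [MonoidHom.pow_apply, ← map_pow, pow_card_eq_one', map_one]; rfl)
  obtain ⟨μ, hμ, hμo⟩ := exists_linear_extension_coprime (detHom σ) (fun g n => Units.ext (by
    haveI : Representation.IsIrreducible
        (σ.comp (MulAut.conjNormal g).toMonoidHom : Representation ℂ N (Fin m → ℂ)) := by
      rw [isIrreducible_iff_isIrrCharacter]
      exact isIrrCharacter_comp_equiv (MulAut.conjNormal g) (isIrrCharacter_character σ)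
    obtain ⟨φ⟩ := nonempty_equiv_of_character_eq
      (σ.comp (MulAut.conjNormal g).toMonoidHom : Representation ℂ N (Fin m → ℂ)) σ
      (funext fun k => hinv g k)
    simp only [detHom_apply]
    exact (det_eq_of_equiv φ n).symm)) (Nat.Coprime.coprime_dvd_right hfo hcop.symm)
  obtain ⟨ρ₀, hρ₀⟩ := exists_extension_of_det σ hinv (coprime_index_finrank hcop σ) μ hμ
  obtain ⟨ρ, hρ, hdet⟩ := exists_extension_det_eq hρ₀ (coprime_index_finrank hcop σ) μ hμ
  refine ⟨ρ, hρ, fun x => ?_⟩
  rw [hdet, ← MonoidHom.pow_apply,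
    orderOf_dvd_iff_pow_eq_one.mp (hμo ▸ hfo), MonoidHom.one_apply]

/-- The values of the extension are fixed by the Galois maps fixing the `|N|`-th roots. -/
theorem extension_pow_invariant (hcop : (Nat.card N).Coprime N.index) {m : ℕ}
    (σ : Representation ℂ N (Fin m → ℂ)) [σ.IsIrreducible]
    {ρ : Representation ℂ G (Fin m → ℂ)} (hρ : ∀ n : N, ρ (n : G) = σ n)
    (hρd : ∀ x, detHom ρ x ^ Nat.card N = 1) {k : ℕ} (hk : k.Coprime (Nat.card G))
    (hk1 : k ≡ 1 [MOD Nat.card N]) (x : G) : ρ.character (x ^ k) = ρ.character x := by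
  haveI hirr : ρ.IsIrreducible := isIrreducible_of_extension hρ
  have hpowN : ∀ n : N, n ^ k = n := fun n => by
    conv_rhs => rw [← pow_one n]
    exact pow_eq_pow_iff_modEq.mpr (hk1.of_dvd (orderOf_dvd_natCard n))
  have hψ := isIrrCharacter_comp_pow hk (isIrrCharacter_character ρ)
  obtain ⟨ρ', hρ', hc⟩ := exists_rep_of_res_eq N.subtype σ hψ.isCharacter (fun n => by
    show ρ.character ((n : G) ^ k) = _
    rw [← Subgroup.coe_pow, hpowN]
    exact congrArg (fun f => LinearMap.trace ℂ _ f) (hρ n))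
  have hdet : ∀ y, detHom ρ' y = detHom ρ y := fun y => Units.ext (by
    let j : Subgroup.zpowers y →* G :=
      { toFun := fun z => (z : G) ^ k
        map_one' := by simp
        map_mul' := fun a b => by
          rw [Subgroup.coe_mul]
          exact (show Commute (a : G) b by
            obtain ⟨i, hi⟩ := a.2
            obtain ⟨l, hl⟩ := b.2
            simp only [← hi, ← hl]
            exact (Commute.refl y).zpow_zpow i l).mul_pow k }
    obtain ⟨φ⟩ := nonempty_equiv_of_character_eq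
      (ρ'.comp (Subgroup.zpowers y).subtype : Representation ℂ _ (Fin m → ℂ))
      (ρ.comp j : Representation ℂ _ (Fin m → ℂ)) (funext fun z => congrFun hc (z : G))
    have h2 : LinearMap.det (ρ (y ^ k)) = LinearMap.det (ρ' y) :=
      det_eq_of_equiv φ ⟨y, Subgroup.mem_zpowers y⟩
    rw [detHom_apply, ← h2, ← detHom_apply, map_pow]
    congr 1
    conv_rhs => rw [← pow_one (detHom ρ y)]
    exact pow_eq_pow_iff_modEq.mpr (hk1.of_dvd (orderOf_dvd_of_pow_eq_one (hρd y))))
  rw [eq_of_extension_det hρ hρ' (coprime_index_finrank hcop σ) (MonoidHom.ext hdet)] at hc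
  exact (congrFun hc x).symm

/-- An invariant irreducible character of a normal Hall subgroup has a Galois stable extension. -/
theorem exists_extension_pRational (hcop : (Nat.card N).Coprime N.index) {θ : N → ℂ}
    (hθ : IsIrrCharacter N θ) (hinv : ∀ (g : G) (n : N), θ (MulAut.conjNormal g n) = θ n) :
    ∃ ψ : G → ℂ, IsCharacter G ψ ∧ (∀ n : N, ψ (n : G) = θ n) ∧
      ∀ k : ℕ, k.Coprime (Nat.card G) → k ≡ 1 [MOD Nat.card N] → ∀ x, ψ (x ^ k) = ψ x := by
  obtain ⟨m, σ, hσ, rfl⟩ := hθ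
  haveI := hσ
  obtain ⟨ρ, hρ, hρd⟩ := exists_extension_coprime hcop σ hinv
  exact ⟨ρ.character, isCharacter_character ρ,
    fun n => congrArg (fun f => LinearMap.trace ℂ _ f) (hρ n),
    fun k hk hk1 => extension_pow_invariant hcop σ hρ hρd hk hk1⟩

theorem indFun_comp_pow [Fintype G] (T : Subgroup G) (f : T → ℂ) {k : ℕ}
    (hk : k.Coprime (Nat.card G)) (hf : ∀ y : T, f (y ^ k) = f y) (x : G) :
    indFun T f (x ^ k) = indFun T f x := by
  simp only [indFun]
  congr 1
  refine Finset.sum_congr rfl fun g _ => ?_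
  rw [show g⁻¹ * x ^ k * g = (g⁻¹ * x * g) ^ k from by
    simpa using (conj_pow (i := k) (a := g⁻¹) (b := x)).symm]
  by_cases hy : g⁻¹ * x * g ∈ T
  · rw [extendByZero_of_mem T f (pow_mem hy k), extendByZero_of_mem T f hy]
    exact hf ⟨_, hy⟩
  · rw [extendByZero_of_notMem T f hy, extendByZero_of_notMem T f fun h => hy ?_]
    obtain ⟨j, hj⟩ := exists_pow_eq_self_of_coprime
      (hk.coprime_dvd_right (orderOf_dvd_natCard (g⁻¹ * x * g)))
    exact hj ▸ pow_mem h j

/-- The Galois stable character over an invariant set of irreducible characters. -/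
theorem exists_lift_sum [Fintype G] [Fintype N] (hcop : (Nat.card N).Coprime N.index) :
    ∀ S : Finset (IrrCharacter N),
      (∀ θ ∈ S, ∀ g : G, ∃ φ ∈ S, (φ : N → ℂ) = conjTwist N (θ : N → ℂ) g) →
      ∃ ψ : G → ℂ, IsCharacter G ψ ∧ (∀ n : N, ψ (n : G) = ∑ θ ∈ S, (θ : N → ℂ) n) ∧
        ∀ k : ℕ, k.Coprime (Nat.card G) → k ≡ 1 [MOD Nat.card N] → ∀ x, ψ (x ^ k) = ψ x := by
  classical
  intro S
  induction S using Finset.strongInductionOn with
  | _ S ih =>
  intro hcl
  rcases S.eq_empty_or_nonempty with rfl | ⟨θ, hθ⟩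
  · exact ⟨0, isCharacter_zero, fun n => by simp, fun _ _ _ _ => rfl⟩
  set O := S.filter fun φ : IrrCharacter N => (φ : N → ℂ) ∈ twistOrbit N (θ : N → ℂ) with hO
  have hθO : θ ∈ O := Finset.mem_filter.2 ⟨hθ, self_mem_twistOrbit N _⟩
  obtain ⟨ψ', hψ', hψres', hψinv'⟩ := ih (S \ O)
    (Finset.sdiff_ssubset (Finset.filter_subset _ _) ⟨θ, hθO⟩) fun φ hφ g => by
      obtain ⟨hφS, hφO⟩ := Finset.mem_sdiff.1 hφ
      obtain ⟨χ, hχS, hχ⟩ := hcl φ hφS g
      refine ⟨χ, Finset.mem_sdiff.2 ⟨hχS, fun h => hφO (Finset.mem_filter.2 ⟨hφS, ?_⟩)⟩, hχ⟩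
      obtain ⟨g', hg'⟩ := (mem_twistOrbit N).1 (Finset.mem_filter.1 h).2
      refine (mem_twistOrbit N).2 ⟨g' * g⁻¹, ?_⟩
      rw [← conjTwist_conjTwist, hg', hχ, conjTwist_conjTwist, mul_inv_cancel, conjTwist_one]
  set T := inertia N (θ : N → ℂ) with hT
  have hNT : N ≤ T := le_inertia N θ.2.isClassFunction
  haveI := Fintype.ofFinite T
  haveI : (N.subgroupOf T).Normal := hN.subgroupOf T
  have hcardN : Nat.card (N.subgroupOf T) = Nat.card N :=
    Nat.card_congr (Subgroup.subgroupOfEquivOfLe hNT).toEquiv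
  have hcopT : (Nat.card (N.subgroupOf T)).Coprime (N.subgroupOf T).index := by
    rw [hcardN]
    exact hcop.coprime_dvd_right (Subgroup.relIndex_dvd_index_of_normal N T)
  have hirr := isIrrCharacter_comp_equiv (Subgroup.subgroupOfEquivOfLe hNT) θ.2
  obtain ⟨ψ₀, hψ₀, hψ₀res, hψ₀inv⟩ := exists_extension_pRational hcopT hirr (fun t x => by
    have ht : (t : G) ∈ inertia N (θ : N → ℂ) := t.2
    exact (mem_inertia_iff N).1 ht (Subgroup.subgroupOfEquivOfLe hNT x))
  have hinvT : ∀ k : ℕ, k.Coprime (Nat.card G) → k ≡ 1 [MOD Nat.card N] →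
      ∀ y : T, ψ₀ (y ^ k) = ψ₀ y := fun k hk hk1 =>
    hψ₀inv k (hk.coprime_dvd_right T.card_subgroup_dvd_card) (hcardN ▸ hk1)
  have hres : ∀ n : N, indFun T ψ₀ (n : G) =
      ∑ φ ∈ twistOrbit N (θ : N → ℂ), φ n := by
    intro n
    have h1 : indFun T ψ₀ (n : G) =
        (Nat.card T : ℂ)⁻¹ * ∑ g : G, conjTwist N (θ : N → ℂ) g n := by
      simp only [indFun]
      congr 1
      refine Fintype.sum_equiv (Equiv.inv G) _ _ fun g => ?_
      have hm : g⁻¹ * (n : G) * g ∈ N := by simpa using hN.conj_mem n n.2 g⁻¹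
      rw [extendByZero_of_mem T ψ₀ (hNT hm)]
      have h2 := hψ₀res ⟨⟨g⁻¹ * (n : G) * g, hNT hm⟩, Subgroup.mem_subgroupOf.2 hm⟩
      rw [h2, Equiv.inv_apply, conjTwist_apply]
      refine congrArg (θ : N → ℂ) (Subtype.ext ?_)
      simp [Subgroup.subgroupOfEquivOfLe]
    have h3 := congrFun (sum_conjTwist N (θ : N → ℂ)) n
    rw [Finset.sum_apply, Pi.smul_apply, Finset.sum_apply, smul_eq_mul] at h3
    rw [h1, h3, ← hT, inv_mul_cancel_left₀ (Nat.cast_ne_zero.2 Nat.card_pos.ne')]
  have hsum : ∀ n : N, ∑ φ ∈ O, (φ : N → ℂ) n = ∑ φ ∈ twistOrbit N (θ : N → ℂ), φ n := by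
    intro n
    refine Finset.sum_bij (fun φ _ => (φ : N → ℂ)) (fun φ hφ => (Finset.mem_filter.1 hφ).2)
      (fun a _ b _ h => Subtype.ext h) (fun φ hφ => ?_) (fun _ _ => rfl)
    obtain ⟨g, hg⟩ := (mem_twistOrbit N).1 hφ
    obtain ⟨χ, hχS, hχ⟩ := hcl θ hθ g
    exact ⟨χ, Finset.mem_filter.2 ⟨hχS, by rw [hχ, hg]; exact hφ⟩, hχ.trans hg⟩
  refine ⟨indFun T ψ₀ + ψ', (isCharacter_indFun T hψ₀).add hψ', fun n => ?_, fun k hk hk1 x => ?_⟩
  · rw [Pi.add_apply, hres, hψres', ← hsum, add_comm,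
      Finset.sum_sdiff (Finset.filter_subset _ _)]
  · rw [Pi.add_apply, Pi.add_apply, indFun_comp_pow T ψ₀ hk (hinvT k hk hk1),
      hψinv' k hk hk1]

end Cfsg.Lib.Char
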