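import Mathlib.RepresentationTheory.Character
import Cfsg.Agent.Lib.Char.PGroupFieldBound
import Cfsg.Agent.Lib.Char.Clifford2
import Cfsg.Agent.Lib.Char.PRationalLift
import Cfsg.Agent.Lib.Core.Fitting

/-!
# Irreducible products of Galois conjugate characters

If `χ` is faithful irreducible and `χ * χ^σ` is irreducible, the Fitting subgroup is central:
otherwise `χ * conj χ` contains a rational character with two constituents.
-/

set_option autoImplicit false
set_option linter.unusedSectionVars false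
set_option linter.style.haveILetI false
set_option maxHeartbeats 1000000

namespace Cfsg.Lib.Char

open Cfsg Module
open scoped ComplexConjugate commutatorElement

universe u v

variable {G : Type u} [Group G]

/-- The character on the image of an equivariant projection. -/
theorem isCharacter_trace_proj [Finite G] {V : Type v} [AddCommGroup V] [Module ℂ V]
    [FiniteDimensional ℂ V] (R : Representation ℂ G V) (P : V →ₗ[ℂ] V)
    (hP : ∀ x, P (P x) = P x) (hR : ∀ g x, P (R g x) = R g (P x)) :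
    IsCharacter G (fun g => LinearMap.trace ℂ V (R g ∘ₗ P)) := by
  set M := LinearMap.range P with hM
  have hmem : ∀ g, ∀ x ∈ M, R g x ∈ M := by
    rintro g _ ⟨y, rfl⟩
    exact ⟨R g y, hR g y⟩
  let S : Representation ℂ G M :=
    { toFun := fun g => (R g).restrict (hmem g)
      map_one' := LinearMap.ext fun x => Subtype.ext (by simp)
      map_mul' := fun a b => LinearMap.ext fun x => Subtype.ext (by simp) }
  have he : S.character = fun g => LinearMap.trace ℂ V (R g ∘ₗ P) := by
    funext g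
    have h1 : ∀ x, (R g ∘ₗ P) x ∈ M := fun x => hmem g _ ⟨x, rfl⟩
    rw [← LinearMap.trace_restrict_eq_of_forall_mem M (R g ∘ₗ P) h1]
    refine congrArg (LinearMap.trace ℂ M) (LinearMap.ext ?_)
    rintro ⟨_, y, rfl⟩
    apply Subtype.ext
    show R g (P y) = R g (P (P y))
    rw [hP]
  rw [← he]
  exact isCharacter_character S

/-- A fixed vector in the image gives a trivial constituent. -/
theorem classInner_trace_proj_one [Fintype G] {V : Type v} [AddCommGroup V] [Module ℂ V]
    [FiniteDimensional ℂ V] (R : Representation ℂ G V) (P : V →ₗ[ℂ] V)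
    (hP : ∀ x, P (P x) = P x) (hR : ∀ g x, P (R g x) = R g (P x))
    {w : V} (hw : w ≠ 0) (hwP : P w = w) (hwR : ∀ g, R g w = w) :
    classInner (fun g => LinearMap.trace ℂ V (R g ∘ₗ P)) (fun _ => (1 : ℂ)) ≠ 0 := by
  set A : V →ₗ[ℂ] V := (Nat.card G : ℂ)⁻¹ • ∑ g, R g ∘ₗ P with hA
  have hAP : ∀ x, A x = (Nat.card G : ℂ)⁻¹ • ∑ g, R g (P x) := fun x => by simp [hA]
  have hRA : ∀ h x, R h (A x) = A x := by
    intro h x
    rw [hAP, map_smul, map_sum]
    congr 1
    refine Fintype.sum_equiv (Equiv.mulLeft h) _ _ fun g => ?_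
    simp [map_mul]
  have hPA : ∀ x, P (A x) = A x := by
    intro x
    rw [hAP, map_smul, map_sum]
    congr 1
    exact Finset.sum_congr rfl fun g _ => by rw [hR, hP]
  have hAA : ∀ x, A (A x) = A x := by
    intro x
    conv_lhs => rw [hAP]
    simp only [hPA, hRA, Finset.sum_const, Finset.card_univ, ← Nat.cast_smul_eq_nsmul ℂ,
      smul_smul, ← Nat.card_eq_fintype_card]
    rw [inv_mul_cancel₀ card_cast_ne_zero, one_smul]
  have htr : LinearMap.trace ℂ V A =
      classInner (fun g => LinearMap.trace ℂ V (R g ∘ₗ P)) (fun _ => (1 : ℂ)) := by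
    rw [classInner, hA, map_smul, map_sum, smul_eq_mul]
    simp
  rw [← htr]
  have hproj : LinearMap.IsProj (LinearMap.range A) A :=
    ⟨fun x => ⟨x, rfl⟩, by rintro _ ⟨y, rfl⟩; exact hAA y⟩
  rw [hproj.trace, Nat.cast_ne_zero]
  intro h0
  rw [Submodule.finrank_eq_zero] at h0
  have hAw : A w = w := by
    rw [hAP, hwP, Finset.sum_congr rfl fun g _ => hwR g, Finset.sum_const, Finset.card_univ,
      ← Nat.cast_smul_eq_nsmul ℂ, smul_smul, ← Nat.card_eq_fintype_card,
      inv_mul_cancel₀ card_cast_ne_zero, one_smul]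
  have : w ∈ LinearMap.range A := ⟨w, hAw⟩
  rw [h0, Submodule.mem_bot] at this
  exact hw this

/-- A character containing the trivial one properly has norm at least two. -/
theorem two_le_norm [Fintype G] {μ : G → ℂ} (hμ : IsCharacter G μ)
    (h1 : classInner μ (fun _ => (1 : ℂ)) ≠ 0) (hdeg : μ 1 ≠ 1) :
    ∃ N : ℕ, 2 ≤ N ∧ classInner μ μ = (N : ℂ) := by
  classical
  refine ⟨∑ φ, multIn hμ φ ^ 2, ?_, classInner_self_eq_sum_multIn hμ⟩
  let t : IrrCharacter G := ⟨fun _ => 1, isIrrCharacter_one⟩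
  have ht : multIn hμ t ≠ 0 := by
    intro h
    apply h1
    rw [show classInner μ (fun _ => (1 : ℂ)) = classInner μ (t : G → ℂ) from rfl,
      classInner_eq_multIn hμ, h, Nat.cast_zero]
  by_contra hlt
  have ht2 : 1 ≤ multIn hμ t ^ 2 := Nat.one_le_pow _ _ (Nat.pos_of_ne_zero ht)
  have hsplit := Finset.add_sum_erase Finset.univ (fun φ => multIn hμ φ ^ 2) (Finset.mem_univ t)
  have hother : ∀ φ, φ ≠ t → multIn hμ φ = 0 := by
    intro φ hφ
    have h2 : multIn hμ φ ^ 2 ≤ ∑ ψ ∈ Finset.univ.erase t, multIn hμ ψ ^ 2 :=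
      Finset.single_le_sum (f := fun ψ => multIn hμ ψ ^ 2) (fun _ _ => Nat.zero_le _)
        (Finset.mem_erase.2 ⟨hφ, Finset.mem_univ _⟩)
    have : multIn hμ φ ^ 2 = 0 := by omega
    simpa using this
  have hone : multIn hμ t = 1 := by
    have h2 : multIn hμ t ^ 2 = 1 := by omega
    simpa using h2
  apply hdeg
  rw [apply_eq_sum_multIn hμ 1, Finset.sum_eq_single t (fun φ _ hφ => by
    rw [hother φ hφ, Nat.cast_zero, zero_mul]) (fun h => absurd (Finset.mem_univ t) h), hone]
  show ((1 : ℕ) : ℂ) * 1 = 1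
  simp

/-- A rational summand with two constituents makes the product of conjugates reducible. -/
theorem not_irr_of_rational_summand [Fintype G] {χ : G → ℂ} {k : ℕ}
    (hk : k.Coprime (Nat.card G)) (hirr : IsIrrCharacter G (fun g => χ g * χ (g ^ k)))
    {μ ν : G → ℂ} (hμ : IsCharacter G μ) (hν : IsCharacter G ν)
    (hsum : ∀ g, χ g * conj (χ g) = μ g + ν g) (hinv : ∀ g, μ (g ^ k) = μ g)
    (h1 : classInner μ (fun _ => (1 : ℂ)) ≠ 0) (hdeg : μ 1 ≠ 1) : False := by
  obtain ⟨N, hN, hNe⟩ := two_le_norm hμ h1 hdeg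
  have hνk := isCharacter_comp_pow hk hν
  obtain ⟨a, ha⟩ := hμ.exists_nat_classInner hνk
  obtain ⟨b, hb⟩ := hν.exists_nat_classInner hμ
  obtain ⟨c, hc⟩ := hν.exists_nat_classInner hνk
  have h := classInner_irr_self hirr
  have hsum' : classInner (fun g => χ g * χ (g ^ k)) (fun g => χ g * χ (g ^ k)) =
      classInner (μ + ν) (μ + fun g => ν (g ^ k)) := by
    simp only [classInner, Pi.add_apply, map_mul]
    congr 1
    refine Finset.sum_congr rfl fun g _ => ?_
    conv_rhs => rw [← hinv g, ← hsum (g ^ k), hinv g, ← hsum g, map_mul, Complex.conj_conj]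
    ring
  rw [hsum', classInner_add_left, classInner_add_right, classInner_add_right, hNe, ha, hb, hc] at h
  have h' : N + a + (b + c) = 1 := by exact_mod_cast h
  omega

variable [Fintype G]

/-- An abelian normal subgroup is central. -/
theorem abelian_le_center_of_product {χ : G → ℂ} (hχ : IsIrrCharacter G χ)
    (hfaith : ∀ g, χ g = χ 1 → g = 1) {k : ℕ} (hk : k.Coprime (Nat.card G))
    (hirr : IsIrrCharacter G (fun g => χ g * χ (g ^ k))) (A : Subgroup G) [A.Normal]
    (hab : ∀ a ∈ A, ∀ b ∈ A, a * b = b * a) : A ≤ Subgroup.center G := by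
  classical
  haveI := Fintype.ofFinite A
  obtain ⟨θ, hθ⟩ := exists_irr_constituent_res A hχ
  set T := inertia A (θ : A → ℂ) with hTdef
  haveI := Fintype.ofFinite T
  by_cases hT : T = ⊤
  · have hres := clifford_invariant A hχ θ.2
      (fun g => (mem_inertia A).1 (show g ∈ T from hT ▸ Subgroup.mem_top g)) hθ
    have hc : ∀ u v : A, u * v = v * u := fun u v => Subtype.ext (hab u u.2 v v.2)
    obtain ⟨φ, hφ⟩ := exists_hom_of_degree_one θ.2.isCharacter (degree_eq_one_of_comm hc θ.2)
    intro a ha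
    rw [Subgroup.mem_center_iff]
    intro g
    set b : A := ⟨g * a * g⁻¹, (inferInstance : A.Normal).conj_mem a ha g⟩
    have hb : φ b = φ ⟨a, ha⟩ := by
      have h := (mem_inertia_iff A).1 (show g ∈ T from hT ▸ Subgroup.mem_top g) ⟨a, ha⟩
      rw [hφ] at h
      exact Units.ext h
    have h1 : χ ((b * ⟨a, ha⟩⁻¹ : A) : G) = χ 1 := by
      have e1 := congrFun hres (b * ⟨a, ha⟩⁻¹)
      have e2 := congrFun hres 1
      simp only [Pi.smul_apply, smul_eq_mul] at e1 e2
      rw [e1, show χ 1 = χ ((1 : A) : G) from rfl, e2, hφ]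
      simp [map_mul, hb]
    have h2 : g * a * g⁻¹ * a⁻¹ = 1 := hfaith _ h1
    exact mul_inv_eq_iff_eq_mul.1 (mul_inv_eq_one.1 h2)
  exfalso
  have hAT : A ≤ T := le_inertia A θ.2.isClassFunction
  obtain ⟨η, hη, -, hind, -⟩ := clifford_exists A θ.2 hAT hTdef hχ hθ
  set one : T → ℂ := fun _ => 1 with hone
  have h1T : IsCharacter T one := isCharacter_one
  set F : T → ℂ := fun t => η t * conj (χ t) with hF
  have hFc : IsCharacter T F := hη.isCharacter.mul (hχ.isCharacter.comp T.subtype).conjFn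
  have hF1 : classInner F one ≠ 0 := by
    have h := classInner_irr_self hχ
    nth_rw 1 [← hind] at h
    rw [classInner_indFun T η hχ.isClassFunction] at h
    intro h0
    apply one_ne_zero (α := ℂ)
    rw [← h, ← h0]
    simp [classInner, hF, hone]
  obtain ⟨n, hn⟩ := hFc.exists_nat_classInner h1T
  have hn1 : 1 ≤ n := Nat.pos_of_ne_zero fun h => hF1 (by rw [hn, h, Nat.cast_zero])
  have hrest : IsCharacter T (F - one) := by
    rw [isCharacter_iff]
    refine ⟨fun a b => ?_, fun φ hφ => ?_⟩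
    · simp only [Pi.sub_apply, hone]
      rw [hFc.isClassFunction a b]
    · obtain ⟨m, hm⟩ := hFc.exists_nat_classInner hφ.isCharacter
      rw [classInner_sub_left, hm]
      by_cases he : one = φ
      · refine ⟨m - 1, ?_⟩
        have : m = n := by
          have h := hm.symm.trans (he ▸ hn)
          exact_mod_cast h
        subst this
        rw [← he, show classInner one one = 1 from classInner_irr_self isIrrCharacter_one,
          Nat.cast_sub hn1, Nat.cast_one]
      · refine ⟨m, ?_⟩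
        rw [classInner_irr_ne isIrrCharacter_one hφ he, sub_zero]
  refine not_irr_of_rational_summand hk hirr (isCharacter_indFun T h1T)
    (isCharacter_indFun T hrest) (fun g => ?_) (fun g => indFun_comp_pow T one hk (fun _ => rfl) g)
    ?_ ?_
  · have h := congrFun (indFun_mul (H := T) η
      (show IsClassFunction G (fun g => conj (χ g)) from fun a b => congrArg conj (hχ.isClassFunction a b))) g
    rw [hind] at h
    rw [← Pi.add_apply, ← indFun_add, add_sub_cancel]
    exact h.symm
  · rw [classInner_indFun T one (isClassFunction_one')]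
    show classInner one one ≠ 0
    rw [show classInner one one = 1 from classInner_irr_self isIrrCharacter_one]
    exact one_ne_zero
  · rw [indFun_apply_one, hone, mul_one, Nat.cast_ne_one]
    exact fun h => hT (Subgroup.index_eq_one.1 h)
where
  isClassFunction_one' : IsClassFunction G (fun _ => (1 : ℂ)) := fun _ _ => rfl

/-- A class two normal subgroup on which the character vanishes off the centre is central. -/
theorem false_of_vanishing {χ : G → ℂ} (hχ : IsIrrCharacter G χ) {k : ℕ}
    (hk : k.Coprime (Nat.card G)) (hirr : IsIrrCharacter G (fun g => χ g * χ (g ^ k)))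
    (Q : Subgroup G) [Q.Normal] [Fintype Q] (hQ : ¬ Q ≤ Subgroup.center G)
    (hvan : ∀ y ∈ Q, y ∉ Subgroup.center G → χ y = 0) : False := by
  classical
  obtain ⟨n, ρ, hρirr, hρ⟩ := id hχ
  haveI := hρirr
  have hn0 : (n : ℂ) ≠ 0 := by
    have h := hχ.apply_one_ne_zero
    rwa [← hρ, Representation.char_one, Module.finrank_fin_fun] at h
  have htr : ∀ g, LinearMap.trace ℂ (Fin n → ℂ) (ρ g) = χ g := fun g => congrFun hρ g
  set R := Representation.linHom ρ ρ with hR
  have hRapply : ∀ g (X : (Fin n → ℂ) →ₗ[ℂ] (Fin n → ℂ)), R g X = ρ g * X * ρ g⁻¹ := fun g X => by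
    rw [hR, Representation.linHom_apply]
    rfl
  have hRchar : ∀ g, R.character g = χ g * conj (χ g) := fun g => by
    rw [hR, Representation.char_linHom, hρ, hχ.isCharacter.apply_inv, mul_comm]
  set Z1 : ℕ := Nat.card ↥(Q ⊓ Subgroup.center G) with hZ1
  have hZ10 : (Z1 : ℂ) ≠ 0 := Nat.cast_ne_zero.2 Nat.card_pos.ne'
  set c : ℂ := ((Z1 : ℂ) * n)⁻¹ with hc
  let coef : Q → ((Fin n → ℂ) →ₗ[ℂ] (Fin n → ℂ)) →ₗ[ℂ] ℂ := fun x =>
    (LinearMap.trace ℂ (Fin n → ℂ)).comp (LinearMap.mulRight ℂ (ρ (x : G)⁻¹))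
  have hcoef : ∀ x X, coef x X = LinearMap.trace ℂ (Fin n → ℂ) (X * ρ (x : G)⁻¹) := fun x X => rfl
  set Pr : ((Fin n → ℂ) →ₗ[ℂ] (Fin n → ℂ)) →ₗ[ℂ] ((Fin n → ℂ) →ₗ[ℂ] (Fin n → ℂ)) :=
    c • ∑ x : Q, (coef x).smulRight (ρ (x : G)) with hPr
  have hPrapply : ∀ X, Pr X = c • ∑ x : Q, coef x X • ρ (x : G) := fun X => by
    simp [hPr]
  have hfix : ∀ y ∈ Q, Pr (ρ y) = ρ y := by
    intro y hy
    have hterm : ∀ x : Q, coef x (ρ y) • ρ (x : G) =
        if y * (x : G)⁻¹ ∈ Subgroup.center G then (n : ℂ) • ρ y else 0 := by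
      intro x
      rw [hcoef, ← map_mul, htr]
      split_ifs with hz
      · obtain ⟨l, hl⟩ := exists_smul_of_comm ρ (ρ (y * (x : G)⁻¹)) fun g => by
          rw [← map_mul, ← map_mul, Subgroup.mem_center_iff.1 hz g]
        rw [← htr, hl, map_smul, smul_eq_mul, LinearMap.trace_one, Module.finrank_fin_fun,
          show ρ y = ρ (y * (x : G)⁻¹) * ρ (x : G) by rw [← map_mul, inv_mul_cancel_right], hl,
          smul_mul_assoc, one_mul, smul_smul, mul_comm]
      · rw [hvan _ (mul_mem hy (inv_mem x.2)) hz, zero_smul]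
    rw [hPrapply, Finset.sum_congr rfl fun x _ => hterm x, ← Finset.sum_filter, Finset.sum_const,
      ← Nat.cast_smul_eq_nsmul ℂ, smul_smul, smul_smul]
    have hcard : (Finset.univ.filter fun x : Q => y * (x : G)⁻¹ ∈ Subgroup.center G).card = Z1 := by
      rw [← Nat.card_eq_finsetCard, hZ1]
      exact Nat.card_congr
        { toFun := fun x => ⟨y * ((x.1 : Q) : G)⁻¹, Subgroup.mem_inf.2
            ⟨mul_mem hy (inv_mem x.1.2), (Finset.mem_filter.1 x.2).2⟩⟩
          invFun := fun z => ⟨⟨(z : G)⁻¹ * y, mul_mem (inv_mem (Subgroup.mem_inf.1 z.2).1) hy⟩,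
            Finset.mem_filter.2 ⟨Finset.mem_univ _, by simpa using (Subgroup.mem_inf.1 z.2).2⟩⟩
          left_inv := fun x => by
            apply Subtype.ext
            apply Subtype.ext
            simp
          right_inv := fun z => by
            apply Subtype.ext
            simp }
    rw [hcard, mul_assoc, show c * ((Z1 : ℂ) * n) = 1 from inv_mul_cancel₀ (mul_ne_zero hZ10 hn0), one_smul]
  have hidem : ∀ X, Pr (Pr X) = Pr X := by
    intro X
    rw [hPrapply X, map_smul, map_sum]
    congr 1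
    exact Finset.sum_congr rfl fun x _ => by rw [map_smul, hfix _ x.2]
  have hequiv : ∀ g X, Pr (R g X) = R g (Pr X) := by
    intro g X
    rw [hPrapply, hPrapply, map_smul, map_sum]
    congr 1
    refine (Fintype.sum_equiv (MulAut.conjNormal g : MulAut Q).toEquiv _ _ fun x => ?_).symm
    rw [map_smul]
    show _ = coef (MulAut.conjNormal g x) (R g X) • ρ ((MulAut.conjNormal g x : Q) : G)
    rw [hcoef, hcoef, hRapply, hRapply, MulAut.conjNormal_apply,
      mul_inv_rev, mul_inv_rev, inv_inv, map_mul ρ, map_mul ρ, map_mul ρ, map_mul ρ]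
    congr 1
    · calc LinearMap.trace ℂ _ (X * ρ (x : G)⁻¹)
          = LinearMap.trace ℂ _ ((X * ρ (x : G)⁻¹ * ρ g⁻¹) * ρ g) := by
            rw [mul_assoc (X * ρ (x : G)⁻¹), ← map_mul, inv_mul_cancel, map_one, mul_one]
        _ = LinearMap.trace ℂ _ (ρ g * (X * ρ (x : G)⁻¹ * ρ g⁻¹)) := LinearMap.trace_mul_comm ℂ _ _
        _ = _ := by
            congr 1
            simp only [mul_assoc]
            rw [← mul_assoc (ρ g⁻¹) (ρ g),
              show ρ g⁻¹ * ρ g = 1 by rw [← map_mul, inv_mul_cancel, map_one], one_mul]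
  set μ : G → ℂ := fun g => LinearMap.trace ℂ _ (R g ∘ₗ Pr) with hμdef
  have hμ : IsCharacter G μ := isCharacter_trace_proj R Pr hidem hequiv
  have hν : IsCharacter G (fun g => LinearMap.trace ℂ _ (R g ∘ₗ (LinearMap.id - Pr))) := by
    refine isCharacter_trace_proj R _ (fun X => ?_) fun g X => ?_
    · simp [hidem]
    · simp [hequiv]
  have hμval : ∀ g, μ g = c * ∑ x : Q, χ (g * x * g⁻¹ * (x : G)⁻¹) := by
    intro g
    have h : R g ∘ₗ Pr = c • ∑ x : Q, (coef x).smulRight (R g (ρ (x : G))) := by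
      refine LinearMap.ext fun X => ?_
      rw [LinearMap.comp_apply, hPrapply, map_smul, map_sum]
      simp [map_smul]
    rw [hμdef]
    dsimp only
    rw [h, map_smul, map_sum, smul_eq_mul]
    congr 1
    refine Finset.sum_congr rfl fun x _ => ?_
    rw [LinearMap.trace_smulRight, hcoef, hRapply, ← map_mul, ← map_mul, ← map_mul, htr]
  refine not_irr_of_rational_summand hk hirr hμ hν (fun g => ?_) (fun g => ?_) ?_ ?_
  · rw [← hRchar, hμdef, ← map_add, ← LinearMap.comp_add,
      show Pr + (LinearMap.id - Pr) = LinearMap.id by abel, LinearMap.comp_id]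
    rfl
  · -- the summand is fixed by the power map
    haveI : NeZero (Nat.card G) := ⟨Nat.card_pos.ne'⟩
    obtain ⟨σ, hσ⟩ := exists_of_coprime hk
    have hval : ∀ x : Q, σ (charVal dvd_rfl hχ.isCharacter (g * x * g⁻¹ * (x : G)⁻¹)) =
        χ (g * ((x ^ k : Q) : G) * g⁻¹ * ((x ^ k : Q) : G)⁻¹) := by
      intro x
      rw [galois_charVal dvd_rfl hσ]
      set y := g * x * g⁻¹ * (x : G)⁻¹ with hy
      have hyQ : y ∈ Q := mul_mem ((inferInstance : Q.Normal).conj_mem _ x.2 g) (inv_mem x.2)
      by_cases hz : y ∈ Subgroup.center G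
      · congr 1
        have hcm : Commute y (x : G) := (Subgroup.mem_center_iff.1 hz x).symm
        have h2 : g * (x : G) * g⁻¹ = y * x := by rw [hy, inv_mul_cancel_right]
        rw [Subgroup.coe_pow, ← conj_pow, h2, hcm.mul_pow, mul_inv_cancel_right]
      · obtain ⟨j, hj⟩ := exists_pow_eq_self_of_coprime
          (hk.coprime_dvd_right (orderOf_dvd_natCard y))
        obtain ⟨j', hj'⟩ := exists_pow_eq_self_of_coprime
          (hk.coprime_dvd_right (orderOf_dvd_natCard (x : G)))
        rw [hvan _ (pow_mem hyQ k) fun h => hz (hj ▸ pow_mem h j),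
          hvan _ (mul_mem ((inferInstance : Q.Normal).conj_mem _ (x ^ k).2 g) (inv_mem (x ^ k).2))]
        intro h
        apply hz
        set w := g * ((x ^ k : Q) : G) * g⁻¹ * ((x ^ k : Q) : G)⁻¹ with hw
        have hcm : Commute w ((x ^ k : Q) : G) := (Subgroup.mem_center_iff.1 h _).symm
        have h2 : g * ((x ^ k : Q) : G) * g⁻¹ = w * ((x ^ k : Q) : G) := by
          rw [hw, inv_mul_cancel_right]
        rw [hy, ← hj', ← Subgroup.coe_pow, ← conj_pow, h2, hcm.mul_pow, mul_inv_cancel_right]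
        exact pow_mem h j'
    have hcv : charVal dvd_rfl hμ g = ((Z1 : cycField (Nat.card G)) * n)⁻¹ *
        ∑ x : Q, charVal dvd_rfl hχ.isCharacter (g * x * g⁻¹ * (x : G)⁻¹) := by
      apply Subtype.ext
      push_cast [charVal]
      rw [hμval, hc]
    rw [← galois_charVal dvd_rfl hσ hμ g, hcv, map_mul, map_inv₀, map_mul, map_natCast,
      map_natCast, map_sum, Finset.sum_congr rfl fun x _ => hval x, hμval g, hc]
    congr 1
    refine Fintype.sum_equiv (powCoprime (hk.coprime_dvd_right Q.card_subgroup_dvd_card).symm) _ _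
      fun x => rfl
  · refine classInner_trace_proj_one R Pr hidem hequiv (w := LinearMap.id) ?_ ?_ fun g => ?_
    · intro h
      have h2 := congrArg (LinearMap.trace ℂ (Fin n → ℂ)) h
      rw [LinearMap.trace_id, Module.finrank_fin_fun, map_zero] at h2
      exact hn0 h2
    · have := hfix 1 (one_mem _)
      rwa [map_one, Module.End.one_eq_id] at this
    · rw [hRapply, ← Module.End.one_eq_id, mul_one, ← map_mul, mul_inv_cancel, map_one]
  · have hχ1 : χ 1 = (n : ℂ) := by rw [← hρ, Representation.char_one, Module.finrank_fin_fun]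
    rw [hμval]
    simp only [one_mul, inv_one, mul_one, mul_inv_cancel, hχ1]
    rw [Finset.sum_const, nsmul_eq_mul, Finset.card_univ, ← Nat.card_eq_fintype_card, hc]
    intro h
    have h2 : (Nat.card Q : ℂ) = (Z1 : ℂ) := by
      field_simp at h
      linear_combination h
    have h3 : Q ⊓ Subgroup.center G = Q :=
      Subgroup.eq_of_le_of_card_ge inf_le_left (le_of_eq (by exact_mod_cast h2))
    exact hQ (h3 ▸ inf_le_right)

/-- The Fitting subgroup is central. -/
theorem fitting_eq_center_of_product {χ : G → ℂ} (hχ : IsIrrCharacter G χ)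
    (hfaith : ∀ g, χ g = χ 1 → g = 1) {k : ℕ} (hk : k.Coprime (Nat.card G))
    (hirr : IsIrrCharacter G (fun g => χ g * χ (g ^ k))) :
    Cfsg.fittingSubgroup G = Subgroup.center G := by
  classical
  refine le_antisymm ?_ Core.center_le_fittingSubgroup
  rw [Core.fittingSubgroup_eq_iSup_pCore]
  refine iSup_le fun q => ?_
  haveI : Fact (q : ℕ).Prime := ⟨q.2⟩
  by_contra hqc
  obtain ⟨Q, ⟨hQn, hQle, hQc⟩, hQmin⟩ :=
    (Set.toFinite {Q : Subgroup G | Q.Normal ∧ Q ≤ Cfsg.pCore q G ∧ ¬ Q ≤ Subgroup.center G}).exists_minimal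
      ⟨Cfsg.pCore q G, inferInstance, le_rfl, hqc⟩
  haveI := hQn
  haveI := Fintype.ofFinite Q
  have hQq : IsPGroup q Q := (Core.pCore_isPGroup q G).to_le hQle
  have hcl : ⁅Q, Q⁆ ≤ Subgroup.center G := by
    by_contra h
    have hle : ⁅Q, Q⁆ ≤ Q := Subgroup.commutator_le_right Q Q
    have heq : ⁅Q, Q⁆ = Q := le_antisymm hle
      (hQmin ⟨inferInstance, hle.trans hQle, h⟩ hle)
    haveI : Nontrivial Q := (Subgroup.nontrivial_iff_ne_bot Q).2 fun hb => hQc (hb ▸ bot_le)
    haveI := hQq.isNilpotent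
    haveI : Group.IsSolvable Q := IsNilpotent.to_isSolvable
    have : Group.IsPerfect Q := Subgroup.isPerfect_iff.2 heq
    exact Group.IsPerfect.not_isSolvable Q inferInstance
  refine false_of_vanishing hχ hk hirr Q hQc fun y hy hyc => ?_
  obtain ⟨v, hv, hvy⟩ : ∃ v ∈ Q, v * y ≠ y * v := by
    by_contra h
    push Not at h
    refine hyc (abelian_le_center_of_product hχ hfaith hk hirr
      (Q ⊓ Subgroup.centralizer (Q : Set G)) (fun a ha b hb => ?_)
      (Subgroup.mem_inf.2 ⟨hy, Subgroup.mem_centralizer_iff.2 h⟩))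
    exact Subgroup.mem_centralizer_iff.1 (Subgroup.mem_inf.1 hb).2 a (Subgroup.mem_inf.1 ha).1
  have hcz : v * y * v⁻¹ * y⁻¹ ∈ Subgroup.center G := by
    rw [← commutatorElement_def]
    exact hcl (Subgroup.commutator_mem_commutator hv hy)
  obtain ⟨l, -, hl⟩ := Block.exists_central_scalar ⟨χ, hχ⟩ hcz
  have hl1 : l ≠ 1 := by
    rintro rfl
    have h1 := hl 1
    rw [mul_one, one_mul] at h1
    exact hvy (mul_inv_eq_iff_eq_mul.1 (mul_inv_eq_one.1 (hfaith _ h1)))
  have h2 : χ (v * y * v⁻¹ * y⁻¹ * y) = l * χ y := hl y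
  rw [inv_mul_cancel_right, hχ.isCharacter.conj_invariant] at h2
  have h3 : (l - 1) * χ y = 0 := by rw [sub_mul, one_mul, ← h2, sub_self]
  exact (mul_eq_zero.1 h3).resolve_left (sub_ne_zero.2 hl1)

end Cfsg.Lib.Char
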