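import Cfsg.Agent.Lib.Char.CliffordOn
import Cfsg.Agent.Lib.Char.Triple

/-!
# The Glauberman correspondence modulo a normal subgroup

`P` is a `p`-group, `Q ≤ T` is normalized by `T` and `P`, and `T / Q` has order prime to `p`.
-/

set_option autoImplicit false
set_option linter.unusedSectionVars false

namespace Cfsg.Lib.Char

open Cfsg
open scoped ComplexConjugate

universe u

attribute [local instance] subFintype

/-- Subgroups normalized elementwise. -/
theorem le_normalizer_of_conj_mem {G : Type u} [Group G] {P X : Subgroup G}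
    (h : ∀ a ∈ P, ∀ x ∈ X, a * x * a⁻¹ ∈ X) : P ≤ Subgroup.normalizer (X : Set G) := fun a ha => by
  rw [Subgroup.mem_normalizer_iff]
  refine fun x => ⟨h a ha x, fun hx => ?_⟩
  have := h a⁻¹ (inv_mem ha) _ hx
  rwa [inv_inv, show a⁻¹ * (a * x * a⁻¹) * a = x by group] at this

theorem conj_mem_of_le_normalizer {G : Type u} [Group G] {P X : Subgroup G}
    (h : P ≤ Subgroup.normalizer (X : Set G)) {a x : G} (ha : a ∈ P) (hx : x ∈ X) :
    a * x * a⁻¹ ∈ X :=
  (Subgroup.mem_normalizer_iff.mp (h ha) x).mp hx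

/-- The fixed points of a `p`-group on a stable set, by conjugation. -/
theorem card_modEq_centralized {Γ : Type u} [Group Γ] [Finite Γ] {p : ℕ} [Fact p.Prime]
    {P : Subgroup Γ} (hP : IsPGroup p P) {S : Set Γ} (hS : ∀ a ∈ P, ∀ s ∈ S, a * s * a⁻¹ ∈ S) :
    Nat.card S ≡ Nat.card {s : Γ // s ∈ S ∧ s ∈ Subgroup.centralizer (P : Set Γ)} [MOD p] := by
  letI act : MulAction P S :=
    { smul := fun a s => ⟨(a : Γ) * s * (a : Γ)⁻¹, hS a a.2 s s.2⟩
      one_smul := fun s => Subtype.ext (by show (1 : Γ) * s * (1 : Γ)⁻¹ = s; group)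
      mul_smul := fun a b s => Subtype.ext (by
        show (a * b : Γ) * s * (a * b : Γ)⁻¹ = a * (b * s * (b : Γ)⁻¹) * (a : Γ)⁻¹; group) }
  refine (hP.card_modEq_card_fixedPoints S).trans ?_
  let e : MulAction.fixedPoints P S ≃ {s : Γ // s ∈ S ∧ s ∈ Subgroup.centralizer (P : Set Γ)} :=
    { toFun := fun s => ⟨s.1.1, s.1.2, Subgroup.mem_centralizer_iff.mpr fun a ha => by
        have h := congrArg Subtype.val (s.2 ⟨a, ha⟩)
        exact mul_inv_eq_iff_eq_mul.mp (h : a * s.1.1 * a⁻¹ = s.1.1)⟩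
      invFun := fun s => ⟨⟨s.1, s.2.1⟩, fun a => Subtype.ext (by
        show (a : Γ) * s.1 * (a : Γ)⁻¹ = s.1
        rw [Subgroup.mem_centralizer_iff.mp s.2.2 a a.2, mul_inv_cancel_right])⟩
      left_inv := fun s => rfl
      right_inv := fun s => rfl }
  rw [Nat.card_congr e]

section Bar

variable {G : Type u} [Group G] [Finite G] (Q : Subgroup G)

/-- The normalizer modulo `Q`. -/
abbrev NormQuot : Type u :=
  (Subgroup.normalizer (Q : Set G)) ⧸ Q.subgroupOf (Subgroup.normalizer (Q : Set G))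

/-- The image of a subgroup in the normalizer modulo `Q`. -/
def bar (X : Subgroup G) : Subgroup (NormQuot Q) :=
  (X.subgroupOf (Subgroup.normalizer (Q : Set G))).map (QuotientGroup.mk' _)

variable {Q} {X : Subgroup G}

/-- The projection onto the image. -/
def barHom (hXN : X ≤ Subgroup.normalizer (Q : Set G)) : X →* bar Q X :=
  ((QuotientGroup.mk' _).comp (Subgroup.inclusion hXN)).codRestrict (bar Q X)
    fun x => ⟨Subgroup.inclusion hXN x, x.2, rfl⟩

theorem coe_barHom (hXN : X ≤ Subgroup.normalizer (Q : Set G)) (x : X) :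
    (barHom hXN x : NormQuot Q) = QuotientGroup.mk (Subgroup.inclusion hXN x) := rfl

theorem barHom_surjective (hXN : X ≤ Subgroup.normalizer (Q : Set G)) :
    Function.Surjective (barHom hXN) := by
  rintro ⟨_, n, hn, rfl⟩
  exact ⟨⟨n, hn⟩, Subtype.ext rfl⟩

theorem ker_barHom (hXN : X ≤ Subgroup.normalizer (Q : Set G)) :
    (barHom hXN).ker = Q.subgroupOf X := by
  ext x
  rw [MonoidHom.mem_ker, Subtype.ext_iff, coe_barHom, OneMemClass.coe_one,
    QuotientGroup.eq_one_iff]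
  rfl

theorem card_bar (hXN : X ≤ Subgroup.normalizer (Q : Set G)) :
    Nat.card (bar Q X) = Q.relIndex X := by
  rw [Subgroup.relIndex, ← ker_barHom hXN, Subgroup.index_ker, MonoidHom.range_eq_top.mpr
    (barHom_surjective hXN), Subgroup.card_top]

theorem mem_bar_iff (hQX : Q ≤ X) (n : Subgroup.normalizer (Q : Set G)) :
    (n : NormQuot Q) ∈ bar Q X ↔ (n : G) ∈ X := by
  refine ⟨fun ⟨m, hm, hmn⟩ => ?_, fun h => ⟨n, h, rfl⟩⟩
  rw [QuotientGroup.mk'_apply, QuotientGroup.eq, Subgroup.mem_subgroupOf] at hmn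
  have := mul_mem (show (m : G) ∈ X from hm) (hQX hmn)
  simpa using this

theorem isPGroup_bar {p : ℕ} {P : Subgroup G} (hP : IsPGroup p P) : IsPGroup p (bar Q P) :=
  (hP.comap_of_injective (Subgroup.normalizer (Q : Set G)).subtype
    (Subgroup.subtype_injective _)).map _

theorem bar_conj_mem {A : Subgroup G} (hAX : ∀ a ∈ A, ∀ x ∈ X, a * x * a⁻¹ ∈ X) :
    ∀ a ∈ bar Q A, ∀ x ∈ bar Q X, a * x * a⁻¹ ∈ bar Q X := by
  rintro _ ⟨a, ha, rfl⟩ _ ⟨x, hx, rfl⟩
  exact ⟨a * x * a⁻¹, hAX _ ha _ hx, by simp only [map_mul, map_inv]⟩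

theorem mem_centralizer_bar_iff {P : Subgroup G} (hPN : P ≤ Subgroup.normalizer (Q : Set G))
    (n : Subgroup.normalizer (Q : Set G)) :
    (n : NormQuot Q) ∈ Subgroup.centralizer (bar Q P : Set (NormQuot Q)) ↔
      ∀ x ∈ P, x * n * x⁻¹ * (n : G)⁻¹ ∈ Q := by
  constructor
  · intro h x hx
    have h1 := Subgroup.mem_centralizer_iff.mp h _ ⟨⟨x, hPN hx⟩, hx, rfl⟩
    rw [QuotientGroup.mk'_apply, ← mul_inv_eq_iff_eq_mul, ← mul_inv_eq_one, ← QuotientGroup.mk_mul,
      ← QuotientGroup.mk_inv, ← QuotientGroup.mk_mul, ← QuotientGroup.mk_inv, ← QuotientGroup.mk_mul,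
      QuotientGroup.eq_one_iff] at h1
    exact h1
  · intro h
    refine Subgroup.mem_centralizer_iff.mpr ?_
    rintro _ ⟨x, hx, rfl⟩
    rw [QuotientGroup.mk'_apply, ← mul_inv_eq_iff_eq_mul, ← mul_inv_eq_one, ← QuotientGroup.mk_mul,
      ← QuotientGroup.mk_inv, ← QuotientGroup.mk_mul, ← QuotientGroup.mk_inv, ← QuotientGroup.mk_mul,
      QuotientGroup.eq_one_iff]
    exact h x hx

theorem exists_deflate_bar (hQX : Q ≤ X) (hXN : X ≤ Subgroup.normalizer (Q : Set G)) {χ : X → ℂ}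
    (hχ : IsIrrCharacter X χ) (htriv : IsTrivOn hQX χ) :
    ∃ ψ : bar Q X → ℂ, IsIrrCharacter (bar Q X) ψ ∧ χ = fun x => ψ (barHom hXN x) := by
  obtain ⟨ψ, hψ, he⟩ := exists_deflate_irr (barHom hXN).ker hχ fun n hn => by
    rw [ker_barHom hXN] at hn
    exact htriv ⟨(n : G), hn⟩
  let e := QuotientGroup.quotientKerEquivOfSurjective (barHom hXN) (barHom_surjective hXN)
  refine ⟨fun y => ψ (e.symm y), isIrrCharacter_comp_equiv e.symm hψ, funext fun x => ?_⟩
  rw [← he x]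
  congr 1
  rw [MulEquiv.eq_symm_apply]
  rfl

theorem trivOn_inflate (hQX : Q ≤ X) (hXN : X ≤ Subgroup.normalizer (Q : Set G))
    (ψ : bar Q X → ℂ) : IsTrivOn hQX (fun x => ψ (barHom hXN x)) := fun q => by
  show ψ (barHom hXN (Subgroup.inclusion hQX q)) = ψ (barHom hXN 1)
  rw [map_one, show barHom hXN (Subgroup.inclusion hQX q) = 1 by
    rw [← MonoidHom.mem_ker, ker_barHom hXN]; exact q.2]

end Bar

section Glauberman

variable {G : Type u} [Group G] [Finite G] {p : ℕ} [Fact p.Prime] {P Q T D : Subgroup G}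

/-- Inflation of a correspondence. -/
theorem hasCorr_inflate {T' D' : Type u} [Group T'] [Group D'] [Fintype D'] {ι : D →* T}
    {ι' : D' →* T'} (πT : T →* T') (πD : D →* D') (hπD : Function.Surjective πD)
    (hcomm : ∀ d, πT (ι d) = ι' (πD d)) {β : T' → ℂ} (hβ : IsCharacter T' β) {η : D' → ℂ}
    (h : HasCorr ι' p β η) : HasCorr ι p (fun t => β (πT t)) (fun d => η (πD d)) := by
  obtain ⟨hη, ε, hε, hall⟩ := h
  refine ⟨hη.comp_surjective πD hπD, ε, hε, fun ζ m hζ hm => ?_⟩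
  by_cases hk : ∀ d ∈ πD.ker, ζ d = ζ 1
  · obtain ⟨ζ₀, hζ₀, he⟩ := exists_deflate_irr πD.ker hζ hk
    let e := QuotientGroup.quotientKerEquivOfSurjective πD hπD
    have hζeq : ζ = fun d => ζ₀ (e.symm (πD d)) := funext fun d => by
      rw [← he d]
      congr 1
      rw [MulEquiv.eq_symm_apply]
      rfl
    subst hζeq
    have h1 := hall (fun y => ζ₀ (e.symm y)) m (isIrrCharacter_comp_equiv e.symm hζ₀) (by
      rw [← hm, ← classInner_comp_surjective πD hπD]
      simp only [hcomm])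
    refine ⟨fun h2 => h1.1 ?_, fun h2 => h1.2 fun h3 => h2 ?_⟩
    · funext y
      obtain ⟨d, rfl⟩ := hπD y
      exact congrFun h2 d
    · funext d
      exact congrFun h3 (πD d)
  · have h0 : m = 0 := by
      by_contra hne
      refine hk fun d hd => apply_eq_of_constituent
        (ψ := fun c => β (πT (ι c))) ((hβ.comp πT).comp ι) hζ
        (by rw [hm]; exact Nat.cast_ne_zero.mpr hne) ?_
      simp only [hcomm, map_one, MonoidHom.mem_ker.mp hd]
    refine ⟨fun h2 => absurd (fun d hd => ?_) hk, fun _ => h0 ▸ dvd_zero p⟩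
    rw [h2]
    simp only [map_one, MonoidHom.mem_ker.mp hd]

/-- The Glauberman correspondence for `T / Q`. -/
theorem glauberman_inflated (hP : IsPGroup p P) (hQT : Q ≤ T) (hQD : Q ≤ D) (hDT : D ≤ T)
    (hTN : T ≤ Subgroup.normalizer (Q : Set G)) (hPN : P ≤ Subgroup.normalizer (Q : Set G))
    (hPT : P ≤ Subgroup.normalizer (T : Set G)) (hidx : ¬ p ∣ Q.relIndex T)
    (hD : ∀ k, k ∈ D ↔ k ∈ T ∧ ∀ x ∈ P, x * k * x⁻¹ * k⁻¹ ∈ Q) :
    (∀ β : T → ℂ, IsIrrCharacter T β → IsTrivOn hQT β → IsInvOn P T β →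
      ∃ η : D → ℂ, IsTrivOn hQD η ∧ HasCorr (Subgroup.inclusion hDT) p β η) ∧
    (∀ β β' : T → ℂ, ∀ η : D → ℂ, IsIrrCharacter T β → IsTrivOn hQT β → IsInvOn P T β →
      IsIrrCharacter T β' → IsTrivOn hQT β' → IsInvOn P T β' →
      HasCorr (Subgroup.inclusion hDT) p β η → HasCorr (Subgroup.inclusion hDT) p β' η → β = β') ∧
    (∀ η : D → ℂ, IsIrrCharacter D η → IsTrivOn hQD η → ∃ β : T → ℂ, IsIrrCharacter T β ∧
      IsTrivOn hQT β ∧ IsInvOn P T β ∧ HasCorr (Subgroup.inclusion hDT) p β η) := by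
  classical
  have hp : p.Prime := Fact.out
  have hDN := hDT.trans hTN
  have hPTbar : bar Q P ≤ Subgroup.normalizer (bar Q T : Set (NormQuot Q)) :=
    le_normalizer_of_conj_mem (bar_conj_mem fun a ha x hx => conj_mem_of_le_normalizer hPT ha hx)
  have hcop : (Nat.card (bar Q T)).Coprime (Nat.card (bar Q P)) := by
    obtain ⟨k, hk⟩ := IsPGroup.iff_card.mp (isPGroup_bar (Q := Q) hP)
    rw [hk, card_bar hTN]
    exact Nat.Coprime.pow_right _ (Nat.Coprime.symm ((hp.coprime_iff_not_dvd).mpr hidx))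
  have hle : bar Q D ≤ bar Q T := Subgroup.map_mono fun x hx => hDT hx
  have hmem : ∀ y, y ∈ bar Q D ↔
      y ∈ bar Q T ∧ y ∈ Subgroup.centralizer (bar Q P : Set (NormQuot Q)) := fun y => by
    obtain ⟨n, rfl⟩ := QuotientGroup.mk_surjective y
    rw [mem_bar_iff hQD, mem_bar_iff hQT, mem_centralizer_bar_iff hPN, hD]
  have hcorr := isCorrespondence_pGroup hp (bar Q P) (isPGroup_bar hP) (bar Q T) (bar Q D) hPTbar
    hcop hle hmem
  have hcomm : ∀ d : D, barHom hTN (Subgroup.inclusion hDT d) =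
      Subgroup.inclusion hle (barHom hDN d) := fun d => rfl
  have hinv : ∀ β₀ : bar Q T → ℂ,
      IsInvOn P T (fun t => β₀ (barHom hTN t)) ↔ IsInvOn (bar Q P) (bar Q T) β₀ := by
    intro β₀
    constructor
    · rintro h _ ⟨x, hx, rfl⟩ g g' hg
      obtain ⟨t, rfl⟩ := barHom_surjective hTN g
      have h1 := h x hx t ⟨x * t * (x : G)⁻¹, conj_mem_of_le_normalizer hPT hx t.2⟩ rfl
      rw [show g' = barHom hTN ⟨x * t * (x : G)⁻¹, conj_mem_of_le_normalizer hPT hx t.2⟩ from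
        Subtype.ext (by rw [hg]; rfl)]
      exact h1
    · intro h x hx t t' ht
      refine h ((⟨x, hPN hx⟩ : Subgroup.normalizer (Q : Set G)) : NormQuot Q)
        ⟨⟨x, hPN hx⟩, hx, rfl⟩ (barHom hTN t) (barHom hTN t') ?_
      simp only [coe_barHom, ← QuotientGroup.mk_inv, ← QuotientGroup.mk_mul]
      exact congrArg _ (Subtype.ext ht)
  refine ⟨fun β hβ ht hi => ?_, fun β β' η hβ ht hi hβ' ht' hi' hc hc' => ?_, fun η hη ht => ?_⟩
  · obtain ⟨β₀, hβ₀, rfl⟩ := exists_deflate_bar hQT hTN hβ ht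
    obtain ⟨η₀, hc⟩ := hcorr.exists_corr β₀ hβ₀ ((hinv β₀).mp hi)
    exact ⟨_, trivOn_inflate hQD hDN η₀, hasCorr_inflate (barHom hTN) (barHom hDN)
      (barHom_surjective hDN) hcomm hβ₀.isCharacter hc⟩
  · obtain ⟨β₀, hβ₀, rfl⟩ := exists_deflate_bar hQT hTN hβ ht
    obtain ⟨β₁, hβ₁, rfl⟩ := exists_deflate_bar hQT hTN hβ' ht'
    obtain ⟨η₀, hc₀⟩ := hcorr.exists_corr β₀ hβ₀ ((hinv β₀).mp hi)
    obtain ⟨η₁, hc₁⟩ := hcorr.exists_corr β₁ hβ₁ ((hinv β₁).mp hi')
    have e₀ := hc.eq_of_not_dvd hp hβ.isCharacter (hasCorr_inflate (barHom hTN) (barHom hDN)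
      (barHom_surjective hDN) hcomm hβ₀.isCharacter hc₀)
    have e₁ := hc'.eq_of_not_dvd hp hβ'.isCharacter (hasCorr_inflate (barHom hTN) (barHom hDN)
      (barHom_surjective hDN) hcomm hβ₁.isCharacter hc₁)
    have e : η₀ = η₁ := funext fun y => by
      obtain ⟨d, rfl⟩ := barHom_surjective hDN y
      exact congrFun (e₀.symm.trans e₁) d
    subst e
    rw [hcorr.injective β₀ β₁ η₀ hβ₀ ((hinv β₀).mp hi) hβ₁ ((hinv β₁).mp hi') hc₀ hc₁]
  · obtain ⟨η₀, hη₀, rfl⟩ := exists_deflate_bar hQD hDN hη ht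
    obtain ⟨β₀, hβ₀, hi, hc⟩ := hcorr.surjective η₀ hη₀
    exact ⟨_, hβ₀.comp_surjective _ (barHom_surjective hTN), trivOn_inflate hQT hTN β₀,
      (hinv β₀).mpr hi, hasCorr_inflate (barHom hTN) (barHom hDN) (barHom_surjective hDN) hcomm
        hβ₀.isCharacter hc⟩

end Glauberman

end Cfsg.Lib.Char
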