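import Mathlib.FieldTheory.Finite.Basic
import Cfsg.Agent.Lib.Char.GlaubermanInflate

/-!
# A `p`-group acting on a group with a normal Sylow `p`-subgroup

`C / Q` is the fixed-point group on `K / Q`. Invariant characters of `K` and `C` correspond.
-/

set_option autoImplicit false
set_option linter.unusedSectionVars false

namespace Cfsg.Lib.Char

open Cfsg
open scoped ComplexConjugate

universe u

attribute [local instance] subFintype

variable {G : Type u} [Group G] [Finite G]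

/-- The action data. -/
structure NormalSylowAction (p : ℕ) (P K Q C : Subgroup G) : Prop where
  hP : IsPGroup p P
  hPK : P ≤ Subgroup.normalizer (K : Set G)
  hQK : Q ≤ K
  hKN : K ≤ Subgroup.normalizer (Q : Set G)
  hQp : IsPGroup p Q
  hidx : ¬ p ∣ Q.relIndex K
  hC : ∀ k : G, k ∈ C ↔ (k ∈ K ∧ ∀ x ∈ P, x * k * x⁻¹ * k⁻¹ ∈ Q)

variable {p : ℕ} [Fact p.Prime] {P K Q C : Subgroup G}

namespace NormalSylowAction

variable (h : NormalSylowAction p P K Q C)

include h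

theorem hPN : P ≤ Subgroup.normalizer (Q : Set G) := by
  refine le_normalizer_of_conj_mem fun a ha q hq => ?_
  have hmem : a * q * a⁻¹ ∈ K := conj_mem_of_le_normalizer h.hPK ha (h.hQK hq)
  haveI hn : (Q.subgroupOf K).Normal := Subgroup.normal_subgroupOf_of_le_normalizer h.hKN
  obtain ⟨k, hk⟩ := h.hQp ⟨q, hq⟩
  have hk' : (a * q * a⁻¹) ^ p ^ k = 1 := by
    rw [conj_pow, show q ^ p ^ k = 1 from congrArg Subtype.val hk]
    simp
  set y : K := ⟨a * q * a⁻¹, hmem⟩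
  obtain ⟨i, -, hi⟩ := (Nat.dvd_prime_pow (Fact.out : p.Prime)).mp
    (orderOf_dvd_of_pow_eq_one (show (y : K ⧸ Q.subgroupOf K) ^ p ^ k = 1 by
      rw [← QuotientGroup.mk_pow, QuotientGroup.eq_one_iff,
        show y ^ p ^ k = 1 from Subtype.ext hk']
      exact one_mem _))
  rcases Nat.eq_zero_or_pos i with rfl | hpos
  · rw [pow_zero, orderOf_eq_one_iff, QuotientGroup.eq_one_iff] at hi
    exact hi
  · exact absurd ((dvd_pow_self p hpos.ne').trans (hi ▸ orderOf_dvd_natCard _)) h.hidx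

theorem hCK : C ≤ K := fun _ hk => ((h.hC _).mp hk).1

theorem hQC : Q ≤ C := fun q hq => (h.hC q).mpr ⟨h.hQK hq, fun _ hx =>
  mul_mem (conj_mem_of_le_normalizer h.hPN hx hq) (inv_mem hq)⟩

theorem hPC : P ≤ Subgroup.normalizer (C : Set G) := le_normalizer_of_conj_mem fun a ha k hk => by
  rw [show a * k * a⁻¹ = a * k * a⁻¹ * k⁻¹ * k by group]
  exact mul_mem (h.hQC (((h.hC k).mp hk).2 a ha)) hk

theorem hidx_of_le {X : Subgroup G} (hXK : X ≤ K) : ¬ p ∣ Q.relIndex X := fun hd => by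
  haveI hn : (Q.subgroupOf K).Normal := Subgroup.normal_subgroupOf_of_le_normalizer h.hKN
  refine h.hidx (hd.trans ?_)
  have := Subgroup.relIndex_dvd_index_of_normal (Q.subgroupOf K) (X.subgroupOf K)
  rwa [Subgroup.relIndex_subgroupOf hXK] at this

theorem coprime_card {X : Subgroup G} (hQX : Q ≤ X) (hXK : X ≤ K) :
    Nat.Coprime (Nat.card (Q.subgroupOf X)) (Q.subgroupOf X).index := by
  obtain ⟨k, hk⟩ := IsPGroup.iff_card.mp h.hQp
  rw [Nat.card_congr (Subgroup.subgroupOfEquivOfLe hQX).toEquiv, hk]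
  exact Nat.Coprime.pow_left _ ((Nat.Prime.coprime_iff_not_dvd Fact.out).mpr (h.hidx_of_le hXK))

/-- An invariant constituent on `Q`. -/
theorem exists_inv_theta {X : Subgroup G} (hQX : Q ≤ X) (hXK : X ≤ K)
    (hPX : P ≤ Subgroup.normalizer (X : Set G)) {χ : X → ℂ} (hχ : IsIrrCharacter X χ)
    (hi : IsInvOn P X χ) :
    ∃ θ : Q → ℂ, IsIrrCharacter Q θ ∧ IsInvOn P Q θ ∧ IsOver hQX θ χ := by
  classical
  have hXN := hXK.trans h.hKN
  haveI hn : (Q.subgroupOf X).Normal := Subgroup.normal_subgroupOf_of_le_normalizer hXN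
  obtain ⟨θX, hθX⟩ := exists_irr_constituent_res (Q.subgroupOf X) hχ
  let θ₀ : Q → ℂ := fun q =>
    (θX : Q.subgroupOf X → ℂ) ((Subgroup.subgroupOfEquivOfLe hQX).symm q)
  have hθ₀ : IsIrrCharacter Q θ₀ := isIrrCharacter_comp_equiv _ θX.2
  have hθeq : thetaIn hQX θ₀ = θX := funext fun n => by
    simp [thetaIn, θ₀]
  let S := {φ : IrrCharacter Q // IsOver hQX (φ : Q → ℂ) χ}
  have hcard : Nat.card S = (inertia (Q.subgroupOf X) (θX : Q.subgroupOf X → ℂ)).index := by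
    rw [← card_twistOrbit (Q.subgroupOf X) (θX : Q.subgroupOf X → ℂ), ← Fintype.card_coe,
      ← Nat.card_eq_fintype_card]
    refine Nat.card_congr (Equiv.ofBijective (fun φ => ⟨thetaIn hQX (φ.1 : Q → ℂ),
      mem_twistOrbit_of_constituent (Q.subgroupOf X) hχ θX.2 (thetaIn_isIrr hQX φ.1.2) hθX
        (by rw [classInner_thetaIn hQX (φ.1 : Q → ℂ) χ]; exact φ.2)⟩) ⟨fun a b hab => ?_, ?_⟩)
    · refine Subtype.ext (Subtype.ext (funext fun q => ?_))
      have := congrFun (congrArg Subtype.val hab) ((Subgroup.subgroupOfEquivOfLe hQX).symm q)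
      simpa [thetaIn] using this
    · rintro ⟨φ, hφ⟩
      have hφirr := isIrrCharacter_of_mem_twistOrbit (Q.subgroupOf X) θX.2 hφ
      have he : thetaIn hQX (fun q => φ ((Subgroup.subgroupOfEquivOfLe hQX).symm q)) = φ :=
        funext fun n => by simp [thetaIn]
      refine ⟨⟨⟨_, isIrrCharacter_comp_equiv (Subgroup.subgroupOfEquivOfLe hQX).symm hφirr⟩, ?_⟩,
        Subtype.ext he⟩
      show classInner (resOn hQX χ) _ ≠ 0
      rw [← classInner_thetaIn hQX, he]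
      obtain ⟨g, rfl⟩ := (mem_twistOrbit _).mp hφ
      rw [← conjTwist_res (Q.subgroupOf X) hχ.isClassFunction g, classInner_conjTwist]
      exact hθX
  have hndvd : ¬ p ∣ Nat.card S := fun hd => h.hidx_of_le hXK (hd.trans (by
    rw [hcard]; exact Subgroup.index_dvd_of_le (le_inertia _ θX.2.isClassFunction)))
  have hmove : ∀ (x : P) (φ : Q → ℂ), IsOver hQX φ χ →
      IsOver hQX (fun q => φ (twistEquiv Q (h.hPN x.2) q)) χ := fun x φ hφ => by
    have hr : resOn hQX χ = fun q => resOn hQX χ (twistEquiv Q (h.hPN x.2) q) := funext fun q =>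
      (hi x x.2 (Subgroup.inclusion hQX q) _ (coe_twistEquiv Q (h.hPN x.2) q)).symm
    unfold IsOver
    rw [hr, classInner_comp_equiv (twistEquiv Q (h.hPN x.2))]
    exact hφ
  letI act : MulAction P S :=
    { smul := fun x φ => ⟨⟨fun q => (φ.1 : Q → ℂ) (twistEquiv Q (h.hPN (x⁻¹ : P).2) q),
        isIrrCharacter_comp_equiv _ φ.1.2⟩, hmove x⁻¹ _ φ.2⟩
      one_smul := fun φ => Subtype.ext (Subtype.ext (funext fun q =>
        congrArg (φ.1 : Q → ℂ) (Subtype.ext (by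
          show ((1 : P)⁻¹ : P).1 * (q : G) * (((1 : P)⁻¹ : P).1)⁻¹ = q
          simp))))
      mul_smul := fun a b φ => Subtype.ext (Subtype.ext (funext fun q =>
        congrArg (φ.1 : Q → ℂ) (Subtype.ext (by
          show ((a * b : P)⁻¹ : P).1 * (q : G) * (((a * b : P)⁻¹ : P).1)⁻¹ =
            ((b⁻¹ : P) : G) * (((a⁻¹ : P) : G) * q * ((a⁻¹ : P) : G)⁻¹) * ((b⁻¹ : P) : G)⁻¹
          simp [mul_assoc])))) }
  obtain ⟨φ, hφ⟩ := h.hP.nonempty_fixed_point_of_prime_not_dvd_card S hndvd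
  refine ⟨(φ.1 : Q → ℂ), φ.1.2, fun x hx q q' hq => ?_, φ.2⟩
  have := congrFun (congrArg Subtype.val (congrArg Subtype.val (hφ ⟨x⁻¹, inv_mem hx⟩))) q
  refine Eq.trans ?_ this
  exact congrArg (φ.1 : Q → ℂ) (Subtype.ext (by
    rw [hq]
    show x * (q : G) * x⁻¹ = (x⁻¹)⁻¹ * q * ((x⁻¹)⁻¹)⁻¹
    simp))

/-- Invariant constituents of one character are conjugate under `C`. -/
theorem exists_conj_theta {χ : K → ℂ} (hχ : IsIrrCharacter K χ) {θ φ : Q → ℂ}
    (hθ : IsIrrCharacter Q θ) (hθi : IsInvOn P Q θ) (hθc : IsOver h.hQK θ χ)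
    (hφ : IsIrrCharacter Q φ) (hφi : IsInvOn P Q φ) (hφc : IsOver h.hQK φ χ) :
    ∃ k : G, k ∈ C ∧ ∀ (hk : k ∈ Subgroup.normalizer (Q : Set G)) (q : Q),
      φ q = θ (twistEquiv Q hk q) := by
  classical
  haveI hn : (Q.subgroupOf K).Normal := Subgroup.normal_subgroupOf_of_le_normalizer h.hKN
  obtain ⟨k₀, hk₀⟩ := (mem_twistOrbit _).mp (mem_twistOrbit_of_constituent (Q.subgroupOf K) hχ
    (thetaIn_isIrr h.hQK hθ) (thetaIn_isIrr h.hQK hφ)
    (by rw [classInner_thetaIn h.hQK θ χ]; exact hθc)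
    (by rw [classInner_thetaIn h.hQK φ χ]; exact hφc))
  -- the elements carrying `θ` to `φ`
  let U : Set G := {k | k ∈ K ∧ ∀ (hk : k ∈ Subgroup.normalizer (Q : Set G)) (q : Q),
    φ q = θ (twistEquiv Q hk q)}
  have hk₀U : (k₀ : G) ∈ U := ⟨k₀.2, fun hk q => by
    have := congrFun hk₀ ((Subgroup.subgroupOfEquivOfLe h.hQK).symm q)
    refine Eq.trans ?_ (this.symm.trans ?_)
    · exact congrArg φ ((Subgroup.subgroupOfEquivOfLe h.hQK).apply_symm_apply q).symm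
    · exact congrArg θ (Subtype.ext rfl)⟩
  have hUstab : ∀ x ∈ P, ∀ k ∈ U, x * k * x⁻¹ ∈ U := fun x hx k ⟨hkK, hk⟩ => by
    refine ⟨conj_mem_of_le_normalizer h.hPK hx hkK, fun hk' q => ?_⟩
    set q₁ := twistEquiv Q (inv_mem (h.hPN hx)) q with hq₁
    rw [← hφi x⁻¹ (inv_mem hx) q q₁ rfl, hk (h.hKN hkK) q₁]
    exact (hθi x hx _ _ (by simp [hq₁, coe_twistEquiv]; group)).symm
  have hT : ∀ t ∈ K ⊓ invStab Q θ, t * (k₀ : G) ∈ U := fun t ht => by
    refine ⟨mul_mem (Subgroup.mem_inf.mp ht).1 k₀.2, fun hk q => ?_⟩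
    obtain ⟨ht', hts⟩ := (Subgroup.mem_inf.mp ht).2
    rw [hk₀U.2 (h.hKN k₀.2) q, ← hts (twistEquiv Q (h.hKN k₀.2) q)]
    exact congrArg θ (Subtype.ext (by simp only [coe_twistEquiv]; group))
  have hU : ∀ k ∈ U, k * (k₀ : G)⁻¹ ∈ K ⊓ invStab Q θ := fun k ⟨hkK, hk⟩ => by
    refine Subgroup.mem_inf.mpr ⟨mul_mem hkK (inv_mem k₀.2),
      ⟨h.hKN (mul_mem hkK (inv_mem k₀.2)), fun q => ?_⟩⟩
    have h1 := hk₀U.2 (h.hKN k₀.2) (twistEquiv Q (inv_mem (h.hKN k₀.2)) q)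
    have h2 := hk (h.hKN hkK) (twistEquiv Q (inv_mem (h.hKN k₀.2)) q)
    refine Eq.trans ?_ ((h2.symm.trans h1).trans ?_)
    · exact congrArg θ (Subtype.ext (by simp only [coe_twistEquiv]; group))
    · exact congrArg θ (Subtype.ext (by simp only [coe_twistEquiv]; group))
  have hQT : Q ≤ K ⊓ invStab Q θ := le_inf h.hQK (le_invStab hθ.isClassFunction)
  have hTN : K ⊓ invStab Q θ ≤ Subgroup.normalizer (Q : Set G) := inf_le_left.trans h.hKN
  let S : Set (NormQuot Q) :=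
    {y | ∃ k : Subgroup.normalizer (Q : Set G), (k : G) ∈ U ∧ QuotientGroup.mk k = y}
  let c₀ : NormQuot Q :=
    QuotientGroup.mk (⟨k₀, h.hKN k₀.2⟩ : Subgroup.normalizer (Q : Set G))
  have hScard : Nat.card S = Q.relIndex (K ⊓ invStab Q θ) := by
    rw [← card_bar hTN]
    refine (Nat.card_congr (Equiv.ofBijective
      (fun t : bar Q (K ⊓ invStab Q θ) => (⟨(t : NormQuot Q) * c₀, ?_⟩ : S)) ⟨?_, ?_⟩)).symm
    · obtain ⟨n, hn, hnt⟩ := t.2
      exact ⟨n * ⟨k₀, h.hKN k₀.2⟩, hT (n : G) hn, by rw [← hnt]; rfl⟩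
    · intro a b hab
      exact Subtype.ext (mul_right_cancel (congrArg Subtype.val hab))
    · rintro ⟨y, k, hk, rfl⟩
      refine ⟨⟨QuotientGroup.mk (k * ⟨k₀, h.hKN k₀.2⟩⁻¹), _, hU _ hk, rfl⟩, Subtype.ext ?_⟩
      show QuotientGroup.mk (k * ⟨k₀, h.hKN k₀.2⟩⁻¹) * c₀ = QuotientGroup.mk k
      rw [← QuotientGroup.mk_mul, inv_mul_cancel_right]
  have hSstab : ∀ a ∈ bar Q P, ∀ s ∈ S, a * s * a⁻¹ ∈ S := by
    rintro _ ⟨x, hx, rfl⟩ _ ⟨k, hk, rfl⟩
    exact ⟨x * k * x⁻¹, hUstab _ hx _ hk, rfl⟩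
  have hfix := card_modEq_centralized (isPGroup_bar h.hP) hSstab
  rw [hScard] at hfix
  have hne : Nat.card {s : NormQuot Q // s ∈ S ∧
      s ∈ Subgroup.centralizer (bar Q P : Set (NormQuot Q))} ≠ 0 := fun h0 => by
    rw [h0] at hfix
    exact h.hidx_of_le inf_le_left (Nat.modEq_zero_iff_dvd.mp hfix)
  obtain ⟨⟨_, ⟨k, hkU, rfl⟩, hkc⟩⟩ := (Nat.card_ne_zero.mp hne).1
  exact ⟨k, (h.hC k).mpr ⟨hkU.1, (mem_centralizer_bar_iff h.hPN k).mp hkc⟩, hkU.2⟩

omit [Fact p.Prime] h in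
theorem isClassFunction_twist {X : Subgroup G} {f : X → ℂ} (hf : IsClassFunction X f) {k : G}
    (hk : k ∈ X) {y y' : X} (hy : (y' : G) = k * y * k⁻¹) : f y' = f y := by
  rw [show y' = ⟨k, hk⟩ * y * ⟨k, hk⟩⁻¹ from Subtype.ext hy]
  exact hf y ⟨k, hk⟩

/-- A character of `C` under `χ` lies over each invariant constituent of `χ`. -/
theorem over_of_constituent {χ : K → ℂ} (hχ : IsIrrCharacter K χ) {θ : Q → ℂ}
    (hθ : IsIrrCharacter Q θ) (hθi : IsInvOn P Q θ) (hθc : IsOver h.hQK θ χ) {ξ : C → ℂ}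
    (hξ : IsIrrCharacter C ξ) (hξi : IsInvOn P C ξ)
    (hm : classInner (resOn h.hCK χ) ξ ≠ 0) : IsOver h.hQC θ ξ := by
  obtain ⟨φ, hφ, hφi, hφc⟩ := h.exists_inv_theta h.hQC h.hCK h.hPC hξ hξi
  have hφK : IsOver h.hQK φ χ := by
    intro h0
    refine hφc ?_
    have hr := resOn_isCharacter h.hCK hχ.isCharacter
    have h1 := classInner_res_le_of_constituent (Q.subgroupOf C) hr hξ hm
      (thetaIn_isIrr h.hQC hφ).isCharacter
    rw [classInner_thetaIn h.hQC φ, classInner_thetaIn h.hQC φ,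
      show classInner (resOn h.hQC (resOn h.hCK χ)) φ = 0 from h0, Complex.zero_re] at h1
    obtain ⟨n, hn⟩ := (resOn_isCharacter h.hQC hξ.isCharacter).exists_nat_classInner hφ.isCharacter
    rw [hn, Complex.natCast_re] at h1
    rw [hn, show n = 0 by exact_mod_cast le_antisymm h1 (Nat.cast_nonneg n), Nat.cast_zero]
  obtain ⟨k, hk, hkφ⟩ := h.exists_conj_theta hχ hθ hθi hθc hφ hφi hφK
  have hkN := h.hKN (h.hCK hk)
  have hr : resOn h.hQC ξ = fun q => resOn h.hQC ξ (twistEquiv Q hkN q) := funext fun q =>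
    (isClassFunction_twist hξ.isClassFunction hk (coe_twistEquiv Q hkN q)).symm
  intro h0
  refine hφc ?_
  rw [hr, show φ = fun q => θ (twistEquiv Q hkN q) from funext (hkφ hkN),
    classInner_comp_equiv (twistEquiv Q hkN)]
  exact h0

/-- The indices agree modulo `p`. -/
theorem index_cast_eq {T D : Subgroup G} (hQD : Q ≤ D) (hDT : D ≤ T) (hTK : T ≤ K)
    (hPT : P ≤ Subgroup.normalizer (T : Set G)) (hD : ∀ k, k ∈ D ↔ k ∈ C ∧ k ∈ T) :
    (T.relIndex K : ZMod p) = (D.relIndex C : ZMod p) := by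
  have hDC : D ≤ C := fun k hk => ((hD k).mp hk).1
  have hfix : ∀ {X Y : Subgroup G}, Q ≤ Y → Y ≤ X → X ≤ K → P ≤ Subgroup.normalizer (X : Set G) →
      (∀ k, k ∈ Y ↔ k ∈ X ∧ k ∈ C) → (Q.relIndex X : ZMod p) = (Q.relIndex Y : ZMod p) := by
    intro X Y hQY hYX hXK hPX hY
    have hXN := hXK.trans h.hKN
    have h1 := card_modEq_centralized (isPGroup_bar (Q := Q) h.hP)
      (S := (bar Q X : Set (NormQuot Q)))
      (bar_conj_mem fun a ha x hx => conj_mem_of_le_normalizer hPX ha hx)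
    rw [← card_bar hXN, ← card_bar (hYX.trans hXN)]
    refine ((ZMod.natCast_eq_natCast_iff _ _ _).mpr h1).trans (congrArg _ (Nat.card_congr
      (Equiv.subtypeEquivRight fun y => ?_)))
    obtain ⟨n, rfl⟩ := QuotientGroup.mk_surjective y
    rw [mem_bar_iff hQY, SetLike.mem_coe, mem_bar_iff (hQY.trans hYX),
      mem_centralizer_bar_iff h.hPN, hY, h.hC]
    exact ⟨fun h' => ⟨h'.1, hXK h'.1, h'.2⟩, fun h' => ⟨h'.1, h'.2.2⟩⟩
  have e1 := hfix h.hQC h.hCK le_rfl h.hPK fun k => ⟨fun hk => ⟨h.hCK hk, hk⟩, fun hk => hk.2⟩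
  have e2 := hfix hQD hDT hTK hPT fun k => by rw [hD, and_comm]
  rw [← Subgroup.relIndex_mul_relIndex Q T K (hQD.trans hDT) hTK,
    ← Subgroup.relIndex_mul_relIndex Q D C hQD hDC, Nat.cast_mul, Nat.cast_mul, ← e2] at e1
  exact mul_left_cancel₀ (fun h0 => h.hidx_of_le hTK ((ZMod.natCast_eq_zero_iff _ _).mp h0)) e1

/-- An invariant extension to the inertia group. -/
theorem exists_inv_extension {θ : Q → ℂ} (hθ : IsIrrCharacter Q θ) (hθi : IsInvOn P Q θ)
    {T : Subgroup G} (hQT : Q ≤ T) (hTK : T ≤ K) (hTs : T ≤ invStab Q θ)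
    (hPT : P ≤ Subgroup.normalizer (T : Set G)) :
    ∃ θh : T → ℂ, IsIrrCharacter T θh ∧ resOn hQT θh = θ ∧ IsInvOn P T θh := by
  classical
  have hTN := hTK.trans h.hKN
  haveI hn : (Q.subgroupOf T).Normal := Subgroup.normal_subgroupOf_of_le_normalizer hTN
  have hinv : ∀ g, conjTwist (Q.subgroupOf T) (thetaIn hQT θ) g = thetaIn hQT θ := fun g => by
    rw [← mem_inertia, inertia_thetaIn hQT hTN θ, Subgroup.mem_subgroupOf, inf_eq_left.mpr hTs]
    exact g.2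
  obtain ⟨θ₀, hθ₀, hres₀⟩ := exists_extension_of_coprime (Q.subgroupOf T) (thetaIn_isIrr hQT hθ)
    hinv (h.coprime_card hQT hTK)
  have hres : resOn hQT θ₀ = θ := funext fun q => by
    have := congrFun hres₀ ((Subgroup.subgroupOfEquivOfLe hQT).symm q)
    refine Eq.trans ?_ (this.trans ?_)
    · exact congrArg θ₀ (Subtype.ext rfl)
    · exact congrArg θ ((Subgroup.subgroupOfEquivOfLe hQT).apply_symm_apply q)
  let E := {f : IrrCharacter T // resOn hQT (f : T → ℂ) = θ}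
  let L : Subgroup (T →* ℂˣ) :=
    { carrier := {c | ∀ n ∈ Q.subgroupOf T, c n = 1}
      one_mem' := fun n _ => rfl
      mul_mem' := fun {a b} ha hb n hn => by rw [MonoidHom.mul_apply, ha n hn, hb n hn, one_mul]
      inv_mem' := fun {a} ha n hn => by rw [MonoidHom.inv_apply, ha n hn, inv_one] }
  have hb := gallagher_on hθ hQT hTs hθ₀.isCharacter hres
  have hlin : ∀ c : L, IsTrivOn hQT (fun t => ((c.1 t : ℂˣ) : ℂ)) := fun c q => by
    show ((c.1 (Subgroup.inclusion hQT q) : ℂˣ) : ℂ) = ((c.1 1 : ℂˣ) : ℂ)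
    rw [c.2 _ (Subgroup.mem_subgroupOf.mpr q.2), map_one]
  let toE : L → E := fun c => ⟨⟨_, (hb.mapsTo ⟨isIrrCharacter_linear c.1, hlin c⟩).1⟩, funext fun q => by
    show ((c.1 (Subgroup.inclusion hQT q) : ℂˣ) : ℂ) * θ₀ (Subgroup.inclusion hQT q) = θ q
    rw [c.2 _ (Subgroup.mem_subgroupOf.mpr q.2), Units.val_one, one_mul]
    exact congrFun hres q⟩
  have hinj : Function.Injective toE := fun a b hab => by
    refine Subtype.ext (MonoidHom.ext fun t => Units.ext ?_)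
    exact congrFun (hb.injOn ⟨isIrrCharacter_linear a.1, hlin a⟩ ⟨isIrrCharacter_linear b.1, hlin b⟩
      (congrArg Subtype.val (congrArg Subtype.val hab))) t
  have hsurj : Function.Surjective toE := fun f => by
    obtain ⟨β, ⟨hβ, hβQ⟩, hβeq⟩ := hb.surjOn (show (f.1 : T → ℂ) ∈ {ψ | IsIrrCharacter T ψ ∧
      IsOver hQT θ ψ} from ⟨f.1.2, by rw [IsOver, f.2, classInner_irr_self hθ]; exact one_ne_zero⟩)
    have h1 : β 1 = 1 := by
      have e := congrFun hβeq 1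
      have e2 := congrFun f.2 1
      have e3 := congrFun hres 1
      simp only [resOn, map_one] at e2 e3
      simp only [Pi.mul_apply] at e
      rw [e2, e3] at e
      exact mul_right_cancel₀ hθ.apply_one_ne_zero (e.trans (one_mul _).symm)
    obtain ⟨n, ρ, hρ, hρeq⟩ := hβ
    have hdeg : n = 1 := by
      have := congrFun hρeq 1
      rw [h1, Representation.char_one, Module.finrank_fin_fun] at this
      exact_mod_cast this
    subst hdeg
    have hval : ∀ t, β t = LinearMap.det (ρ t) := fun t => by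
      rw [← hρeq]
      rw [Representation.character, LinearMap.trace_eq_matrix_trace ℂ (Pi.basisFun ℂ (Fin 1)),
        ← LinearMap.det_toMatrix (Pi.basisFun ℂ (Fin 1)), Matrix.det_fin_one, Matrix.trace_fin_one]
    refine ⟨⟨detHom ρ, fun m hm => Units.ext ?_⟩, Subtype.ext (Subtype.ext ?_)⟩
    · rw [detHom_apply, ← hval, Units.val_one]
      exact (hβQ ⟨(m : G), hm⟩).trans h1
    · rw [← hβeq]
      funext t
      show ((detHom ρ t : ℂˣ) : ℂ) * θ₀ t = β t * θ₀ t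
      rw [detHom_apply, hval]
  haveI : Finite L := Finite.of_injective toE hinj
  have hL : ¬ p ∣ Nat.card L := fun hd => by
    obtain ⟨c, hc⟩ := exists_prime_orderOf_dvd_card' p hd
    refine h.hidx_of_le hTK (hc ▸ ?_)
    refine orderOf_dvd_of_pow_eq_one (Subtype.ext (MonoidHom.ext fun t => ?_))
    rw [SubgroupClass.coe_pow, MonoidHom.pow_apply]
    exact pow_index_eq_one_of_trivial c.1 c.2 t
  have hE : ¬ p ∣ Nat.card E := by rwa [← Nat.card_congr (Equiv.ofBijective toE ⟨hinj, hsurj⟩)]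
  letI act : MulAction P E :=
    { smul := fun x f => ⟨⟨fun t => (f.1 : T → ℂ) (twistEquiv T (hPT (x⁻¹ : P).2) t),
        isIrrCharacter_comp_equiv _ f.1.2⟩, funext fun q => by
          refine Eq.trans ?_ ((congrFun f.2 (twistEquiv Q (h.hPN (x⁻¹ : P).2) q)).trans ?_)
          · exact congrArg (f.1 : T → ℂ) (Subtype.ext rfl)
          · exact hθi _ (x⁻¹ : P).2 q _ rfl⟩
      one_smul := fun f => Subtype.ext (Subtype.ext (funext fun t =>
        congrArg (f.1 : T → ℂ) (Subtype.ext (by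
          show ((1 : P)⁻¹ : P).1 * (t : G) * (((1 : P)⁻¹ : P).1)⁻¹ = t
          simp))))
      mul_smul := fun a b f => Subtype.ext (Subtype.ext (funext fun t =>
        congrArg (f.1 : T → ℂ) (Subtype.ext (by
          show ((a * b : P)⁻¹ : P).1 * (t : G) * (((a * b : P)⁻¹ : P).1)⁻¹ =
            ((b⁻¹ : P) : G) * (((a⁻¹ : P) : G) * t * ((a⁻¹ : P) : G)⁻¹) * ((b⁻¹ : P) : G)⁻¹
          simp [mul_assoc])))) }
  obtain ⟨f, hf⟩ := h.hP.nonempty_fixed_point_of_prime_not_dvd_card E hE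
  refine ⟨(f.1 : T → ℂ), f.1.2, f.2, fun x hx t t' ht => ?_⟩
  have := congrFun (congrArg Subtype.val (congrArg Subtype.val (hf ⟨x⁻¹, inv_mem hx⟩))) t
  refine Eq.trans ?_ this
  exact congrArg (f.1 : T → ℂ) (Subtype.ext (by
    rw [ht]
    show x * (t : G) * x⁻¹ = (x⁻¹)⁻¹ * t * ((x⁻¹)⁻¹)⁻¹
    simp))

/-- What the correspondence satisfies. -/
def IsGood (P C : Subgroup G) (p : ℕ) {K : Subgroup G} (hCK : C ≤ K) (χ : K → ℂ) (ξ : C → ℂ) :
    Prop :=
  (∀ ζ : C → ℂ, IsIrrCharacter C ζ → IsInvOn P C ζ → ∃ m : ℕ,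
    classInner (resOn hCK χ) ζ = (m : ℂ) ∧ (ζ = ξ → ((m : ZMod p) = 1 ∨ (m : ZMod p) = -1)) ∧
      (ζ ≠ ξ → p ∣ m)) ∧
    ((charDegree ξ : ZMod p) = (charDegree χ : ZMod p) ∨
      (charDegree ξ : ZMod p) = -(charDegree χ : ZMod p))

theorem isGood_unique {χ : K → ℂ} {ξ ξ' : C → ℂ} (hξ' : IsIrrCharacter C ξ')
    (hi' : IsInvOn P C ξ') (hg : IsGood P C p h.hCK χ ξ) (hg' : IsGood P C p h.hCK χ ξ') :
    ξ' = ξ := by
  by_contra hne
  obtain ⟨m, hm, -, hdvd⟩ := hg.1 ξ' hξ' hi'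
  obtain ⟨m', hm', hone, -⟩ := hg'.1 ξ' hξ' hi'
  rw [hm] at hm'
  have e : m = m' := by exact_mod_cast hm'
  subst e
  have h0 : (m : ZMod p) = 0 := (ZMod.natCast_eq_zero_iff _ _).mpr (hdvd hne)
  rcases hone rfl with h1 | h1 <;> rw [h0] at h1
  · exact zero_ne_one h1
  · exact zero_ne_one (by rw [← neg_neg (1 : ZMod p), ← h1, neg_zero])

/-- The correspondence over one invariant `θ`. -/
theorem corr_over {θ : Q → ℂ} (hθ : IsIrrCharacter Q θ) (hθi : IsInvOn P Q θ) :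
    (∀ χ : K → ℂ, IsIrrCharacter K χ → IsInvOn P K χ → IsOver h.hQK θ χ →
      ∃ ξ : C → ℂ, IsIrrCharacter C ξ ∧ IsInvOn P C ξ ∧ IsOver h.hQC θ ξ ∧
        IsGood P C p h.hCK χ ξ) ∧
    (∀ (χ χ' : K → ℂ) (ξ : C → ℂ), IsIrrCharacter K χ → IsInvOn P K χ → IsOver h.hQK θ χ →
      IsIrrCharacter K χ' → IsInvOn P K χ' → IsOver h.hQK θ χ' →
      IsIrrCharacter C ξ → IsInvOn P C ξ →
      IsGood P C p h.hCK χ ξ → IsGood P C p h.hCK χ' ξ → χ = χ') ∧
    (∀ ξ : C → ℂ, IsIrrCharacter C ξ → IsInvOn P C ξ → IsOver h.hQC θ ξ →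
      ∃ χ : K → ℂ, IsIrrCharacter K χ ∧ IsInvOn P K χ ∧ IsOver h.hQK θ χ ∧
        IsGood P C p h.hCK χ ξ) := by
  classical
  have hp : p.Prime := Fact.out
  set T := K ⊓ invStab Q θ with hTdef
  set D := C ⊓ invStab Q θ with hDdef
  have hTK : T ≤ K := inf_le_left
  have hTs : T ≤ invStab Q θ := inf_le_right
  have hDC : D ≤ C := inf_le_left
  have hDs : D ≤ invStab Q θ := inf_le_right
  have hDT : D ≤ T := inf_le_inf_right _ h.hCK
  have hQT : Q ≤ T := le_inf h.hQK (le_invStab hθ.isClassFunction)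
  have hQD : Q ≤ D := le_inf h.hQC (le_invStab hθ.isClassFunction)
  have hTN := hTK.trans h.hKN
  have hCN := h.hCK.trans h.hKN
  have hPs : P ≤ invStab Q θ := (isInvOn_iff h.hPN).mp hθi
  have hPT : P ≤ Subgroup.normalizer (T : Set G) := le_normalizer_of_conj_mem fun a ha x hx => by
    obtain ⟨hxK, hxs⟩ := Subgroup.mem_inf.mp hx
    exact Subgroup.mem_inf.mpr ⟨conj_mem_of_le_normalizer h.hPK ha hxK,
      mul_mem (mul_mem (hPs ha) hxs) (inv_mem (hPs ha))⟩
  have hPD : P ≤ Subgroup.normalizer (D : Set G) := le_normalizer_of_conj_mem fun a ha x hx => by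
    obtain ⟨hxC, hxs⟩ := Subgroup.mem_inf.mp hx
    exact Subgroup.mem_inf.mpr ⟨conj_mem_of_le_normalizer h.hPC ha hxC,
      mul_mem (mul_mem (hPs ha) hxs) (inv_mem (hPs ha))⟩
  have hD : ∀ k, k ∈ D ↔ k ∈ T ∧ ∀ x ∈ P, x * k * x⁻¹ * k⁻¹ ∈ Q := fun k => by
    simp only [hDdef, hTdef, Subgroup.mem_inf, h.hC]
    tauto
  obtain ⟨θh, hθh, hres, hθhi⟩ := h.exists_inv_extension hθ hθi hQT hTK hTs hPT
  set θd := resOn hDT θh with hθd
  have hresd : resOn hQD θd = θ := hres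
  obtain ⟨gl₁, gl₂, gl₃⟩ := glauberman_inflated (p := p) h.hP hQT hQD hDT hTN h.hPN hPT
    (h.hidx_of_le hTK) hD
  have gT := gallagher_on hθ hQT hTs hθh.isCharacter hres
  have gD := gallagher_on hθ hQD hDs (resOn_isCharacter hDT hθh.isCharacter) hresd
  have gTm : ∀ {β : T → ℂ}, IsIrrCharacter T β ∧ IsTrivOn hQT β →
      IsIrrCharacter T (β * θh) ∧ IsOver hQT θ (β * θh) := fun hb => gT.mapsTo hb
  have gDm : ∀ {η : D → ℂ}, IsIrrCharacter D η ∧ IsTrivOn hQD η →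
      IsIrrCharacter D (η * θd) ∧ IsOver hQD θ (η * θd) := fun hb => gD.mapsTo hb
  have gTs : ∀ {ψ : T → ℂ}, IsIrrCharacter T ψ ∧ IsOver hQT θ ψ →
      ∃ β, (IsIrrCharacter T β ∧ IsTrivOn hQT β) ∧ β * θh = ψ := fun hb => gT.surjOn hb
  have gDs : ∀ {ψ : D → ℂ}, IsIrrCharacter D ψ ∧ IsOver hQD θ ψ →
      ∃ η, (IsIrrCharacter D η ∧ IsTrivOn hQD η) ∧ η * θd = ψ := fun hb => gD.surjOn hb
  -- the relation through the inertia groups
  let Chain : (K → ℂ) → (C → ℂ) → Prop := fun χ ξ => ∃ (β : T → ℂ) (η : D → ℂ),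
    IsIrrCharacter T β ∧ IsTrivOn hQT β ∧ IsInvOn P T β ∧ IsTrivOn hQD η ∧
    HasCorr (Subgroup.inclusion hDT) p β η ∧ classInner (resOn hTK χ) (β * θh) ≠ 0 ∧
    classInner (resOn hDC ξ) (η * θd) ≠ 0
  have hclT := @clifford_on_induce G _ _ Q K T θ hθ hQT hTK h.hKN rfl
  have hclD := @clifford_on_induce G _ _ Q C D θ hθ hQD hDC hCN rfl
  -- `ψ` and `β` from `χ`
  have hdown : ∀ χ : K → ℂ, IsIrrCharacter K χ → IsInvOn P K χ → IsOver h.hQK θ χ →
      ∃ β : T → ℂ, IsIrrCharacter T β ∧ IsTrivOn hQT β ∧ IsInvOn P T β ∧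
        classInner (resOn hTK χ) (β * θh) ≠ 0 := by
    intro χ hχ hi hc
    obtain ⟨ψ, hψ, hψc, hψm⟩ := clifford_on_exists_down hθ hQT hTK h.hKN rfl hχ hc
    obtain ⟨β, ⟨hβ, hβQ⟩, rfl⟩ := gTs ⟨hψ, hψc⟩
    refine ⟨β, hβ, hβQ, fun x hx t t' ht => ?_, hψm⟩
    let e := twistEquiv T (hPT hx)
    have h1 : classInner (resOn hTK χ) (fun t => (β * θh) (e t)) ≠ 0 := by
      rw [show resOn hTK χ = fun t => resOn hTK χ (e t) from funext fun t =>
        (hi x hx (Subgroup.inclusion hTK t) _ rfl).symm, classInner_comp_equiv e]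
      exact hψm
    have h2 : IsOver hQT θ (fun t => (β * θh) (e t)) := by
      unfold IsOver
      rw [show θ = fun q => θ (twistEquiv Q (h.hPN hx) q) from funext fun q =>
        (hθi x hx q _ rfl).symm,
        show resOn hQT (fun t => (β * θh) (e t)) =
          fun q => resOn hQT (β * θh) (twistEquiv Q (h.hPN hx) q) from
          funext fun q => congrArg (β * θh) (Subtype.ext rfl),
        classInner_comp_equiv (twistEquiv Q (h.hPN hx))]
      exact hψc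
    have h3 := clifford_on_unique_down hθ hQT hTK h.hKN rfl hχ hψ hψc hψm
      (isIrrCharacter_comp_equiv e hψ) h2 h1
    have h4 : (fun t => β (e t)) = β := by
      refine gT.injOn ⟨isIrrCharacter_comp_equiv e hβ, fun q => ?_⟩ ⟨hβ, hβQ⟩ ?_
      · show β (e (Subgroup.inclusion hQT q)) = β (e 1)
        rw [map_one, show e (Subgroup.inclusion hQT q) =
          Subgroup.inclusion hQT (twistEquiv Q (h.hPN hx) q) from Subtype.ext rfl, hβQ]
      · funext s
        have h5 := congrFun h3 s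
        simp only [Pi.mul_apply] at h5 ⊢
        rwa [hθhi x hx s (e s) rfl] at h5
    rw [show t' = e t from Subtype.ext ht]
    exact congrFun h4 t
  -- everything about a chain
  have hchain : ∀ (χ : K → ℂ) (ξ : C → ℂ), IsIrrCharacter K χ → IsOver h.hQK θ χ →
      IsIrrCharacter C ξ → Chain χ ξ →
      IsInvOn P C ξ ∧ IsOver h.hQC θ ξ ∧ IsGood P C p h.hCK χ ξ := by
    rintro χ ξ hχ hχc hξ ⟨β, η, hβ, hβQ, hβi, hηQ, hcor, hmT, hmD⟩
    have hη := hcor.1
    obtain ⟨hψ, hψc⟩ := gTm ⟨hβ, hβQ⟩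
    obtain ⟨hψd, hψdc⟩ := gDm ⟨hη, hηQ⟩
    obtain ⟨χ₀, -, -, -, -, hχdeg, hχu⟩ := hclT hψ hψc
    obtain ⟨ξ₀, -, hξc, -, -, hξdeg, hξu⟩ := hclD hψd hψdc
    obtain rfl := hχu χ hχ hmT
    obtain rfl := hξu ξ hξ hmD
    have hξi : IsInvOn P C ξ := fun x hx c c' hc => by
      let e := twistEquiv C (h.hPC hx)
      have h1 : (fun c => ξ (e c)) = ξ := by
        refine hξu _ (isIrrCharacter_comp_equiv e hξ) ?_
        have hfix : (η * θd) = fun d => (η * θd) (twistEquiv D (hPD hx) d) := funext fun d => by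
          have hcom : x * (d : G) * x⁻¹ * (d : G)⁻¹ ∈ Q := ((hD d).mp d.2).2 x hx
          simp only [Pi.mul_apply]
          congr 1
          · rw [show twistEquiv D (hPD hx) d = Subgroup.inclusion hQD ⟨_, hcom⟩ * d from
              Subtype.ext (by simp [coe_twistEquiv]),
              hη.isCharacter.apply_mul_of_mem_ker (hηQ ⟨_, hcom⟩)]
          · exact (hθhi x hx (Subgroup.inclusion hDT d) _ rfl).symm
        rw [hfix, show resOn hDC (fun c => ξ (e c)) =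
          fun d => resOn hDC ξ (twistEquiv D (hPD hx) d) from
          funext fun d => congrArg ξ (Subtype.ext rfl),
          classInner_comp_equiv (twistEquiv D (hPD hx))]
        exact hmD
      rw [show c' = e c from Subtype.ext hc]
      exact congrFun h1 c
    obtain ⟨-, ε, hε, hall⟩ := hcor
    have hcast : ((ε : ℤ) : ZMod p) = 1 ∨ ((ε : ℤ) : ZMod p) = -1 := by
      rcases hε with rfl | rfl
      · left; simp
      · right; simp
    refine ⟨hξi, hξc, fun ζ hζ hζi => ?_, ?_⟩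
    · obtain ⟨m, hm⟩ := (resOn_isCharacter h.hCK hχ.isCharacter).exists_nat_classInner
        hζ.isCharacter
      refine ⟨m, hm, ?_⟩
      by_cases hζc : IsOver h.hQC θ ζ
      · obtain ⟨ψz, hψz, hψzc, hψzm⟩ := clifford_on_exists_down hθ hQD hDC hCN rfl hζ hζc
        obtain ⟨ηz, ⟨hηz, hηzQ⟩, rfl⟩ := gDs ⟨hψz, hψzc⟩
        obtain ⟨ζ₀, -, -, -, -, -, hζu⟩ := hclD hψz hψzc
        obtain rfl := hζu ζ hζ hψzm
        have hmult : classInner (resOn h.hCK χ) ζ = classInner (resOn hDT β) ηz := by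
          have key : classInner (resOn (hDT.trans hTK) χ) (ηz * θd) =
              classInner (resOn hDT β) ηz := by
            rw [clifford_on_mult hθ hQT hTK h.hKN rfl hχ hψ hψc hmT hQD hDT hψz hψzc]
            exact gallagher_on_mult hθ hQD hDs (resOn_isCharacter hDT hθh.isCharacter) hresd hDT
              rfl hβ.isCharacter hβQ hηz hηzQ
          rw [← key]
          -- expand `χ` on `C`
          have hr := resOn_isCharacter h.hCK hχ.isCharacter
          have hexp : resOn (hDT.trans hTK) χ = resOn hDC (resOn h.hCK χ) := rfl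
          rw [hexp]
          conv_rhs => rw [eq_sum_classInner hr.isClassFunction,
            show resOn hDC (∑ φ : IrrCharacter C, classInner (resOn h.hCK χ) (φ : C → ℂ) •
              (φ : C → ℂ)) = ∑ φ : IrrCharacter C, classInner (resOn h.hCK χ) (φ : C → ℂ) •
              resOn hDC (φ : C → ℂ) by
              funext d; simp [resOn, Finset.sum_apply],
            classInner_sum_left]
          rw [Finset.sum_eq_single ⟨ζ, hζ⟩]
          · rw [classInner_smul_left,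
              clifford_on_mult hθ hQD hDC hCN rfl hζ hψz hψzc hψzm hQD le_rfl hψz hψzc,
              show resOn (le_refl D) (ηz * θd) = ηz * θd from rfl, classInner_irr_self hψz, mul_one]
          · intro φ _ hne
            rw [classInner_smul_left]
            refine mul_eq_zero_of_right _ (not_not.mp fun hne' => hne (Subtype.ext ?_))
            exact hζu φ φ.2 hne'
          · intro hn; exact absurd (Finset.mem_univ _) hn
        have hm' : classInner (fun d => β (Subgroup.inclusion hDT d)) ηz = m := hmult.symm.trans hm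
        obtain ⟨ha, hb⟩ := hall ηz m hηz hm'
        refine ⟨fun he => ?_, fun hne => hb fun he => hne ?_⟩
        · have : ηz = η := gD.injOn ⟨hηz, hηzQ⟩ ⟨hη, hηQ⟩ (clifford_on_unique_down hθ hQD hDC hCN
            rfl hξ hψd hψdc hmD hψz hψzc (he ▸ hψzm))
          have h2 : ((m : ℤ) : ZMod p) = (ε : ZMod p) := (ZMod.intCast_eq_intCast_iff _ _ _).mpr (ha this)
          rw [Int.cast_natCast] at h2
          rw [h2]
          exact hcast
        · exact hξu ζ hζ (he ▸ hψzm)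
      · have h0 : m = 0 := by
          by_contra hne
          exact hζc (h.over_of_constituent hχ hθ hθi hχc hζ hζi
            (by rw [hm]; exact Nat.cast_ne_zero.mpr hne))
        exact ⟨fun he => absurd (he ▸ hξc) hζc, fun _ => h0 ▸ dvd_zero p⟩
    · -- degrees
      obtain ⟨a, ha⟩ := hβ.isCharacter.exists_degree
      obtain ⟨b, hb⟩ := hη.isCharacter.exists_degree
      obtain ⟨t, ht⟩ := hθ.isCharacter.exists_degree
      have hθ1 : θh 1 = t := by
        rw [← ht, ← hres, resOn, map_one]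
      have hθd1 : θd 1 = t := by
        rw [← hθ1, hθd, resOn, map_one]
      have eχ : charDegree χ = T.relIndex K * (a * t) := by
        refine Nat.floor_eq_iff (by
          rw [hχdeg, Pi.mul_apply, ha, hθ1]; simp only [← Nat.cast_mul, Complex.natCast_re]
          exact Nat.cast_nonneg _) |>.mpr ?_
        rw [hχdeg, Pi.mul_apply, ha, hθ1]
        simp only [← Nat.cast_mul, Complex.natCast_re]
        exact ⟨le_rfl, lt_add_one _⟩
      have eξ : charDegree ξ = D.relIndex C * (b * t) := by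
        refine Nat.floor_eq_iff (by
          rw [hξdeg, Pi.mul_apply, hb, hθd1]; simp only [← Nat.cast_mul, Complex.natCast_re]
          exact Nat.cast_nonneg _) |>.mpr ?_
        rw [hξdeg, Pi.mul_apply, hb, hθd1]
        simp only [← Nat.cast_mul, Complex.natCast_re]
        exact ⟨le_rfl, lt_add_one _⟩
      have hidx := h.index_cast_eq hQD hDT hTK hPT fun k => by
        simp only [hDdef, hTdef, Subgroup.mem_inf, h.hC]
        tauto
      have hr := resOn_isCharacter hDT hβ.isCharacter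
      choose m hm using fun φ : IrrCharacter D => hr.exists_nat_classInner φ.2.isCharacter
      choose d hd using fun φ : IrrCharacter D => φ.2.isCharacter.exists_degree
      have hsum : a = ∑ φ : IrrCharacter D, m φ * d φ := by
        have e := congrFun (eq_sum_classInner hr.isClassFunction) 1
        simp only [Finset.sum_apply, Pi.smul_apply, smul_eq_mul, hm, hd, resOn, map_one, ha] at e
        exact_mod_cast e
      have hab : (a : ZMod p) = (ε : ZMod p) * (b : ZMod p) := by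
        rw [hsum, Nat.cast_sum, Finset.sum_eq_single ⟨η, hη⟩]
        · obtain ⟨h1, -⟩ := hall η (m ⟨η, hη⟩) hη (hm ⟨η, hη⟩)
          have h2 : ((m ⟨η, hη⟩ : ℤ) : ZMod p) = (ε : ZMod p) :=
            (ZMod.intCast_eq_intCast_iff _ _ _).mpr (h1 rfl)
          rw [Int.cast_natCast] at h2
          have h3 : d ⟨η, hη⟩ = b := by
            have := (hd ⟨η, hη⟩).symm.trans hb
            exact_mod_cast this
          rw [Nat.cast_mul, h2, h3]
        · intro φ _ hne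
          obtain ⟨-, h2⟩ := hall φ (m φ) φ.2 (hm φ)
          rw [Nat.cast_mul, (ZMod.natCast_eq_zero_iff _ _).mpr (h2 fun e => hne (Subtype.ext e)),
            zero_mul]
        · intro hn; exact absurd (Finset.mem_univ _) hn
      rw [eχ, eξ]
      push_cast
      rw [hidx, hab]
      rcases hcast with h1 | h1 <;> rw [h1]
      · left; ring
      · right; ring
  refine ⟨fun χ hχ hi hc => ?_, fun χ χ' ξ hχ hi hc hχ' hi' hc' hξ hξi hg hg' => ?_,
    fun ξ hξ hi hc => ?_⟩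
  · obtain ⟨β, hβ, hβQ, hβi, hmT⟩ := hdown χ hχ hi hc
    obtain ⟨η, hηQ, hcor⟩ := gl₁ β hβ hβQ hβi
    obtain ⟨hψd, hψdc⟩ := gDm ⟨hcor.1, hηQ⟩
    obtain ⟨ξ, hξ, -, hmD, -, -, -⟩ := hclD hψd hψdc
    obtain ⟨h1, h2, h3⟩ := hchain χ ξ hχ hc hξ ⟨β, η, hβ, hβQ, hβi, hηQ, hcor, hmT, hmD⟩
    exact ⟨ξ, hξ, h1, h2, h3⟩
  · have hstep : ∀ χ : K → ℂ, IsIrrCharacter K χ → IsInvOn P K χ → IsOver h.hQK θ χ →
        IsGood P C p h.hCK χ ξ → ∃ (β : T → ℂ) (η : D → ℂ), IsIrrCharacter T β ∧ IsTrivOn hQT β ∧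
          IsInvOn P T β ∧ IsTrivOn hQD η ∧ HasCorr (Subgroup.inclusion hDT) p β η ∧
          classInner (resOn hTK χ) (β * θh) ≠ 0 ∧ classInner (resOn hDC ξ) (η * θd) ≠ 0 := by
      intro χ hχ hi hc hg
      obtain ⟨β, hβ, hβQ, hβi, hmT⟩ := hdown χ hχ hi hc
      obtain ⟨η, hηQ, hcor⟩ := gl₁ β hβ hβQ hβi
      obtain ⟨hψd, hψdc⟩ := gDm ⟨hcor.1, hηQ⟩
      obtain ⟨ξ₁, hξ₁, -, hmD, -, -, -⟩ := hclD hψd hψdc
      obtain ⟨h1, -, h3⟩ := hchain χ ξ₁ hχ hc hξ₁ ⟨β, η, hβ, hβQ, hβi, hηQ, hcor, hmT, hmD⟩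
      obtain rfl := h.isGood_unique hξ₁ h1 hg h3
      exact ⟨β, η, hβ, hβQ, hβi, hηQ, hcor, hmT, hmD⟩
    obtain ⟨β, η, hβ, hβQ, hβi, hηQ, hcor, hmT, hmD⟩ := hstep χ hχ hi hc hg
    obtain ⟨β', η', hβ', hβQ', hβi', hηQ', hcor', hmT', hmD'⟩ := hstep χ' hχ' hi' hc' hg'
    obtain ⟨hψd, hψdc⟩ := gDm ⟨hcor.1, hηQ⟩
    obtain ⟨hψd', hψdc'⟩ := gDm ⟨hcor'.1, hηQ'⟩
    have e : η' = η := gD.injOn ⟨hcor'.1, hηQ'⟩ ⟨hcor.1, hηQ⟩
      (clifford_on_unique_down hθ hQD hDC hCN rfl hξ hψd hψdc hmD hψd' hψdc' hmD')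
    subst e
    obtain rfl := gl₂ β β' η' hβ hβQ hβi hβ' hβQ' hβi' hcor hcor'
    obtain ⟨hψ, hψc⟩ := gTm ⟨hβ, hβQ⟩
    obtain ⟨χ₀, -, -, -, -, -, huniq⟩ := hclT hψ hψc
    rw [huniq χ hχ hmT, huniq χ' hχ' hmT']
  · obtain ⟨ψd, hψd, hψdc, hmD⟩ := clifford_on_exists_down hθ hQD hDC hCN rfl hξ hc
    obtain ⟨η, ⟨hη, hηQ⟩, rfl⟩ := gDs ⟨hψd, hψdc⟩
    obtain ⟨β, hβ, hβQ, hβi, hcor⟩ := gl₃ η hη hηQ
    obtain ⟨hψ, hψc⟩ := gTm ⟨hβ, hβQ⟩
    obtain ⟨χ, hχ, hχc, hmT, -, -, huniq⟩ := hclT hψ hψc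
    refine ⟨χ, hχ, fun x hx k k' hk => ?_, hχc,
      (hchain χ ξ hχ hχc hξ ⟨β, η, hβ, hβQ, hβi, hηQ, hcor, hmT, hmD⟩).2.2⟩
    let e := twistEquiv K (h.hPK hx)
    have h1 : (fun k => χ (e k)) = χ := by
      refine huniq _ (isIrrCharacter_comp_equiv e hχ) ?_
      rw [show β * θh = fun t => (β * θh) (twistEquiv T (hPT hx) t) from funext fun t => by
          simp only [Pi.mul_apply]
          rw [hβi x hx t (twistEquiv T (hPT hx) t) rfl, hθhi x hx t (twistEquiv T (hPT hx) t) rfl],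
        show resOn hTK (fun k => χ (e k)) = fun t => resOn hTK χ (twistEquiv T (hPT hx) t) from
          funext fun t => congrArg χ (Subtype.ext rfl),
        classInner_comp_equiv (twistEquiv T (hPT hx))]
      exact hmT
    rw [show k' = e k from Subtype.ext hk]
    exact congrFun h1 k

/-- The correspondence. -/
theorem exists_correspondence :
    (∀ χ : K → ℂ, IsIrrCharacter K χ → IsInvOn P K χ →
      ∃ ξ : C → ℂ, IsIrrCharacter C ξ ∧ IsInvOn P C ξ ∧ IsGood P C p h.hCK χ ξ) ∧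
    (∀ (χ χ' : K → ℂ) (ξ : C → ℂ), IsIrrCharacter K χ → IsInvOn P K χ →
      IsIrrCharacter K χ' → IsInvOn P K χ' → IsIrrCharacter C ξ → IsInvOn P C ξ →
      IsGood P C p h.hCK χ ξ → IsGood P C p h.hCK χ' ξ → χ = χ') ∧
    (∀ ξ : C → ℂ, IsIrrCharacter C ξ → IsInvOn P C ξ →
      ∃ χ : K → ℂ, IsIrrCharacter K χ ∧ IsInvOn P K χ ∧ IsGood P C p h.hCK χ ξ) := by
  refine ⟨fun χ hχ hi => ?_, fun χ χ' ξ hχ hi hχ' hi' hξ hξi hg hg' => ?_, fun ξ hξ hi => ?_⟩
  · obtain ⟨θ, hθ, hθi, hc⟩ := h.exists_inv_theta h.hQK le_rfl h.hPK hχ hi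
    obtain ⟨ξ, h1, h2, -, h3⟩ := (h.corr_over hθ hθi).1 χ hχ hi hc
    exact ⟨ξ, h1, h2, h3⟩
  · obtain ⟨θ, hθ, hθi, hc⟩ := h.exists_inv_theta h.hQK le_rfl h.hPK hχ hi
    obtain ⟨θ', hθ', hθi', hc'⟩ := h.exists_inv_theta h.hQK le_rfl h.hPK hχ' hi'
    obtain ⟨ξ₁, hξ₁, hξ₁i, hξ₁c, hg₁⟩ := (h.corr_over hθ hθi).1 χ hχ hi hc
    obtain rfl := h.isGood_unique hξ₁ hξ₁i hg hg₁
    refine (h.corr_over hθ hθi).2.1 χ χ' ξ₁ hχ hi hc hχ' hi' ?_ hξ₁ hξ₁i hg hg'
    -- `θ` also lies under `χ'`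
    obtain ⟨m, hm, hone, -⟩ := hg'.1 ξ₁ hξ₁ hξ₁i
    have hne : classInner (resOn h.hCK χ') ξ₁ ≠ 0 := by
      rw [hm]
      refine Nat.cast_ne_zero.mpr fun h0 => ?_
      subst h0
      rcases hone rfl with h1 | h1 <;> simp at h1
    intro h0
    refine hξ₁c ?_
    have h1 := classInner_res_le_of_constituent (Q.subgroupOf C)
      (resOn_isCharacter h.hCK hχ'.isCharacter) hξ₁ hne (thetaIn_isIrr h.hQC hθ).isCharacter
    rw [classInner_thetaIn h.hQC θ, classInner_thetaIn h.hQC θ,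
      show classInner (resOn h.hQC (resOn h.hCK χ')) θ = 0 from h0, Complex.zero_re] at h1
    obtain ⟨n, hn⟩ := (resOn_isCharacter h.hQC hξ₁.isCharacter).exists_nat_classInner hθ.isCharacter
    rw [hn, Complex.natCast_re] at h1
    rw [hn, show n = 0 by exact_mod_cast le_antisymm h1 (Nat.cast_nonneg n), Nat.cast_zero]
  · obtain ⟨θ, hθ, hθi, hc⟩ := h.exists_inv_theta h.hQC h.hCK h.hPC hξ hi
    obtain ⟨χ, h1, h2, -, h3⟩ := (h.corr_over hθ hθi).2.2 ξ hξ hi hc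
    exact ⟨χ, h1, h2, h3⟩

end NormalSylowAction

end Cfsg.Lib.Char
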