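import Cfsg.Agent.Lib.Block.PPrimeKernel
import Cfsg.Agent.Lib.Char.AbelianInertia
import Cfsg.Agent.Lib.Char.ComplementDegree
import Cfsg.Agent.Lib.Char.Clifford2
import Cfsg.Agent.Lib.Char.Quotient
import Cfsg.Agent.Lib.Core.PSolvable
import Cfsg.Agent.Lib.Coprime.Action

/-!
# Invariant Sylow subgroups and degrees prime to one prime

If a `p`-group `P` acts on a `p'`-group `R` and the characters of degree prime to `p` of the
extension have degree prime to `q`, then only one Sylow `q`-subgroup of `R` is `P`-invariant.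
-/

set_option autoImplicit false
set_option linter.unusedSectionVars false
set_option linter.style.haveILetI false

namespace Cfsg.Lib.Char

open Cfsg
open scoped ComplexConjugate

universe u

/-- Every character of degree prime to `p` has degree prime to `q`. -/
def DegProp (p q : ℕ) (X : Type u) [Group X] : Prop :=
  ∀ χ : IrrCharacter X, ¬ p ∣ charDegree (χ : X → ℂ) → ¬ q ∣ charDegree (χ : X → ℂ)

theorem DegProp.quotient {p q : ℕ} {X : Type u} [Group X] [Finite X] (h : DegProp p q X)
    (N : Subgroup X) [N.Normal] : DegProp p q (X ⧸ N) :=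
  fun χ => h ⟨_, isIrrCharacter_inflate N χ.2⟩

/-- A Sylow `q`-subgroup of `R`. -/
def SylowIn {X : Type u} [Group X] (q : ℕ) (Q R : Subgroup X) : Prop :=
  Q ≤ R ∧ IsPGroup q Q ∧ ¬ q ∣ Q.relIndex R

theorem SylowIn.card_eq {X : Type u} [Group X] [Finite X] {q : ℕ} [hq : Fact q.Prime]
    {Q R : Subgroup X} (h : SylowIn q Q R) : Nat.card Q = q ^ (Nat.card R).factorization q := by
  obtain ⟨k, hk⟩ := h.2.1.exists_card_eq
  have e : Nat.card Q * Q.relIndex R = Nat.card R := by
    rw [← Subgroup.relIndex_bot_left, ← Subgroup.relIndex_bot_left,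
      Subgroup.relIndex_mul_relIndex ⊥ Q R bot_le h.1]
  rw [← e, hk, Nat.factorization_mul (pow_ne_zero _ hq.out.ne_zero) (fun h0 => h.2.2 (by rw [h0]; exact dvd_zero q)),
    Finsupp.add_apply, hq.out.factorization_pow, Finsupp.single_eq_same,
    Nat.factorization_eq_zero_of_not_dvd h.2.2, add_zero]

theorem SylowIn.map {X : Type u} [Group X] [Finite X] {q : ℕ} [hq : Fact q.Prime] {Q R : Subgroup X}
    (h : SylowIn q Q R) {Y : Type u} [Group Y] (f : X →* Y) : SylowIn q (Q.map f) (R.map f) := by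
  refine ⟨Subgroup.map_mono h.1, h.2.1.map f, fun hd => h.2.2 (hd.trans ?_)⟩
  have hs := f.subgroupMap_surjective R
  have e : (Q.subgroupOf R).map (f.subgroupMap R) = (Q.map f).subgroupOf (R.map f) := by
    ext ⟨y, hy⟩
    constructor
    · rintro ⟨x, hx, hxy⟩
      exact ⟨x, hx, congrArg Subtype.val hxy⟩
    · rintro ⟨x, hx, hxy⟩
      exact ⟨⟨x, h.1 hx⟩, hx, Subtype.ext hxy⟩
  rw [Subgroup.relIndex, Subgroup.relIndex, ← e]
  exact Subgroup.index_map_dvd _ hs

/-- Every element conjugate into a subgroup: the subgroup is everything. -/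
theorem eq_top_of_conj_into {C : Type u} [Group C] [Finite C] (H : Subgroup C)
    (h : ∀ c : C, ∃ x : C, x⁻¹ * c * x ∈ H) : H = ⊤ := by
  classical
  haveI := Fintype.ofFinite C
  haveI := Fintype.ofFinite (C ⧸ H)
  rw [← Subgroup.index_eq_one]
  by_contra hne
  have hb := MulAction.sum_card_fixedBy_eq_card_orbits_mul_card_group C (C ⧸ H)
  have h1 : Fintype.card (Quotient (MulAction.orbitRel C (C ⧸ H))) = 1 := by
    rw [Fintype.card_eq_one_iff]
    refine ⟨Quotient.mk'' ((1 : C) : C ⧸ H), fun t => ?_⟩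
    induction t using Quotient.inductionOn' with
    | h y =>
      obtain ⟨g, rfl⟩ := QuotientGroup.mk_surjective y
      exact Quotient.sound' ⟨g, by
        show g • ((1 : C) : C ⧸ H) = (g : C ⧸ H)
        rw [MulAction.Quotient.smul_coe, smul_eq_mul, mul_one]⟩
  rw [h1, one_mul] at hb
  have hpos : ∀ g : C, 1 ≤ Fintype.card (MulAction.fixedBy (C ⧸ H) g) := by
    intro g
    obtain ⟨x, hx⟩ := h g
    refine Fintype.card_pos_iff.2 ⟨⟨(x : C ⧸ H), ?_⟩⟩
    rw [MulAction.mem_fixedBy]
    rw [MulAction.Quotient.smul_coe, smul_eq_mul, eq_comm, QuotientGroup.eq]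
    simpa [mul_assoc] using hx
  have hlt : ∑ _g : C, 1 < ∑ g : C, Fintype.card (MulAction.fixedBy (C ⧸ H) g) := by
    refine Finset.sum_lt_sum (fun g _ => hpos g) ⟨1, Finset.mem_univ _, ?_⟩
    have h2 : 1 < Nat.card (C ⧸ H) := by
      rw [← Subgroup.index_eq_card]
      have := Subgroup.index_ne_zero_of_finite (H := H)
      omega
    rw [Nat.card_eq_fintype_card] at h2
    refine h2.trans_le (le_of_eq (Fintype.card_congr ?_))
    exact (Equiv.subtypeUnivEquiv fun y : C ⧸ H => one_smul C y).symm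
  rw [hb] at hlt
  simp at hlt

/-- Fixed points of a coprime solvable group conjugate in `L` are conjugate among the fixed points. -/
theorem exists_conj_in_centralizer {X : Type u} [Group X] [Finite X] {L A : Subgroup X}
    (hAL : A ≤ Subgroup.normalizer (L : Set X)) (hcop : (Nat.card A).Coprime (Nat.card L))
    (hsol : Group.IsSolvable A) {c d : X} (hc : c ∈ L ⊓ Subgroup.centralizer (A : Set X))
    (hd : d ∈ L ⊓ Subgroup.centralizer (A : Set X)) {g : X} (hg : g ∈ L) (h : g * c * g⁻¹ = d) :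
    ∃ g' ∈ L ⊓ Subgroup.centralizer (A : Set X), g' * c * g'⁻¹ = d := by
  set N : Subgroup X := L ⊓ Subgroup.centralizer ({c} : Set X) with hN
  have hca : ∀ a ∈ A, a * c = c * a := fun a ha => Subgroup.mem_centralizer_iff.1 hc.2 a ha
  have hda : ∀ a ∈ A, a * d = d * a := fun a ha => Subgroup.mem_centralizer_iff.1 hd.2 a ha
  have hAN : A ≤ Subgroup.normalizer (N : Set X) := by
    refine le_trans (le_inf hAL ?_) Subgroup.inf_normalizer_le_normalizer_inf
    refine le_trans (fun a ha => ?_) Subgroup.le_normalizer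
    exact Subgroup.mem_centralizer_singleton_iff.2 (hca a ha)
  obtain ⟨n, hn, g', hg', he⟩ := Cfsg.Lib.Coprime.exists_mul_centralizer_of_commutator_mem hAL hcop
    (Or.inl hsol) (N := N) inf_le_left hAN (inv_mem hg) fun a ha => by
      refine Subgroup.mem_inf.2 ⟨Cfsg.Lib.Coprime.commutator_le_of_le_normalizer hAL
        (Subgroup.commutator_mem_commutator (inv_mem hg) ha), ?_⟩
      rw [Subgroup.mem_centralizer_singleton_iff, commutatorElement_def, inv_inv]
      have h1 : a⁻¹ * c = c * a⁻¹ := (Commute.inv_left (hca a ha : Commute a c)).eq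
      calc g⁻¹ * a * g * a⁻¹ * c = g⁻¹ * a * (g * c * g⁻¹) * g * a⁻¹ := by
            rw [mul_assoc _ a⁻¹ c, h1]; group
        _ = g⁻¹ * d * a * g * a⁻¹ := by rw [h, mul_assoc g⁻¹ a d, hda a ha]; group
        _ = c * (g⁻¹ * a * g * a⁻¹) := by rw [← h]; group
  refine ⟨g'⁻¹, inv_mem hg', ?_⟩
  have h2 : n * c = c * n := Subgroup.mem_centralizer_singleton_iff.1 hn.2
  have h3 : g = g'⁻¹ * n⁻¹ := by
    rw [← inv_inv g, he, mul_inv_rev]
  rw [← h, h3]
  calc g'⁻¹ * c * g'⁻¹⁻¹ = g'⁻¹ * n⁻¹ * (n * c) * g'⁻¹⁻¹ := by group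
    _ = g'⁻¹ * n⁻¹ * c * (g'⁻¹ * n⁻¹)⁻¹ := by rw [h2]; group

/-- The unique invariant Sylow subgroup. -/
theorem invariant_sylow_unique {p q : ℕ} [Fact p.Prime] [Fact q.Prime] (hpq : p ≠ q) :
    ∀ (c : ℕ) (X : Type u) [Group X] [Finite X] (R P : Subgroup X), Nat.card X = c → R.Normal →
      IsPGroup p P → ¬ p ∣ Nat.card R → R ⊔ P = ⊤ → Cfsg.IsPSolvable q X → DegProp p q X →
      ∀ Q Q' : Subgroup X, SylowIn q Q R → SylowIn q Q' R → P ≤ Subgroup.normalizer (Q : Set X) →
        P ≤ Subgroup.normalizer (Q' : Set X) → Q = Q' := by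
  intro c
  induction c using Nat.strong_induction_on with
  | _ c ih =>
  intro X _ _ R P hc hR hP hpR htop hsolq hprop Q Q' hQ hQ' hPQ hPQ'
  classical
  haveI := hR
  haveI := Fintype.ofFinite X
  have hp : p.Prime := Fact.out
  have hq : q.Prime := Fact.out
  by_cases hR1 : R = ⊥
  · exact (le_bot_iff.1 (hR1 ▸ hQ.1)).trans (le_bot_iff.1 (hR1 ▸ hQ'.1)).symm
  obtain ⟨L, hL, hLR⟩ := Cfsg.Lib.Core.exists_isMinNormal hR hR1
  haveI := hL.1
  haveI := Fintype.ofFinite L
  set π := QuotientGroup.mk' L with hπ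
  have hπs : Function.Surjective π := QuotientGroup.mk'_surjective L
  have hlt : Nat.card (X ⧸ L) < c := by
    rw [← hc, Subgroup.card_eq_card_quotient_mul_card_subgroup L]
    exact lt_mul_right Nat.card_pos (Subgroup.one_lt_card_iff_ne_bot _ |>.2 hL.2.1)
  -- the images of invariant Sylow subgroups coincide
  have huniq : ∀ Q₁ Q₂ : Subgroup X, SylowIn q Q₁ R → SylowIn q Q₂ R →
      P ≤ Subgroup.normalizer (Q₁ : Set X) → P ≤ Subgroup.normalizer (Q₂ : Set X) →
        Q₁ ⊔ L = Q₂ ⊔ L := by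
    intro Q₁ Q₂ h1 h2 hn1 hn2
    have e := ih _ hlt (X ⧸ L) (R.map π) (P.map π) rfl (hR.map π hπs) (hP.map π)
      (fun hd => hpR (hd.trans (Subgroup.card_map_dvd _ _)))
      (by rw [← Subgroup.map_sup, htop, Subgroup.map_top_of_surjective _ hπs])
      (Cfsg.Lib.Core.isPSolvable_quotient hsolq L) (hprop.quotient L) (Q₁.map π) (Q₂.map π)
      (h1.map π) (h2.map π) ((Subgroup.map_mono hn1).trans (Subgroup.le_normalizer_map π))
      ((Subgroup.map_mono hn2).trans (Subgroup.le_normalizer_map π))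
    have e' := congrArg (Subgroup.comap π) e
    rwa [Subgroup.comap_map_eq, Subgroup.comap_map_eq, QuotientGroup.ker_mk'] at e'
  have hQL := huniq Q Q' hQ hQ' hPQ hPQ'
  rcases Cfsg.Lib.Core.minimal_normal_of_isPSolvable hsolq hL with hLq | hLq
  · have hle : ∀ Q₁ : Subgroup X, SylowIn q Q₁ R → L ≤ Q₁ := by
      intro Q₁ h1
      have hsup : IsPGroup q (Q₁ ⊔ L : Subgroup X) := h1.2.1.to_sup_of_normal_right hLq
      obtain ⟨k, hk⟩ := hsup.exists_card_eq
      have hd : Q₁.relIndex (Q₁ ⊔ L) ∣ Q₁.relIndex R :=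
        Dvd.intro _ (Subgroup.relIndex_mul_relIndex Q₁ (Q₁ ⊔ L) R le_sup_left (sup_le h1.1 hLR))
      have hd' : Q₁.relIndex (Q₁ ⊔ L) ∣ q ^ k := hk ▸ Subgroup.relIndex_dvd_card _ _
      obtain ⟨j, -, hj⟩ := (Nat.dvd_prime_pow hq).1 hd'
      have hj0 : j = 0 := by
        by_contra hj0
        exact h1.2.2 ((dvd_pow_self q hj0).trans (hj ▸ hd))
      rw [hj0, pow_zero, Subgroup.relIndex_eq_one] at hj
      exact le_sup_right.trans hj
    rw [← sup_of_le_left (hle Q hQ), hQL, sup_of_le_left (hle Q' hQ')]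
  have hcopPL : (Nat.card P).Coprime (Nat.card L) := by
    obtain ⟨k, hk⟩ := hP.exists_card_eq
    rw [hk]
    exact Nat.Coprime.pow_left _ (hp.coprime_iff_not_dvd.2 fun hd => hpR (hd.trans (Subgroup.card_dvd_of_le hLR)))
  have hcopQL : (Nat.card Q).Coprime (Nat.card L) := by
    obtain ⟨k, hk⟩ := hQ.2.1.exists_card_eq
    rw [hk]
    exact hLq.symm.pow_left _
  have hnL : ∀ A : Subgroup X, A ≤ Subgroup.normalizer (L : Set X) := fun A => by
    rw [Subgroup.normalizer_eq_top_iff.2 hL.1]; exact le_top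
  have hdisj : R ⊓ P = ⊥ := Subgroup.inf_eq_bot_of_coprime (by
    obtain ⟨k, hk⟩ := hP.exists_card_eq
    rw [hk]
    exact (Nat.Coprime.pow_left _ (hp.coprime_iff_not_dvd.2 hpR)).symm)
  have hcardX : Nat.card X = Nat.card R * Nat.card P := by
    rw [← Subgroup.card_top (G := X), ← htop]
    exact Cfsg.Lib.Coprime.card_sup_of_disjoint (by rw [Subgroup.normalizer_eq_top_iff.2 hR]; exact le_top)
      (disjoint_iff.2 hdisj)
  -- invariant characters of `L` are fixed by `Q`
  have hfixQ : ∀ θ : IrrCharacter L, IsInvOn P L (θ : L → ℂ) → Q ≤ inertia L (θ : L → ℂ) := by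
    intro θ hθ
    set T := inertia L (θ : L → ℂ) with hT
    have hPT : P ≤ T := fun s hs => (mem_inertia_iff L).2 fun h => hθ s hs h _ rfl
    have hLT : L ≤ T := le_inertia L θ.2.isClassFunction
    set K := L ⊔ P with hK
    have hKT : K ≤ T := sup_le hLT hPT
    have hLK : L ≤ K := le_sup_left
    letI := Fintype.ofFinite K
    haveI := Fintype.ofFinite (L.subgroupOf K)
    have hKidx : ¬ p ∣ K.index := by
      intro hd
      have h1 := K.card_mul_index
      rw [hcardX, hK, Cfsg.Lib.Coprime.card_sup_of_disjoint (hnL P)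
        (Cfsg.Lib.Coprime.disjoint_of_coprime_card hcopPL.symm)] at h1
      have h2 : Nat.card L * K.index = Nat.card R :=
        Nat.eq_of_mul_eq_mul_right (Nat.card_pos (α := P)) (by rw [← h1, hK]; ring)
      exact hpR (h2 ▸ hd.mul_left _)
    obtain ⟨φ, hφ, hφres⟩ := exists_extension_of_coprime (L.subgroupOf K)
      (isIrrCharacter_resTo L θ.2 hLK) (fun t => by
        funext y
        exact congrFun ((mem_inertia L).1 (hKT t.2)) ⟨((y : K) : X), Subgroup.mem_subgroupOf.1 y.2⟩)
      (by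
        have h1 : (L.subgroupOf K).index = L.relIndex K := rfl
        rw [Nat.card_congr (Subgroup.subgroupOfEquivOfLe hLK).toEquiv, h1, hK, sup_comm,
          Subgroup.relIndex_sup_right]
        exact hcopPL.symm.coprime_dvd_right (Subgroup.relIndex_dvd_card L P))
    have hφL : (fun y : L => φ ⟨y, hLK y.2⟩) = (θ : L → ℂ) := by
      funext y
      exact congrFun hφres ⟨⟨y, hLK y.2⟩, Subgroup.mem_subgroupOf.2 y.2⟩
    have hφ1 : φ 1 = (charDegree (θ : L → ℂ) : ℂ) := by
      rw [← θ.2.apply_one_eq_charDegree, ← congrFun hφL 1]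
      rfl
    obtain ⟨χ, hχc, hχp⟩ := Cfsg.Lib.Block.exists_pPrime_over (p := p) hKidx hφ.isCharacter hφ1
      (fun hd => hpR ((hd.trans (degree_dvd_card θ.2 θ.2.apply_one_eq_charDegree)).trans
        (Subgroup.card_dvd_of_le hLR)))
    have hle := classInner_res_le L hLK (χ.2.isCharacter.comp K.subtype) hφ hχc θ.2
    rw [hφL, classInner_irr_self θ.2, Complex.one_re] at hle
    have hne : classInner (fun x : L => (χ : X → ℂ) x) (θ : L → ℂ) ≠ 0 := by
      intro h0
      change _ ≤ (classInner (fun x : L => (χ : X → ℂ) x) (θ : L → ℂ)).re at hle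
      rw [h0, Complex.zero_re] at hle
      linarith
    have hdeg := clifford_degree L χ.2 θ.2 hne
    obtain ⟨e, he⟩ := (χ.2.isCharacter.comp L.subtype).exists_nat_classInner θ.2.isCharacter
    have he' : classInner (fun x : L => (χ : X → ℂ) x) (θ : L → ℂ) = (e : ℂ) := he
    rw [he', χ.2.apply_one_eq_charDegree, θ.2.apply_one_eq_charDegree, ← Nat.cast_mul,
      ← Nat.cast_mul, Nat.cast_inj] at hdeg
    have hTq : ¬ q ∣ T.index := fun hd => hprop χ hχp (hdeg ▸ (hd.mul_left e).mul_right _)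
    set S := T ⊓ R with hS
    have hPS : P ≤ Subgroup.normalizer (S : Set X) :=
      le_trans (le_inf (hPT.trans Subgroup.le_normalizer)
        (by rw [Subgroup.normalizer_eq_top_iff.2 hR]; exact le_top))
        Subgroup.inf_normalizer_le_normalizer_inf
    have hcopPS : (Nat.card P).Coprime (Nat.card S) := by
      obtain ⟨k, hk⟩ := hP.exists_card_eq
      rw [hk]
      exact Nat.Coprime.pow_left _ (hp.coprime_iff_not_dvd.2 fun hd =>
        hpR (hd.trans (Subgroup.card_dvd_of_le inf_le_right)))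
    haveI := hP.isNilpotent
    obtain ⟨Q₁, hQ₁⟩ := Cfsg.Lib.Coprime.exists_invariant_sylow hPS hcopPS (Or.inl inferInstance) q
    have hQ₁in : SylowIn q ((Q₁ : Subgroup S).map S.subtype) R := by
      refine ⟨(Subgroup.map_subtype_le _).trans inf_le_right, Q₁.2.map _, fun hd => ?_⟩
      rw [← Subgroup.relIndex_mul_relIndex _ S R (Subgroup.map_subtype_le _) inf_le_right] at hd
      rcases hq.dvd_mul.1 hd with h1 | h1
      · refine Sylow.not_dvd_index Q₁ ?_
        have e : (((Q₁ : Subgroup S).map S.subtype).subgroupOf S) = (Q₁ : Subgroup S) :=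
          Subgroup.comap_map_eq_self_of_injective S.subtype_injective _
        rwa [Subgroup.relIndex, e] at h1
      · refine hTq ?_
        suffices e : T.index = S.relIndex R by rwa [e]
        have hTR : T ⊔ R = ⊤ := top_le_iff.1 (htop ▸ sup_le le_sup_right (hPT.trans le_sup_left))
        have e1 : R.relIndex T = R.index := by
          rw [← Subgroup.relIndex_sup_right, hTR, Subgroup.relIndex_top_right]
        have e2 : Nat.card S * S.relIndex R = Nat.card R := by
          rw [← Subgroup.relIndex_bot_left, ← Subgroup.relIndex_bot_left,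
            Subgroup.relIndex_mul_relIndex ⊥ S R bot_le inf_le_right]
        have e3 : Nat.card S * R.index = Nat.card T := by
          rw [← e1, ← Subgroup.inf_relIndex_left, ← hS, ← Subgroup.relIndex_bot_left,
            ← Subgroup.relIndex_bot_left, Subgroup.relIndex_mul_relIndex ⊥ S T bot_le inf_le_left]
        refine Nat.eq_of_mul_eq_mul_left (Nat.card_pos (α := T)) ?_
        rw [T.card_mul_index, ← e3, mul_assoc, mul_comm R.index, ← mul_assoc, e2, R.card_mul_index]
    have e := huniq Q _ hQ hQ₁in hPQ hQ₁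
    exact (le_sup_left.trans e.le).trans
      (sup_le ((Subgroup.map_subtype_le _).trans inf_le_left) hLT)
  -- counting invariant characters and fixed classes
  set S2 := Q ⊔ P with hS2
  have hcardS2 : Nat.card S2 = Nat.card Q * Nat.card P :=
    Cfsg.Lib.Coprime.card_sup_of_disjoint hPQ
      (disjoint_iff.2 (le_bot_iff.1 (hdisj ▸ inf_le_inf_right P hQ.1)))
  have hS2sol : Group.IsSolvable S2 := by
    haveI : (Q.subgroupOf S2).Normal := (Subgroup.normal_subgroupOf_iff_le_normalizer le_sup_left).2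
      (sup_le Subgroup.le_normalizer hPQ)
    refine (Group.isSolvable_iff_subgroup_quotient (Q.subgroupOf S2)).2 ⟨?_, ?_⟩
    · haveI : Group.IsNilpotent (Q.subgroupOf S2) := (hQ.2.1.comap_subtype).isNilpotent
      infer_instance
    · have hpg : IsPGroup p (S2 ⧸ Q.subgroupOf S2) := by
        obtain ⟨k, hk⟩ := hP.exists_card_eq
        refine IsPGroup.of_card (n := k) ?_
        refine Nat.eq_of_mul_eq_mul_right (Nat.card_pos (α := Q.subgroupOf S2)) ?_
        rw [← Subgroup.card_eq_card_quotient_mul_card_subgroup, hcardS2, hk, mul_comm,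
          Nat.card_congr (Subgroup.subgroupOfEquivOfLe (le_sup_left : Q ≤ S2)).toEquiv]
      haveI := hpg.isNilpotent
      infer_instance
  have hPsol : Group.IsSolvable P := by
    haveI := hP.isNilpotent
    infer_instance
  have hcopS2 : (Nat.card S2).Coprime (Nat.card L) := by rw [hcardS2]; exact hcopQL.mul_left hcopPL
  set C := L ⊓ Subgroup.centralizer (P : Set X) with hC
  set C2 := L ⊓ Subgroup.centralizer (S2 : Set X) with hC2
  have hC2C : C2 ≤ C := inf_le_inf le_rfl (Subgroup.centralizer_le (show P ≤ S2 from le_sup_right))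
  have hk : Nat.card (ConjClasses C2) = Nat.card (ConjClasses C) := by
    rw [← card_irr_eq_card_conjClasses, ← card_irr_eq_card_conjClasses,
      ← card_inv_eq_card_irr_centralizer hPsol L (hnL P) hcopPL.symm,
      ← card_inv_eq_card_irr_centralizer hS2sol L (hnL S2) hcopS2.symm]
    refine Nat.card_congr (Equiv.subtypeEquivRight fun θ => ⟨fun h s hs => h s (le_sup_right (a := Q) hs),
      fun h s hs g g' hgg => ?_⟩)
    have hs' : s ∈ inertia L (θ : L → ℂ) :=
      (sup_le (hfixQ θ h) fun t ht => (mem_inertia_iff L).2 fun y => h t ht y _ rfl) hs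
    have := (mem_inertia_iff L).1 hs' g
    rw [← this]
    exact congrArg _ (Subtype.ext hgg)
  have hsurj : ∀ x : C, ∃ y : C, y⁻¹ * x * y ∈ C2.subgroupOf C := by
    let f : ConjClasses C2 → ConjClasses C := ConjClasses.map (Subgroup.inclusion hC2C)
    have hinj : Function.Injective f := by
      intro a b hab
      obtain ⟨a, rfl⟩ := a.exists_rep
      obtain ⟨b, rfl⟩ := b.exists_rep
      change ConjClasses.mk _ = ConjClasses.mk _ at hab
      rw [ConjClasses.mk_eq_mk_iff_isConj, isConj_iff] at hab ⊢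
      obtain ⟨g, hg⟩ := hab
      obtain ⟨g', hg', hgc⟩ := exists_conj_in_centralizer (hnL S2) hcopS2 hS2sol a.2 b.2
        (Subgroup.mem_inf.1 g.2).1 (congrArg Subtype.val hg)
      exact ⟨⟨g', hg'⟩, Subtype.ext hgc⟩
    haveI : Finite (ConjClasses C) := Quotient.finite _
    haveI : Finite (ConjClasses C2) := Quotient.finite _
    have hf := (hinj.bijective_of_nat_card_le hk.ge).2
    intro x
    obtain ⟨a, ha⟩ := hf (ConjClasses.mk x)
    obtain ⟨a, rfl⟩ := a.exists_rep
    change ConjClasses.mk _ = ConjClasses.mk _ at ha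
    rw [ConjClasses.mk_eq_mk_iff_isConj, isConj_iff] at ha
    obtain ⟨y, hy⟩ := ha
    refine ⟨y, Subgroup.mem_subgroupOf.2 ?_⟩
    rw [← hy]
    simp [mul_assoc]
  have hCQ : C ≤ Subgroup.centralizer (Q : Set X) := by
    intro x hx
    have h1 := eq_top_of_conj_into _ hsurj
    have h2 : x ∈ C2 := Subgroup.mem_subgroupOf.1 (h1 ▸ Subgroup.mem_top (⟨x, hx⟩ : C))
    exact Subgroup.centralizer_le (show Q ≤ S2 from le_sup_left) h2.2
  -- conjugate by a fixed point
  haveI := hQ.2.1.isNilpotent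
  obtain ⟨n, hn, hQn⟩ := Cfsg.Lib.Coprime.exists_conj_of_coprime L Q Q' (hnL Q) hcopQL
    (Or.inl inferInstance) (by rw [sup_comm, hQL]; exact le_sup_left)
    (hQ'.card_eq.trans hQ.card_eq.symm)
  obtain ⟨x, hx, hQx⟩ := Cfsg.Lib.Coprime.exists_centralizer_conj (hnL P) hcopPL
    (Or.inl hPsol) hPQ hPQ' hn hQn
  rw [hQx]
  refine (Subgroup.mem_normalizer_iff_map_conj_eq.1 ?_).symm
  exact Subgroup.centralizer_le_normalizer _ (hCQ hx)

end Cfsg.Lib.Char
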