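import Cfsg.Agent.Lib.Char.Clifford2
import Cfsg.Agent.Lib.Char.Linear
import Cfsg.Agent.Lib.Char.Quotient
import Cfsg.Agent.Lib.Block.PPrimeKernel
import Cfsg.Agent.Lib.Core.Fitting
import Cfsg.Agent.Lib.Core.PSolvable
import Cfsg.Agent.Lib.Coprime.Action
import Cfsg.Agent.Lib.PGroup.Basic

/-!
# A character of larger degree and smaller kernel
-/

set_option autoImplicit false
set_option linter.unusedSectionVars false
set_option linter.style.haveILetI false
set_option maxHeartbeats 1600000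

namespace Cfsg.Lib.Char

open Cfsg
open scoped ComplexConjugate

universe u

section RegularOrbit

variable {X A : Type u} [CommGroup X] [Finite X] [CommGroup A] [Finite A]

/-- A coprime fixed point of the image of `u ↦ a u / u` is trivial. -/
theorem eq_one_of_fixed_image (φ : A →* MulAut X) (hcop : (Nat.card A).Coprime (Nat.card X))
    (a : A) (u : X) (h : φ a (φ a u / u) = φ a u / u) : φ a u = u := by
  have key : ∀ i : ℕ, φ (a ^ i) u = u * (φ a u / u) ^ i := by
    intro i
    induction i with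
    | zero => simp
    | succ i ih =>
      rw [pow_succ', map_mul, MulAut.mul_apply, ih, map_mul, map_pow, h, pow_succ',
        ← mul_assoc u, mul_div_cancel]
  have h1 := key (orderOf a)
  rw [pow_orderOf_eq_one, map_one, MulAut.one_apply, left_eq_mul] at h1
  have h2 : orderOf (φ a u / u) ∣ Nat.gcd (Nat.card A) (Nat.card X) :=
    Nat.dvd_gcd ((orderOf_dvd_of_pow_eq_one h1).trans (orderOf_dvd_natCard a))
      (orderOf_dvd_natCard _)
  rw [hcop.gcd_eq_one, Nat.dvd_one, orderOf_eq_one_iff, div_eq_one] at h2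
  exact h2

/-- A faithful abelian group of coprime operators has a regular orbit. -/
theorem exists_regular_orbit (φ : A →* MulAut X) (hinj : ∀ a, (∀ x, φ a x = x) → a = 1)
    (hcop : (Nat.card A).Coprime (Nat.card X)) : ∃ x : X, ∀ a : A, φ a x = x → a = 1 := by
  classical
  haveI := Fintype.ofFinite A
  obtain ⟨v, hv⟩ := Finite.exists_min fun x : X => Nat.card {a : A // φ a x = x}
  refine ⟨v, fun a ha => ?_⟩
  by_contra hne
  obtain ⟨u, hu⟩ : ∃ u, φ a u ≠ u := by
    by_contra h
    push Not at h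
    exact hne (hinj a h)
  have hcomm : ∀ (b c : A) (z : X), φ b (φ c z) = φ c (φ b z) := fun b c z => by
    rw [← MulAut.mul_apply, ← map_mul, mul_comm, map_mul, MulAut.mul_apply]
  have hbv : ∀ b : A, φ b (v * (φ a u / u)) = v * (φ a u / u) → φ b v = v := by
    intro b hb
    rw [map_mul] at hb
    have e : φ b v / v = φ a (u / φ b u) / (u / φ b u) := by
      have h2 : φ b v / v = (φ a u / u) / φ b (φ a u / u) :=
        div_eq_div_iff_mul_eq_mul.2 (hb.trans (mul_comm _ _))
      rw [h2, map_div (φ b), hcomm b a u, map_div (φ a), div_div_div_comm]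
    have hfix : φ a (φ b v / v) = φ b v / v := by
      rw [map_div (φ a), hcomm a b, ha]
    rw [e] at hfix
    have h3 := eq_one_of_fixed_image φ hcop a _ hfix
    rw [← div_eq_one, e, div_eq_one]
    exact h3
  have hlt : Nat.card {b : A // φ b (v * (φ a u / u)) = v * (φ a u / u)} <
      Nat.card {b : A // φ b v = v} := by
    rw [Nat.card_eq_fintype_card (α := {b : A // φ b v = v})]
    rw [Nat.card_eq_fintype_card]
    refine Fintype.card_lt_of_injective_of_notMem
      (fun b => ⟨b.1, hbv b.1 b.2⟩) (fun b c h => Subtype.ext (congrArg (fun z => z.1) h))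
      (b := ⟨a, ha⟩) ?_
    rintro ⟨b, hb⟩
    have : b.1 = a := congrArg Subtype.val hb
    have h4 := b.2
    rw [this, map_mul, ha, mul_right_inj] at h4
    exact hu (eq_one_of_fixed_image φ hcop a u h4)
  exact absurd (hv _) (not_le.2 hlt)

end RegularOrbit

variable {H : Type u} [Group H] [Fintype H]

/-- A character over a character with trivial inertia group vanishes off the normal subgroup. -/
theorem eq_zero_of_trivial_inertia (V : Subgroup H) [V.Normal] [Fintype V] {θ : V → ℂ}
    (hθ : IsIrrCharacter V θ) (hI : inertia V θ = V) {η : H → ℂ} (hη : IsIrrCharacter H η)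
    (hc : classInner (fun v : V => η v) θ ≠ 0) {h : H} (hh : h ∉ V) : η h = 0 := by
  obtain ⟨ξ, -, -, rfl, -⟩ := clifford_exists V hθ le_rfl hI.symm hη hc
  simp only [indFun]
  rw [Finset.sum_eq_zero, mul_zero]
  intro x _
  refine extendByZero_of_notMem V ξ fun hx => hh ?_
  have := (inferInstance : V.Normal).conj_mem _ hx x
  rwa [show x * (x⁻¹ * h * x) * x⁻¹ = h by group] at this

/-- Some irreducible constituent of a character induced from a subgroup is nontrivial on a
subgroup whose normal closure leaves that subgroup. -/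
theorem exists_constituent_not_trivial (N : Subgroup H) [Fintype N] {θ : N → ℂ}
    (hθ : IsIrrCharacter N θ) {x : H} (hx : x ∉ N) :
    ∃ ψ : IrrCharacter H, classInner (fun n : N => (ψ : H → ℂ) n) θ ≠ 0 ∧
      (ψ : H → ℂ) x ≠ (ψ : H → ℂ) 1 := by
  classical
  by_contra hcon
  push Not at hcon
  have hf : IsCharacter H (indFun N θ) := isCharacter_indFun N hθ.isCharacter
  have heq : indFun N θ x = indFun N θ 1 := by
    have he := eq_sum_classInner hf.isClassFunction
    have hx' := congrFun he x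
    have h1' := congrFun he 1
    simp only [Finset.sum_apply, Pi.smul_apply, smul_eq_mul] at hx' h1'
    rw [hx', h1']
    refine Finset.sum_congr rfl fun ψ _ => ?_
    by_cases h0 : classInner (indFun N θ) (ψ : H → ℂ) = 0
    · rw [h0, zero_mul, zero_mul]
    · rw [hcon ψ fun h => h0 (by
        rw [classInner_indFun N θ ψ.2.isClassFunction, ← classInner_conj_symm, h, map_zero])]
  obtain ⟨d, hd⟩ := hθ.isCharacter.exists_degree
  have hd0 : 0 < d := Nat.pos_of_ne_zero fun h0 => hθ.apply_one_ne_zero (by rw [hd, h0, Nat.cast_zero])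
  have hbound : ∀ y : H, ‖extendByZero N θ y‖ ≤ d := by
    intro y
    by_cases hy : y ∈ N
    · rw [extendByZero_of_mem N θ hy]
      have := hθ.isCharacter.norm_le ⟨y, hy⟩
      rwa [hd, Complex.natCast_re] at this
    · rw [extendByZero_of_notMem N θ hy, norm_zero]; exact Nat.cast_nonneg d
  have hlt : ‖indFun N θ x‖ < ‖indFun N θ 1‖ := by
    have h1 : indFun N θ 1 = (Nat.card N : ℂ)⁻¹ * ((Fintype.card H * d : ℕ) : ℂ) := by
      simp only [indFun, mul_one, inv_mul_cancel]
      rw [extendByZero_of_mem N θ N.one_mem, Finset.sum_const, Finset.card_univ, nsmul_eq_mul,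
        Nat.cast_mul, show (⟨1, N.one_mem⟩ : N) = 1 from rfl, hd]
    rw [h1]
    simp only [indFun]
    rw [norm_mul, norm_mul]
    refine mul_lt_mul_of_pos_left ?_ (norm_pos_iff.2 (inv_ne_zero card_cast_ne_zero))
    rw [Complex.norm_natCast]
    refine lt_of_le_of_lt (norm_sum_le _ _) ?_
    rw [← Finset.add_sum_erase _ _ (Finset.mem_univ (1 : H))]
    rw [show (1 : H)⁻¹ * x * 1 = x by group, extendByZero_of_notMem N θ hx, norm_zero, zero_add]
    refine lt_of_le_of_lt (Finset.sum_le_card_nsmul _ _ _ fun y _ => hbound _) ?_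
    rw [Finset.card_erase_of_mem (Finset.mem_univ _), Finset.card_univ, nsmul_eq_mul, ← Nat.cast_mul]
    exact Nat.cast_lt.2 (Nat.mul_lt_mul_of_pos_right (Nat.sub_lt Fintype.card_pos one_pos) hd0)
  rw [heq] at hlt
  exact lt_irrefl _ hlt

/-- A constituent over an irreducible restriction of the same degree restricts to it. -/
theorem res_eq_of_degree_largerDegree (N : Subgroup H) [Fintype N] {θ : N → ℂ} (hθ : IsIrrCharacter N θ)
    {ψ : H → ℂ} (hψ : IsCharacter H ψ) (hc : classInner (fun n : N => ψ n) θ ≠ 0)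
    (hd : ψ 1 = θ 1) : (fun n : N => ψ n) = θ :=
  eq_of_constituent_of_degree (hψ.comp N.subtype) hθ hc (by
    show ψ ((1 : N) : H) = θ 1
    rw [Subgroup.coe_one, hd])

theorem degree_le_of_over (N : Subgroup H) [Fintype N] {θ : N → ℂ} (hθ : IsIrrCharacter N θ)
    {ψ : H → ℂ} (hψ : IsIrrCharacter H ψ) (hc : classInner (fun n : N => ψ n) θ ≠ 0) :
    charDegree θ ≤ charDegree ψ := by
  obtain ⟨a, ha⟩ := hθ.isCharacter.exists_degree
  obtain ⟨b, hb⟩ := hψ.isCharacter.exists_degree
  have h := degree_le_of_constituent hθ (hψ.isCharacter.comp N.subtype) hc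
  change (θ 1).re ≤ (ψ ((1 : N) : H)).re at h
  rw [Subgroup.coe_one, ha, hb, Complex.natCast_re, Complex.natCast_re, Nat.cast_le] at h
  rwa [Cfsg.Lib.Block.charDegree_eq_of_apply_one ha, Cfsg.Lib.Block.charDegree_eq_of_apply_one hb]

/-- The complemented case. -/
theorem exists_larger_of_complement {V N A : Subgroup H} [V.Normal] [Fintype V] [Fintype N]
    (hAN : A ≤ N) (hNA : N ≤ Subgroup.normalizer (A : Set H)) (hA : A ≠ ⊥)
    (hAab : ∀ a ∈ A, ∀ b ∈ A, a * b = b * a) (hVab : ∀ a ∈ V, ∀ b ∈ V, a * b = b * a)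
    (hVN : V ⊔ N = ⊤) (hdis : V ⊓ N = ⊥) (hcop : (Nat.card A).Coprime (Nat.card V))
    (hfaith : ∀ a ∈ A, (∀ v ∈ V, a * v = v * a) → a = 1)
    (hD : ∀ W : Subgroup H, W.Normal → W ≤ V → W ≠ ⊥ → ∀ v ∈ V, ∀ a ∈ A, v * a * v⁻¹ * a⁻¹ ∈ W)
    (χ : IrrCharacter H) (hker : ∀ h : H, h ∈ V ↔ (χ : H → ℂ) h = (χ : H → ℂ) 1) :
    ∃ ψ : IrrCharacter H, charDegree (χ : H → ℂ) < charDegree (ψ : H → ℂ) ∧
      ∃ L : Subgroup H, (∀ g : H, g ∈ L ↔ (ψ : H → ℂ) g = (ψ : H → ℂ) 1) ∧ L < V := by
  classical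
  have hdecomp : ∀ g : H, ∃ v ∈ V, ∃ n ∈ N, v * n = g := fun g => by
    have hg : g ∈ ((V ⊔ N : Subgroup H) : Set H) := by rw [hVN]; trivial
    rw [Subgroup.normal_mul] at hg
    exact hg
  -- the action of `A` on the linear characters of `V`
  letI : CommGroup V :=
    { (inferInstance : Group V) with mul_comm := fun a b => Subtype.ext (hVab _ a.2 _ b.2) }
  letI : CommGroup A :=
    { (inferInstance : Group A) with mul_comm := fun a b => Subtype.ext (hAab _ a.2 _ b.2) }
  let φ : A →* MulAut (V →* ℂˣ) :=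
    { toFun := fun a => MulEquiv.monoidHomCongrLeft (MulAut.conjNormal (a : H))
      map_one' := MulEquiv.ext fun μ => MonoidHom.ext fun v => congrArg μ (Subtype.ext (by
        simp only [MulEquiv.coe_toMonoidHom, MulAut.conjNormal_symm_apply, Subgroup.coe_one]
        group))
      map_mul' := fun a b => MulEquiv.ext fun μ => MonoidHom.ext fun v => congrArg μ (Subtype.ext (by
        simp only [MulEquiv.coe_toMonoidHom, MulAut.conjNormal_symm_apply, Subgroup.coe_mul]
        group)) }
  have hφ : ∀ (a : A) (μ : V →* ℂˣ) (v : V),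
      φ a μ v = μ ((MulAut.conjNormal (a : H)).symm v) := fun a μ v => rfl
  have hcopX : (Nat.card A).Coprime (Nat.card (V →* ℂˣ)) := by
    rwa [card_monoidHom_units]
  obtain ⟨l, hl⟩ := exists_regular_orbit φ (fun a ha => Subtype.ext (hfaith a a.2 fun v hv => by
    by_contra hne
    obtain ⟨μ, hμ⟩ := CommGroup.exists_apply_ne_one_of_hasEnoughRootsOfUnity V ℂ
      (a := (MulAut.conjNormal (a : H)).symm ⟨v, hv⟩ * (⟨v, hv⟩ : V)⁻¹) (fun h => hne (by
        have := congrArg Subtype.val (mul_inv_eq_one.1 h)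
        rw [MulAut.conjNormal_symm_apply] at this
        calc (a : H) * v = (a : H) * ((a : H)⁻¹ * v * (a : H)) := by rw [this]
          _ = v * (a : H) := by group))
    refine hμ ?_
    rw [map_mul, map_inv, mul_inv_eq_one]
    exact (hφ a μ ⟨v, hv⟩).symm.trans (DFunLike.congr_fun (ha μ) _))) hcopX
  set θV : IrrCharacter V := ⟨fun v => (l v : ℂ), isIrrCharacter_linear l⟩ with hθV
  -- the product `V A`
  set W : Subgroup H := V ⊔ A with hW
  have hAW : A ≤ W := le_sup_right
  have hVW : V ≤ W := le_sup_left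
  haveI hWn : W.Normal := by
    rw [← Subgroup.normalizer_eq_top_iff, eq_top_iff, ← hVN]
    refine sup_le (hVW.trans Subgroup.le_normalizer) fun n hn => ?_
    rw [Subgroup.mem_normalizer_iff_map_conj_eq]
    show W.map (MulAut.conj n).toMonoidHom = W
    rw [hW, Subgroup.map_sup, Coprime.map_conj_eq_self (hNA hn),
      Coprime.map_conj_eq_self (show n ∈ Subgroup.normalizer (V : Set H) by
        rw [Subgroup.normalizer_eq_top]; trivial)]
  haveI := Fintype.ofFinite W
  haveI := Fintype.ofFinite (V.subgroupOf W)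
  have hdecW : ∀ w ∈ W, ∃ v ∈ V, ∃ a ∈ A, v * a = w := fun w hw => by
    have hw' : w ∈ ((V ⊔ A : Subgroup H) : Set H) := hw
    rwa [Subgroup.normal_mul] at hw'
  have hIW : inertia (V.subgroupOf W) (resTo V (θV : V → ℂ) W) = V.subgroupOf W := by
    ext w
    refine ⟨fun hw => ?_, fun hw => le_inertia _
      (isIrrCharacter_resTo V θV.2 hVW).isClassFunction hw⟩
    obtain ⟨v, hv, a, ha, he⟩ := hdecW _ w.2
    suffices a = 1 by
      rw [Subgroup.mem_subgroupOf, ← he, this, mul_one]; exact hv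
    refine congrArg Subtype.val (hl ⟨a, ha⟩⁻¹ (MonoidHom.ext fun x => ?_) |> inv_eq_one.1 :)
    rw [hφ]
    have h1 := congrFun ((mem_inertia (V.subgroupOf W)).1 hw)
      ⟨⟨x, hVW x.2⟩, Subgroup.mem_subgroupOf.2 x.2⟩
    simp only [conjTwist_apply, resTo] at h1
    refine Units.ext (Eq.trans ?_ h1)
    show (l _ : ℂ) = (l _ : ℂ)
    congr 2
    refine Subtype.ext ?_
    simp only [MulAut.conjNormal_symm_apply, Subgroup.coe_mul, InvMemClass.coe_inv, inv_inv]
    rw [← he]
    have hx' : a * (x : H) * a⁻¹ ∈ V := (inferInstance : V.Normal).conj_mem _ x.2 a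
    have hc' := hVab v hv _ hx'
    calc a * (x : H) * a⁻¹ = v * (a * (x : H) * a⁻¹) * v⁻¹ := by rw [hc', mul_inv_cancel_right]
      _ = v * a * (x : H) * (v * a)⁻¹ := by group
  have hvan : ∀ ψ : IrrCharacter H, classInner (fun v : V => (ψ : H → ℂ) v) (θV : V → ℂ) ≠ 0 →
      ∀ w ∈ W, w ∉ V → (ψ : H → ℂ) w = 0 := by
    intro ψ hψ w hw hwV
    have hc2 : classInner (fun x : V.subgroupOf W => (fun t : W => (ψ : H → ℂ) t) x)
        (resTo V (θV : V → ℂ) W) ≠ 0 := by
      rw [classInner_resTo V (θV : V → ℂ) hVW (fun t : W => (ψ : H → ℂ) t)]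
      exact hψ
    obtain ⟨η, hη1, hη2⟩ := exists_constituent_of_res (V.subgroupOf W)
      (ψ.2.isCharacter.comp W.subtype) hc2
    have hz : ∀ t : W, (t : H) ∉ V → (η : W → ℂ) t = 0 := fun t ht =>
      eq_zero_of_trivial_inertia (V.subgroupOf W) (isIrrCharacter_resTo V θV.2 hVW) hIW η.2 hη2
        (fun hm => ht (Subgroup.mem_subgroupOf.1 hm))
    have h2 := congrFun (clifford_res W ψ.2 η.2 hη1) ⟨w, hw⟩
    simp only [Pi.smul_apply, Finset.sum_apply, smul_eq_mul] at h2
    rw [h2, Finset.sum_eq_zero, mul_zero]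
    intro f hf
    obtain ⟨g, rfl⟩ := (mem_twistOrbit W).1 hf
    refine hz _ fun hm => hwV ?_
    have := (inferInstance : V.Normal).conj_mem _ hm g⁻¹
    simpa [mul_assoc] using this
  -- the restriction to the complement
  have hθN : IsIrrCharacter N (fun n : N => (χ : H → ℂ) n) := by
    obtain ⟨χ', hχ', he⟩ := exists_deflate_irr V χ.2 (fun v hv => (hker v).1 hv)
    have hs : Function.Surjective ((QuotientGroup.mk' V).comp N.subtype) := fun y => by
      obtain ⟨g, rfl⟩ := QuotientGroup.mk_surjective y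
      obtain ⟨v, hv, n, hn, rfl⟩ := hdecomp g
      refine ⟨⟨n, hn⟩, ?_⟩
      show (n : H ⧸ V) = _
      rw [QuotientGroup.mk_mul, (QuotientGroup.eq_one_iff v).2 hv, one_mul]
    have h1 := hχ'.comp_surjective ((QuotientGroup.mk' V).comp N.subtype) hs
    have e : (fun n : N => (χ : H → ℂ) n) = fun n : N => χ' (((QuotientGroup.mk' V).comp N.subtype) n) :=
      funext fun n => (he (n : H)).symm
    rw [e]; exact h1
  set θ : N → ℂ := fun n : N => (χ : H → ℂ) n with hθ
  have hθd : charDegree θ = charDegree (χ : H → ℂ) := by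
    refine Cfsg.Lib.Block.charDegree_eq_of_apply_one ?_
    show (χ : H → ℂ) ((1 : N) : H) = _
    rw [Subgroup.coe_one, Cfsg.Lib.Block.apply_one_eq_charDegree]
  -- the induced character contains `θ` and the regular character of `V`
  have hindV : classInner (fun v : V => indFun N θ v) (θV : V → ℂ) ≠ 0 := by
    rw [classInner, Finset.sum_eq_single (1 : V)]
    · refine mul_ne_zero (inv_ne_zero card_cast_ne_zero) (mul_ne_zero ?_ ?_)
      · show indFun N θ ((1 : V) : H) ≠ 0
        rw [Subgroup.coe_one, indFun_apply_one]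
        exact mul_ne_zero (Nat.cast_ne_zero.2 Subgroup.index_ne_zero_of_finite) hθN.apply_one_ne_zero
      · simp [hθV]
    · intro v _ hv
      rw [show indFun N θ (v : H) = 0 from ?_, zero_mul]
      simp only [indFun]
      rw [Finset.sum_eq_zero, mul_zero]
      intro g _
      refine extendByZero_of_notMem N θ fun hm => hv (Subtype.ext ?_)
      have h1 : g⁻¹ * (v : H) * g ∈ V := by
        simpa using (inferInstance : V.Normal).conj_mem _ v.2 g⁻¹
      have h2 : g⁻¹ * (v : H) * g = 1 := Subgroup.mem_bot.1 (hdis ▸ ⟨h1, hm⟩)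
      have h3 : (v : H) = g * (g⁻¹ * (v : H) * g) * g⁻¹ := by group
      rw [h2] at h3
      simpa using h3
    · simp
  obtain ⟨ψ, hψ1, hψ2⟩ := exists_constituent_of_res V (isCharacter_indFun N hθN.isCharacter) hindV
  have hψθ : classInner (fun n : N => (ψ : H → ℂ) n) θ ≠ 0 := fun h => hψ1 (by
    rw [classInner_indFun N θ ψ.2.isClassFunction, ← classInner_conj_symm, h, map_zero])
  refine ⟨ψ, lt_of_le_of_ne (hθd ▸ degree_le_of_over N hθN ψ.2 hψθ) fun hdeg => ?_, ?_⟩
  · -- equal degree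
    have heq := res_eq_of_degree_largerDegree N hθN ψ.2.isCharacter hψθ (by
      rw [Cfsg.Lib.Block.apply_one_eq_charDegree ψ, ← hdeg, ← hθd]
      exact (Cfsg.Lib.Block.apply_one_eq_charDegree (⟨θ, hθN⟩ : IrrCharacter N)).symm)
    haveI hAn : (A.subgroupOf N).Normal := (Subgroup.normal_subgroupOf_iff_le_normalizer hAN).2 hNA
    set A' : Subgroup N := A.subgroupOf N with hA'
    haveI := Fintype.ofFinite A'
    have hsum : classInner (fun a : A' => θ a) (fun _ => (1 : ℂ)) ≠ 0 := by
      rw [classInner, Finset.sum_eq_single (1 : A')]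
      · rw [map_one, mul_one]
        exact mul_ne_zero (inv_ne_zero card_cast_ne_zero) hθN.apply_one_ne_zero
      · intro a _ ha
        rw [show θ (a : N) = 0 from ?_, zero_mul]
        rw [← congrFun heq (a : N)]
        refine hvan ψ hψ2 _ (hAW a.2) fun hm => ha (Subtype.ext (Subtype.ext ?_))
        exact Subgroup.mem_bot.1 (hdis ▸ ⟨hm, (a : N).2⟩)
      · simp
    have htriv := clifford_invariant A' hθN (isIrrCharacter_one (G := A')) (fun g => rfl) hsum
    obtain ⟨a, ha, hne⟩ : ∃ a ∈ A, a ≠ 1 := by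
      by_contra h
      push Not at h
      exact hA ((Subgroup.eq_bot_iff_forall A).2 h)
    have h2 := congrFun htriv ⟨⟨a, hAN ha⟩, ha⟩
    have h3 := congrFun htriv 1
    simp only [Pi.smul_apply] at h2 h3
    rw [← h3] at h2
    have haV : a ∈ V := (hker a).2 h2
    exact hne (Subgroup.mem_bot.1 (hdis ▸ ⟨haV, hAN ha⟩))
  · -- the kernel
    refine ⟨charKer ψ.2.isCharacter, fun g => Iff.rfl, ?_⟩
    set L := charKer ψ.2.isCharacter with hL
    haveI : L.Normal := charKer_normal ψ.2.isCharacter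
    have hlam : ∃ v : V, ∃ a ∈ A, l ((MulAut.conjNormal a).symm v) ≠ l v := by
      obtain ⟨a, ha, hne⟩ : ∃ a ∈ A, a ≠ 1 := by
        by_contra h
        push Not at h
        exact hA ((Subgroup.eq_bot_iff_forall A).2 h)
      by_contra h
      push Not at h
      exact hne (congrArg Subtype.val (hl ⟨a, ha⟩ (MonoidHom.ext fun v => h v a ha)))
    have hLV : L ⊓ V = ⊥ := by
      by_contra hne
      obtain ⟨⟨v, hv⟩, a, ha, hne'⟩ := hlam
      refine hne' ?_
      have hm := hD (L ⊓ V) inferInstance inf_le_right hne _ hv _ (inv_mem ha)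
      set c : V := ⟨v * a⁻¹ * v⁻¹ * a⁻¹⁻¹, hm.2⟩ with hc
      have hc1 : (l c : ℂ) = 1 := by
        have h1 := Cfsg.Lib.Block.constituent_apply_eq (ψ.2.isCharacter.comp V.subtype) θV.2
          hψ2 (g := c) (by
            show (ψ : H → ℂ) (c : H) = (ψ : H → ℂ) ((1 : V) : H)
            rw [Subgroup.coe_one]; exact hm.1)
        simpa [hθV] using h1
      have hprod : c * (MulAut.conjNormal (a : H)).symm ⟨v, hv⟩⁻¹⁻¹ * 1 =
          c * (MulAut.conjNormal (a : H)).symm ⟨v, hv⟩ := by rw [inv_inv, mul_one]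
      have he : (⟨v, hv⟩ : V) = c * (MulAut.conjNormal (a : H)).symm ⟨v, hv⟩ := by
        refine Subtype.ext ?_
        rw [Subgroup.coe_mul, MulAut.conjNormal_symm_apply]
        show v = v * a⁻¹ * v⁻¹ * a⁻¹⁻¹ * (a⁻¹ * v * a)
        group
      conv_rhs => rw [he, map_mul, show l c = 1 from Units.ext hc1, one_mul]
    refine lt_of_le_of_ne (fun g hg => ?_) fun e => ?_
    · obtain ⟨v, hv, n, hn, rfl⟩ := hdecomp g
      -- `n` centralises `V`
      have hcV : ∀ u ∈ V, n * u = u * n := by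
        intro u hu
        have h1 : u * (v * n) * u⁻¹ * (v * n)⁻¹ ∈ L ⊓ V :=
          Subgroup.mem_inf.2 ⟨L.mul_mem ((inferInstance : L.Normal).conj_mem _ hg u) (L.inv_mem hg), by
            rw [show u * (v * n) * u⁻¹ * (v * n)⁻¹ =
              u * ((v * n) * u⁻¹ * (v * n)⁻¹) by group]
            exact mul_mem hu ((inferInstance : V.Normal).conj_mem _ (inv_mem hu) _)⟩
        rw [hLV, Subgroup.mem_bot] at h1
        have h2 : u * (v * n) = v * n * u := by
          calc u * (v * n) = (u * (v * n) * u⁻¹ * (v * n)⁻¹) * (v * n) * u := by group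
            _ = v * n * u := by rw [h1, one_mul]
        rw [← mul_assoc, hVab u hu v hv, mul_assoc, mul_assoc] at h2
        exact (mul_left_cancel h2).symm
      have hva : ∀ a ∈ A, a * v = v * a := by
        intro a ha
        set k := a * n * a⁻¹ * n⁻¹ with hk
        have hkA : k ∈ A := by
          rw [hk, show a * n * a⁻¹ * n⁻¹ = a * (n * a⁻¹ * n⁻¹) by group]
          exact mul_mem ha ((Subgroup.mem_normalizer_iff.1 (hNA hn) a⁻¹).1 (inv_mem ha))
        have hl' : a * (v * n) * a⁻¹ * (v * n)⁻¹ ∈ L :=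
          mul_mem ((inferInstance : L.Normal).conj_mem _ hg a) (inv_mem hg)
        have hw : a * (v * n) * a⁻¹ * (v * n)⁻¹ = (a * v * a⁻¹) * k * v⁻¹ := by rw [hk]; group
        have hW' : a * (v * n) * a⁻¹ * (v * n)⁻¹ ∈ W := by
          rw [hw]
          exact mul_mem (mul_mem (hVW ((inferInstance : V.Normal).conj_mem _ hv a)) (hAW hkA))
            (inv_mem (hVW hv))
        have hV' : a * (v * n) * a⁻¹ * (v * n)⁻¹ ∈ V := by
          by_contra hV'
          have := hvan ψ hψ2 _ hW' hV'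
          rw [(mem_charKer ψ.2.isCharacter).1 hl'] at this
          exact ψ.2.apply_one_ne_zero this
        have h1 : a * (v * n) * a⁻¹ * (v * n)⁻¹ = 1 := Subgroup.mem_bot.1 (hLV ▸ ⟨hl', hV'⟩)
        have hk1 : k = 1 := by
          have hkV : k ∈ V := by
            rw [hw] at hV'
            rw [show k = (a * v * a⁻¹)⁻¹ * ((a * v * a⁻¹) * k * v⁻¹) * v by group]
            exact mul_mem (mul_mem (inv_mem ((inferInstance : V.Normal).conj_mem _ hv a)) hV') hv
          exact Subgroup.mem_bot.1 (hdis ▸ ⟨hkV, hAN hkA⟩)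
        rw [hw, hk1, mul_one, mul_inv_eq_one, mul_inv_eq_iff_eq_mul] at h1
        exact h1
      have hv1 : v = 1 := by
        -- otherwise the fixed points contain all commutators
        by_contra hv1
        set C : Subgroup H := V ⊓ Subgroup.centralizer (A : Set H) with hC
        have hCn : C.Normal := by
          rw [← Subgroup.normalizer_eq_top_iff, eq_top_iff, ← hVN]
          refine sup_le (fun x hx => ?_) fun x hx => ?_
          · rw [Subgroup.mem_normalizer_iff]
            intro y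
            constructor
            · intro hy; rwa [hVab x hx y hy.1, mul_inv_cancel_right]
            · intro hy
              have hyV : y ∈ V := by
                have := mul_mem (mul_mem (inv_mem hx) hy.1) hx
                simpa [mul_assoc] using this
              rwa [hVab x hx y hyV, mul_inv_cancel_right] at hy
          · refine Subgroup.inf_normalizer_le_normalizer_inf (Subgroup.mem_inf.2 ⟨?_, ?_⟩)
            · rw [Subgroup.normalizer_eq_top]; trivial
            · rw [Subgroup.mem_normalizer_iff_map_conj_eq]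
              refine Subgroup.eq_of_le_of_card_ge ?_ (le_of_eq ?_)
              · rintro _ ⟨y, hy, rfl⟩
                rw [Subgroup.mem_centralizer_iff]
                intro a ha
                have h' := (Subgroup.mem_normalizer_iff.1 (inv_mem (hNA hx)) a).1 ha
                rw [inv_inv] at h'
                have h2 := Subgroup.mem_centralizer_iff.1 hy _ h'
                show a * (x * y * x⁻¹) = x * y * x⁻¹ * a
                calc a * (x * y * x⁻¹) = x * ((x⁻¹ * a * x) * y) * x⁻¹ := by group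
                  _ = x * (y * (x⁻¹ * a * x)) * x⁻¹ := by rw [h2]
                  _ = x * y * x⁻¹ * a := by group
              · exact (Subgroup.card_map_of_injective (MulAut.conj x).injective).symm
        have hCne : C ≠ ⊥ := fun e => hv1 (Subgroup.mem_bot.1 (e ▸
          ⟨hv, Subgroup.mem_centralizer_iff.2 fun a ha => hva a ha⟩))
        obtain ⟨a, ha, hne⟩ : ∃ a ∈ A, a ≠ 1 := by
          by_contra h
          push Not at h
          exact hA ((Subgroup.eq_bot_iff_forall A).2 h)
        refine hne (hfaith a ha fun u hu => ?_)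
        set c := u * a * u⁻¹ * a⁻¹ with hc
        have hcC : c ∈ C := hD C hCn inf_le_left hCne u hu a ha
        have hac := Subgroup.mem_centralizer_iff.1 hcC.2 a ha
        have hpow : ∀ i : ℕ, u * a ^ i * u⁻¹ = c ^ i * a ^ i := by
          intro i
          induction i with
          | zero => simp
          | succ i ih =>
            rw [pow_succ a i, show u * (a ^ i * a) * u⁻¹ = (u * a ^ i * u⁻¹) * (u * a * u⁻¹) by group,
              ih, show u * a * u⁻¹ = c * a by rw [hc]; group, mul_assoc (c ^ i),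
              ← mul_assoc (a ^ i), (show Commute (a ^ i) c from (show Commute a c from hac).pow_left i).eq,
              mul_assoc c, ← mul_assoc (c ^ i), ← pow_succ]
        have h3 := hpow (orderOf a)
        rw [pow_orderOf_eq_one, mul_one, mul_one, mul_inv_cancel] at h3
        have h4 : orderOf c ∣ Nat.gcd (Nat.card A) (Nat.card V) :=
          Nat.dvd_gcd ((orderOf_dvd_of_pow_eq_one h3.symm).trans
              ((Subgroup.orderOf_mk a ha) ▸ orderOf_dvd_natCard (⟨a, ha⟩ : A)))
            ((Subgroup.orderOf_mk c hcC.1) ▸ orderOf_dvd_natCard (⟨c, hcC.1⟩ : V))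
        rw [hcop.gcd_eq_one, Nat.dvd_one, orderOf_eq_one_iff, hc, mul_inv_eq_one,
          mul_inv_eq_iff_eq_mul] at h4
        exact h4.symm
      subst hv1
      rw [one_mul] at hg ⊢
      have hn1 : (χ : H → ℂ) n = (χ : H → ℂ) 1 := by
        have h1 := Cfsg.Lib.Block.constituent_apply_eq (ψ.2.isCharacter.comp N.subtype) hθN hψθ
          (g := ⟨n, hn⟩) (by
            show (ψ : H → ℂ) n = (ψ : H → ℂ) ((1 : N) : H)
            rw [Subgroup.coe_one]; exact hg)
        simpa [hθ] using h1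
      exact (hker n).2 hn1
    · rw [e, inf_idem] at hLV
      obtain ⟨a, ha, hne⟩ : ∃ a ∈ A, a ≠ 1 := by
        by_contra h
        push Not at h
        exact hA ((Subgroup.eq_bot_iff_forall A).2 h)
      exact hne (hfaith a ha fun v hv => by
        rw [hLV, Subgroup.mem_bot] at hv; rw [hv, mul_one, one_mul])

end Cfsg.Lib.Char

namespace Cfsg.Lib.Char

open Cfsg
open scoped commutatorElement

universe v

variable {G : Type v} [Group G] [Finite G]

/-- The kernel outside the Fitting subgroup. -/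
theorem exists_larger_of_not_nilpotent (χ : IrrCharacter G) (K : Subgroup G) [K.Normal]
    (hK : ∀ g : G, g ∈ K ↔ (χ : G → ℂ) g = (χ : G → ℂ) 1) (h : ¬ K ≤ fittingSubgroup G) :
    ∃ ψ : IrrCharacter G, charDegree (χ : G → ℂ) < charDegree (ψ : G → ℂ) ∧
      ∃ L : Subgroup G, (∀ g : G, g ∈ L ↔ (ψ : G → ℂ) g = (ψ : G → ℂ) 1) ∧ L < K := by
  classical
  haveI := Fintype.ofFinite G
  obtain ⟨p, hp, P, hP⟩ : ∃ (p : ℕ) (_ : Fact p.Prime) (P : Sylow p K), ¬ (P : Subgroup K).Normal := by
    by_contra hc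
    push Not at hc
    refine h (Core.le_fittingSubgroup (Core.isNilpotent_of_isPGroup_sylow fun p hp P => ?_))
    exact Core.le_pCore' (hc p hp P) P.2
  set P' : Subgroup G := (P : Subgroup K).map K.subtype with hP'
  set N : Subgroup G := Subgroup.normalizer (P' : Set G) with hN
  haveI := Fintype.ofFinite N
  haveI := hp
  have hNK : N ⊔ K = ⊤ := Sylow.normalizer_sup_eq_top P
  have hdecomp : ∀ g : G, ∃ k ∈ K, ∃ n ∈ N, k * n = g := fun g => by
    have hg : g ∈ ((K ⊔ N : Subgroup G) : Set G) := by rw [sup_comm, hNK]; trivial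
    rw [Subgroup.normal_mul] at hg
    exact hg
  have hθN : IsIrrCharacter N (fun n : N => (χ : G → ℂ) n) := by
    obtain ⟨χ', hχ', he⟩ := exists_deflate_irr K χ.2 (fun v hv => (hK v).1 hv)
    have hs : Function.Surjective ((QuotientGroup.mk' K).comp N.subtype) := fun y => by
      obtain ⟨g, rfl⟩ := QuotientGroup.mk_surjective y
      obtain ⟨k, hk, n, hn, rfl⟩ := hdecomp g
      refine ⟨⟨n, hn⟩, ?_⟩
      show (n : G ⧸ K) = _
      rw [QuotientGroup.mk_mul, (QuotientGroup.eq_one_iff k).2 hk, one_mul]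
    have h1 := hχ'.comp_surjective ((QuotientGroup.mk' K).comp N.subtype) hs
    have e : (fun n : N => (χ : G → ℂ) n) = fun n : N => χ' (((QuotientGroup.mk' K).comp N.subtype) n) :=
      funext fun n => (he (n : G)).symm
    rw [e]; exact h1
  set θ : N → ℂ := fun n : N => (χ : G → ℂ) n with hθ
  have hPN : P' ≤ N := Subgroup.le_normalizer
  have hPK : P' ≤ K := Subgroup.map_subtype_le _
  set R : Subgroup G := Subgroup.normalClosure (P' : Set G) with hR
  obtain ⟨x, hxR, hxN⟩ : ∃ x ∈ R, x ∉ N := by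
    by_contra hc
    push Not at hc
    refine hP ?_
    have hRK : R ≤ K := Subgroup.normalClosure_le_normal hPK
    have h1 : (P : Subgroup K) ≤ R.subgroupOf K := fun y hy =>
      Subgroup.mem_subgroupOf.2 (Subgroup.subset_normalClosure ⟨y, hy, rfl⟩)
    set PR : Sylow p (R.subgroupOf K) := P.subtype h1 with hPR
    haveI hn : (PR : Subgroup (R.subgroupOf K)).Normal := by
      refine ⟨fun y hy z => ?_⟩
      have hz : ((z : K) : G) ∈ N := hc _ (Subgroup.mem_subgroupOf.1 z.2)
      have := (Subgroup.mem_normalizer_iff.1 hz _).1 ⟨(y : K), hy, rfl⟩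
      obtain ⟨w, hw, he⟩ := this
      have : w = ((z * y * z⁻¹ : R.subgroupOf K) : K) := Subtype.ext he
      subst this
      exact hw
    haveI := Sylow.characteristic_of_normal PR hn
    have h2 := Core.normal_map_char_of_normal (N := R.subgroupOf K) (PR : Subgroup (R.subgroupOf K))
    rwa [show (PR : Subgroup (R.subgroupOf K)) = (P : Subgroup K).subgroupOf (R.subgroupOf K) from rfl,
      Subgroup.map_subgroupOf_eq_of_le h1] at h2
  obtain ⟨ψ, hψθ, hψx⟩ := exists_constituent_not_trivial N hθN hxN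
  haveI : (charKer ψ.2.isCharacter).Normal := charKer_normal ψ.2.isCharacter
  have hPL : ¬ P' ≤ charKer ψ.2.isCharacter := fun hle =>
    hψx (Subgroup.normalClosure_le_normal hle hxR)
  have hθd : charDegree θ = charDegree (χ : G → ℂ) := by
    refine Cfsg.Lib.Block.charDegree_eq_of_apply_one ?_
    show (χ : G → ℂ) ((1 : N) : G) = _
    rw [Subgroup.coe_one, Cfsg.Lib.Block.apply_one_eq_charDegree]
  refine ⟨ψ, lt_of_le_of_ne (hθd ▸ degree_le_of_over N hθN ψ.2 hψθ) fun hdeg => hPL ?_,
    charKer ψ.2.isCharacter, fun g => Iff.rfl, ?_⟩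
  · have heq := res_eq_of_degree_largerDegree N hθN ψ.2.isCharacter hψθ (by
      rw [Cfsg.Lib.Block.apply_one_eq_charDegree ψ, ← hdeg, ← hθd]
      exact (Cfsg.Lib.Block.apply_one_eq_charDegree (⟨θ, hθN⟩ : IrrCharacter N)).symm)
    intro y hy
    rw [mem_charKer]
    have e1 := congrFun heq ⟨y, hPN hy⟩
    have e2 := congrFun heq 1
    simp only [hθ, Subgroup.coe_one] at e1 e2
    rw [e1, e2]
    exact (hK y).1 (hPK hy)
  set L := charKer ψ.2.isCharacter with hL
  have hLK : L ≤ K := by
    intro l hl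
    -- conjugation by `l` fixes `(L ⊓ K) P'`
    set M : Subgroup G := L ⊓ K ⊔ P' with hM
    have hMK : M ≤ K := sup_le inf_le_right hPK
    have hlM : l ∈ Subgroup.normalizer (M : Set G) := by
      rw [Subgroup.mem_normalizer_iff_map_conj_eq]
      refine Subgroup.eq_of_le_of_card_ge ?_
        (le_of_eq (Subgroup.card_map_of_injective (MulAut.conj l).injective).symm)
      rw [hM, Subgroup.map_sup]
      refine sup_le ?_ ?_
      · rintro _ ⟨y, hy, rfl⟩
        exact Subgroup.mem_sup_left ((inferInstance : (L ⊓ K).Normal).conj_mem y hy l)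
      · rintro _ ⟨y, hy, rfl⟩
        show l * y * l⁻¹ ∈ _
        rw [show l * y * l⁻¹ = (l * y * l⁻¹ * y⁻¹) * y by group]
        refine mul_mem (Subgroup.mem_sup_left (Subgroup.mem_inf.2 ⟨?_, ?_⟩)) (Subgroup.mem_sup_right hy)
        · rw [show l * y * l⁻¹ * y⁻¹ = l * (y * l⁻¹ * y⁻¹) by group]
          exact mul_mem hl ((inferInstance : L.Normal).conj_mem _ (inv_mem hl) y)
        · exact mul_mem ((inferInstance : K.Normal).conj_mem _ (hPK hy) l) (inv_mem (hPK hy))
    obtain ⟨PM, hPMle⟩ := (((P.2.map K.subtype)).comap_subtype (K := M)).exists_le_sylow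
    have hPMe : (PM : Subgroup M).map M.subtype = P' := by
      refine le_antisymm ?_ ?_
      · have h1 : (((PM : Subgroup M).map M.subtype).subgroupOf K) = (P : Subgroup K) := by
          refine P.3 ((PM.2.map M.subtype).comap_subtype) fun y hy => ?_
          exact ⟨⟨(y : G), Subgroup.mem_sup_right ⟨y, hy, rfl⟩⟩,
            hPMle (show (y : G) ∈ P' from ⟨y, hy, rfl⟩), rfl⟩
        rintro _ ⟨y, hy, rfl⟩
        refine ⟨⟨(y : G), hMK y.2⟩, ?_, rfl⟩
        rw [← h1]
        exact Subgroup.mem_map_of_mem M.subtype hy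
      · intro y hy
        exact ⟨⟨y, Subgroup.mem_sup_right hy⟩, hPMle hy, rfl⟩
    obtain ⟨Q₂, hQ₂⟩ := Coprime.exists_sylow_eq_conj PM hlM
    obtain ⟨g, hg, hg'⟩ := Coprime.exists_sylow_conj PM Q₂
    rw [hQ₂, hPMe] at hg'
    have hmem : g⁻¹ * l ∈ N := by
      rw [hN, Subgroup.mem_normalizer_iff_map_conj_eq]
      show P'.map (MulAut.conj (g⁻¹ * l)).toMonoidHom = _
      rw [← Coprime.map_conj_conj, hg', Coprime.map_conj_conj, inv_mul_cancel, Coprime.map_conj_one]
    have hg2 : g ∈ ((L ⊓ K ⊔ P' : Subgroup G) : Set G) := hg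
    rw [Subgroup.normal_mul] at hg2
    obtain ⟨k, hk, y, hy, hgy⟩ := hg2
    -- `k⁻¹ l` lies in `L ⊓ N`
    have hn : k⁻¹ * l ∈ N := by
      rw [show k⁻¹ * l = y * (g⁻¹ * l) by rw [← hgy]; group]
      exact mul_mem (hPN hy) hmem
    have hn1 : (χ : G → ℂ) (k⁻¹ * l) = (χ : G → ℂ) 1 := by
      have h1 := Cfsg.Lib.Block.constituent_apply_eq (ψ.2.isCharacter.comp N.subtype) hθN hψθ
        (g := ⟨k⁻¹ * l, hn⟩) (by
          show (ψ : G → ℂ) (k⁻¹ * l) = (ψ : G → ℂ) ((1 : N) : G)
          rw [Subgroup.coe_one]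
          exact show k⁻¹ * l ∈ L from L.mul_mem (L.inv_mem (Subgroup.mem_inf.1 hk).1) hl)
      simpa [hθ] using h1
    rw [show l = k * (k⁻¹ * l) by group]
    exact mul_mem hk.2 ((hK _).2 hn1)
  exact lt_of_le_of_ne hLK fun e => hPL (e ▸ hPK)

/-- The kernel equal to the Fitting subgroup. -/
theorem exists_larger_of_fitting (χ : IrrCharacter G) (K : Subgroup G) [K.Normal]
    (hK : ∀ g : G, g ∈ K ↔ (χ : G → ℂ) g = (χ : G → ℂ) 1) (hF : K = fittingSubgroup G)
    (hsolv : Group.IsSolvable (G ⧸ K)) (hne : K ≠ ⊤) :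
    ∃ ψ : IrrCharacter G, charDegree (χ : G → ℂ) < charDegree (ψ : G → ℂ) ∧
      ∃ L : Subgroup G, (∀ g : G, g ∈ L ↔ (ψ : G → ℂ) g = (ψ : G → ℂ) 1) ∧ L < K := by
  classical
  haveI : Nontrivial (G ⧸ K) := QuotientGroup.nontrivial_iff.2 hne
  obtain ⟨M', hM'⟩ := Core.exists_isMinNormal_univ (G := G ⧸ K)
  haveI := hM'.1
  haveI := hsolv
  obtain ⟨hM'ab, q, hq, -, hM'q⟩ := Core.minimal_solvable_elementary hM' inferInstance
  haveI : Fact q.Prime := ⟨hq⟩
  set M : Subgroup G := M'.comap (QuotientGroup.mk' K) with hMdef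
  have hKM : K ≤ M := fun k hk => by
    show (k : G ⧸ K) ∈ M'
    rw [(QuotientGroup.eq_one_iff k).2 hk]; exact one_mem _
  obtain ⟨Q⟩ : Nonempty (Sylow q M) := inferInstance
  set Q' : Subgroup G := (Q : Subgroup M).map M.subtype with hQ'
  have hQp : IsPGroup q Q' := Q.2.map M.subtype
  have hQM : Q' ≤ M := Subgroup.map_subtype_le _
  -- `M = K Q`
  have hMKQ : M = K ⊔ Q' := by
    refine le_antisymm (fun m hm => ?_) (sup_le hKM hQM)
    have hs : Function.Surjective ((QuotientGroup.mk' K).subgroupComap M') :=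
      MonoidHom.subgroupComap_surjective_of_surjective _ M' (QuotientGroup.mk'_surjective K)
    have htop : ((Q.mapSurjective hs : Sylow q M') : Subgroup M') = ⊤ := by
      exact ((Q.mapSurjective hs).is_maximal' (hM'q.to_subgroup ⊤) le_top).symm
    have hmem : (⟨(m : G ⧸ K), hm⟩ : M') ∈ ((Q.mapSurjective hs : Sylow q M') : Subgroup M') :=
      htop ▸ trivial
    obtain ⟨w, hw, he⟩ := hmem
    have he' : ((w : G) : G ⧸ K) = (m : G ⧸ K) := congrArg Subtype.val he
    rw [show m = (m * (w : G)⁻¹) * (w : G) by group]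
    refine mul_mem (Subgroup.mem_sup_left ?_) (Subgroup.mem_sup_right ⟨w, hw, rfl⟩)
    rw [← QuotientGroup.eq_one_iff, QuotientGroup.mk_mul, QuotientGroup.mk_inv, he', mul_inv_cancel]
  -- some Sylow part of `K` is moved
  obtain ⟨r, hr, hrq, hD0⟩ : ∃ r : ℕ, r.Prime ∧ r ≠ q ∧ ⁅pCore r G, Q'⁆ ≠ ⊥ := by
    by_contra hc
    push Not at hc
    have hKnorm : K ≤ Subgroup.normalizer (Q' : Set G) := by
      rw [hF, Core.fittingSubgroup_eq_iSup_pCore]
      refine iSup_le fun r => ?_
      rcases eq_or_ne (r : ℕ) q with hr | hr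
      · refine le_trans ?_ Subgroup.le_normalizer
        rw [hr]
        have h1 : pCore q G ≤ M :=
          ((Core.pCore_le_fittingSubgroup q G).trans hF.ge).trans hKM
        have h2 : ((pCore q G).subgroupOf M) ≤ (Q : Subgroup M) :=
          (Core.le_pCore' ((Cfsg.pCore_normal q G).subgroupOf M)
            ((Core.pCore_isPGroup q G).comap_subtype)).trans (Core.pCore_le_sylow Q)
        intro y hy
        exact ⟨⟨y, h1 hy⟩, h2 hy, rfl⟩
      · refine le_trans ?_ (Subgroup.centralizer_le_normalizer _)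
        exact Subgroup.commutator_eq_bot_iff_le_centralizer.1 (hc r r.2 hr)
    haveI hQn : (Q : Subgroup M).Normal := by
      refine ⟨fun y hy z => ?_⟩
      have hz : (z : G) ∈ Subgroup.normalizer (Q' : Set G) := by
        have : M ≤ Subgroup.normalizer (Q' : Set G) := by
          conv_lhs => rw [hMKQ]
          exact sup_le hKnorm Subgroup.le_normalizer
        exact this z.2
      obtain ⟨w, hw, he⟩ := (Subgroup.mem_normalizer_iff.1 hz _).1 ⟨y, hy, rfl⟩
      have : w = z * y * z⁻¹ := Subtype.ext he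
      exact this ▸ hw
    haveI := Sylow.characteristic_of_normal Q hQn
    haveI hQ'n : Q'.Normal := Core.normal_map_char_of_normal (N := M) (Q : Subgroup M)
    have hQK : Q' ≤ K := hF ▸ Core.le_fittingSubgroup hQp.isNilpotent
    refine hM'.2.1 ((Subgroup.eq_bot_iff_forall M').2 fun y hy => ?_)
    obtain ⟨m, rfl⟩ := QuotientGroup.mk_surjective y
    rw [QuotientGroup.eq_one_iff]
    have hm : m ∈ M := hy
    rw [hMKQ, sup_eq_left.2 hQK] at hm
    exact hm
  haveI : Fact r.Prime := ⟨hr⟩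
  set R : Subgroup G := pCore r G with hRdef
  haveI : R.Normal := Cfsg.pCore_normal r G
  have hRK : R ≤ K := hF ▸ Core.pCore_le_fittingSubgroup r G
  set D : Subgroup G := ⁅R, Q'⁆ with hD
  have hDR : D ≤ R := Subgroup.commutator_le_left R Q'
  obtain ⟨L, -, ⟨hLn, hLK, hDL⟩, hLmax⟩ :=
    (Set.toFinite {L : Subgroup G | L.Normal ∧ L ≤ K ∧ ¬ D ≤ L}).exists_le_maximal
      (a := ⊥) ⟨inferInstance, bot_le, fun h => hD0 (le_bot_iff.1 h)⟩
  haveI := hLn
  set π := QuotientGroup.mk' L with hπ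
  have hπs : Function.Surjective π := QuotientGroup.mk'_surjective L
  have hmapne : ∀ {W : Subgroup G}, ¬ W ≤ L → W.map π ≠ ⊥ := fun hW h => hW (by
    rw [Subgroup.map_eq_bot_iff, QuotientGroup.ker_mk'] at h; exact h)
  have hmax : ∀ W : Subgroup G, W.Normal → W ≤ K → ¬ W ≤ L → D ≤ L ⊔ W := by
    intro W hW hWK hWL
    by_contra hc
    exact hWL (le_sup_right.trans (hLmax (show L ⊔ W ∈ {L : Subgroup G | L.Normal ∧ L ≤ K ∧ ¬ D ≤ L}
      from ⟨inferInstance, sup_le hLK hWK, hc⟩) le_sup_left))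
  -- the other parts of `K` lie in `L`
  have hKR : K.map π = R.map π := by
    refine le_antisymm ?_ (Subgroup.map_mono hRK)
    conv_lhs => rw [hF, Core.fittingSubgroup_eq_iSup_pCore, Subgroup.map_iSup]
    refine iSup_le fun s => ?_
    rcases eq_or_ne (s : ℕ) r with hs | hs
    · rw [hs, hRdef]
    haveI : Fact (s : ℕ).Prime := ⟨s.2⟩
    by_cases hsL : pCore (s : ℕ) G ≤ L
    · rw [(Subgroup.map_eq_bot_iff _).2 (by rwa [QuotientGroup.ker_mk'])]; exact bot_le
    exfalso
    have h1 := Subgroup.map_mono (f := π) (hmax _ (Cfsg.pCore_normal _ G)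
      (hF ▸ Core.pCore_le_fittingSubgroup _ G) hsL)
    rw [Subgroup.map_sup, show L.map π = ⊥ by rw [Subgroup.map_eq_bot_iff, QuotientGroup.ker_mk'], bot_sup_eq] at h1
    obtain ⟨i, hi⟩ := IsPGroup.iff_card.1 (((Core.pCore_isPGroup r G).to_le hDR).map π)
    obtain ⟨j, hj⟩ := IsPGroup.iff_card.1 ((Core.pCore_isPGroup (s : ℕ) G).map π)
    have h2 := Subgroup.inf_eq_bot_of_coprime (H := D.map π) (K := (pCore (s : ℕ) G).map π)
      (hi ▸ hj ▸ Nat.Coprime.pow i j ((Nat.coprime_primes hr s.2).2 hs.symm))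
    rw [inf_eq_left.2 h1] at h2
    exact hmapne hDL h2
  set V : Subgroup (G ⧸ L) := K.map π with hV
  haveI hVn : V.Normal := (inferInstance : K.Normal).map π hπs
  have hVr : IsPGroup r V := hKR ▸ (Core.pCore_isPGroup r G).map π
  set A : Subgroup (G ⧸ L) := Q'.map π with hAdef
  have hAp : IsPGroup q A := hQp.map π
  have hcop : (Nat.card A).Coprime (Nat.card V) := by
    obtain ⟨i, hi⟩ := IsPGroup.iff_card.1 hAp
    obtain ⟨j, hj⟩ := IsPGroup.iff_card.1 hVr
    rw [hi, hj]
    exact Nat.Coprime.pow i j ((Nat.coprime_primes hq hr).2 hrq.symm)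
  have hVA : V ⊓ A = ⊥ := by
    rw [inf_comm]
    exact Subgroup.inf_eq_bot_of_coprime hcop
  have hVD : ⁅V, A⁆ = D.map π := by
    rw [hKR, hAdef, hD, Subgroup.map_commutator]
  have hDne : D.map π ≠ ⊥ := hmapne hDL
  have hDW : ∀ W : Subgroup (G ⧸ L), W.Normal → W ≤ V → W ≠ ⊥ → D.map π ≤ W := by
    intro W hW hWV hWne
    have hWL : L ≤ W.comap π := fun l hl => by
      show π l ∈ W
      rw [hπ, QuotientGroup.mk'_apply, (QuotientGroup.eq_one_iff l).2 hl]; exact one_mem _
    have hWK : W.comap π ≤ K := by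
      intro x hx
      obtain ⟨k, hk, he⟩ := hWV hx
      rw [show x = k * (k⁻¹ * x) by group]
      exact mul_mem hk (hLK (QuotientGroup.eq.1 he))
    have h1 := hmax (W.comap π) (hW.comap π) hWK (fun hle => hWne (by
      rw [← Subgroup.map_comap_eq_self_of_surjective hπs W, Subgroup.map_eq_bot_iff,
        QuotientGroup.ker_mk']
      exact hle))
    rw [sup_eq_right.2 hWL] at h1
    rw [Subgroup.map_le_iff_le_comap]
    exact h1
  have hAV : A ≤ Subgroup.normalizer (V : Set (G ⧸ L)) := by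
    rw [Subgroup.normalizer_eq_top]; exact le_top
  have hAsol : Group.IsSolvable A := by
    haveI := hAp.isNilpotent
    exact IsNilpotent.to_isSolvable
  -- `V` is abelian
  have hVab : ∀ a ∈ V, ∀ b ∈ V, a * b = b * a := by
    set F : Subgroup (G ⧸ L) := (frattini V).map V.subtype with hFdef
    haveI hFn : F.Normal := Core.normal_map_char_of_normal (N := V) (frattini V)
    have hF1 : F = ⊥ := by
      by_contra hFne
      have h1 := hDW F hFn (Subgroup.map_subtype_le _) hFne
      rw [← hVD] at h1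
      have h2 := Coprime.le_centralizer_of_commutator_le_frattini hAV hcop (Or.inl hAsol) h1
      refine hDne ?_
      rw [← hVD, Subgroup.commutator_eq_bot_iff_le_centralizer, Subgroup.le_centralizer_iff]
      exact h2
    intro a ha b hb
    have h3 : ⁅(⟨a, ha⟩ : V), ⟨b, hb⟩⁆ ∈ (⊥ : Subgroup V) := by
      have := PGroup.commutator_le_frattini (G := V) hVr
        (Subgroup.commutator_mem_commutator (Subgroup.mem_top (⟨a, ha⟩ : V))
          (Subgroup.mem_top (⟨b, hb⟩ : V)))
      rw [hFdef, Subgroup.map_eq_bot_iff_of_injective _ V.subtype_injective] at hF1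
      rwa [hF1] at this
    rw [Subgroup.mem_bot, commutatorElement_eq_one_iff_mul_comm] at h3
    exact congrArg Subtype.val h3
  -- the quotient map from `M`
  have hMQ : M.map π = V ⊔ A := by rw [hMKQ, Subgroup.map_sup]
  have hMcomm : ∀ a ∈ M, ∀ b ∈ M, a * b * a⁻¹ * b⁻¹ ∈ K := by
    intro a ha b hb
    rw [← QuotientGroup.eq_one_iff, QuotientGroup.mk_mul, QuotientGroup.mk_mul, QuotientGroup.mk_mul,
      QuotientGroup.mk_inv, QuotientGroup.mk_inv]
    have h1 : ((a : G ⧸ K)) * (b : G ⧸ K) = (b : G ⧸ K) * (a : G ⧸ K) :=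
      congrArg Subtype.val (hM'ab.is_comm.comm (⟨_, ha⟩ : M') ⟨_, hb⟩)
    rw [h1, mul_inv_cancel_right, mul_inv_cancel]
  have hAab : ∀ a ∈ A, ∀ b ∈ A, a * b = b * a := by
    rintro _ ⟨a, ha, rfl⟩ _ ⟨b, hb, rfl⟩
    have hA1 : π (a * b * a⁻¹ * b⁻¹) ∈ A := Subgroup.mem_map_of_mem π
      (mul_mem (mul_mem (mul_mem ha hb) (inv_mem ha)) (inv_mem hb))
    have h1 : π (a * b * a⁻¹ * b⁻¹) = 1 := Subgroup.mem_bot.1 (hVA ▸
      ⟨Subgroup.mem_map_of_mem π (hMcomm a (hQM ha) b (hQM hb)), hA1⟩)
    rw [map_mul, map_mul, map_mul, map_inv, map_inv, mul_inv_eq_one, mul_inv_eq_iff_eq_mul] at h1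
    exact h1
  set N : Subgroup (G ⧸ L) := Subgroup.normalizer (A : Set (G ⧸ L)) with hNdef
  haveI := Fintype.ofFinite (G ⧸ L)
  haveI := Fintype.ofFinite V
  haveI := Fintype.ofFinite N
  haveI hMπn : (M.map π).Normal := (hM'.1.comap _).map π hπs
  have hfaith : ∀ a ∈ A, (∀ v ∈ V, a * v = v * a) → a = 1 := by
    intro a ha hcen
    set C : Subgroup G := (M.map π ⊓ Subgroup.centralizer (V : Set (G ⧸ L))).comap π with hC
    haveI : C.Normal := Subgroup.Normal.comap inferInstance π
    have hCimg : C.map (QuotientGroup.mk' K) ≤ M' := by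
      rintro _ ⟨c, hc, rfl⟩
      obtain ⟨m, hm, he⟩ := hc.1
      have hc' : c ∈ M := by
        rw [show c = m * (m⁻¹ * c) by group]
        exact mul_mem hm (hKM (hLK (QuotientGroup.eq.1 he)))
      exact hc'
    obtain ⟨x, hx, rfl⟩ := ha
    have hxC : x ∈ C := ⟨Subgroup.mem_map_of_mem π (hQM hx),
      Subgroup.mem_centralizer_iff.2 fun v hv => (hcen v hv).symm⟩
    rcases hM'.2.2 _ ((inferInstance : C.Normal).map _ (QuotientGroup.mk'_surjective K)) hCimg with h | h
    · have hxK : x ∈ K := by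
        rw [Subgroup.map_eq_bot_iff, QuotientGroup.ker_mk'] at h
        exact h hxC
      exact Subgroup.mem_bot.1 (hVA ▸ ⟨Subgroup.mem_map_of_mem π hxK, Subgroup.mem_map_of_mem π hx⟩)
    · exfalso
      refine hDne ?_
      rw [← hVD, Subgroup.commutator_eq_bot_iff_le_centralizer, Subgroup.le_centralizer_iff]
      rintro _ ⟨y, hy, rfl⟩
      have hyM : (y : G ⧸ K) ∈ M' := hQM hy
      rw [← h] at hyM
      obtain ⟨c, hc, he⟩ := hyM
      have hk : c⁻¹ * y ∈ K := QuotientGroup.eq.1 he
      rw [show π y = π c * π (c⁻¹ * y) by rw [← map_mul]; group]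
      refine mul_mem hc.2 (Subgroup.mem_centralizer_iff.2 fun v hv => hVab v hv _ ?_)
      exact Subgroup.mem_map_of_mem π hk
  have hAne : A ≠ ⊥ := fun h => hDne (by rw [← hVD, h, Subgroup.commutator_bot_right])
  have hVN : V ⊔ N = ⊤ := by
    rw [eq_top_iff]
    intro g _
    set MM : Subgroup (G ⧸ L) := M.map π with hMM
    haveI := hMπn
    have hAMM : A ≤ MM := Subgroup.map_mono hQM
    have hs : Function.Surjective (π.subgroupMap M) := π.subgroupMap_surjective M
    set QM : Sylow q MM := Q.mapSurjective hs with hQM'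
    have hQMe : (QM : Subgroup MM).map MM.subtype = A := by
      rw [hQM', Sylow.coe_mapSurjective, Subgroup.map_map, hAdef, hQ', Subgroup.map_map]
      rfl
    obtain ⟨Q₂, hQ₂⟩ := Coprime.exists_sylow_eq_conj QM (a := g) (by
      rw [Subgroup.normalizer_eq_top]; trivial)
    obtain ⟨m, hm, hm'⟩ := Coprime.exists_sylow_conj QM Q₂
    rw [hQ₂, hQMe] at hm'
    have hmem : m⁻¹ * g ∈ N := by
      rw [hNdef, Subgroup.mem_normalizer_iff_map_conj_eq]
      show A.map (MulAut.conj (m⁻¹ * g)).toMonoidHom = _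
      rw [← Coprime.map_conj_conj, hm', Coprime.map_conj_conj, inv_mul_cancel, Coprime.map_conj_one]
    rw [show g = m * (m⁻¹ * g) by group]
    refine mul_mem ?_ (Subgroup.mem_sup_right hmem)
    have : MM ≤ V ⊔ N := by rw [hMQ]; exact sup_le_sup_left Subgroup.le_normalizer V
    exact this hm
  have hdis : V ⊓ N = ⊥ := by
    rw [Subgroup.eq_bot_iff_forall]
    rintro v ⟨hv, hvN⟩
    have hva : ∀ a ∈ A, v * a * v⁻¹ * a⁻¹ = 1 := by
      intro a ha
      refine Subgroup.mem_bot.1 (hVA ▸ Subgroup.mem_inf.2 ⟨?_, ?_⟩)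
      · rw [show v * a * v⁻¹ * a⁻¹ = v * (a * v⁻¹ * a⁻¹) by group]
        exact mul_mem hv (hVn.conj_mem _ (inv_mem hv) a)
      · exact mul_mem ((Subgroup.mem_normalizer_iff.1 hvN a).1 ha) (inv_mem ha)
    by_contra hv1
    set C : Subgroup (G ⧸ L) := V ⊓ Subgroup.centralizer ((V ⊔ A : Subgroup (G ⧸ L)) : Set (G ⧸ L))
      with hC
    haveI : (V ⊔ A).Normal := hMQ ▸ hMπn
    haveI hCn : C.Normal := inferInstance
    have hmem : ∀ x ∈ V, (∀ a ∈ A, a * x = x * a) → x ∈ C := fun x hx hxa => ⟨hx, by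
      have hle : V ⊔ A ≤ Subgroup.centralizer ({x} : Set (G ⧸ L)) :=
        sup_le (fun y hy => Subgroup.mem_centralizer_singleton_iff.2 (hVab y hy x hx))
          fun a ha => Subgroup.mem_centralizer_singleton_iff.2 (hxa a ha)
      exact Subgroup.mem_centralizer_iff.2 fun y hy => Subgroup.mem_centralizer_singleton_iff.1 (hle hy)⟩
    have hCne : C ≠ ⊥ := fun h => hv1 (Subgroup.mem_bot.1 (h ▸ hmem v hv fun a ha => by
      have h1 := hva a ha
      rw [mul_inv_eq_one, mul_inv_eq_iff_eq_mul] at h1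
      exact h1.symm))
    have h2 := hDW C hCn inf_le_left hCne
    rw [← hVD] at h2
    refine hDne ?_
    rw [← hVD, eq_bot_iff]
    have hfix : ⁅⁅V, A⁆, A⁆ = ⊥ := by
      rw [eq_bot_iff, Subgroup.commutator_le]
      intro c hc a ha
      rw [Subgroup.mem_bot, commutatorElement_eq_one_iff_mul_comm]
      exact ((Subgroup.mem_centralizer_iff.1 (h2 hc).2) a (Subgroup.mem_sup_right ha)).symm
    exact le_of_eq (Coprime.commutator_eq_bot_of_commutator_commutator_eq_bot hAV hcop (Or.inl hAsol) hfix)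
  obtain ⟨χ', hχ', he⟩ := exists_deflate_irr L χ.2 (fun l hl => (hK l).1 (hLK hl))
  have hVK : ∀ g : G, π g ∈ V ↔ g ∈ K := fun g => by
    refine ⟨fun hg => ?_, Subgroup.mem_map_of_mem π⟩
    obtain ⟨k, hk, hke⟩ := hg
    rw [show g = k * (k⁻¹ * g) by group]
    exact mul_mem hk (hLK (QuotientGroup.eq.1 hke))
  obtain ⟨ψ, hψd, L', hL', hL'V⟩ := exists_larger_of_complement (A := A) (N := N) (V := V)
    Subgroup.le_normalizer le_rfl hAne hAab hVab hVN hdis hcop hfaith
    (fun W hW hWV hWne v hv a ha => hDW W hW hWV hWne (by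
      rw [← hVD]; exact Subgroup.commutator_mem_commutator hv ha))
    ⟨χ', hχ'⟩ (fun x => by
      obtain ⟨g, rfl⟩ := hπs x
      rw [hVK, hK]
      show _ ↔ χ' (g : G ⧸ L) = χ' ((1 : G) : G ⧸ L)
      rw [he, he])
  refine ⟨⟨_, isIrrCharacter_inflate L ψ.2⟩, ?_, L'.comap π, fun g => ?_, ?_⟩
  · have e1 : charDegree (fun g : G => (ψ : G ⧸ L → ℂ) g) = charDegree (ψ : G ⧸ L → ℂ) := by
      refine Cfsg.Lib.Block.charDegree_eq_of_apply_one ?_
      show (ψ : G ⧸ L → ℂ) ((1 : G) : G ⧸ L) = _
      rw [QuotientGroup.mk_one, Cfsg.Lib.Block.apply_one_eq_charDegree]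
    have e2 : charDegree (χ : G → ℂ) = charDegree χ' := by
      refine Cfsg.Lib.Block.charDegree_eq_of_apply_one ?_
      rw [← he 1, QuotientGroup.mk_one]
      exact Cfsg.Lib.Block.apply_one_eq_charDegree (⟨χ', hχ'⟩ : IrrCharacter (G ⧸ L))
    show charDegree (χ : G → ℂ) < charDegree (fun g : G => (ψ : G ⧸ L → ℂ) g)
    rw [e1, e2]
    exact hψd
  · show π g ∈ L' ↔ (ψ : G ⧸ L → ℂ) (g : G ⧸ L) = (ψ : G ⧸ L → ℂ) ((1 : G) : G ⧸ L)
    rw [hL', QuotientGroup.mk_one]
    rfl
  · refine lt_of_le_of_ne (fun g hg => (hVK g).1 (hL'V.le hg)) fun e => hL'V.ne ?_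
    rw [← Subgroup.map_comap_eq_self_of_surjective hπs L', e]

end Cfsg.Lib.Char
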