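import Cfsg.Agent.Lib.Char.LiftTrace

/-!
# Fixed point free representations lift from `ZMod r` to characteristic zero
-/

set_option autoImplicit false

namespace Cfsg.Lib.Char.LiftFPF

open Matrix Cfsg.Lib.Char.LiftTrace

variable {H : Type*} [Group H] [Finite H]

/-- Indicator function of the translated cyclic subgroup `g ⟨x⟩ h`. -/
noncomputable def cycInd (R : Type*) [Zero R] [One R] (g x h : H) : H → R :=
  open Classical in fun z => if g⁻¹ * z * h⁻¹ ∈ Subgroup.zpowers x then 1 else 0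

/-- In a lifted fixed point free representation, the sum over a cyclic subgroup vanishes. -/
theorem sum_zpowers_eq_zero {r : ℕ} [Fact r.Prime] (m : ℕ) {ι : Type*} [Fintype ι] [DecidableEq ι]
    (hcop : (Nat.card H).Coprime r) (ρ : H →* GL ι (ZMod r))
    (φ : H →* GL ι (ZMod (r ^ (m + 1))))
    (hφ : ∀ g, (red r m).mapMatrix (φ g : Matrix ι ι (ZMod (r ^ (m + 1)))) = (ρ g : Matrix ι ι (ZMod r)))
    (x : H) [Fintype (Subgroup.zpowers x)]
    (hx : ∀ v, (ρ x : Matrix ι ι (ZMod r)) *ᵥ v = v → v = 0) :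
    ∑ y : Subgroup.zpowers x, (φ y : Matrix ι ι (ZMod (r ^ (m + 1)))) = 0 := by
  set S : Matrix ι ι (ZMod (r ^ (m + 1))) := ∑ y : Subgroup.zpowers x, (φ y : Matrix ι ι _) with hS
  set N : ℕ := Fintype.card (Subgroup.zpowers x) with hN
  have hx0 : (red r m).mapMatrix S = 0 := by
    have h0 : ∀ w, ((red r m).mapMatrix S) *ᵥ w = 0 := fun w => by
      apply hx
      rw [Matrix.mulVec_mulVec, hS, map_sum, Finset.mul_sum]
      congr 1
      refine Fintype.sum_equiv (Equiv.mulLeft ⟨x, Subgroup.mem_zpowers x⟩) _ _ (fun y => ?_)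
      rw [hφ, hφ, Equiv.coe_mulLeft, Subgroup.coe_mul, map_mul, Units.val_mul]
    exact Matrix.ext_of_mulVec_single fun i => by rw [h0, Matrix.zero_mulVec]
  have hu : IsUnit (N : ZMod (r ^ (m + 1))) := by
    rw [ZMod.isUnit_iff_coprime]
    refine (Nat.Coprime.coprime_dvd_left ?_ hcop).pow_right _
    rw [hN, ← Nat.card_eq_fintype_card]; exact Subgroup.card_subgroup_dvd_card _
  have hSS : S * S = (N : ZMod (r ^ (m + 1))) • S := by
    rw [Nat.cast_smul_eq_nsmul, hN, ← Finset.card_univ, ← Finset.sum_const]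
    nth_rewrite 1 [hS]
    rw [Finset.sum_mul]
    refine Finset.sum_congr rfl fun a _ => ?_
    rw [hS, Finset.mul_sum]
    exact Fintype.sum_equiv (Equiv.mulLeft a) _ _ (fun b => by simp)
  obtain ⟨w, hw⟩ := hu
  have hunit : IsUnit ((w : ZMod (r ^ (m + 1))) • (1 : Matrix ι ι (ZMod (r ^ (m + 1)))) - S) := by
    apply isUnit_of_map (isUnit_of_red r m)
    have hsm : (red r m).mapMatrix ((w : ZMod (r ^ (m + 1))) • (1 : Matrix ι ι (ZMod (r ^ (m + 1))))) =
        (red r m (w : ZMod (r ^ (m + 1)))) • (1 : Matrix ι ι (ZMod r)) := by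
      ext i j
      simp [Matrix.one_apply, apply_ite (red r m)]
    rw [map_sub, hx0, sub_zero, hsm, Matrix.isUnit_iff_isUnit_det, Matrix.det_smul, Matrix.det_one,
      mul_one]
    exact (w.isUnit.map (red r m)).pow _
  have h0 : ((w : ZMod (r ^ (m + 1))) • (1 : Matrix ι ι (ZMod (r ^ (m + 1)))) - S) * S = 0 := by
    rw [sub_mul, smul_mul_assoc, one_mul, hSS, hw, sub_self]
  exact hunit.mul_right_eq_zero.1 h0

/-- The indicator of `1` is not in the span of the indicators of translated cyclic subgroups. -/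
theorem single_not_mem_span {r : ℕ} [Fact r.Prime] {n : ℕ} (hn : 0 < n)
    (hcop : (Nat.card H).Coprime r) (ρ : H →* GL (Fin n) (ZMod r))
    (hfpf : ∀ x : H, x ≠ 1 → ∀ v, (ρ x : Matrix (Fin n) (Fin n) (ZMod r)) *ᵥ v = v → v = 0)
    (k : Type*) [Field k] [CharZero k] [DecidableEq H] :
    (Pi.single 1 1 : H → k) ∉ Submodule.span k
      (Set.range fun p : H × {x : H // x ≠ 1} × H => cycInd k p.1 p.2.1.1 p.2.2) := by
  classical
  intro hmem
  have : Fintype H := Fintype.ofFinite H
  obtain ⟨c, hc⟩ := (Submodule.mem_span_range_iff_exists_fun k).1 hmem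
  obtain ⟨f, hf⟩ : ∃ f : k →ₗ[ℚ] ℚ, f 1 = 1 := by
    obtain ⟨g, hg⟩ := LinearMap.exists_leftInverse_of_injective
      (LinearMap.toSpanSingleton ℚ k 1) (LinearMap.ker_eq_bot.2 (fun a b h => by
        simpa [LinearMap.toSpanSingleton_apply, Rat.smul_def] using h))
    exact ⟨g, by simpa [LinearMap.toSpanSingleton_apply] using LinearMap.congr_fun hg 1⟩
  have hq : ∀ z : H, ∑ p : H × {x : H // x ≠ 1} × H, f (c p) * cycInd ℚ p.1 p.2.1.1 p.2.2 z =
      (Pi.single 1 1 : H → ℚ) z := by
    intro z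
    have h1 := congrArg f (congrFun hc z)
    rw [Finset.sum_apply, map_sum] at h1
    rw [show f ((Pi.single 1 1 : H → k) z) = (Pi.single 1 1 : H → ℚ) z from by
      rcases eq_or_ne z 1 with rfl | hz
      · simp [hf]
      · simp [hz]] at h1
    rw [← h1]
    refine Finset.sum_congr rfl fun p _ => ?_
    simp only [Pi.smul_apply, smul_eq_mul, cycInd]
    split <;> simp
  obtain ⟨D, hD, hDc⟩ : ∃ D : ℕ, 0 < D ∧ ∀ p, ∃ a : ℤ, (D : ℚ) * f (c p) = a := by
    refine ⟨∏ p : H × {x : H // x ≠ 1} × H, (f (c p)).den,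
      Finset.prod_pos fun p _ => (f (c p)).den_pos, fun p => ?_⟩
    refine ⟨((∏ q ∈ Finset.univ.erase p, (f (c q)).den : ℕ) : ℤ) * (f (c p)).num, ?_⟩
    rw [← Finset.mul_prod_erase _ _ (Finset.mem_univ p), Int.cast_mul, Int.cast_natCast,
      ← Rat.mul_den_eq_num (f (c p)), Nat.cast_mul]
    ring
  choose a ha using hDc
  have hz : ∀ z : H, ∑ p : H × {x : H // x ≠ 1} × H, a p * cycInd ℤ p.1 p.2.1.1 p.2.2 z =
      (Pi.single 1 (D : ℤ) : H → ℤ) z := by
    intro z
    apply (Int.cast_injective : Function.Injective ((↑) : ℤ → ℚ))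
    rw [Int.cast_sum]
    have hi : ∀ p : H × {x : H // x ≠ 1} × H,
        ((cycInd ℤ p.1 p.2.1.1 p.2.2 z : ℤ) : ℚ) = cycInd ℚ p.1 p.2.1.1 p.2.2 z := fun p => by
      simp only [cycInd]; split <;> simp
    simp only [Int.cast_mul, hi, ← ha, mul_assoc, ← Finset.mul_sum, hq]
    rcases eq_or_ne z 1 with rfl | hz'
    · simp
    · simp [hz']
  obtain ⟨φ, hφ⟩ := exists_lift r D hcop ρ
  set R := ZMod (r ^ (D + 1))
  let M : H → Matrix (Fin n) (Fin n) R := fun z => (φ z : Matrix (Fin n) (Fin n) R)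
  have h1 : ∑ z : H, ((Pi.single 1 (D : ℤ) : H → ℤ) z) • M z = (D : ℤ) • 1 := by
    rw [Finset.sum_eq_single 1 (fun z _ hz' => by simp [hz']) (fun h => absurd (Finset.mem_univ _) h)]
    simp [M]
  have h2 : ∑ z : H, ((Pi.single 1 (D : ℤ) : H → ℤ) z) • M z = 0 := by
    simp only [← hz, Finset.sum_smul]
    rw [Finset.sum_comm]
    refine Finset.sum_eq_zero fun p _ => ?_
    simp only [mul_smul, ← Finset.smul_sum]
    obtain ⟨g, ⟨x, hx⟩, h⟩ := p
    have h3 : ∑ z : H, cycInd ℤ g x h z • M z = M g * (∑ y : Subgroup.zpowers x, M y) * M h := by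
      rw [Finset.mul_sum, Finset.sum_mul]
      calc ∑ z : H, cycInd ℤ g x h z • M z = ∑ y : H, cycInd ℤ g x h (g * y * h) • M (g * y * h) :=
            (Fintype.sum_equiv ((Equiv.mulLeft g).trans (Equiv.mulRight h)) _ _ (fun y => rfl)).symm
        _ = ∑ y : H, if y ∈ Subgroup.zpowers x then M (g * y * h) else 0 := by
            refine Finset.sum_congr rfl fun y _ => ?_
            simp only [cycInd, mul_assoc, inv_mul_cancel_left, mul_inv_cancel, mul_one]
            split <;> simp
        _ = _ := by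
            rw [← Finset.sum_filter, Finset.sum_subtype _ (p := fun y => y ∈ Subgroup.zpowers x) (by simp)]
            exact Finset.sum_congr rfl fun y _ => by simp [M, Matrix.mul_assoc]
    have hxx := sum_zpowers_eq_zero D hcop ρ φ hφ x (hfpf x hx)
    simp only [M] at h3 ⊢
    rw [h3, hxx, mul_zero, zero_mul, smul_zero]
  have h4 := congrFun (congrFun (h1.symm.trans h2) ⟨0, hn⟩) ⟨0, hn⟩
  simp only [Matrix.smul_apply, Matrix.one_apply_eq, Matrix.zero_apply, zsmul_eq_mul, mul_one,
    Int.cast_natCast] at h4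
  have h5 : r ^ (D + 1) ∣ D := (CharP.cast_eq_zero_iff (ZMod (r ^ (D + 1))) (r ^ (D + 1)) D).1 h4
  have := Nat.le_of_dvd hD h5
  have := (Nat.lt_pow_self (Fact.out : r.Prime).one_lt : D + 1 < r ^ (D + 1))
  omega

/-- A fixed point free representation over `ZMod r` gives an irreducible one in characteristic zero. -/
theorem exists_fpf_irreducible {r : ℕ} [Fact r.Prime] {n : ℕ} (hn : 0 < n)
    (hcop : (Nat.card H).Coprime r) (ρ : H →* GL (Fin n) (ZMod r))
    (hfpf : ∀ x : H, x ≠ 1 → ∀ v, (ρ x : Matrix (Fin n) (Fin n) (ZMod r)) *ᵥ v = v → v = 0)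
    (k : Type*) [Field k] [CharZero k] :
    ∃ (m : ℕ) (σ : H →* GL (Fin m) k), 0 < m ∧
      (∀ W : Submodule k (Fin m → k),
        (∀ g : H, ∀ w ∈ W, (σ g : Matrix (Fin m) (Fin m) k) *ᵥ w ∈ W) → W = ⊥ ∨ W = ⊤) ∧
      ∀ g : H, g ≠ 1 → ∀ v : Fin m → k, (σ g : Matrix (Fin m) (Fin m) k) *ᵥ v = v → v = 0 := by
  classical
  have : Fintype H := Fintype.ofFinite H
  set J : Submodule k (H → k) := Submodule.span k
      (Set.range fun p : H × {x : H // x ≠ 1} × H => cycInd k p.1 p.2.1.1 p.2.2) with hJ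
  let L : H → (H → k) →ₗ[k] (H → k) := fun g => LinearMap.funLeft k k (fun z => g⁻¹ * z)
  have hLJ : ∀ g, J ≤ J.comap (L g) := by
    intro g
    rw [hJ, Submodule.span_le]
    rintro _ ⟨⟨g', x, h⟩, rfl⟩
    refine Submodule.subset_span ⟨⟨g * g', x, h⟩, ?_⟩
    funext z
    simp only [L, LinearMap.funLeft_apply, cycInd, _root_.mul_inv_rev, mul_assoc]
  let T : H →* Module.End k ((H → k) ⧸ J) :=
    { toFun := fun g => J.mapQ J (L g) (hLJ g)
      map_one' := by
        refine Submodule.linearMap_qext _ (LinearMap.ext fun f => ?_)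
        refine congrArg (Submodule.Quotient.mk) ?_
        funext z
        simp [L, LinearMap.funLeft_apply]
      map_mul' := fun g h => by
        refine Submodule.linearMap_qext _ (LinearMap.ext fun f => ?_)
        refine congrArg (Submodule.Quotient.mk) ?_
        funext z
        simp [L, LinearMap.funLeft_apply, mul_assoc] }
  have hT : ∀ x : H, x ≠ 1 → ∀ q, ∑ y : Subgroup.zpowers x, T y q = 0 := by
    intro x hx q
    obtain ⟨f, rfl⟩ := Submodule.Quotient.mk_surjective J q
    change ∑ y : Subgroup.zpowers x, J.mkQ (L y f) = 0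
    rw [← map_sum, Submodule.mkQ_apply, Submodule.Quotient.mk_eq_zero]
    have hf : ∑ y : Subgroup.zpowers x, L y f = ∑ h : H, f h • cycInd k 1 x h := by
      funext z
      rw [Finset.sum_apply, Finset.sum_apply]
      calc ∑ y : Subgroup.zpowers x, L y f z
          = ∑ y : H, if y ∈ Subgroup.zpowers x then f (y⁻¹ * z) else 0 := by
            rw [← Finset.sum_filter, Finset.sum_subtype _ (p := fun y => y ∈ Subgroup.zpowers x) (by simp)]
            rfl
        _ = ∑ h : H, (f h • cycInd k 1 x h) z := by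
            refine Fintype.sum_equiv ((Equiv.inv H).trans (Equiv.mulRight z)) _ _ (fun y => ?_)
            simp only [Equiv.trans_apply, Equiv.inv_apply, Equiv.coe_mulRight, Pi.smul_apply, cycInd,
              smul_eq_mul, inv_one, one_mul, _root_.mul_inv_rev, inv_inv, ← mul_assoc, mul_inv_cancel]
            split <;> simp
    rw [hf]
    exact Submodule.sum_mem _ fun h _ => Submodule.smul_mem _ _
      (Submodule.subset_span ⟨⟨1, ⟨x, hx⟩, h⟩, rfl⟩)
  have hne : (⊤ : Submodule k ((H → k) ⧸ J)) ≠ ⊥ := by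
    intro h
    apply single_not_mem_span hn hcop ρ hfpf k
    rw [← Submodule.Quotient.mk_eq_zero]
    exact (Submodule.mem_bot k).1 (h ▸ Submodule.mem_top)
  have hex : ∃ d, ∃ W : Submodule k ((H → k) ⧸ J), W ≠ ⊥ ∧ (∀ g, ∀ w ∈ W, T g w ∈ W) ∧
      Module.finrank k W = d := ⟨_, ⊤, hne, fun _ _ _ => Submodule.mem_top, rfl⟩
  obtain ⟨W, hW0, hWinv, hWd⟩ := Nat.find_spec hex
  have hmin : ∀ W' : Submodule k ((H → k) ⧸ J), W' ≠ ⊥ → (∀ g, ∀ w ∈ W', T g w ∈ W') → W' ≤ W →
      W' = W := fun W' h0 hi hle => Submodule.eq_of_le_of_finrank_le hle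
    (hWd.le.trans (Nat.find_min' hex ⟨W', h0, hi, rfl⟩))
  let b := Module.finBasis k W
  let TW : H →* Module.End k W :=
    { toFun := fun g => (T g).restrict (hWinv g)
      map_one' := by ext w; simp
      map_mul' := fun g h => by ext w; simp }
  let σ : H →* GL (Fin (Module.finrank k W)) k :=
    (((LinearMap.toMatrixAlgEquiv b).toAlgHom.toRingHom.toMonoidHom).comp TW).toHomUnits
  have hσ : ∀ g (w : W), (σ g : Matrix _ _ k) *ᵥ b.equivFun w = b.equivFun (TW g w) := fun g w =>
    LinearMap.toMatrix_mulVec_repr b b (TW g) w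
  refine ⟨_, σ, ?_, ?_, ?_⟩
  · rw [pos_iff_ne_zero, Ne, Submodule.finrank_eq_zero]; exact hW0
  · intro U hU
    rcases eq_or_ne U ⊥ with h | h
    · exact Or.inl h
    · right
      let U' : Submodule k ((H → k) ⧸ J) := (U.comap b.equivFun.toLinearMap).map W.subtype
      have hU' : U' = W := by
        refine hmin U' ?_ ?_ (Submodule.map_subtype_le _ _)
        · intro h0
          apply h
          rw [Submodule.eq_bot_iff]
          intro v hv
          have h1 : ((b.equivFun.symm v : W) : (H → k) ⧸ J) ∈ U' :=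
            ⟨b.equivFun.symm v, show b.equivFun (b.equivFun.symm v) ∈ U by
              rw [LinearEquiv.apply_symm_apply]; exact hv, rfl⟩
          rw [h0, Submodule.mem_bot, Submodule.coe_eq_zero, LinearEquiv.map_eq_zero_iff] at h1
          exact h1
        · rintro g _ ⟨w, hw, rfl⟩
          refine ⟨TW g w, ?_, rfl⟩
          have := hU g _ hw
          rw [LinearEquiv.coe_coe, hσ] at this
          exact this
      rw [Submodule.eq_top_iff']
      intro v
      have h1 : ((b.equivFun.symm v : W) : (H → k) ⧸ J) ∈ U' := by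
        rw [hU']; exact Subtype.coe_prop _
      obtain ⟨w, hw, hwe⟩ := h1
      have h2 : w = b.equivFun.symm v := Subtype.ext hwe
      subst h2
      have h3 : b.equivFun (b.equivFun.symm v) ∈ U := hw
      rwa [LinearEquiv.apply_symm_apply] at h3
  · intro g hg v hv
    obtain ⟨w, rfl⟩ := b.equivFun.surjective v
    rw [hσ, b.equivFun.injective.eq_iff] at hv
    have hpow : ∀ y : Subgroup.zpowers g, T y (w : (H → k) ⧸ J) = w := by
      rintro ⟨y, hy⟩
      rw [← mem_powers_iff_mem_zpowers, Submonoid.mem_powers_iff] at hy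
      obtain ⟨i, rfl⟩ := hy
      induction i with
      | zero => simp
      | succ i ih =>
        have h1 : T g (w : (H → k) ⧸ J) = w := congrArg Subtype.val hv
        simp only [pow_succ, map_mul, Module.End.mul_apply, h1]
        exact ih (Subgroup.npow_mem_zpowers g i)
    have h2 := hT g hg (w : (H → k) ⧸ J)
    rw [Finset.sum_congr rfl (fun y _ => hpow y), Finset.sum_const, Finset.card_univ,
      ← Nat.cast_smul_eq_nsmul k, smul_eq_zero, Submodule.coe_eq_zero] at h2
    rcases h2 with h2 | h2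
    · exact absurd h2 (Nat.cast_ne_zero.2 Fintype.card_ne_zero)
    · simp [h2]

end Cfsg.Lib.Char.LiftFPF
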