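import Mathlib

/-!
# Lifting coprime matrix groups from `ZMod r` to `ZMod (r ^ m)` and traces of projections
-/

set_option autoImplicit false

namespace Cfsg.Lib.Char.LiftTrace

open Matrix

section Jac

variable {R K : Type*} [CommRing R] [Field K] {π : R →+* K} {ι : Type*} [Fintype ι] [DecidableEq ι]

theorem isUnit_of_map (hπ : ∀ a : R, IsUnit (π a) → IsUnit a) {A : Matrix ι ι R}
    (h : IsUnit (π.mapMatrix A)) : IsUnit A := by
  rw [Matrix.isUnit_iff_isUnit_det]
  apply hπ
  rw [RingHom.map_det]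
  exact (Matrix.isUnit_iff_isUnit_det _).1 h

theorem mapMatrix_surjective (hs : Function.Surjective π) :
    Function.Surjective (π.mapMatrix : Matrix ι ι R →+* Matrix ι ι K) := by
  intro A
  choose g hg using fun i j => hs (A i j)
  exact ⟨Matrix.of fun i j => g i j, by ext i j; simp [hg]⟩

/-- Trace of an idempotent matrix over a local ring. -/
theorem trace_idem (hπ : ∀ a : R, IsUnit (π a) → IsUnit a) (hs : Function.Surjective π)
    {P : Matrix ι ι R} (hP : P * P = P) :
    P.trace = (Module.finrank K (LinearMap.range (Matrix.toLin' (π.mapMatrix P))) : R) := by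
  set P0 := π.mapMatrix P with hP0
  have hP0P : P0 * P0 = P0 := by rw [hP0, ← map_mul, hP]
  set f := Matrix.toLin' P0 with hf
  set d := Module.finrank K (LinearMap.range f) with hd
  let b : Module.Basis (Fin d) K (LinearMap.range f) := Module.finBasis K _
  let A0 : Matrix ι (Fin d) K := LinearMap.toMatrix b (Pi.basisFun K ι) (LinearMap.range f).subtype
  let B0 : Matrix (Fin d) ι K := LinearMap.toMatrix (Pi.basisFun K ι) b f.rangeRestrict
  have hAB : A0 * B0 = P0 := by
    rw [← LinearMap.toMatrix_comp, LinearMap.subtype_comp_codRestrict, LinearMap.toMatrix_eq_toMatrix',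
      hf, LinearMap.toMatrix'_toLin']
  have hBA : B0 * A0 = 1 := by
    rw [← LinearMap.toMatrix_comp]
    have : f.rangeRestrict.comp (LinearMap.range f).subtype = LinearMap.id := by
      ext ⟨x, y, rfl⟩
      have h2 : f (f y) = f y := by
        rw [hf, Matrix.toLin'_apply, Matrix.toLin'_apply, Matrix.mulVec_mulVec, hP0P]
      simpa using congrFun h2 _
    rw [this, LinearMap.toMatrix_id]
  choose ga hga using fun i j => hs (A0 i j)
  choose gb hgb using fun i j => hs (B0 i j)
  let A : Matrix ι (Fin d) R := Matrix.of fun i j => ga i j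
  let B : Matrix (Fin d) ι R := Matrix.of fun i j => gb i j
  have hA : A.map π = A0 := by ext i j; simp [A, hga]
  have hB : B.map π = B0 := by ext i j; simp [B, hgb]
  have hM1 : π.mapMatrix (B * A) = 1 := by
    rw [RingHom.mapMatrix_apply, Matrix.map_mul, hA, hB, hBA]
  obtain ⟨u, hu⟩ : IsUnit (B * A) := isUnit_of_map hπ (by rw [hM1]; exact isUnit_one)
  set N : Matrix (Fin d) (Fin d) R := ↑(u⁻¹) with hN
  have hN1 : N.map π = 1 := by
    have h3 : π.mapMatrix N * π.mapMatrix (B * A) = 1 := by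
      rw [← map_mul, hN, ← hu, Units.inv_mul, map_one]
    rwa [hM1, mul_one, RingHom.mapMatrix_apply] at h3
  have hNBA : N * (B * A) = 1 := by rw [hN, ← hu, Units.inv_mul]
  set Q : Matrix ι ι R := A * N * B with hQ
  have hQQ : Q * Q = Q := by
    calc Q * Q = A * (N * (B * A)) * N * B := by simp only [hQ, Matrix.mul_assoc]
      _ = Q := by rw [hNBA, Matrix.mul_one, hQ]
  have hQt : Q.trace = (d : R) := by
    rw [hQ, Matrix.trace_mul_comm, ← Matrix.mul_assoc, Matrix.trace_mul_comm, hNBA, Matrix.trace_one,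
      Fintype.card_fin]
  have hQ0 : π.mapMatrix Q = P0 := by
    rw [RingHom.mapMatrix_apply, hQ, Matrix.map_mul, Matrix.map_mul, hA, hB, hN1, Matrix.mul_one, hAB]
  set U := P * Q + (1 - P) * (1 - Q) with hU
  have hUu : IsUnit U := by
    apply isUnit_of_map hπ
    have : π.mapMatrix U = 1 := by
      rw [hU, map_add, map_mul, map_mul, map_sub, map_sub, map_one, hQ0, ← hP0, hP0P,
        show (1 - P0) * (1 - P0) = 1 - P0 by rw [sub_mul, one_mul, mul_sub, mul_one, hP0P]; abel]
      abel
    rw [this]; exact isUnit_one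
  have hPU : P * U = U * Q := by
    simp only [hU, mul_add, add_mul, ← mul_assoc, hP, mul_sub, sub_mul, mul_one, one_mul]
    simp only [mul_assoc, hQQ]
    abel
  obtain ⟨v, hv⟩ := hUu
  have : P = (v : Matrix ι ι R) * Q * ((v⁻¹ : (Matrix ι ι R)ˣ) : Matrix ι ι R) := by
    rw [hv, ← hPU, ← hv, mul_assoc, Units.mul_inv, mul_one]
  rw [this, Matrix.trace_units_conj, hQt]

end Jac

section ZModPow

variable (r : ℕ) [Fact r.Prime] (m : ℕ)

/-- Reduction modulo `r`. -/
noncomputable def red : ZMod (r ^ (m + 1)) →+* ZMod r :=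
  ZMod.castHom (dvd_pow_self r (Nat.succ_ne_zero m)) (ZMod r)

theorem red_surjective : Function.Surjective (red r m) :=
  ZMod.castHom_surjective _

theorem red_eq_zero {a : ZMod (r ^ (m + 1))} (h : red r m a = 0) : ∃ c, a = r * c := by
  obtain ⟨k, rfl⟩ := ZMod.intCast_surjective a
  rw [map_intCast, ZMod.intCast_zmod_eq_zero_iff_dvd] at h
  obtain ⟨c, rfl⟩ := h
  exact ⟨c, by push_cast; rfl⟩

theorem isUnit_of_red (a : ZMod (r ^ (m + 1))) (h : IsUnit (red r m a)) : IsUnit a := by
  obtain ⟨k, rfl⟩ := ZMod.natCast_zmod_surjective a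
  rw [map_natCast, ZMod.isUnit_iff_coprime] at h
  rw [ZMod.isUnit_iff_coprime]
  exact h.pow_right _

theorem pow_eq_one_of_red {ι : Type*} [Fintype ι] [DecidableEq ι]
    {x : Matrix ι ι (ZMod (r ^ (m + 1)))} (h : (red r m).mapMatrix x = 1) : x ^ r ^ m = 1 := by
  have key : ∀ y : Matrix ι ι (ZMod (r ^ (m + 1))), (red r m).mapMatrix y = 0 →
      ∃ c, y = r • c := by
    intro y hy
    choose c hc using fun i j => red_eq_zero r m (congrFun (congrFun hy i) j)
    exact ⟨Matrix.of c, by ext i j; simp [hc i j]⟩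
  have step : ∀ i : ℕ, ∃ a, x ^ r ^ i - 1 = (r ^ (i + 1)) • a := by
    intro i
    induction i with
    | zero => simpa using key (x - 1) (by rw [map_sub, h, map_one, sub_self])
    | succ i ih =>
      obtain ⟨a, ha⟩ := ih
      set z := x ^ r ^ i with hz
      obtain ⟨b, hb⟩ := key (∑ j ∈ Finset.range r, z ^ j) (by
        rw [map_sum, Finset.sum_congr rfl (fun j _ => by rw [map_pow, hz, map_pow, h, one_pow, one_pow]),
          Finset.sum_const, Finset.card_range, ← Nat.cast_smul_eq_nsmul (ZMod r), ZMod.natCast_self, zero_smul])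
      refine ⟨a * b, ?_⟩
      rw [pow_succ r i, pow_mul, ← hz, ← mul_geom_sum, ha, hb, smul_mul_assoc, mul_smul_comm,
        smul_smul, ← pow_succ]
  obtain ⟨a, ha⟩ := step m
  rw [← sub_eq_zero, ha, ← Nat.cast_smul_eq_nsmul (ZMod (r ^ (m + 1))), ZMod.natCast_self, zero_smul]

/-- A representation over `ZMod r` of a group of order prime to `r` lifts to `ZMod (r ^ (m+1))`. -/
theorem exists_lift {Γ : Type*} [Group Γ] [Finite Γ] {ι : Type*} [Fintype ι] [DecidableEq ι]
    (hcop : (Nat.card Γ).Coprime r) (ρ : Γ →* GL ι (ZMod r)) :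
    ∃ φ : Γ →* GL ι (ZMod (r ^ (m + 1))),
      ∀ g, (red r m).mapMatrix (φ g : Matrix ι ι (ZMod (r ^ (m + 1)))) = (ρ g : Matrix ι ι (ZMod r)) := by
  set π : GL ι (ZMod (r ^ (m + 1))) →* GL ι (ZMod r) := Units.map (red r m).mapMatrix.toMonoidHom with hπ
  have hsurj : Function.Surjective π := by
    intro A
    obtain ⟨B, hB⟩ := mapMatrix_surjective (ι := ι) (red_surjective r m) (A : Matrix ι ι (ZMod r))
    have hBu : IsUnit B := isUnit_of_map (isUnit_of_red r m) (by rw [hB]; exact A.isUnit)
    exact ⟨hBu.unit, Units.ext (by simp [hπ, hB])⟩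
  have : NeZero (r ^ (m + 1)) := ⟨pow_ne_zero _ (Fact.out : r.Prime).ne_zero⟩
  let T : Subgroup (GL ι (ZMod (r ^ (m + 1))) × Γ) :=
    { carrier := {x | π x.1 = ρ x.2}
      one_mem' := by simp
      mul_mem' := fun {a b} ha hb => by
        simp only [Set.mem_setOf_eq] at ha hb ⊢; simp [ha, hb]
      inv_mem' := fun {a} ha => by simp only [Set.mem_setOf_eq] at ha ⊢; simp [ha] }
  let p : T →* Γ := (MonoidHom.snd _ _).comp T.subtype
  have hp : Function.Surjective p := by
    intro g
    obtain ⟨A, hA⟩ := hsurj (ρ g)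
    exact ⟨⟨(A, g), hA⟩, rfl⟩
  have hK : IsPGroup r p.ker := by
    intro ⟨⟨⟨A, g⟩, hAg⟩, hx⟩
    refine ⟨m, ?_⟩
    have hg : g = 1 := hx
    subst hg
    have hA1 : (red r m).mapMatrix (A : Matrix ι ι _) = 1 := by
      have := congrArg (Units.val) (show π A = ρ 1 from hAg)
      simpa [hπ] using this
    have := pow_eq_one_of_red r m hA1
    ext1; ext1
    refine Prod.ext (Units.ext ?_) ?_
    · simpa using this
    · simp
  obtain ⟨k, hk⟩ := IsPGroup.iff_card.1 hK
  obtain ⟨S, hS⟩ := Subgroup.exists_right_complement'_of_coprime (N := p.ker) (by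
    rw [hk, Subgroup.index_ker, MonoidHom.range_eq_top.2 hp, Subgroup.card_top]
    exact Nat.Coprime.pow_left _ hcop.symm)
  have hb : Function.Bijective (p.comp S.subtype) := by
    constructor
    · rw [injective_iff_map_eq_one]
      intro x hx
      exact Subtype.ext ((Subgroup.disjoint_def.1 hS.disjoint) (MonoidHom.mem_ker.2 hx) x.2)
    · intro g
      obtain ⟨t, rfl⟩ := hp g
      obtain ⟨⟨a, s⟩, hts⟩ := hS.2 t
      refine ⟨s, ?_⟩
      have ha : p (a : T) = 1 := a.2
      simp [← hts, ha]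
  let σ := (MulEquiv.ofBijective _ hb).symm.toMonoidHom
  refine ⟨((MonoidHom.fst _ _).comp T.subtype).comp (S.subtype.comp σ), fun g => ?_⟩
  have h2 : p (S.subtype (σ g)) = g := (MulEquiv.ofBijective _ hb).apply_symm_apply g
  have h3 : π ((S.subtype (σ g) : T).1.1) = ρ (p (S.subtype (σ g))) := (S.subtype (σ g) : T).2
  rw [h2] at h3
  simpa [hπ] using congrArg Units.val h3

end ZModPow

end Cfsg.Lib.Char.LiftTrace
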