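import Cfsg.Agent.Lib.Char.AbelianInertia
import Cfsg.Agent.Lib.Char.TwoDegrees
import Cfsg.Agent.Lib.Char.Ramification
import Mathlib.GroupTheory.Solvable

/-!
# A quotient minimal among the nonabelian ones

A nonabelian soluble group has a quotient that is nonabelian with all proper quotients abelian.
Such a quotient is a group of prime power order, or has an abelian derived subgroup on which every
outside element acts without fixed points.
-/

set_option autoImplicit false
set_option linter.unusedSectionVars false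
set_option linter.style.haveILetI false

namespace Cfsg.Lib.Char

open Cfsg
open scoped ComplexConjugate commutatorElement

universe u

variable {G : Type u} [Group G]

/-- The case of a nonabelian quotient of prime power order. -/
def PrimePowerCase (p : ℕ) (K : Subgroup G) : Prop :=
  K.Normal ∧ p.Prime ∧ (∃ k, K.index = p ^ k) ∧ ∃ β : IrrCharacter G,
    (∀ k ∈ K, (β : G → ℂ) k = (β : G → ℂ) 1) ∧ ∃ e, 0 < e ∧ charDegree (β : G → ℂ) = p ^ e

/-- The case of a fixed point free action on an abelian section. -/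
def FixedPointFreeCase (q : ℕ) (K N : Subgroup G) : Prop :=
  K.Normal ∧ N.Normal ∧ K ≤ N ∧ q.Prime ∧ (∃ k, K.relIndex N = q ^ k) ∧ N ≠ ⊤ ∧
    (∀ x y : G, x * y * x⁻¹ * y⁻¹ ∈ N) ∧
    (∀ x ∉ N, ∀ n ∈ N, ∃ a ∈ N, n⁻¹ * (x * a * x⁻¹ * a⁻¹) ∈ K) ∧
    ∃ l : N →* ℂˣ, (∀ n : N, (n : G) ∈ K → l n = 1) ∧ l ≠ 1

section Abstract

variable [Finite G] (hmin : ∀ L : Subgroup G, L.Normal → L ≠ ⊥ → commutator G ≤ L)
  (hne : commutator G ≠ ⊥)

include hmin hne

theorem isPGroup_of_central (hZ : Subgroup.center G ≠ ⊥) : ∃ p, p.Prime ∧ IsPGroup p G := by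
  have hle := hmin _ inferInstance hZ
  haveI : Nontrivial (commutator G) := (Subgroup.nontrivial_iff_ne_bot _).2 hne
  obtain ⟨p, hp, hpd⟩ := Nat.exists_prime_and_dvd
    (n := Nat.card (commutator G)) Finite.one_lt_card.ne'
  haveI := Fact.mk hp
  obtain ⟨z, hz⟩ := exists_prime_orderOf_dvd_card' p hpd
  have hzc : (z : G) ∈ Subgroup.center G := hle z.2
  haveI : (Subgroup.zpowers (z : G)).Normal := ⟨fun a ha g => by
    have hc : a ∈ Subgroup.center G := Subgroup.zpowers_le.2 hzc ha
    rwa [Subgroup.mem_center_iff.1 hc g, mul_inv_cancel_right]⟩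
  have hcz : commutator G ≤ Subgroup.zpowers (z : G) := hmin _ inferInstance (fun h => by
    rw [Subgroup.zpowers_eq_bot, OneMemClass.coe_eq_one] at h
    rw [h, orderOf_one] at hz
    exact hp.ne_one hz.symm)
  have hpow : ∀ c ∈ commutator G, c ^ p = 1 := by
    intro c hc
    obtain ⟨i, rfl⟩ := Subgroup.mem_zpowers_iff.1 (hcz hc)
    rw [← zpow_natCast ((z : G) ^ i), ← zpow_mul, mul_comm, zpow_mul, zpow_natCast,
      ← hz, ← Subgroup.orderOf_coe, pow_orderOf_eq_one, one_zpow]
  have hpcen : ∀ h : G, h ^ p ∈ Subgroup.center G := by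
    intro h
    refine Subgroup.mem_center_iff.2 fun g => ?_
    have hc : g * h * g⁻¹ * h⁻¹ ∈ commutator G :=
      Subgroup.commutator_mem_commutator (Subgroup.mem_top g) (Subgroup.mem_top h)
    have hcc := Subgroup.mem_center_iff.1 (hle hc)
    have hcomm : Commute (g * h * g⁻¹ * h⁻¹) h := (hcc h).symm
    have h1 : (g * h * g⁻¹) ^ p = h ^ p := by
      rw [show g * h * g⁻¹ = (g * h * g⁻¹ * h⁻¹) * h by group, hcomm.mul_pow, hpow _ hc, one_mul]
    rw [conj_pow] at h1
    exact (mul_inv_eq_iff_eq_mul.1 h1)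
  refine ⟨p, hp, IsPGroup.iff_card.2 ?_⟩
  refine ⟨_, Nat.eq_prime_pow_of_unique_prime_dvd Nat.card_pos.ne'
    fun {r} hr hrd => ?_⟩
  by_contra hrp
  haveI := Fact.mk hr
  obtain ⟨h, hh⟩ := exists_prime_orderOf_dvd_card' r hrd
  have hcop : (orderOf h).Coprime p := by rw [hh]; exact (Nat.coprime_primes hr hp).2 hrp
  obtain ⟨m, hm⟩ := exists_pow_eq_self_of_coprime hcop.symm
  have hcen : h ∈ Subgroup.center G := hm ▸ Subgroup.pow_mem _ (hpcen h) m
  haveI : (Subgroup.zpowers h).Normal := ⟨fun a ha g => by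
    have hc : a ∈ Subgroup.center G := Subgroup.zpowers_le.2 hcen ha
    rwa [Subgroup.mem_center_iff.1 hc g, mul_inv_cancel_right]⟩
  have hle' := hmin _ inferInstance (fun e => by
    rw [Subgroup.zpowers_eq_bot] at e
    rw [e, orderOf_one] at hh
    exact hr.ne_one hh.symm : Subgroup.zpowers h ≠ ⊥)
  have hd := Subgroup.card_dvd_of_le hle'
  rw [Nat.card_zpowers, hh] at hd
  exact hrp ((Nat.prime_dvd_prime_iff_eq hp hr).1 (hpd.trans hd)).symm

variable [Group.IsSolvable G] (hZ : Subgroup.center G = ⊥)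

theorem commutator_comm : ∀ a ∈ commutator G, ∀ b ∈ commutator G, a * b = b * a := by
  intro a ha b hb
  rcases eq_or_ne ⁅commutator G, commutator G⁆ ⊥ with h | h
  · exact commutatorElement_eq_one_iff_mul_comm.1
      (Subgroup.mem_bot.1 (h ▸ Subgroup.commutator_mem_commutator ha hb))
  · exact absurd (le_antisymm (Subgroup.commutator_le_self _) (hmin _ inferInstance h))
      (Group.IsSolvable.commutator_lt_of_ne_bot hne).ne

theorem commutator_isPGroup : ∃ q, q.Prime ∧ IsPGroup q (commutator G) := by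
  haveI : Nontrivial (commutator G) := (Subgroup.nontrivial_iff_ne_bot _).2 hne
  obtain ⟨q, hq, hqd⟩ := Nat.exists_prime_and_dvd
    (n := Nat.card (commutator G)) Finite.one_lt_card.ne'
  haveI := Fact.mk hq
  obtain ⟨z, hz⟩ := exists_prime_orderOf_dvd_card' q hqd
  have hc := commutator_comm hmin hne
  let L : Subgroup G :=
    { carrier := {x | x ∈ commutator G ∧ x ^ q = 1}
      one_mem' := ⟨one_mem _, one_pow _⟩
      mul_mem' := fun {a b} ha hb => ⟨mul_mem ha.1 hb.1, by
        rw [(show Commute a b from hc a ha.1 b hb.1).mul_pow, ha.2, hb.2, one_mul]⟩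
      inv_mem' := fun {a} ha => ⟨inv_mem ha.1, by rw [inv_pow, ha.2, inv_one]⟩ }
  have hL : L.Normal := ⟨fun a ha g => ⟨(inferInstance : (commutator G).Normal).conj_mem a ha.1 g,
    by rw [conj_pow, ha.2, mul_one, mul_inv_cancel]⟩⟩
  have hle := hmin L hL (fun h => by
    have : (z : G) ∈ L := ⟨z.2, by rw [← hz, ← Subgroup.orderOf_coe, pow_orderOf_eq_one]⟩
    rw [h, Subgroup.mem_bot, OneMemClass.coe_eq_one] at this
    rw [this, orderOf_one] at hz
    exact hq.ne_one hz.symm)
  exact ⟨q, hq, fun x => ⟨1, Subtype.ext (by rw [pow_one]; exact (hle x.2).2)⟩⟩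

include hZ

theorem fixedPointFree {g : G} (hg : g ∉ commutator G) :
    ∀ n ∈ commutator G, ∃ a ∈ commutator G, n = g * a * g⁻¹ * a⁻¹ := by
  classical
  have hc := commutator_comm hmin hne
  have hcm : ∀ x y : G, x * y * x⁻¹ * y⁻¹ ∈ commutator G := fun x y =>
    Subgroup.commutator_mem_commutator (Subgroup.mem_top x) (Subgroup.mem_top y)
  set A := Subgroup.centralizer (commutator G : Set G) with hA
  have hle : commutator G ≤ A := fun a ha => Subgroup.mem_centralizer_iff.2 fun b hb =>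
    hc b hb a ha
  -- the elements of `A` commuting with an element outside `A` are trivial
  have hinj : ∀ x ∉ A, ∀ b ∈ A, x * b = b * x → b = 1 := by
    intro x hx
    let B : Subgroup G := A ⊓ Subgroup.centralizer {x}
    haveI : B.Normal := ⟨fun b hb y => by
      refine Subgroup.mem_inf.2 ⟨(inferInstance : A.Normal).conj_mem b hb.1 y,
        Subgroup.mem_centralizer_singleton_iff.2 ?_⟩
      have hbx : b * x = x * b := Subgroup.mem_centralizer_singleton_iff.1 hb.2
      have hcb := Subgroup.mem_centralizer_iff.1 hb.1 _ (hcm x⁻¹ y⁻¹)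
      calc y * b * y⁻¹ * x = y * (b * x) * (x⁻¹ * y⁻¹ * x⁻¹⁻¹ * y⁻¹⁻¹) * y⁻¹ := by group
        _ = y * (x * b) * (x⁻¹ * y⁻¹ * x⁻¹⁻¹ * y⁻¹⁻¹) * y⁻¹ := by rw [hbx]
        _ = y * x * (b * (x⁻¹ * y⁻¹ * x⁻¹⁻¹ * y⁻¹⁻¹)) * y⁻¹ := by group
        _ = y * x * ((x⁻¹ * y⁻¹ * x⁻¹⁻¹ * y⁻¹⁻¹) * b) * y⁻¹ := by rw [hcb]
        _ = x * (y * b * y⁻¹) := by group⟩
    intro b hb hbc
    by_contra hb1
    have hB : B ≠ ⊥ := fun h => hb1 (Subgroup.mem_bot.1 (h ▸ (show b ∈ B from
      Subgroup.mem_inf.2 ⟨hb, Subgroup.mem_centralizer_singleton_iff.2 hbc.symm⟩)))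
    refine hx (Subgroup.mem_centralizer_iff.2 fun c hc' => ?_)
    exact Subgroup.mem_centralizer_singleton_iff.1 ((hmin B inferInstance hB) hc').2
  have hAtop : A ≠ ⊤ := fun h => hne (le_bot_iff.1 fun a ha => by
    rw [← hZ, Subgroup.mem_center_iff]
    intro y
    exact (Subgroup.mem_centralizer_iff.1 (h ▸ Subgroup.mem_top y : y ∈ A) a ha).symm)
  -- the map to commutators is injective on `A`
  have hmap : ∀ x ∉ A, Function.Injective
      (fun a : A => (⟨x * a * x⁻¹ * (a : G)⁻¹, hcm x a⟩ : commutator G)) := by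
    intro x hx a b h
    have h' : x * a * x⁻¹ * (a : G)⁻¹ = x * b * x⁻¹ * (b : G)⁻¹ := congrArg Subtype.val h
    have h1 := hinj x hx _ (mul_mem (inv_mem b.2) a.2) (by
      calc x * ((b : G)⁻¹ * a) = x * (b : G)⁻¹ * x⁻¹ * (x * a * x⁻¹ * (a : G)⁻¹) * a * x := by
            group
        _ = (b : G)⁻¹ * a * x := by rw [h']; group)
    exact Subtype.ext (inv_mul_eq_one.1 h1).symm
  obtain ⟨x₀, hx₀⟩ : ∃ x, x ∉ A := by
    by_contra h
    push Not at h
    exact hAtop (top_le_iff.1 fun x _ => h x)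
  have hAeq : A = commutator G :=
    (Subgroup.eq_of_le_of_card_ge hle (Nat.card_le_card_of_injective _ (hmap x₀ hx₀))).symm
  have hgA : g ∉ A := hAeq ▸ hg
  intro n hn
  obtain ⟨a, ha⟩ := ((hmap g hgA).bijective_of_nat_card_le (by rw [hAeq])).2 ⟨n, hn⟩
  exact ⟨a, hAeq ▸ a.2, (congrArg Subtype.val ha).symm⟩

end Abstract

variable [Finite G]

/-- The dichotomy above a normal subgroup with soluble nonabelian quotient. -/
theorem exists_minimal_quotient_over (M : Subgroup G) [M.Normal]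
    (hM : Group.IsSolvable (G ⧸ M)) (hna : ¬ commutator G ≤ M) :
    (∃ p K, PrimePowerCase p (K : Subgroup G)) ∨
      ∃ q K N, FixedPointFreeCase q (K : Subgroup G) (N : Subgroup G) := by
  classical
  obtain ⟨K, hMK, hK⟩ := Finite.exists_le_maximal (p := fun K : Subgroup G =>
    K.Normal ∧ ¬ commutator G ≤ K) (a := M) ⟨inferInstance, hna⟩
  haveI := hK.prop.1
  haveI : Group.IsSolvable (G ⧸ K) :=
    haveI := hM
    Group.isSolvable_of_surjective (f := QuotientGroup.map M K (MonoidHom.id G) (by simpa using hMK))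
      (fun x => by
        obtain ⟨g, rfl⟩ := QuotientGroup.mk_surjective x
        exact ⟨(g : G ⧸ M), rfl⟩)
  have hsurj := QuotientGroup.mk'_surjective K
  have hcom : (commutator G).map (QuotientGroup.mk' K) = commutator (G ⧸ K) := by
    rw [commutator_def, commutator_def, Subgroup.map_commutator,
      Subgroup.map_top_of_surjective _ hsurj]
  have hmin : ∀ L : Subgroup (G ⧸ K), L.Normal → L ≠ ⊥ → commutator (G ⧸ K) ≤ L := by
    intro L hL hne
    by_contra hno
    have hle : K ≤ L.comap (QuotientGroup.mk' K) := QuotientGroup.le_comap_mk' K L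
    have heq := hK.le_of_ge (y := L.comap (QuotientGroup.mk' K))
      ⟨hL.comap _, fun h => hno (hcom ▸ Subgroup.map_le_iff_le_comap.2 h)⟩ hle
    refine hne (le_bot_iff.1 ?_)
    rw [← Subgroup.map_comap_eq_self_of_surjective hsurj L]
    exact (Subgroup.map_mono heq).trans (le_of_eq (QuotientGroup.map_mk'_self K))
  have hne : commutator (G ⧸ K) ≠ ⊥ := fun h => hK.prop.2 fun a ha => by
    rw [← QuotientGroup.eq_one_iff a, ← Subgroup.mem_bot, ← h, ← hcom]
    exact ⟨a, ha, rfl⟩
  by_cases hZ : Subgroup.center (G ⧸ K) = ⊥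
  · right
    obtain ⟨q, hq, hqP⟩ := commutator_isPGroup hmin hne
    haveI := Fact.mk hq
    set N := (commutator (G ⧸ K)).comap (QuotientGroup.mk' K) with hN
    have hKN : K ≤ N := QuotientGroup.le_comap_mk' K _
    have hmapN : N.map (QuotientGroup.mk' K) = commutator (G ⧸ K) :=
      Subgroup.map_comap_eq_self_of_surjective hsurj _
    refine ⟨q, K, N, inferInstance, inferInstance, hKN, hq, ?_, ?_, ?_, ?_, ?_⟩
    · obtain ⟨k, hk⟩ := hqP.exists_card_eq
      refine ⟨k, ?_⟩
      rw [← hk, ← hmapN]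
      rw [← Subgroup.relIndex_ker, QuotientGroup.ker_mk']
    · intro h
      haveI : Nontrivial (G ⧸ K) := by
        haveI := (Subgroup.nontrivial_iff_ne_bot _).2 hne
        exact (commutator (G ⧸ K)).subtype_injective.nontrivial
      have h1 : commutator (G ⧸ K) = ⊤ := by
        rw [← hmapN, h, Subgroup.map_top_of_surjective _ hsurj]
      exact (Group.IsSolvable.commutator_lt_top_of_nontrivial (G := G ⧸ K)).ne h1
    · intro x y
      show QuotientGroup.mk' K (x * y * x⁻¹ * y⁻¹) ∈ commutator (G ⧸ K)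
      rw [← hcom]
      exact ⟨_, Subgroup.commutator_mem_commutator (Subgroup.mem_top x) (Subgroup.mem_top y), rfl⟩
    · intro x hx n hn
      obtain ⟨b, hb, e⟩ := fixedPointFree hmin hne hZ (g := QuotientGroup.mk' K x) hx _ hn
      obtain ⟨a, rfl⟩ := hsurj b
      refine ⟨a, hb, ?_⟩
      rw [← map_inv, ← map_inv, ← map_mul, ← map_mul, ← map_mul] at e
      exact QuotientGroup.eq.1 e
    · have hc := commutator_comm hmin hne
      haveI : Fintype (commutator (G ⧸ K)) := Fintype.ofFinite _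
      obtain ⟨y, hy⟩ : ∃ y : commutator (G ⧸ K), y ≠ 1 := by
        by_contra h
        push Not at h
        exact hne (le_bot_iff.1 fun y hy => Subgroup.mem_bot.2
          (congrArg Subtype.val (h ⟨y, hy⟩)))
      have hex : ∃ f : commutator (G ⧸ K) →* ℂˣ, f y ≠ 1 := by
        by_contra h
        push Not at h
        exact hy (eq_one_of_forall_hom (fun a b => Subtype.ext (hc a a.2 b b.2)) h)
      obtain ⟨f, hf⟩ := hex
      let π : N →* commutator (G ⧸ K) :=
        ((QuotientGroup.mk' K).comp N.subtype).codRestrict _ fun n => n.2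
      refine ⟨f.comp π, fun n hn => ?_, fun h => hf ?_⟩
      · rw [MonoidHom.comp_apply, show π n = 1 from Subtype.ext
          ((QuotientGroup.eq_one_iff _).2 hn), map_one]
      · obtain ⟨a, ha⟩ := hsurj y
        have hay : π ⟨a, show QuotientGroup.mk' K a ∈ commutator (G ⧸ K) from ha ▸ y.2⟩ = y :=
          Subtype.ext ha
        rw [← hay]
        exact DFunLike.congr_fun h _
  · left
    obtain ⟨p, hp, hP⟩ := isPGroup_of_central hmin hne hZ
    haveI := Fact.mk hp
    obtain ⟨k, hk⟩ := hP.exists_card_eq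
    haveI := Fintype.ofFinite (G ⧸ K)
    obtain ⟨ψ, hψ⟩ : ∃ ψ : IrrCharacter (G ⧸ K), charDegree (ψ : G ⧸ K → ℂ) ≠ 1 := by
      by_contra h
      push Not at h
      refine hne (le_bot_iff.1 ?_)
      rw [commutator_def, Subgroup.commutator_le]
      intro a _ b _
      rw [Subgroup.mem_bot]
      refine Classical.byContradiction fun hab => ?_
      have hs := sum_degree_mul ⁅a, b⁆
      rw [if_neg hab] at hs
      have h1 : ∀ φ : IrrCharacter (G ⧸ K), (φ : G ⧸ K → ℂ) 1 * (φ : G ⧸ K → ℂ) ⁅a, b⁆ = 1 := by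
        intro φ
        have hd : (φ : G ⧸ K → ℂ) 1 = 1 := by
          rw [φ.2.apply_one_eq_charDegree, h φ, Nat.cast_one]
        obtain ⟨f, hf⟩ := exists_hom_of_degree_one φ.2.isCharacter hd
        rw [hd, one_mul, hf]
        simp [commutatorElement_def, mul_comm (f a) (f b)]
      simp only [h1, Finset.sum_const, nsmul_eq_mul, mul_one, Nat.cast_eq_zero,
        Finset.card_eq_zero] at hs
      exact Finset.notMem_empty (⟨_, isIrrCharacter_one⟩ : IrrCharacter (G ⧸ K))
        (hs ▸ Finset.mem_univ _)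
    have hd := degree_dvd_card ψ.2 ψ.2.apply_one_eq_charDegree
    rw [hk] at hd
    obtain ⟨e, -, he⟩ := (Nat.dvd_prime_pow hp).1 hd
    refine ⟨p, K, inferInstance, hp, ⟨k, by rw [Subgroup.index_eq_card, hk]⟩,
      ⟨_, isIrrCharacter_inflate K ψ.2⟩, fun n hn => ?_, e, ?_, ?_⟩
    · show (ψ : G ⧸ K → ℂ) (n : G ⧸ K) = (ψ : G ⧸ K → ℂ) ((1 : G) : G ⧸ K)
      rw [(QuotientGroup.eq_one_iff n).2 hn, QuotientGroup.mk_one]
    · refine Nat.pos_of_ne_zero fun h => hψ ?_
      rw [he, h, pow_zero]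
    · exact he

/-- The dichotomy. -/
theorem exists_minimal_quotient [Group.IsSolvable G] (hna : ¬ ∀ a b : G, a * b = b * a) :
    (∃ p K, PrimePowerCase p (K : Subgroup G)) ∨
      ∃ q K N, FixedPointFreeCase q (K : Subgroup G) (N : Subgroup G) :=
  exists_minimal_quotient_over ⊥ inferInstance fun h => hna fun a b =>
    commutatorElement_eq_one_iff_mul_comm.1 (Subgroup.mem_bot.1
      (h (Subgroup.commutator_mem_commutator (Subgroup.mem_top a) (Subgroup.mem_top b))))

end Cfsg.Lib.Char
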