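import Cfsg.Prelude.Def_DegreeGraph
import Cfsg.Agent.Lib.Block.Basic
import Cfsg.Agent.Lib.Char.TwoDegrees
import Cfsg.Agent.Lib.Char.Clifford2
import Mathlib.GroupTheory.Perm.Cycle.Type
import Mathlib.GroupTheory.Sylow
import Mathlib.LinearAlgebra.Matrix.Trace

/-!
# Relative degrees over a normal subgroup of the derived subgroup

Tools for the common-divisor graph on `cd(G|N)` after Isaacs and Knutson: determinants of twisted
restrictions, stabilisers of twisted characters, and the vertex attached to a prime dividing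
`|N : N'|`.
-/

set_option autoImplicit false
set_option linter.unusedSectionVars false
set_option linter.style.haveILetI false

namespace Cfsg.Lib.Char.RelDeg

open Cfsg Cfsg.Lib.Char Module
open scoped ComplexConjugate

universe u v

section Det

variable {G : Type u} [Group G] [Finite G]

/-- The direct sum of `k` copies of a representation. -/
noncomputable def piRep {V : Type v} [AddCommGroup V] [Module ℂ V] (k : ℕ)
    (ρ : Representation ℂ G V) : Representation ℂ G (Fin k → V) where
  toFun g := LinearMap.pi fun i => (ρ g).comp (LinearMap.proj i)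
  map_one' := LinearMap.ext fun v => funext fun i => by simp
  map_mul' a b := LinearMap.ext fun v => funext fun i => by simp

theorem piRep_character {n : ℕ} (k : ℕ) (ρ : Representation ℂ G (Fin n → ℂ)) (g : G) :
    (piRep k ρ).character g = (k : ℂ) * ρ.character g := by
  classical
  let b := Pi.basisFun ℂ (Fin n)
  let B := (Pi.basis (fun _ : Fin k => b)).reindex <|
    (Equiv.sigmaEquivProd _ _).trans (Equiv.prodComm _ _)
  show LinearMap.trace ℂ _ (LinearMap.pi fun i => (ρ g).comp (LinearMap.proj i)) =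
    (k : ℂ) * LinearMap.trace ℂ _ (ρ g)
  rw [LinearMap.trace_eq_matrix_trace ℂ B, LinearMap.trace_eq_matrix_trace ℂ b]
  have : (LinearMap.toMatrix B B) (LinearMap.pi fun i => (ρ g).comp (LinearMap.proj i)) =
      Matrix.blockDiagonal (fun _ : Fin k => LinearMap.toMatrix b b (ρ g)) := by
    ext ⟨i₁, i₂⟩ ⟨j₁, j₂⟩
    unfold B
    simp_rw [LinearMap.toMatrix_apply', Matrix.blockDiagonal_apply, Basis.coe_reindex,
      Function.comp_apply, Basis.repr_reindex_apply, Equiv.symm_trans_apply, Equiv.prodComm_symm,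
      Equiv.prodComm_apply, Equiv.sigmaEquivProd_symm_apply, Prod.swap_prod_mk, Pi.basis_apply,
      Pi.basis_repr, LinearMap.pi_apply, LinearMap.coe_comp, Function.comp_apply,
      LinearMap.toMatrix_apply', LinearMap.coe_proj, Function.eval, Pi.single_apply]
    split_ifs with h
    · rfl
    · simp only [map_zero, Finsupp.coe_zero, Pi.zero_apply]
  rw [this, Matrix.trace_blockDiagonal, Finset.sum_const, Finset.card_univ, Fintype.card_fin,
    nsmul_eq_mul]

theorem det_piRep {V : Type v} [AddCommGroup V] [Module ℂ V] [FiniteDimensional ℂ V] (k : ℕ)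
    (ρ : Representation ℂ G V) (g : G) :
    LinearMap.det (piRep k ρ g) = LinearMap.det (ρ g) ^ k := by
  show LinearMap.det (LinearMap.pi fun i => (ρ g).comp (LinearMap.proj i)) = _
  rw [LinearMap.det_pi, Finset.prod_const, Finset.card_univ, Fintype.card_fin]

/-- If two characters of `G` restricted to a subgroup of the derived subgroup agree up to
multiplicity and a linear twist, the twist is killed by the product of the degrees. -/
theorem pow_mul_eq_one_of_res {χ η : G → ℂ} (hχ : IsCharacter G χ) (hη : IsCharacter G η)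
    {a b : ℕ} (ha : χ 1 = a) (hb : η 1 = b) (H : Subgroup G) (hH : H ≤ commutator G)
    (L : H →* ℂˣ) (h : ∀ x : H, (a : ℂ) * η x = (b : ℂ) * ((L x : ℂ) * χ x)) (x : H) :
    L x ^ (a * b) = 1 := by
  obtain ⟨n, ρ, rfl⟩ := hχ
  obtain ⟨m, σ, rfl⟩ := hη
  rw [Representation.char_one, Module.finrank_fin_fun, Nat.cast_inj] at ha hb
  subst ha
  subst hb
  let tw : Representation ℂ H (Fin n → ℂ) :=
    { toFun := fun y => (L y : ℂ) • ρ (y : G)
      map_one' := by simp
      map_mul' := fun y z => by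
        simp [smul_mul_assoc, mul_smul_comm, smul_smul, mul_comm] }
  have htw : ∀ y, tw.character y = (L y : ℂ) * ρ.character (y : G) := fun y => by
    show LinearMap.trace ℂ _ ((L y : ℂ) • ρ (y : G)) = _
    rw [map_smul, smul_eq_mul]
    rfl
  let res : Representation ℂ H (Fin m → ℂ) := σ.comp H.subtype
  have hres : ∀ y, res.character y = σ.character (y : G) := fun y => rfl
  have hchar : (piRep n res).character = (piRep m tw).character := funext fun y => by
    rw [piRep_character, piRep_character, hres, htw]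
    exact h y
  have h1 := congrFun (congrArg detChar hchar) x
  rw [detChar_character, detChar_character] at h1
  simp only [detHom_apply, det_piRep] at h1
  have e1 : LinearMap.det (res x) = 1 := by
    have := MonoidHom.mem_ker.1 (Abelianization.commutator_subset_ker (detHom σ) (hH x.2))
    rw [Units.ext_iff, detHom_apply] at this
    exact this
  have e2 : LinearMap.det (ρ (x : G)) = 1 := by
    have := MonoidHom.mem_ker.1 (Abelianization.commutator_subset_ker (detHom ρ) (hH x.2))
    rw [Units.ext_iff, detHom_apply] at this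
    exact this
  have e3 : LinearMap.det (tw x) = (L x : ℂ) ^ n := by
    show LinearMap.det ((L x : ℂ) • ρ (x : G)) = _
    rw [LinearMap.det_smul, Module.finrank_fin_fun, e2, mul_one]
  rw [e1, one_pow, e3, ← pow_mul] at h1
  apply Units.ext
  rw [Units.val_pow_eq_pow_val, Units.val_one, ← h1]

end Det

variable {G : Type u} [Group G] [Fintype G] (N : Subgroup G) [hN : N.Normal]

/-- A linear character as a function. -/
def lin {A : Type u} [Group A] (L : A →* ℂˣ) : A → ℂ := fun x => (L x : ℂ)

theorem conjTwist_mul_fun (α β : N → ℂ) (g : G) :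
    conjTwist N (α * β) g = conjTwist N α g * conjTwist N β g := rfl

/-- The conjugate of a linear character. -/
def twHom (L : N →* ℂˣ) (g : G) : N →* ℂˣ :=
  L.comp (MulAut.conjNormal g : MulAut N).toMonoidHom

theorem conjTwist_lin (L : N →* ℂˣ) (g : G) : conjTwist N (lin L) g = lin (twHom N L g) := rfl

theorem mem_inertia_lin {L : N →* ℂˣ} {g : G} :
    g ∈ inertia N (lin L) ↔ twHom N L g = L := by
  rw [mem_inertia, conjTwist_lin]
  exact ⟨fun h => linearChar_injective h, fun h => by rw [h]⟩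

theorem isIrr_lin (L : N →* ℂˣ) : IsIrrCharacter N (lin L) := isIrrCharacter_linear L

theorem exists_mem_mul_inv {A B : Subgroup G} (h : (A ⊓ B).index = A.index * B.index) (g : G) :
    ∃ b ∈ B, g * b⁻¹ ∈ A := by
  have hB : B.index ≠ 0 := Subgroup.index_ne_zero_of_finite
  have h1 : (A.subgroupOf B).index = A.index := by
    have h2 := Subgroup.relIndex_mul_index (inf_le_right : A ⊓ B ≤ B)
    rw [Subgroup.inf_relIndex_right, h] at h2
    exact Nat.eq_of_mul_eq_mul_right (Nat.pos_of_ne_zero hB) h2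
  let f : B ⧸ A.subgroupOf B → G ⧸ A :=
    Quotient.lift (fun b : B => ((b : G) : G ⧸ A)) fun b c hbc => by
      have hbc' := Subgroup.mem_subgroupOf.1 (QuotientGroup.leftRel_apply.1 hbc)
      exact QuotientGroup.eq.2 (by simpa using hbc')
  have hinj : Function.Injective f := by
    intro x y
    induction x using QuotientGroup.induction_on with
    | H b =>
      induction y using QuotientGroup.induction_on with
      | H c =>
        intro hbc
        refine QuotientGroup.eq.2 ?_
        rw [Subgroup.mem_subgroupOf]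
        simpa using QuotientGroup.eq.1 hbc
  have hbij : Function.Bijective f :=
    (Nat.bijective_iff_injective_and_card f).2 ⟨hinj, h1⟩
  obtain ⟨x, hx⟩ := hbij.2 ((g⁻¹ : G) : G ⧸ A)
  induction x using QuotientGroup.induction_on with
  | H b =>
    have h3 : ((b : G) : G ⧸ A) = ((g⁻¹ : G) : G ⧸ A) := hx
    refine ⟨(b : G)⁻¹, B.inv_mem b.2, ?_⟩
    have h4 := A.inv_mem (QuotientGroup.eq.1 h3)
    simpa [mul_inv_rev] using h4

theorem conjTwist_eq_of_mem {θ : N → ℂ} {g b : G} (h : g * b⁻¹ ∈ inertia N θ) :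
    conjTwist N θ g = conjTwist N θ b := by
  conv_rhs => rw [← (mem_inertia N).1 h, conjTwist_conjTwist, inv_mul_cancel_right]

/-- Stabiliser counting for a twist. -/
theorem orbit_invariant_of_coprime (α : N → ℂ) (B : N →* ℂˣ)
    (hcop : Nat.Coprime (inertia N α).index (inertia N (lin B)).index)
    (hcancel : ∀ g : G, α * conjTwist N (lin B) g = α * lin B → conjTwist N (lin B) g = lin B)
    (hw : Nat.Coprime (inertia N (α * lin B)).index (inertia N (lin B)).index)
    (x g : G) :
    conjTwist N α x * lin (twHom N B g * B⁻¹) ∈ twistOrbit N α := by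
  set A := inertia N α with hA
  set C := inertia N (lin B) with hC
  set T := inertia N (α * lin B) with hT
  have hAT : A ⊓ T = A ⊓ C := by
    ext y
    simp only [Subgroup.mem_inf, hA, hT, hC, mem_inertia, conjTwist_mul_fun]
    refine ⟨fun h => ⟨h.1, hcancel y ?_⟩, fun h => ⟨h.1, by rw [h.1, h.2]⟩⟩
    rw [← h.2, h.1]
  have hCT : C ⊓ T = A ⊓ C := by
    ext y
    simp only [Subgroup.mem_inf, hA, hT, hC, mem_inertia, conjTwist_mul_fun]
    refine ⟨fun h => ⟨?_, h.1⟩, fun h => ⟨h.2, by rw [h.1, h.2]⟩⟩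
    funext n
    have h2 := congrFun h.2 n
    rw [h.1] at h2
    exact mul_right_cancel₀ (B n).ne_zero h2
  have hpos : ∀ H : Subgroup G, 0 < H.index := fun H =>
    Nat.pos_of_ne_zero Subgroup.index_ne_zero_of_finite
  have hAC : (A ⊓ C).index = A.index * C.index := le_antisymm Subgroup.index_inf_le
    (Nat.le_of_dvd (hpos _) (hcop.mul_dvd_of_dvd_of_dvd (Subgroup.index_dvd_of_le inf_le_left)
      (Subgroup.index_dvd_of_le inf_le_right)))
  have hwdvd : T.index ∣ A.index := by
    refine hw.dvd_of_dvd_mul_right ?_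
    rw [← hAC, ← hCT]
    exact Subgroup.index_dvd_of_le inf_le_right
  have hTC : (T ⊓ C).index = T.index * C.index := by
    have h1 : A.index ≤ T.index := by
      refine Nat.le_of_mul_le_mul_right ?_ (hpos C)
      rw [← hAC, ← hCT, inf_comm]
      exact Subgroup.index_inf_le
    rw [inf_comm, hCT, hAC, le_antisymm h1 (Nat.le_of_dvd (hpos _) hwdvd)]
  -- every conjugate of the twist is a conjugate by the stabiliser of the linear part
  obtain ⟨y, hy, hxy⟩ := exists_mem_mul_inv hAC x
  have hx : conjTwist N α x = conjTwist N α y := conjTwist_eq_of_mem N hxy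
  have hAC' : (C ⊓ A).index = C.index * A.index := by rw [inf_comm, hAC, mul_comm]
  obtain ⟨k, hk, hgk⟩ := exists_mem_mul_inv hAC' (g * y⁻¹)
  obtain ⟨b, hb, hkb⟩ := exists_mem_mul_inv hTC k
  have e1 := conjTwist_eq_of_mem N hkb
  rw [conjTwist_mul_fun, conjTwist_mul_fun, (mem_inertia N).1 hk, (mem_inertia N).1 hb] at e1
  have e2 := conjTwist_eq_of_mem N hgk
  rw [← e2] at e1
  refine (mem_twistOrbit N).2 ⟨b * y, ?_⟩
  rw [hx, ← conjTwist_conjTwist]
  funext n
  have e3 := congrFun (congrArg (fun f => conjTwist N f y) e1) n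
  simp only [conjTwist_mul_fun, Pi.mul_apply, conjTwist_conjTwist, inv_mul_cancel_right,
    (mem_inertia N).1 hy] at e3
  have e4 : (lin B n : ℂ) ≠ 0 := (B n).ne_zero
  apply mul_right_cancel₀ e4
  rw [conjTwist_conjTwist]
  rw [← e3]
  simp only [lin, MonoidHom.mul_apply, MonoidHom.inv_apply, Units.val_mul, conjTwist_lin,
    Units.val_inv_eq_inv_val, inv_mul_cancel_right₀ (B n).ne_zero]
  show _ = (conjTwist N α y n * (((twHom N B g * B⁻¹) n : ℂˣ) : ℂ)) * (B n : ℂ)
  rw [MonoidHom.mul_apply, MonoidHom.inv_apply, Units.val_mul, mul_assoc, mul_assoc,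
    Units.inv_mul, mul_one]

/-- A twist of prime order without fixed points on an orbit has order dividing its length. -/
theorem dvd_card_of_free {p : ℕ} [Fact p.Prime] (S : Finset (N → ℂ)) (ν : N →* ℂˣ)
    (hνp : ν ^ p = 1) (hS : ∀ φ ∈ S, φ * lin ν ∈ S) (hfree : ∀ φ ∈ S, φ * lin ν ≠ φ) :
    p ∣ S.card := by
  let f : S → S := fun φ => ⟨φ.1 * lin ν, hS _ φ.2⟩
  have hinj : Function.Injective f := fun φ ψ h => Subtype.ext (funext fun n =>
    mul_right_cancel₀ (ν n).ne_zero (congrFun (congrArg Subtype.val h) n))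
  let σ : Equiv.Perm S := Equiv.ofBijective f (Finite.injective_iff_bijective.1 hinj)
  have hpow : ∀ (k : ℕ) (φ : S), ((σ ^ k) φ).1 = φ.1 * lin (ν ^ k) := by
    intro k
    induction k with
    | zero => intro φ; funext n; simp [lin]
    | succ k ih =>
      intro φ
      rw [pow_succ, Equiv.Perm.mul_apply, ih]
      funext n
      simp [σ, f, lin, pow_succ', mul_assoc]
  by_contra hp
  rw [← Fintype.card_coe S] at hp
  obtain ⟨φ, hφ⟩ := Equiv.Perm.exists_fixed_point_of_prime (n := 1) hp (σ := σ)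
    (Equiv.ext fun φ => Subtype.ext (by
      rw [pow_one, hpow, hνp, Equiv.Perm.coe_one, id_eq]
      funext n
      simp [lin]))
  exact hfree _ φ.2 (congrArg Subtype.val hφ)

/-- There is an irreducible character of `G` over any irreducible character of `N`. -/
theorem exists_over [Fintype N] {φ : N → ℂ} (hφ : IsIrrCharacter N φ) :
    ∃ η : IrrCharacter G, classInner (fun x : N => (η : G → ℂ) x) φ ≠ 0 := by
  obtain ⟨η, hη⟩ := exists_constituent (isCharacter_indFun N hφ.isCharacter) (by
    rw [indFun_apply_one]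
    exact mul_ne_zero (Nat.cast_ne_zero.2 Subgroup.index_ne_zero_of_finite) hφ.apply_one_ne_zero)
  refine ⟨η, fun h => hη ?_⟩
  rw [classInner_indFun N φ η.2.isClassFunction, ← classInner_conj_symm, h, map_zero]

/-- An irreducible character over a nontrivial one gives a relative degree. -/
theorem mem_rel_of_over [Fintype N] {φ : N → ℂ} (hφ : IsIrrCharacter N φ)
    (hne : φ ≠ fun _ => 1) {η : IrrCharacter G}
    (hc : classInner (fun x : N => (η : G → ℂ) x) φ ≠ 0) :
    charDegree (η : G → ℂ) ∈ relCharDegrees N := by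
  refine ⟨η, ?_, rfl⟩
  by_contra hcon
  push Not at hcon
  apply hc
  rw [show (fun x : N => (η : G → ℂ) x) = (η : G → ℂ) 1 • fun _ : N => (1 : ℂ) from
    funext fun x => by simp [hcon x x.2], classInner_smul_left,
    classInner_irr_ne isIrrCharacter_one hφ (Ne.symm hne), mul_zero]

/-- The data of Clifford's theorem in natural numbers. -/
theorem over_data [Fintype N] {φ : N → ℂ} (hφ : IsIrrCharacter N φ) {f : ℕ} (hf : φ 1 = f)
    {η : IrrCharacter G} (hc : classInner (fun x : N => (η : G → ℂ) x) φ ≠ 0) :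
    ∃ e : ℕ, 0 < e ∧ charDegree (η : G → ℂ) = e * (inertia N φ).index * f ∧
      ∀ x : N, (η : G → ℂ) x = (e : ℂ) * ∑ ψ ∈ twistOrbit N φ, ψ x := by
  obtain ⟨e, he⟩ := (η.2.isCharacter.comp N.subtype).exists_nat_classInner hφ.isCharacter
  have he' : classInner (fun x : N => (η : G → ℂ) x) φ = (e : ℂ) := he
  refine ⟨e, Nat.pos_of_ne_zero fun h => hc (by rw [he', h, Nat.cast_zero]), ?_, fun x => ?_⟩
  · have h := clifford_degree N η.2 hφ hc
    rw [he', hf] at h
    exact Cfsg.Lib.Block.charDegree_eq_of_apply_one (by push_cast; exact h)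
  · have h := congrFun (clifford_res N η.2 hφ hc) x
    rw [he'] at h
    simpa [Finset.sum_apply] using h

/-- Evaluation away from a power-trivial twist. -/
theorem pow_eq_one_of_over [Fintype N] (hNG : N ≤ commutator G) {P : ℕ} (A B : N →* ℂˣ)
    (hA : ∀ g, twHom N A g = A) (hB : B ^ P = 1) {η : IrrCharacter G}
    (hc : classInner (fun x : N => (η : G → ℂ) x) (lin (A * B)) ≠ 0) (x : N) :
    A x ^ (P * charDegree (η : G → ℂ)) = 1 := by
  obtain ⟨e, -, hdeg, hval⟩ := over_data N (isIrr_lin N (A * B)) (f := 1) (by simp [lin]) hc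
  rw [mul_one] at hdeg
  let K : Subgroup G := (⨅ g : G, (twHom N B g).ker).map N.subtype
  have hK : K ≤ commutator G := fun y hy => by
    obtain ⟨z, -, rfl⟩ := Subgroup.mem_map.1 hy
    exact hNG z.2
  have hKN : K ≤ N := Subgroup.map_subtype_le _
  have key := pow_mul_eq_one_of_res (χ := fun _ : G => (1 : ℂ)) (η := (η : G → ℂ)) (a := 1)
    isCharacter_one η.2.isCharacter (by simp) (Cfsg.Lib.Block.apply_one_eq_charDegree η) K hK
    (A.comp (Subgroup.inclusion hKN)) (fun y => ?_)
  · have hx : ((x ^ P : N) : G) ∈ K := Subgroup.mem_map_of_mem _ (Subgroup.mem_iInf.2 fun g =>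
      (MonoidHom.mem_ker (f := twHom N B g)).2 (by
        rw [map_pow]
        show (B (MulAut.conjNormal g x)) ^ P = 1
        rw [← MonoidHom.pow_apply, hB, MonoidHom.one_apply]))
    have h := key ⟨_, hx⟩
    rw [one_mul] at h
    rw [pow_mul, ← map_pow]
    exact h
  · obtain ⟨z, hz, hzy⟩ := Subgroup.mem_map.1 y.2
    have hz' : ∀ g, twHom N B g z = 1 := fun g => MonoidHom.mem_ker.1 (Subgroup.mem_iInf.1 hz g)
    have hy : Subgroup.inclusion hKN y = z := Subtype.ext hzy.symm
    rw [Nat.cast_one, one_mul, mul_one, MonoidHom.comp_apply, hy,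
      show (y : G) = (z : G) from hzy.symm, hval z,
      Finset.sum_congr rfl (g := fun _ => (A z : ℂ)) fun ψ hψ => ?_, Finset.sum_const,
      nsmul_eq_mul, card_twistOrbit, hdeg, Nat.cast_mul, mul_assoc]
    obtain ⟨g, rfl⟩ := (mem_twistOrbit N).1 hψ
    rw [conjTwist_lin]
    show ((twHom N (A * B) g z : ℂˣ) : ℂ) = _
    rw [show twHom N (A * B) g z = twHom N A g z * twHom N B g z from rfl, hA, hz', mul_one]

theorem twHom_pow (L : N →* ℂˣ) (g : G) (k : ℕ) : twHom N (L ^ k) g = twHom N L g ^ k := rfl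

theorem hom_eq_of_mul_inv {A : Type u} [Group A] {K L : A →* ℂˣ} (h : K * L⁻¹ = 1) : K = L :=
  MonoidHom.ext fun x => mul_inv_eq_one.1 (DFunLike.congr_fun h x)

theorem one_hom_pow {A : Type u} [Group A] (k : ℕ) : (1 : A →* ℂˣ) ^ k = 1 :=
  MonoidHom.ext fun x => by simp

theorem lin_mul_one {A : Type u} [Group A] (L : A →* ℂˣ) : lin (L * 1) = lin L :=
  funext fun x => by simp [lin]

theorem eq_one_of_pow_coprime {M : Type*} [Monoid M] {x : M} {a b : ℕ} (ha : x ^ a = 1)
    (hb : x ^ b = 1) (h : Nat.Coprime a b) : x = 1 := by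
  rw [← orderOf_eq_one_iff, ← Nat.dvd_one, ← h.gcd_eq_one]
  exact Nat.dvd_gcd (orderOf_dvd_of_pow_eq_one ha) (orderOf_dvd_of_pow_eq_one hb)

/-- The number attached to a linear character of prime order. -/
noncomputable def tag (p : ℕ) (L : N →* ℂˣ) : ℕ :=
  if (inertia N (lin L)).index = 1 then p else (inertia N (lin L)).index

theorem one_lt_tag {p : ℕ} (hp : p.Prime) (L : N →* ℂˣ) : 1 < tag N p L := by
  rw [tag]
  split_ifs with h
  · exact hp.one_lt
  · have := Subgroup.index_ne_zero_of_finite (H := inertia N (lin L))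
    omega

theorem twHom_eq_of_index_one {L : N →* ℂˣ} (h : (inertia N (lin L)).index = 1) (g : G) :
    twHom N L g = L :=
  (mem_inertia_lin N).1 (by rw [Subgroup.index_eq_one.1 h]; trivial)

variable [Fintype N]

/-- Degrees over a twist of a character of order `p` by one of coprime order are divisible by
the tag. -/
theorem tag_dvd (hNG : N ≤ commutator G) {p : ℕ} (hp : p.Prime) {L : N →* ℂˣ} (hL1 : L ≠ 1)
    (hLp : L ^ p = 1) {P : ℕ} (hP : Nat.Coprime P p) {B : N →* ℂˣ} (hB : B ^ P = 1)
    {η : IrrCharacter G} (hc : classInner (fun x : N => (η : G → ℂ) x) (lin (L * B)) ≠ 0) :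
    tag N p L ∣ charDegree (η : G → ℂ) := by
  rw [tag]
  split_ifs with h
  · have h1 : L ^ (P * charDegree (η : G → ℂ)) = 1 := MonoidHom.ext fun x => by
      rw [MonoidHom.pow_apply]
      exact pow_eq_one_of_over N hNG L B (twHom_eq_of_index_one N h) hB hc x
    haveI : Fact p.Prime := ⟨hp⟩
    have h2 := orderOf_dvd_of_pow_eq_one (G := N →* ℂˣ) h1
    rw [orderOf_eq_prime (G := N →* ℂˣ) hLp hL1] at h2
    exact (hp.dvd_mul.1 h2).resolve_left fun h3 => hp.coprime_iff_not_dvd.1 hP.symm h3
  · obtain ⟨e, -, hdeg, -⟩ := over_data N (isIrr_lin N (L * B)) (f := 1) (by simp [lin]) hc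
    rw [hdeg, mul_one]
    refine (Subgroup.index_dvd_of_le ?_).mul_left e
    intro g hg
    rw [mem_inertia_lin] at hg ⊢
    obtain ⟨k, hk⟩ := Nat.exists_mul_mod_eq_one_of_coprime hP hp.one_lt
    have hk1 : (L * B) ^ (P * k) = L := MonoidHom.ext fun x => by
      have h1 : L x ^ p = 1 := by rw [← MonoidHom.pow_apply, hLp, MonoidHom.one_apply]
      have h2 : B x ^ P = 1 := by rw [← MonoidHom.pow_apply, hB, MonoidHom.one_apply]
      rw [MonoidHom.pow_apply, MonoidHom.mul_apply, mul_pow, pow_mul (B x), h2, one_pow, mul_one,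
        ← Nat.div_add_mod (P * k) p, hk.2, pow_add, pow_mul, h1, one_pow, one_mul, pow_one]
    rw [← hk1, twHom_pow, hg]

/-- The degree of a character over an invariant linear character and its twist. -/
theorem share_of_linear_invariant (hNG : N ≤ commutator G) {p : ℕ} (hp : p.Prime)
    {L A : N →* ℂˣ} (hLp : L ^ p = 1) (hA1 : A ≠ 1)
    (hA : ∀ g, twHom N A g = A) {χ η : IrrCharacter G}
    (hcχ : classInner (fun x : N => (χ : G → ℂ) x) (lin A) ≠ 0)
    (hcη : classInner (fun x : N => (η : G → ℂ) x) (lin (A * L)) ≠ 0)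
    (hpa : ¬ p ∣ charDegree (χ : G → ℂ)) :
    1 < Nat.gcd (charDegree (χ : G → ℂ)) (charDegree (η : G → ℂ)) := by
  have h1 : A ^ (1 * charDegree (χ : G → ℂ)) = 1 := MonoidHom.ext fun x => by
    rw [MonoidHom.pow_apply]
    exact pow_eq_one_of_over N hNG A 1 hA (one_hom_pow 1) (by rwa [lin_mul_one]) x
  have h2 : A ^ (p * charDegree (η : G → ℂ)) = 1 := MonoidHom.ext fun x => by
    rw [MonoidHom.pow_apply]
    exact pow_eq_one_of_over N hNG A L hA hLp hcη x
  rw [one_mul] at h1
  by_contra h
  have hpos := Nat.gcd_pos_of_pos_left (charDegree (η : G → ℂ))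
    (Cfsg.Lib.Block.charDegree_pos χ)
  have hco : Nat.Coprime (charDegree (χ : G → ℂ)) (charDegree (η : G → ℂ)) :=
    Nat.coprime_iff_gcd_eq_one.2 (by omega)
  exact hA1 (eq_one_of_pow_coprime (M := N →* ℂˣ) h1 h2 (Nat.Coprime.mul_right
    (hp.coprime_iff_not_dvd.2 hpa).symm hco))

/-- A degree prime to `p` shares a prime with a degree that shares a prime with the tag. -/
theorem exists_share (hNG : N ≤ commutator G) {p : ℕ} (hp : p.Prime) {L : N →* ℂˣ} (hL1 : L ≠ 1)
    (hLp : L ^ p = 1) (hpt : ¬ p ∣ (inertia N (lin L)).index) {a : ℕ}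
    (ha : a ∈ relCharDegrees N) (hpa : ¬ p ∣ a) :
    ∃ c ∈ relCharDegrees N, 1 < Nat.gcd a c ∧ 1 < Nat.gcd c (tag N p L) := by
  haveI : Fact p.Prime := ⟨hp⟩
  have hapos : 0 < a := Nat.pos_of_ne_zero fun h => hpa (h ▸ dvd_zero p)
  set t := (inertia N (lin L)).index with ht
  by_cases hat : t ≠ 1 ∧ 1 < Nat.gcd a t
  · refine ⟨a, ha, ?_, ?_⟩
    · rw [Nat.gcd_self]
      exact lt_of_lt_of_le hat.2 (Nat.gcd_le_left t hapos)
    · rw [tag, ← ht, if_neg hat.1]
      exact hat.2
  obtain ⟨χ, hχN, hχa⟩ := ha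
  obtain ⟨θ, hθc⟩ := exists_irr_constituent_res N χ.2
  obtain ⟨f, hfpos, hf⟩ := θ.2.exists_degree
  obtain ⟨e, he, hdeg, hval⟩ := over_data N θ.2 hf hθc
  rw [hχa] at hdeg
  set s := (inertia N (θ : N → ℂ)).index with hs
  have hfa : f ∣ a := hdeg ▸ dvd_mul_left _ _
  have hsa : s ∣ a := hdeg ▸ (dvd_mul_left s e).mul_right f
  have hpf : Nat.Coprime p f := hp.coprime_iff_not_dvd.2 fun h => hpa (h.trans hfa)
  have hθ1 : (θ : N → ℂ) ≠ fun _ => 1 := by
    intro h
    obtain ⟨x, hx, hxne⟩ := hχN
    refine hxne ?_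
    have hv : ∀ y : N, (χ : G → ℂ) y = (e : ℂ) * ((twistOrbit N (θ : N → ℂ)).card : ℂ) := by
      intro y
      rw [hval y, Finset.sum_congr rfl (g := fun _ => (1 : ℂ)) fun ψ hψ => ?_, Finset.sum_const,
        nsmul_eq_mul, mul_one]
      obtain ⟨g, rfl⟩ := (mem_twistOrbit N).1 hψ
      rw [conjTwist_apply, h]
    exact (hv ⟨x, hx⟩).trans (hv 1).symm
  have hμirr : IsIrrCharacter N ((θ : N → ℂ) * lin L) := isIrrCharacter_mul_linear θ.2 L
  have hμ1 : ((θ : N → ℂ) * lin L) ≠ fun _ => 1 := by
    intro h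
    have hθL : (θ : N → ℂ) = lin L⁻¹ := funext fun n => by
      have h2 : (θ : N → ℂ) n * lin L n = 1 := congrFun h n
      simp only [lin, MonoidHom.inv_apply, Units.val_inv_eq_inv_val]
      exact eq_inv_of_mul_eq_one_left h2
    have hi : L⁻¹ ^ p = 1 := MonoidHom.ext fun x => by
      rw [MonoidHom.pow_apply, MonoidHom.inv_apply, inv_pow, ← MonoidHom.pow_apply, hLp,
        MonoidHom.one_apply, inv_one]
    have h3 := tag_dvd N hNG hp (L := L⁻¹) (fun h4 => hL1 (MonoidHom.ext fun x => inv_eq_one.1 (DFunLike.congr_fun h4 x))) hi (Nat.coprime_one_left p) (B := 1)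
      (one_hom_pow 1) (η := χ) (by rwa [lin_mul_one, ← hθL])
    have hin : inertia N (lin L⁻¹) = inertia N (lin L) := by
      ext g
      rw [mem_inertia_lin, mem_inertia_lin]
      exact ⟨fun h4 => inv_injective h4, fun h4 => congrArg (·⁻¹) h4⟩
    rw [tag, hin, ← ht, hχa] at h3
    split_ifs at h3 with h5
    · exact hpa h3
    · refine hat ⟨h5, ?_⟩
      rw [Nat.gcd_eq_right h3]
      have := Subgroup.index_ne_zero_of_finite (H := inertia N (lin L))
      omega
  have hμf : ((θ : N → ℂ) * lin L) 1 = (f : ℂ) := by simp [lin, hf]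
  obtain ⟨η, hηc⟩ := exists_over N hμirr
  obtain ⟨e', he', hdeg', hval'⟩ := over_data N hμirr hμf hηc
  set w := (inertia N ((θ : N → ℂ) * lin L)).index with hw
  set c := charDegree (η : G → ℂ) with hc
  have hfc : f ∣ c := hdeg' ▸ dvd_mul_left _ _
  have hwc : w ∣ c := hdeg' ▸ (dvd_mul_left w e').mul_right f
  refine ⟨c, mem_rel_of_over N hμirr hμ1 hηc, ?_⟩
  have hgcd : ∀ d, 1 < d → d ∣ a → d ∣ c → 1 < Nat.gcd a c := fun d h1 h2 h3 =>
    lt_of_lt_of_le h1 (Nat.le_of_dvd (Nat.gcd_pos_of_pos_left _ hapos) (Nat.dvd_gcd h2 h3))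
  have hlinear : s = 1 → f = 1 → 1 < Nat.gcd a c := by
    intro hs1 hf1
    obtain ⟨A, hA⟩ := exists_hom_of_degree_one θ.2.isCharacter (by rw [hf, hf1, Nat.cast_one])
    have hA' : (θ : N → ℂ) = lin A := hA
    have h := share_of_linear_invariant N hNG hp hLp (A := A) (fun h => hθ1 (by
        rw [hA', h]; funext n; simp [lin]))
      (twHom_eq_of_index_one N (by rw [← hA', ← hs]; exact hs1)) (χ := χ) (η := η)
      (hA' ▸ hθc) (by
        rw [show lin (A * L) = (θ : N → ℂ) * lin L by rw [hA']; rfl]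
        exact hηc) (hχa ▸ hpa)
    rwa [hχa] at h
  by_cases ht1 : t = 1
  · -- an invariant linear character
    have hinv := twHom_eq_of_index_one N (L := L) ht1
    have horb : twistOrbit N ((θ : N → ℂ) * lin L) =
        (twistOrbit N (θ : N → ℂ)).map ⟨fun φ => φ * lin L, fun φ ψ h => funext fun n =>
          mul_right_cancel₀ (L n).ne_zero (congrFun h n)⟩ := by
      ext φ
      simp only [mem_twistOrbit, Finset.mem_map, Function.Embedding.coeFn_mk]
      constructor
      · rintro ⟨g, rfl⟩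
        refine ⟨_, ⟨g, rfl⟩, ?_⟩
        rw [conjTwist_mul_fun, conjTwist_lin, hinv]
        rfl
      · rintro ⟨ψ, ⟨g, rfl⟩, rfl⟩
        refine ⟨g, ?_⟩
        rw [conjTwist_mul_fun, conjTwist_lin, hinv]
        rfl
    have hws : w = s := by rw [hw, hs, ← card_twistOrbit, ← card_twistOrbit, horb, Finset.card_map]
    have hpc : p ∣ c := by
      have h1 : L ^ (a * c) = 1 := MonoidHom.ext fun x => by
        rw [MonoidHom.pow_apply]
        refine pow_mul_eq_one_of_res (χ := (χ : G → ℂ)) (η := (η : G → ℂ)) χ.2.isCharacter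
          η.2.isCharacter (by rw [Cfsg.Lib.Block.apply_one_eq_charDegree, hχa])
          (Cfsg.Lib.Block.apply_one_eq_charDegree η) N hNG L (fun y => ?_) x
        rw [hval y, hval' y, horb, Finset.sum_map, ← hc, hdeg, hdeg', hws]
        show _ * (_ * ∑ ψ ∈ twistOrbit N (θ : N → ℂ), ψ y * (L y : ℂ)) = _
        rw [← Finset.sum_mul]
        push_cast
        ring
      have h2 := orderOf_dvd_of_pow_eq_one (G := N →* ℂˣ) h1
      rw [orderOf_eq_prime (G := N →* ℂˣ) hLp hL1] at h2
      exact (hp.dvd_mul.1 h2).resolve_left hpa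
    refine ⟨?_, ?_⟩
    · by_cases hsf : s = 1 ∧ f = 1
      · exact hlinear hsf.1 hsf.2
      rcases not_and_or.1 hsf with h | h
      · exact hgcd s (by
          have := Subgroup.index_ne_zero_of_finite (H := inertia N (θ : N → ℂ))
          omega) hsa (hws ▸ hwc)
      · exact hgcd f (by omega) hfa hfc
    · rw [tag, ← ht, if_pos ht1, Nat.gcd_eq_right hpc]
      exact hp.one_lt
  have hcop : Nat.Coprime a t := by
    have h2 : ¬ 1 < Nat.gcd a t := fun h => hat ⟨ht1, h⟩
    have := Nat.gcd_pos_of_pos_left t hapos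
    exact Nat.coprime_iff_gcd_eq_one.2 (by omega)
  have hst : Nat.Coprime s t := hcop.coprime_dvd_left hsa
  have hLx : ∀ x : N, L x ^ p = 1 := fun x => by
    rw [← MonoidHom.pow_apply, hLp, MonoidHom.one_apply]
  have hLg : ∀ g, (twHom N L g * L⁻¹) ^ p = 1 := fun g => MonoidHom.ext fun x => by
    rw [MonoidHom.pow_apply, MonoidHom.mul_apply, MonoidHom.inv_apply, mul_pow, inv_pow,
      show twHom N L g x = L (MulAut.conjNormal g x) from rfl, hLx, hLx, inv_one, mul_one]
    rfl
  have hfree : ∀ ν : N →* ℂˣ, ν ^ p = 1 → ∀ g : G,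
      conjTwist N (θ : N → ℂ) g * lin ν = conjTwist N (θ : N → ℂ) g → ν = 1 := by
    intro ν hν g h
    refine eq_one_of_pow_coprime hν (MonoidHom.ext fun x => ?_) hpf
    rw [MonoidHom.pow_apply]
    exact pow_degree_eq_one_of_twist (isCharacter_conjTwist N θ.2.isCharacter g)
      (by rw [conjTwist_apply_one, hf]) ν (congrFun h) x
  refine ⟨?_, ?_⟩
  · by_cases hf1 : f = 1
    · by_cases hs1 : s = 1
      · exact hlinear hs1 hf1
      obtain ⟨A, hA⟩ := exists_hom_of_degree_one θ.2.isCharacter (by rw [hf, hf1, Nat.cast_one])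
      have hA' : (θ : N → ℂ) = lin A := hA
      have hs0 := Subgroup.index_ne_zero_of_finite (H := inertia N (θ : N → ℂ))
      obtain ⟨g, hg⟩ : ∃ g, g ∉ inertia N (lin A) := by
        by_contra hcon
        push Not at hcon
        exact hs1 (by rw [hs, hA', Subgroup.index_eq_one]; exact eq_top_iff.2 fun g _ => hcon g)
      have hnc : ¬ Nat.Coprime w s := by
        intro hws
        have hinv : ∀ x, conjTwist N (lin L) x * lin (twHom N A g * A⁻¹) ∈
            twistOrbit N (lin L) := fun x => by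
          refine orbit_invariant_of_coprime N (lin L) A ?_ ?_ ?_ x g
          · rw [← hA', ← hs, ← ht]; exact hst.symm
          · intro y h
            funext n
            exact mul_left_cancel₀ (L n).ne_zero (congrFun h n)
          · rw [mul_comm, ← hA', ← hs, ← hw]; exact hws
        have hν : (twHom N A g * A⁻¹) ^ p = 1 := by
          have h1 := hinv 1
          rw [conjTwist_one] at h1
          obtain ⟨y, hy⟩ := (mem_twistOrbit N).1 h1
          rw [conjTwist_lin, show lin L * lin (twHom N A g * A⁻¹) =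
            lin (L * (twHom N A g * A⁻¹)) from rfl] at hy
          refine MonoidHom.ext fun n => ?_
          have h2 : L (MulAut.conjNormal y n) = L n * (twHom N A g * A⁻¹) n :=
            DFunLike.congr_fun (linearChar_injective hy) n
          rw [MonoidHom.pow_apply, eq_inv_mul_of_mul_eq h2.symm, mul_pow, inv_pow, hLx, hLx,
            inv_one, one_mul]
          rfl
        refine hpt ?_
        rw [ht, ← card_twistOrbit]
        refine dvd_card_of_free N _ _ hν (fun φ hφ => ?_) fun φ hφ h => ?_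
        · obtain ⟨x, rfl⟩ := (mem_twistOrbit N).1 hφ
          exact hinv x
        · obtain ⟨x, rfl⟩ := (mem_twistOrbit N).1 hφ
          refine hg ((mem_inertia_lin N).2 (hom_eq_of_mul_inv (MonoidHom.ext fun n => Units.ext ?_)))
          have h2 := congrFun h n
          rw [conjTwist_lin] at h2
          exact (mul_eq_left₀ (twHom N L x n).ne_zero).1 h2
      have hg1 : 1 < Nat.gcd w s := by
        have : 0 < Nat.gcd w s := Nat.gcd_pos_of_pos_right w (Nat.pos_of_ne_zero hs0)
        rw [Nat.coprime_iff_gcd_eq_one] at hnc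
        omega
      exact hgcd _ hg1 ((Nat.gcd_dvd_right w s).trans hsa) ((Nat.gcd_dvd_left w s).trans hwc)
    · exact hgcd f (by omega) hfa hfc
  · have hnc : ¬ Nat.Coprime w t := by
      intro hwt
      obtain ⟨g, hg⟩ : ∃ g, g ∉ inertia N (lin L) := by
        by_contra hcon
        push Not at hcon
        exact ht1 (by rw [ht, Subgroup.index_eq_one]; exact eq_top_iff.2 fun g _ => hcon g)
      refine hpa (dvd_trans ?_ hsa)
      rw [hs, ← card_twistOrbit]
      refine dvd_card_of_free N _ _ (hLg g) (fun φ hφ => ?_) fun φ hφ h => ?_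
      · obtain ⟨x, rfl⟩ := (mem_twistOrbit N).1 hφ
        refine orbit_invariant_of_coprime N _ L hst (fun y h => ?_) hwt x g
        have h1 : conjTwist N (θ : N → ℂ) 1 * lin (twHom N L y * L⁻¹) =
            conjTwist N (θ : N → ℂ) 1 := by
          rw [conjTwist_one]
          funext n
          have h2 := congrFun h n
          rw [Pi.mul_apply, Pi.mul_apply, conjTwist_lin] at h2
          apply mul_right_cancel₀ (L n).ne_zero
          show (θ : N → ℂ) n * (((twHom N L y * L⁻¹) n : ℂˣ) : ℂ) * (L n : ℂ) = _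
          rw [MonoidHom.mul_apply, MonoidHom.inv_apply, Units.val_mul, mul_assoc, mul_assoc,
            Units.inv_mul, mul_one]
          exact h2
        rw [conjTwist_lin, hom_eq_of_mul_inv (hfree _ (hLg y) 1 h1)]
      · obtain ⟨x, rfl⟩ := (mem_twistOrbit N).1 hφ
        exact hg ((mem_inertia_lin N).2 (hom_eq_of_mul_inv (hfree _ (hLg g) x h)))
    rw [tag, ← ht, if_neg ht1]
    have h1 : 1 < Nat.gcd w t := by
      have h0 := Subgroup.index_ne_zero_of_finite (H := inertia N (lin L))
      have : 0 < Nat.gcd w t := Nat.gcd_pos_of_pos_right w (Nat.pos_of_ne_zero h0)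
      rw [Nat.coprime_iff_gcd_eq_one] at hnc
      omega
    exact lt_of_lt_of_le h1 (Nat.le_of_dvd (Nat.gcd_pos_of_pos_right c (Nat.pos_of_ne_zero
      Subgroup.index_ne_zero_of_finite)) (Nat.gcd_dvd_gcd_of_dvd_left t hwc))

/-- A prime dividing `|N : N'|` has a linear character of that order whose orbit has size prime
to it. -/
theorem exists_anchor {p : ℕ} (hp : p.Prime) (hdvd : p ∣ ⁅N, N⁆.relIndex N) :
    ∃ L : N →* ℂˣ, L ≠ 1 ∧ L ^ p = 1 ∧ ¬ p ∣ (inertia N (lin L)).index := by
  haveI : Fact p.Prime := ⟨hp⟩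
  have hidx : ⁅N, N⁆.relIndex N = (commutator N).index := by
    rw [Subgroup.relIndex, ← Subgroup.map_subtype_commutator,
      ← Subgroup.comap_subtype, Subgroup.comap_map_eq_self_of_injective N.subtype_injective]
  have hcard : Nat.card (N →* ℂˣ) = ⁅N, N⁆.relIndex N := by rw [hidx, card_linear_eq_index]
  haveI : Finite (N →* ℂˣ) := Nat.finite_of_card_ne_zero (by
    rw [hcard, hidx]; exact Subgroup.index_ne_zero_of_finite)
  obtain ⟨L₀, hL₀⟩ := exists_prime_orderOf_dvd_card' (G := N →* ℂˣ) p (hcard ▸ hdvd)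
  let E : Subgroup (N →* ℂˣ) := (powMonoidHom p).ker
  have hE : IsPGroup p E := fun x => ⟨1, Subtype.ext (by
    rw [pow_one, SubgroupClass.coe_pow]; exact x.2)⟩
  obtain ⟨P⟩ : Nonempty (Sylow p G) := inferInstance
  have hmem : ∀ (g : G) (L : E), twHom N (L : N →* ℂˣ) g ∈ E := fun g L => by
    show (twHom N (L : N →* ℂˣ) g) ^ p = 1
    rw [← twHom_pow, show (L : N →* ℂˣ) ^ p = 1 from L.2]
    rfl
  letI act : MulAction (P : Subgroup G) E :=
    { smul := fun g L => ⟨twHom N L (g⁻¹ : G), hmem _ L⟩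
      one_smul := fun L => Subtype.ext (MonoidHom.ext fun n => congrArg (L : N →* ℂˣ)
        (Subtype.ext (by simp)))
      mul_smul := fun g k L => Subtype.ext (MonoidHom.ext fun n => congrArg (L : N →* ℂˣ)
        (Subtype.ext (by simp [mul_assoc]))) }
  have hdvdE : p ∣ Nat.card E := by
    have hm : L₀ ∈ E := MonoidHom.mem_ker.2 (by
      rw [powMonoidHom_apply, ← hL₀]; exact pow_orderOf_eq_one _)
    rw [← hL₀]
    have h := orderOf_dvd_natCard (⟨L₀, hm⟩ : E)
    rwa [Subgroup.orderOf_mk] at h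
  have hfix1 : (1 : E) ∈ MulAction.fixedPoints (P : Subgroup G) E := fun g => rfl
  obtain ⟨L, hL, hne⟩ :=
    P.isPGroup'.exists_fixed_point_of_prime_dvd_card_of_fixed_point E hdvdE hfix1
  refine ⟨L, fun h => hne (Subtype.ext h.symm), L.2, fun h => P.not_dvd_index (h.trans ?_)⟩
  refine Subgroup.index_dvd_of_le fun g hg => (mem_inertia_lin N).2 ?_
  have h1 := congrArg Subtype.val (hL (⟨g⁻¹, inv_mem hg⟩ : (P : Subgroup G)))
  change twHom N (L : N →* ℂˣ) (g⁻¹)⁻¹ = (L : N →* ℂˣ) at h1
  rwa [inv_inv] at h1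

end Cfsg.Lib.Char.RelDeg
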