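import Cfsg.Agent.S0188
import Cfsg.Agent.Lib.Char.CoherenceDescent
import Cfsg.Agent.Lib.Char.TIExceptional
import Cfsg.Agent.Lib.Core.Cores
import Cfsg.Agent.Lib.Solv.Nilpotent

/-!
# Degree squares below a given degree in nilpotent groups

For an irreducible character of degree `D > 1` of a finite nilpotent group the characters of
smaller degree have degree squares summing to at least `D ^ 2`.  A relative version, for the
characters nontrivial on a central subgroup of the Sylow `r`-subgroup, is what the coherence of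
this set of characters under a fixed-point-free group of operators of order `q` needs.
-/

set_option autoImplicit false
set_option linter.unusedSectionVars false
set_option linter.style.haveILetI false

namespace Cfsg.Lib.Char.NilDegree

open Cfsg Cfsg.Lib.Char
open scoped Classical commutatorElement

universe u

variable {X : Type u} [Group X] [Fintype X]

/-- The degree. -/
noncomputable abbrev dg (χ : IrrCharacter X) : ℕ := charDegree (χ : X → ℂ)

theorem apply_one (χ : IrrCharacter X) : (χ : X → ℂ) 1 = (dg χ : ℂ) := χ.2.apply_one_eq_charDegree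

theorem dg_pos (χ : IrrCharacter X) : 0 < dg χ := by
  rcases Nat.eq_zero_or_pos (dg χ) with h | h
  · exact absurd (by rw [apply_one, h, Nat.cast_zero]) χ.2.apply_one_ne_zero
  · exact h

theorem sum_sq : ∑ χ : IrrCharacter X, dg χ ^ 2 = Nat.card X := by
  have h := sum_sq_degree (G := X)
  simp only [apply_one] at h
  exact_mod_cast h

theorem sum_sq_triv (K : Subgroup X) [K.Normal] :
    ∑ χ ∈ Finset.univ.filter (fun χ : IrrCharacter X => ∀ k ∈ K, (χ : X → ℂ) k = (χ : X → ℂ) 1), dg χ ^ 2 =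
      K.index := by
  have h := sum_sq_trivialOn (N := X) K
  rw [Finset.sum_congr rfl (g := fun χ => ((dg χ ^ 2 : ℕ) : ℂ)) (fun χ _ => by rw [apply_one]; push_cast; rfl),
    ← Nat.cast_sum] at h
  exact_mod_cast h

theorem sq_le_index (K : Subgroup X) (hc : ∀ k ∈ K, ∀ x : X, k * x = x * k) (χ : IrrCharacter X) :
    dg χ ^ 2 ≤ K.index := by
  haveI := Fintype.ofFinite K
  have h := sq_degree_le_of_central K χ.2 fun x hx y => by
    rw [hc x hx y]; group
  rw [apply_one, Complex.natCast_re] at h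
  exact_mod_cast h

theorem sq_le_card (χ : IrrCharacter X) : dg χ ^ 2 ≤ Nat.card X :=
  (Finset.single_le_sum (f := fun χ : IrrCharacter X => dg χ ^ 2) (fun _ _ => Nat.zero_le _)
    (Finset.mem_univ χ)).trans_eq sum_sq

/-- A constant irreducible character is trivial. -/
theorem apply_eq_one (χ : IrrCharacter X) (h : ∀ x, (χ : X → ℂ) x = (χ : X → ℂ) 1) :
    (χ : X → ℂ) = fun _ => 1 := by
  have hn := classInner_irr_self χ.2
  have hc : (χ : X → ℂ) = (dg χ : ℂ) • fun _ => (1 : ℂ) := by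
    funext x; rw [h x, apply_one]; simp
  rw [hc, classInner_smul_left, classInner_smul_right, classInner_irr_self isIrrCharacter_one,
    Complex.conj_natCast, mul_one, ← Nat.cast_mul, Nat.cast_eq_one] at hn
  rw [hc, Nat.eq_one_of_mul_eq_one_left hn, Nat.cast_one, one_smul]

/-- In a family of degrees which are powers of `r`, with total square sum divisible by `(r ^ i) ^ 2`,
the degrees below `r ^ i` contribute a multiple of it. -/
theorem sq_dvd_low {ι : Type*} {S : Finset ι} {d : ι → ℕ} {r i : ℕ} (hr : r.Prime)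
    (hd : ∀ x ∈ S, ∃ k, d x = r ^ k) (hdiv : (r ^ i) ^ 2 ∣ ∑ x ∈ S, d x ^ 2) :
    (r ^ i) ^ 2 ∣ ∑ x ∈ S.filter (fun x => d x < r ^ i), d x ^ 2 := by
  rw [← Finset.sum_filter_add_sum_filter_not S (fun x => d x < r ^ i)] at hdiv
  refine (Nat.dvd_add_left (Finset.dvd_sum fun x hx => ?_)).1 hdiv
  obtain ⟨hxS, hx'⟩ := Finset.mem_filter.1 hx
  obtain ⟨k, hk⟩ := hd x hxS
  rw [hk] at hx' ⊢
  exact pow_dvd_pow_of_dvd (pow_dvd_pow r ((Nat.pow_le_pow_iff_right hr.one_lt).1 (not_lt.1 hx'))) 2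

theorem dvd_of_pow_le {r a b : ℕ} (hr : r.Prime) (ha : ∃ k, a = r ^ k) (hb : ∃ k, b = r ^ k) (h : a ≤ b) :
    a ∣ b := by
  obtain ⟨i, rfl⟩ := ha
  obtain ⟨j, rfl⟩ := hb
  exact pow_dvd_pow r ((Nat.pow_le_pow_iff_right hr.one_lt).1 h)

/-! ### Internal direct products -/

section Product

variable {A B : Subgroup X} (e : A × B ≃* X)

/-- The product of characters of the two factors. -/
noncomputable def prodIrr (a : IrrCharacter A) (b : IrrCharacter B) : IrrCharacter X :=
  ⟨(fun p : A × B => (a : A → ℂ) p.1 * (b : B → ℂ) p.2) ∘ e.symm,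
    isIrrCharacter_comp_equiv e.symm ((Cfsg.Agent.S0188.result _).2 ⟨_, _, a.2, b.2, rfl⟩)⟩

theorem prodIrr_apply (a : IrrCharacter A) (b : IrrCharacter B) (p : A × B) :
    (prodIrr e a b : X → ℂ) (e p) = (a : A → ℂ) p.1 * (b : B → ℂ) p.2 := by
  simp [prodIrr]

theorem prodIrr_apply_one (a : IrrCharacter A) (b : IrrCharacter B) :
    (prodIrr e a b : X → ℂ) 1 = (a : A → ℂ) 1 * (b : B → ℂ) 1 := by
  rw [← map_one e, prodIrr_apply]; rfl

theorem dg_prodIrr (a : IrrCharacter A) (b : IrrCharacter B) [Fintype A] [Fintype B] :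
    dg (prodIrr e a b) = dg a * dg b := by
  have h := prodIrr_apply_one e a b
  rw [apply_one, apply_one, apply_one] at h
  exact_mod_cast h

theorem prodIrr_injective [Fintype A] [Fintype B] :
    Function.Injective fun p : IrrCharacter A × IrrCharacter B => prodIrr e p.1 p.2 := by
  rintro ⟨a, b⟩ ⟨a', b'⟩ h
  have h' : ∀ p : A × B, (a : A → ℂ) p.1 * (b : B → ℂ) p.2 = (a' : A → ℂ) p.1 * (b' : B → ℂ) p.2 := fun p => by
    have := congrFun (congrArg Subtype.val h) (e p)
    simpa only [prodIrr_apply] using this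
  have ha : a = a' := by
    by_contra hne
    have h0 : classInner (a : A → ℂ) (a' : A → ℂ) = 0 :=
      classInner_irr_ne a.2 a'.2 fun e' => hne (Subtype.ext e')
    have h1 : classInner ((b : B → ℂ) 1 • (a : A → ℂ)) (a' : A → ℂ) =
        classInner ((b' : B → ℂ) 1 • (a' : A → ℂ)) (a' : A → ℂ) := by
      congr 1
      funext x
      simp only [Pi.smul_apply, smul_eq_mul]
      linear_combination h' (x, 1)
    rw [classInner_smul_left, classInner_smul_left, h0, classInner_irr_self a'.2, mul_zero, mul_one] at h1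
    exact b'.2.apply_one_ne_zero h1.symm
  subst ha
  exact Prod.ext rfl (Subtype.ext (funext fun y => mul_left_cancel₀ a.2.apply_one_ne_zero (h' (1, y))))

theorem exists_prodIrr [Fintype A] [Fintype B] (χ : IrrCharacter X) : ∃ a b, χ = prodIrr e a b := by
  obtain ⟨φ, ψ, hφ, hψ, h⟩ := (Cfsg.Agent.S0188.result ((χ : X → ℂ) ∘ e)).1 (isIrrCharacter_comp_equiv e χ.2)
  refine ⟨⟨φ, hφ⟩, ⟨ψ, hψ⟩, Subtype.ext (funext fun x => ?_)⟩
  have := congrFun h (e.symm x)
  simp only [Function.comp_apply, MulEquiv.apply_symm_apply] at this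
  simpa [prodIrr] using this

/-- The principal character of a factor. -/
noncomputable def trivChar (B : Subgroup X) : IrrCharacter B := ⟨fun _ => 1, isIrrCharacter_one⟩

theorem dg_trivChar [Fintype B] : dg (trivChar B) = 1 := by
  have h : ((dg (trivChar B) : ℕ) : ℂ) = 1 := (apply_one (trivChar B)).symm.trans rfl
  exact_mod_cast h

end Product

/-- A nilpotent group is the product of its `r`-part and its `r'`-part. -/
theorem exists_split (hX : Group.IsNilpotent X) (r : ℕ) [Fact r.Prime] :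
    ∃ e : Cfsg.pCore r X × Cfsg.pPrimeCore r X ≃* X, ∀ p, e p = (p.1 : X) * p.2 := by
  have hcomm : ∀ a ∈ Cfsg.pCore r X, ∀ b ∈ Cfsg.pPrimeCore r X, Commute a b := fun a ha b hb => by
    refine commutatorElement_eq_one_iff_commute.1 ?_
    have := Subgroup.commutator_mem_commutator ha hb
    rwa [Cfsg.Lib.Core.commutator_pCore_pPrimeCore, Subgroup.mem_bot] at this
  let f : Cfsg.pCore r X × Cfsg.pPrimeCore r X →* X :=
    MonoidHom.noncommCoprod (Cfsg.pCore r X).subtype (Cfsg.pPrimeCore r X).subtype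
      fun a b => hcomm _ a.2 _ b.2
  have hinj : Function.Injective f := by
    refine (injective_iff_map_eq_one f).2 fun p hp => ?_
    have hp' : (p.1 : X) * (p.2 : X) = 1 := hp
    have h1 : (p.1 : X) = (p.2 : X)⁻¹ := eq_inv_of_mul_eq_one_left hp'
    have h2 : (p.1 : X) ∈ Cfsg.pCore r X ⊓ Cfsg.pPrimeCore r X := ⟨p.1.2, by rw [h1]; exact Subgroup.inv_mem _ p.2.2⟩
    rw [Cfsg.Lib.Core.pCore_inf_pPrimeCore, Subgroup.mem_bot] at h2
    refine Prod.ext (Subtype.ext h2) (Subtype.ext ?_)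
    simpa [h2] using h1.symm
  have hnorm : ∀ (s : ℕ) [Fact s.Prime] (P : Sylow s X), (P : Subgroup X).Normal := fun s _ P =>
    Sylow.normal_of_normalizerCondition (Group.normalizerCondition_of_isNilpotent) P
  have hcard : Nat.card X ∣ Nat.card (Cfsg.pCore r X × Cfsg.pPrimeCore r X) := by
    rw [Nat.card_prod, Nat.dvd_iff_prime_pow_dvd_dvd]
    intro s k hs hd
    haveI := Fact.mk hs
    obtain ⟨P⟩ : Nonempty (Sylow s X) := inferInstance
    have hP : s ^ k ∣ Nat.card (P : Subgroup X) := by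
      rw [P.card_eq_multiplicity]
      exact pow_dvd_pow s ((hs.pow_dvd_iff_le_factorization Nat.card_pos.ne').1 hd)
    by_cases hsr : s = r
    · subst hsr
      haveI := hnorm s P
      exact hP.trans ((Subgroup.card_dvd_of_le (Cfsg.Lib.Core.le_pCore P.isPGroup')).trans (dvd_mul_right _ _))
    · haveI := hnorm s P
      have hc : (Nat.card (P : Subgroup X)).Coprime r := by
        obtain ⟨m, hm⟩ := IsPGroup.iff_card.1 P.isPGroup'
        rw [hm]
        exact ((Nat.coprime_primes hs Fact.out).2 hsr).pow_left m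
      exact hP.trans ((Subgroup.card_dvd_of_le (Cfsg.Lib.Core.le_pPrimeCore hc)).trans (dvd_mul_left _ _))
  haveI := Fintype.ofFinite (Cfsg.pCore r X)
  haveI := Fintype.ofFinite (Cfsg.pPrimeCore r X)
  have hbij : Function.Bijective f :=
    (Nat.bijective_iff_injective_and_card f).2 ⟨hinj, le_antisymm (Nat.card_le_card_of_injective f hinj)
      (Nat.le_of_dvd Nat.card_pos hcard)⟩
  exact ⟨MulEquiv.ofBijective f hbij, fun p => rfl⟩

theorem dg_pow_of_pGroup {r : ℕ} [Fact r.Prime] (hX : IsPGroup r X) (χ : IrrCharacter X) :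
    ∃ k, dg χ = r ^ k := by
  obtain ⟨m, hm⟩ := IsPGroup.iff_card.1 hX
  obtain ⟨k, -, hk⟩ := (Nat.dvd_prime_pow Fact.out).1 (hm ▸ charDegree_dvd_card χ.2)
  exact ⟨k, hk⟩

/-- Below a degree `r ^ i > 1` of a group of `r`-power order. -/
theorem sq_le_sum_pGroup {r : ℕ} [Fact r.Prime] (hX : IsPGroup r X) (χ : IrrCharacter X) (h : 1 < dg χ) :
    dg χ ^ 2 ≤ ∑ ψ ∈ Finset.univ.filter (fun ψ : IrrCharacter X => dg ψ < dg χ), dg ψ ^ 2 := by
  have hr : r.Prime := Fact.out
  obtain ⟨i, hi⟩ := dg_pow_of_pGroup hX χ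
  obtain ⟨m, hm⟩ := IsPGroup.iff_card.1 hX
  have hdiv : dg χ ^ 2 ∣ Nat.card X :=
    dvd_of_pow_le hr ⟨i * 2, by rw [hi, ← pow_mul]⟩ ⟨m, hm⟩ (sq_le_card χ)
  refine Nat.le_of_dvd ?_ ?_
  · refine Finset.sum_pos' (fun _ _ => Nat.zero_le _) ⟨⟨fun _ => 1, isIrrCharacter_one⟩, ?_, ?_⟩
    · simp only [Finset.mem_filter, Finset.mem_univ, true_and]
      have h1 : ((dg (⟨fun _ => 1, isIrrCharacter_one⟩ : IrrCharacter X) : ℕ) : ℂ) = 1 :=
        (apply_one (⟨fun _ => 1, isIrrCharacter_one⟩ : IrrCharacter X)).symm.trans rfl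
      have h2 : dg (⟨fun _ => 1, isIrrCharacter_one⟩ : IrrCharacter X) = 1 := by exact_mod_cast h1
      omega
    · exact pow_pos (dg_pos _) 2
  · rw [hi] at hdiv ⊢
    exact sq_dvd_low hr (fun ψ _ => dg_pow_of_pGroup hX ψ) (by rwa [sum_sq])

/-- Below a degree `D > 1` of a nilpotent group. -/
theorem sq_le_sum (hX : Group.IsNilpotent X) (χ : IrrCharacter X) (h : 1 < dg χ) :
    dg χ ^ 2 ≤ ∑ ψ ∈ Finset.univ.filter (fun ψ : IrrCharacter X => dg ψ < dg χ), dg ψ ^ 2 := by
  obtain ⟨s, hs, hsd⟩ := Nat.exists_prime_and_dvd h.ne'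
  haveI := Fact.mk hs
  obtain ⟨e, -⟩ := exists_split hX s
  haveI := Fintype.ofFinite (Cfsg.pCore s X)
  haveI := Fintype.ofFinite (Cfsg.pPrimeCore s X)
  obtain ⟨a, b, rfl⟩ := exists_prodIrr e χ
  rw [dg_prodIrr] at hsd h ⊢
  have hb : ¬ s ∣ dg b := fun hd => by
    have h1 := hd.trans (charDegree_dvd_card b.2)
    exact hs.not_dvd_one ((Nat.Coprime.dvd_mul_right (Cfsg.Lib.Core.pPrimeCore_coprime s X).symm).1
      (show s ∣ 1 * _ from by simpa using h1))
  have ha : 1 < dg a := by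
    rcases (hs.dvd_mul).1 hsd with hd | hd
    · exact lt_of_lt_of_le hs.one_lt (Nat.le_of_dvd (dg_pos a) hd)
    · exact absurd hd hb
  have hA := sq_le_sum_pGroup (Cfsg.Lib.Core.pCore_isPGroup s X) a ha
  calc (dg a * dg b) ^ 2 = dg a ^ 2 * dg b ^ 2 := mul_pow _ _ _
    _ ≤ (∑ ψ ∈ Finset.univ.filter (fun ψ => dg ψ < dg a), dg ψ ^ 2) * dg b ^ 2 := Nat.mul_le_mul_right _ hA
    _ = ∑ ψ ∈ Finset.univ.filter (fun ψ => dg ψ < dg a), dg (prodIrr e ψ b) ^ 2 := by
        rw [Finset.sum_mul]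
        exact Finset.sum_congr rfl fun ψ _ => by rw [dg_prodIrr, mul_pow]
    _ ≤ _ := by
        rw [← Finset.sum_image (f := fun ξ => dg ξ ^ 2) (g := fun ψ => prodIrr e ψ b)
          fun x _ y _ hxy => (Prod.ext_iff.1 (prodIrr_injective e (a₁ := (x, b)) (a₂ := (y, b)) hxy)).1]
        refine Finset.sum_le_sum_of_subset fun ξ hξ => ?_
        obtain ⟨ψ, hψ, rfl⟩ := Finset.mem_image.1 hξ
        simp only [Finset.mem_filter, Finset.mem_univ, true_and] at hψ ⊢
        rw [dg_prodIrr]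
        exact Nat.mul_lt_mul_of_pos_right hψ (dg_pos b)

/-- The relative bound: characters nontrivial on a central subgroup `Z` of the `r`-part, when the
number `q` divides the square sums of the characters nontrivial on `Z` of bounded degree. -/
theorem exists_base (hX : Group.IsNilpotent X) {r : ℕ} [Fact r.Prime] (hr2 : r ≠ 2) (Z : Subgroup X) [Z.Normal]
    (hZA : Z ≤ Cfsg.pCore r X) (hZc : ∀ z ∈ Z, ∀ x : X, z * x = x * z) {q : ℕ} (hqr : q.Coprime r)
    (hZq : 2 * q + 1 ≤ Nat.card Z)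
    (hdvd : ∀ n : ℕ, q ∣ ∑ χ ∈ Finset.univ.filter (fun χ : IrrCharacter X =>
      (¬ ∀ z ∈ Z, (χ : X → ℂ) z = (χ : X → ℂ) 1) ∧
        (∀ b ∈ Cfsg.pPrimeCore r X, (χ : X → ℂ) b = (χ : X → ℂ) 1) ∧ dg χ < n), dg χ ^ 2) :
    ∃ θ₀ : IrrCharacter X, (¬ ∀ z ∈ Z, (θ₀ : X → ℂ) z = (θ₀ : X → ℂ) 1) ∧
      ∀ θ : IrrCharacter X, (¬ ∀ z ∈ Z, (θ : X → ℂ) z = (θ : X → ℂ) 1) → dg θ₀ ∣ dg θ ∧
        (dg θ ≠ dg θ₀ → 2 * q * dg θ₀ * dg θ < ∑ ψ ∈ Finset.univ.filter (fun ψ : IrrCharacter X =>
          (¬ ∀ z ∈ Z, (ψ : X → ℂ) z = (ψ : X → ℂ) 1) ∧ dg ψ < dg θ), dg ψ ^ 2) := by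
  have hr : r.Prime := Fact.out
  have hr3 : 3 ≤ r := by have := hr.two_le; omega
  set A := Cfsg.pCore r X with hA
  set B := Cfsg.pPrimeCore r X with hB
  obtain ⟨e, he⟩ := exists_split hX r
  haveI := Fintype.ofFinite A
  haveI := Fintype.ofFinite B
  have hAp : IsPGroup r A := Cfsg.Lib.Core.pCore_isPGroup r X
  have hBnil : Group.IsNilpotent B := inferInstance
  set ZA := Z.subgroupOf A with hZAdef
  haveI : ZA.Normal := inferInstance
  have heA : ∀ z : A, e (z, 1) = (z : X) := fun z => by rw [he]; simp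
  -- nontriviality on `Z` is seen on the first factor
  have hnt : ∀ (a : IrrCharacter A) (b : IrrCharacter B),
      (∀ z ∈ Z, (prodIrr e a b : X → ℂ) z = (prodIrr e a b : X → ℂ) 1) ↔
        ∀ z ∈ ZA, (a : A → ℂ) z = (a : A → ℂ) 1 := by
    intro a b
    constructor
    · intro h z hz
      have h1 := h (z : X) hz
      rw [← heA z, prodIrr_apply, prodIrr_apply_one] at h1
      exact mul_right_cancel₀ b.2.apply_one_ne_zero h1
    · intro h z hz
      have h1 := h ⟨z, hZA hz⟩ (Subgroup.mem_subgroupOf.2 hz)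
      rw [show z = e (⟨z, hZA hz⟩, 1) from (heA ⟨z, hZA hz⟩).symm, prodIrr_apply, prodIrr_apply_one, h1]
  set P : Finset (IrrCharacter A) :=
    Finset.univ.filter (fun a => ¬ ∀ z ∈ ZA, (a : A → ℂ) z = (a : A → ℂ) 1) with hP
  have hmP : ∀ {a}, a ∈ P ↔ ¬ ∀ z ∈ ZA, (a : A → ℂ) z = (a : A → ℂ) 1 := fun {a} => by simp [hP]
  let S : ℕ → ℕ := fun n => ∑ a ∈ P.filter (fun a => dg a < n), dg a ^ 2
  -- the divisibility, moved to the first factor
  have hq : ∀ n, q ∣ S n := by
    intro n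
    have hset : Finset.univ.filter (fun χ : IrrCharacter X => (¬ ∀ z ∈ Z, (χ : X → ℂ) z = (χ : X → ℂ) 1) ∧
        (∀ b ∈ B, (χ : X → ℂ) b = (χ : X → ℂ) 1) ∧ dg χ < n) =
        (P.filter (fun a => dg a < n)).image fun a => prodIrr e a (trivChar B) := by
      ext χ
      simp only [Finset.mem_filter, Finset.mem_univ, true_and, Finset.mem_image, hmP]
      constructor
      · rintro ⟨h1, h2, h3⟩
        obtain ⟨a, b, rfl⟩ := exists_prodIrr e χ
        have hb : b = trivChar B := by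
          refine Subtype.ext (apply_eq_one b fun y => ?_)
          have h4 := h2 (y : X) y.2
          have e1 : e ((1 : A), y) = (y : X) := by rw [he]; simp
          rw [← e1, prodIrr_apply, prodIrr_apply_one] at h4
          exact mul_left_cancel₀ a.2.apply_one_ne_zero h4
        subst hb
        rw [dg_prodIrr, dg_trivChar, mul_one] at h3
        exact ⟨a, ⟨fun h => h1 ((hnt a _).2 h), h3⟩, rfl⟩
      · rintro ⟨a, ⟨h1, h3⟩, rfl⟩
        refine ⟨fun h => h1 ((hnt a _).1 h), fun b hb => ?_, by rwa [dg_prodIrr, dg_trivChar, mul_one]⟩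
        have e1 : e ((1 : A), (⟨b, hb⟩ : B)) = b := by rw [he]; simp
        rw [← e1, prodIrr_apply, prodIrr_apply_one]
        rfl
    have h := hdvd n
    rw [hset, Finset.sum_image fun x _ y _ hxy =>
      (Prod.ext_iff.1 (prodIrr_injective e (a₁ := (x, trivChar B)) (a₂ := (y, trivChar B)) hxy)).1] at h
    convert h using 2 with a
    rw [dg_prodIrr, dg_trivChar, mul_one]
  -- the total
  have hI : ∀ a : IrrCharacter A, dg a ^ 2 ≤ ZA.index := fun a =>
    sq_le_index ZA (fun k hk x => Subtype.ext (hZc _ hk _)) a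
  have hI0 : 0 < ZA.index := Nat.pos_of_ne_zero Subgroup.index_ne_zero_of_finite
  obtain ⟨m, hm⟩ := IsPGroup.iff_card.1 hAp
  obtain ⟨iI, -, hiI⟩ := (Nat.dvd_prime_pow hr).1 (hm ▸ ZA.index_dvd_card)
  have hpow : ∀ a : IrrCharacter A, ∃ k, dg a = r ^ k := fun a => dg_pow_of_pGroup hAp a
  have hcardZ : Nat.card ZA = Nat.card Z := Nat.card_congr (Subgroup.subgroupOfEquivOfLe hZA).toEquiv
  have htot : ∑ a ∈ P, dg a ^ 2 + ZA.index = ZA.index * Nat.card Z := by
    rw [← hcardZ, ← sum_sq_triv ZA, add_comm, Finset.sum_filter_add_sum_filter_not, sum_sq, ← ZA.card_mul_index,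
      sum_sq_triv ZA, mul_comm]
  have htot2 : 2 * q * ZA.index ≤ ∑ a ∈ P, dg a ^ 2 := by
    have := Nat.mul_le_mul_left ZA.index hZq
    nlinarith
  have hne : P.Nonempty := by
    by_contra h
    rw [Finset.not_nonempty_iff_eq_empty] at h
    rw [h, Finset.sum_empty, zero_add] at htot
    have h3 : 2 ≤ Nat.card Z := by
      rcases Nat.eq_zero_or_pos q with rfl | hq0
      · simp only [mul_zero, zero_add] at hZq
        exact absurd hqr (by rw [Nat.coprime_zero_left]; exact hr.ne_one)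
      · omega
    nlinarith
  obtain ⟨a₀, ha₀, hmin⟩ := Finset.exists_min_image P dg hne
  -- multiples of squares below a level
  have hlow : ∀ i, dg a₀ < r ^ i → (r ^ i) ^ 2 ≤ ZA.index → q * (r ^ i) ^ 2 ≤ S (r ^ i) := by
    intro i h1 h2
    have hd : (r ^ i) ^ 2 ∣ ZA.index := dvd_of_pow_le hr ⟨i * 2, by rw [← pow_mul]⟩ ⟨iI, hiI⟩ h2
    have hd' : (r ^ i) ^ 2 ∣ ∑ a ∈ P, dg a ^ 2 :=
      (Nat.dvd_add_left hd).1 (htot.symm ▸ hd.mul_right _)
    refine Nat.le_of_dvd ?_ (Nat.Coprime.mul_dvd_of_dvd_of_dvd ((hqr.pow_right i).pow_right 2) (hq _)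
      (sq_dvd_low hr (fun a _ => hpow a) hd'))
    exact Finset.sum_pos' (fun _ _ => Nat.zero_le _)
      ⟨a₀, Finset.mem_filter.2 ⟨ha₀, h1⟩, pow_pos (dg_pos a₀) 2⟩
  -- products land below
  have hprod : ∀ (θ : IrrCharacter X) (SA : Finset (IrrCharacter A)) (SB : Finset (IrrCharacter B)),
      SA ⊆ P → (∀ a ∈ SA, ∀ b ∈ SB, dg a * dg b < dg θ) →
      (∑ a ∈ SA, dg a ^ 2) * (∑ b ∈ SB, dg b ^ 2) ≤ ∑ ψ ∈ Finset.univ.filter (fun ψ : IrrCharacter X =>
        (¬ ∀ z ∈ Z, (ψ : X → ℂ) z = (ψ : X → ℂ) 1) ∧ dg ψ < dg θ), dg ψ ^ 2 := by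
    intro θ SA SB hSA hlt
    rw [Finset.sum_mul_sum, ← Finset.sum_product', Finset.sum_congr rfl
      (g := fun p : IrrCharacter A × IrrCharacter B => dg (prodIrr e p.1 p.2) ^ 2) fun p _ => by
        rw [dg_prodIrr, mul_pow],
      ← Finset.sum_image (f := fun ξ => dg ξ ^ 2) (g := fun p : IrrCharacter A × IrrCharacter B => prodIrr e p.1 p.2)
        fun x _ y _ hxy => prodIrr_injective e hxy]
    refine Finset.sum_le_sum_of_subset fun ξ hξ => ?_
    obtain ⟨⟨a, b⟩, hp, rfl⟩ := Finset.mem_image.1 hξ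
    obtain ⟨ha, hb⟩ := Finset.mem_product.1 hp
    simp only [Finset.mem_filter, Finset.mem_univ, true_and]
    exact ⟨fun h => hmP.1 (hSA ha) ((hnt a b).1 h), by rw [dg_prodIrr]; exact hlt a ha b hb⟩
  refine ⟨prodIrr e a₀ (trivChar B), fun h => hmP.1 ha₀ ((hnt a₀ _).1 h), fun θ hθ => ?_⟩
  obtain ⟨a, b, rfl⟩ := exists_prodIrr e θ
  have ha : a ∈ P := hmP.2 fun h => hθ ((hnt a b).2 h)
  rw [dg_prodIrr, dg_prodIrr, dg_trivChar, mul_one]
  have hdv : dg a₀ ∣ dg a := dvd_of_pow_le hr (hpow a₀) (hpow a) (hmin a ha)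
  refine ⟨hdv.mul_right _, fun hne => ?_⟩
  have hd0 := dg_pos a₀
  rcases (hmin a ha).lt_or_eq with hlt | heq
  · -- the first factor is not of least degree
    obtain ⟨i, hi⟩ := hpow a
    have h3 : 3 * dg a₀ ≤ dg a := by
      obtain ⟨c, hc⟩ := hdv
      have : 3 ≤ c := by
        obtain ⟨k, -, hk⟩ := (Nat.dvd_prime_pow hr).1 (hi ▸ Dvd.intro_left (dg a₀) hc.symm)
        rcases Nat.eq_zero_or_pos k with rfl | hk0
        · rw [hk, pow_zero, mul_one] at hc; omega
        · exact hk ▸ hr3.trans (Nat.le_self_pow hk0.ne' r)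
      rw [hc, mul_comm 3]; exact Nat.mul_le_mul_left _ this
    have hS := hlow i (hi ▸ hlt) (hi ▸ hI a)
    rw [← hi] at hS
    have h4 := hprod (prodIrr e a b) (P.filter fun x => dg x < dg a) {b} (Finset.filter_subset _ _)
      fun x hx y hy => by
        rw [Finset.mem_singleton.1 hy, dg_prodIrr]
        exact Nat.mul_lt_mul_of_pos_right (Finset.mem_filter.1 hx).2 (dg_pos b)
    rw [Finset.sum_singleton, dg_prodIrr] at h4
    refine lt_of_lt_of_le ?_ h4
    have hb0 := dg_pos b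
    have hq0 : 0 < q := Nat.pos_of_ne_zero fun h => by
      subst h; exact hr.ne_one (Nat.coprime_zero_left _ |>.1 hqr)
    refine lt_of_lt_of_le ?_ (Nat.mul_le_mul_right _ hS)
    calc 2 * q * dg a₀ * (dg a * dg b) < q * (3 * dg a₀) * (dg a * dg b) := by
          have : 0 < q * dg a₀ * (dg a * dg b) :=
            Nat.mul_pos (Nat.mul_pos hq0 hd0) (Nat.mul_pos (dg_pos a) hb0)
          nlinarith
      _ ≤ q * dg a * (dg a * dg b) := Nat.mul_le_mul_right _ (Nat.mul_le_mul_left _ h3)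
      _ ≤ q * dg a ^ 2 * dg b ^ 2 := by
          rw [pow_two, pow_two]
          have := Nat.mul_le_mul_left (q * dg a * dg a * dg b) hb0
          nlinarith
  · -- the first factor has least degree, so the second has not degree one
    rw [← heq] at hne ⊢
    have hb1 : 1 < dg b := by
      have := dg_pos b
      by_contra hle
      exact hne (by rw [show dg b = 1 by omega, mul_one])
    have hB2 := sq_le_sum hBnil b hb1
    obtain ⟨i, hi⟩ := hpow a₀
    have hnext : r ^ (i + 1) = r * dg a₀ := by rw [hi, pow_succ']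
    have hS : 2 * q * dg a₀ ^ 2 ≤ S (r ^ (i + 1)) := by
      by_cases h2 : (r ^ (i + 1)) ^ 2 ≤ ZA.index
      · refine le_trans ?_ (hlow (i + 1) (by rw [hnext]; exact lt_mul_of_one_lt_left hd0 hr.one_lt) h2)
        rw [hnext, mul_pow]
        have : 2 ≤ r ^ 2 := le_trans hr.two_le (Nat.le_self_pow two_ne_zero r)
        have := Nat.mul_le_mul_left (q * dg a₀ ^ 2) this
        nlinarith
      · have hall : P.filter (fun x => dg x < r ^ (i + 1)) = P := by
          refine Finset.filter_true_of_mem fun x _ => ?_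
          by_contra hge
          exact h2 ((Nat.pow_le_pow_left (not_lt.1 hge) 2).trans (hI x))
        show _ ≤ ∑ x ∈ P.filter (fun x => dg x < r ^ (i + 1)), dg x ^ 2
        rw [hall]
        exact le_trans (Nat.mul_le_mul_left _ (hI a₀)) htot2
    have h4 := hprod (prodIrr e a b) (P.filter fun x => dg x < r ^ (i + 1))
      (Finset.univ.filter fun y => dg y < dg b) (Finset.filter_subset _ _) fun x hx y hy => by
        rw [dg_prodIrr, ← heq]
        obtain ⟨hxP, hx2⟩ := Finset.mem_filter.1 hx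
        have hx0 : dg x = dg a₀ := by
          obtain ⟨j, hj⟩ := hpow x
          have h5 := hmin x hxP
          rw [hi, hj] at h5
          rw [hj] at hx2
          have h6 := (Nat.pow_lt_pow_iff_right hr.one_lt).1 hx2
          have h7 := (Nat.pow_le_pow_iff_right hr.one_lt).1 h5
          rw [hi, hj, show j = i by omega]
        rw [hx0]
        exact Nat.mul_lt_mul_of_pos_left (Finset.mem_filter.1 hy).2 hd0
    rw [dg_prodIrr, ← heq] at h4
    refine lt_of_lt_of_le ?_ ((Nat.mul_le_mul hS hB2).trans h4)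
    have hq0 : 0 < q := Nat.pos_of_ne_zero fun h => by
      subst h; exact hr.ne_one (Nat.coprime_zero_left _ |>.1 hqr)
    calc 2 * q * dg a₀ * (dg a₀ * dg b) = 2 * q * dg a₀ ^ 2 * dg b := by ring
      _ < 2 * q * dg a₀ ^ 2 * dg b ^ 2 := by
          refine Nat.mul_lt_mul_of_pos_left ?_ (Nat.mul_pos (by omega) (pow_pos hd0 2))
          rw [pow_two]
          exact lt_mul_self hb1

end Cfsg.Lib.Char.NilDegree
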