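import Cfsg.Agent.Lib.Char.LargerDegree

/-!
# The nilpotent length and the number of character degrees
-/

set_option autoImplicit false
set_option linter.unusedSectionVars false
set_option linter.style.haveILetI false

namespace Cfsg.Lib.Char

open Cfsg

universe u

/-- A chain of normal subgroups of length `n` with nilpotent factors. -/
def HasNilpotentChain (G : Type u) [Group G] (n : ℕ) : Prop :=
  ∃ N : Fin (n + 1) → Subgroup G, N 0 = ⊥ ∧ N (Fin.last n) = ⊤ ∧ Monotone N ∧
    (∀ i, (N i).Normal) ∧ ∀ i : Fin n, ∀ _h : ((N i.castSucc).subgroupOf (N i.succ)).Normal,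
      Group.IsNilpotent (↥(N i.succ) ⧸ (N i.castSucc).subgroupOf (N i.succ))

theorem hasNilpotentChain_of_subsingleton {G : Type u} [Group G] [Subsingleton G] (n : ℕ) :
    HasNilpotentChain G n := by
  refine ⟨fun _ => ⊥, rfl, Subsingleton.elim _ _, monotone_const, fun _ => inferInstance, fun i h => ?_⟩
  haveI : Group.IsNilpotent ↥(⊥ : Subgroup G) := Group.IsNilpotent.mk ⟨1, Subsingleton.elim _ _⟩
  exact Group.nilpotent_of_surjective (QuotientGroup.mk' _) (QuotientGroup.mk'_surjective _)

/-- A nilpotent normal subgroup below a chain of the quotient. -/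
theorem HasNilpotentChain.of_quotient {G : Type u} [Group G] {F : Subgroup G} [F.Normal]
    (hF : Group.IsNilpotent F) {n : ℕ} (h : HasNilpotentChain (G ⧸ F) n) :
    HasNilpotentChain G (n + 1) := by
  obtain ⟨N, h0, h1, hm, hn, hq⟩ := h
  set π := QuotientGroup.mk' F with hπ
  refine ⟨Fin.cons ⊥ fun i => (N i).comap π, Fin.cons_zero _ _, ?_, ?_, ?_, ?_⟩
  · rw [show Fin.last (n + 1) = (Fin.last n).succ from rfl, Fin.cons_succ, h1, Subgroup.comap_top]
  · intro i j hij
    induction i using Fin.cases with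
    | zero => rw [Fin.cons_zero]; exact bot_le
    | succ i =>
      induction j using Fin.cases with
      | zero => exact absurd hij (not_le.2 (Fin.succ_pos i))
      | succ j =>
        rw [Fin.cons_succ, Fin.cons_succ]
        exact Subgroup.comap_mono (hm (Fin.succ_le_succ_iff.1 hij))
  · refine Fin.cases ?_ fun i => ?_
    · rw [Fin.cons_zero]; infer_instance
    · rw [Fin.cons_succ]; exact (hn i).comap π
  · refine Fin.cases ?_ fun i => ?_
    · intro h'
      have e : Fin.cons (α := fun _ => Subgroup G) ⊥ (fun i => (N i).comap π) (0 : Fin (n + 1)).succ = F := by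
        rw [Fin.cons_succ, h0, MonoidHom.comap_bot, QuotientGroup.ker_mk']
      haveI : Group.IsNilpotent
          ↥(Fin.cons (α := fun _ => Subgroup G) ⊥ (fun i => (N i).comap π) (0 : Fin (n + 1)).succ) := by
        rw [e]; exact hF
      exact Group.nilpotent_of_surjective (QuotientGroup.mk' _) (QuotientGroup.mk'_surjective _)
    · intro h'
      haveI := hn i.castSucc
      haveI hnor : ((N i.castSucc).subgroupOf (N i.succ)).Normal := inferInstance
      haveI := hq i hnor
      set A : Subgroup G := Fin.cons (α := fun _ => Subgroup G) ⊥ (fun i => (N i).comap π) i.succ.succ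
        with hA
      set B : Subgroup G := Fin.cons (α := fun _ => Subgroup G) ⊥ (fun i => (N i).comap π) i.succ.castSucc
        with hB
      have hA' : A = (N i.succ).comap π := Fin.cons_succ _ _ _
      have hB' : B = (N i.castSucc).comap π := by
        rw [hB, show i.succ.castSucc = i.castSucc.succ from rfl, Fin.cons_succ]
      let f : A →* ↥(N i.succ) ⧸ (N i.castSucc).subgroupOf (N i.succ) :=
        (QuotientGroup.mk' _).comp ((π.comp A.subtype).codRestrict (N i.succ) fun x => by
          exact (SetLike.ext_iff.1 hA' (x : G)).1 x.2)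
      have hker : B.subgroupOf A = f.ker := by
        ext x
        rw [MonoidHom.mem_ker, Subgroup.mem_subgroupOf]
        show (x : G) ∈ B ↔ QuotientGroup.mk' _ _ = 1
        rw [QuotientGroup.mk'_apply, QuotientGroup.eq_one_iff, Subgroup.mem_subgroupOf, hB']
        rfl
      haveI : Group.IsNilpotent (A ⧸ f.ker) :=
        Group.nilpotent_of_mulEquiv (QuotientGroup.quotientKerEquivRange f).symm
      exact Group.nilpotent_of_mulEquiv (QuotientGroup.quotientMulEquivOfEq hker.symm)

theorem hasNilpotentChain_degrees : ∀ (n : ℕ) (G : Type u) [Group G] [Finite G],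
    Group.IsSolvable G → Nat.card {d : ℕ // ∃ χ : IrrCharacter G, charDegree (χ : G → ℂ) = d} ≤ n →
      HasNilpotentChain G n := by
  classical
  intro n
  induction n with
  | zero =>
    intro G _ _ _ h
    haveI := Fintype.ofFinite G
    obtain ⟨χ⟩ : Nonempty (IrrCharacter G) := ⟨⟨_, isIrrCharacter_one⟩⟩
    haveI : Finite {d : ℕ // ∃ χ : IrrCharacter G, charDegree (χ : G → ℂ) = d} :=
      Finite.of_surjective (fun χ : IrrCharacter G => ⟨charDegree (χ : G → ℂ), χ, rfl⟩)
        fun ⟨d, χ, hχ⟩ => ⟨χ, Subtype.ext hχ⟩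
    haveI : Nonempty {d : ℕ // ∃ χ : IrrCharacter G, charDegree (χ : G → ℂ) = d} := ⟨⟨_, χ, rfl⟩⟩
    exact absurd h (not_le.2 Nat.card_pos)
  | succ n ih =>
    intro G _ _ hsolv h
    rcases subsingleton_or_nontrivial G with hG | hG
    · exact hasNilpotentChain_of_subsingleton _
    haveI := Fintype.ofFinite G
    haveI := Core.fittingSubgroup_normal' G
    set F := fittingSubgroup G with hFdef
    refine HasNilpotentChain.of_quotient (Core.fittingSubgroup_isNilpotent G) ?_
    by_cases hFtop : F = ⊤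
    · haveI : Subsingleton (G ⧸ F) := QuotientGroup.subsingleton_iff.2 hFtop
      exact hasNilpotentChain_of_subsingleton n
    refine ih (G ⧸ F) inferInstance ?_
    haveI := Fintype.ofFinite (G ⧸ F)
    obtain ⟨χ₀⟩ : Nonempty (IrrCharacter G) := ⟨⟨_, isIrrCharacter_one⟩⟩
    obtain ⟨χm, -, hmax⟩ := Finset.exists_max_image Finset.univ
      (fun χ : IrrCharacter G => charDegree (χ : G → ℂ)) ⟨χ₀, Finset.mem_univ _⟩
    set b := charDegree (χm : G → ℂ) with hb
    have hinfl : ∀ φ : IrrCharacter (G ⧸ F),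
        charDegree (fun g : G => (φ : G ⧸ F → ℂ) g) = charDegree (φ : G ⧸ F → ℂ) := fun φ => by
      refine Cfsg.Lib.Block.charDegree_eq_of_apply_one ?_
      show (φ : G ⧸ F → ℂ) ((1 : G) : G ⧸ F) = _
      rw [QuotientGroup.mk_one, Cfsg.Lib.Block.apply_one_eq_charDegree]
    have hnot : ¬ ∃ φ : IrrCharacter (G ⧸ F), charDegree (φ : G ⧸ F → ℂ) = b := by
      rintro ⟨φ, hφ⟩
      set χ : IrrCharacter G := ⟨_, isIrrCharacter_inflate F φ.2⟩ with hχ
      set K := charKer χ.2.isCharacter with hKdef
      haveI : K.Normal := charKer_normal χ.2.isCharacter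
      have hFK : F ≤ K := fun x hx => by
        show (φ : G ⧸ F → ℂ) (x : G ⧸ F) = (φ : G ⧸ F → ℂ) ((1 : G) : G ⧸ F)
        rw [(QuotientGroup.eq_one_iff x).2 hx, QuotientGroup.mk_one]
      have hlarge : ∃ ψ : IrrCharacter G, charDegree (χ : G → ℂ) < charDegree (ψ : G → ℂ) := by
        by_cases hKF : K = F
        · obtain ⟨ψ, hψ, -⟩ := exists_larger_of_fitting χ K (fun g => Iff.rfl) hKF inferInstance
            (hKF ▸ hFtop)
          exact ⟨ψ, hψ⟩
        · obtain ⟨ψ, hψ, -⟩ := exists_larger_of_not_nilpotent χ K (fun g => Iff.rfl)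
            fun hle => hKF (le_antisymm hle hFK)
          exact ⟨ψ, hψ⟩
      obtain ⟨ψ, hψ⟩ := hlarge
      have e : charDegree (χ : G → ℂ) = b := (hinfl φ).trans hφ
      have := hmax ψ (Finset.mem_univ _)
      omega
    haveI : Finite {d : ℕ // ∃ χ : IrrCharacter G, charDegree (χ : G → ℂ) = d} :=
      Finite.of_surjective (fun χ : IrrCharacter G => ⟨charDegree (χ : G → ℂ), χ, rfl⟩)
        fun ⟨d, χ, hχ⟩ => ⟨χ, Subtype.ext hχ⟩
    let i : {d : ℕ // ∃ φ : IrrCharacter (G ⧸ F), charDegree (φ : G ⧸ F → ℂ) = d} →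
        {d : ℕ // ∃ χ : IrrCharacter G, charDegree (χ : G → ℂ) = d} := fun d =>
      ⟨d.1, by
        obtain ⟨φ, hφ⟩ := d.2
        exact ⟨⟨_, isIrrCharacter_inflate F φ.2⟩, (hinfl φ).trans hφ⟩⟩
    have hi : Function.Injective i := fun a c hac =>
      Subtype.ext (congrArg (fun z => z.1) hac)
    haveI : Finite {d : ℕ // ∃ φ : IrrCharacter (G ⧸ F), charDegree (φ : G ⧸ F → ℂ) = d} :=
      Finite.of_injective i hi
    have hlt : Nat.card {d : ℕ // ∃ φ : IrrCharacter (G ⧸ F), charDegree (φ : G ⧸ F → ℂ) = d} <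
        Nat.card {d : ℕ // ∃ χ : IrrCharacter G, charDegree (χ : G → ℂ) = d} := by
      refine lt_of_le_of_ne (Nat.card_le_card_of_injective i hi) fun he => ?_
      obtain ⟨d, hd⟩ := (hi.bijective_of_nat_card_le he.ge).2 ⟨b, χm, rfl⟩
      have e : d.1 = b := congrArg (fun z => z.1) hd
      exact hnot (e ▸ d.2)
    omega

end Cfsg.Lib.Char
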