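import Mathlib.GroupTheory.Frattini
import Cfsg.Prelude.Def_Blocks
import Cfsg.Agent.S0081
import Cfsg.Agent.Lib.PGroup.Basic
import Cfsg.Agent.Lib.Fusion.Basic
import Cfsg.Agent.Lib.Char.Gallagher
import Cfsg.Agent.Lib.Char.Quotient
import Cfsg.Agent.Lib.Char.Ito
import Cfsg.Agent.Lib.Char.Central

/-!
# The sum of the squares of the odd character degrees
-/

set_option autoImplicit false
set_option linter.unusedSectionVars false
set_option linter.style.haveILetI false

namespace Cfsg.Lib.Char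

open Cfsg
open scoped ComplexConjugate

universe u

variable {G : Type u} [Group G] [Fintype G]

theorem cast_charDegree (χ : IrrCharacter G) :
    ((charDegree (χ : G → ℂ) : ℕ) : ℂ) = (χ : G → ℂ) 1 := by
  obtain ⟨d, hd⟩ := χ.2.isCharacter.exists_degree
  rw [charDegree, hd, Complex.natCast_re, Nat.floor_natCast]

theorem charDegree_pos' (χ : IrrCharacter G) : 0 < charDegree (χ : G → ℂ) := by
  refine Nat.pos_of_ne_zero fun h => χ.2.apply_one_ne_zero ?_
  rw [← cast_charDegree, h, Nat.cast_zero]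

/-- An element in the kernel of every irreducible character of a quotient lies in the kernel. -/
theorem mem_of_forall_quotient_irr (M : Subgroup G) [M.Normal] {x : G}
    (h : ∀ χ : IrrCharacter G, (∀ m ∈ M, (χ : G → ℂ) m = (χ : G → ℂ) 1) →
      (χ : G → ℂ) x = (χ : G → ℂ) 1) : x ∈ M := by
  classical
  haveI := Fintype.ofFinite (G ⧸ M)
  rw [← QuotientGroup.eq_one_iff]
  by_contra hne
  have h1 := column_orthogonality (1 : G ⧸ M) (x : G ⧸ M)
  rw [if_neg (fun hc => hne (isConj_one_left.mp hc.symm : (x : G ⧸ M) = 1))] at h1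
  have h2 : ∀ ψ : IrrCharacter (G ⧸ M), (ψ : G ⧸ M → ℂ) (x : G ⧸ M) = (ψ : G ⧸ M → ℂ) 1 := by
    intro ψ
    refine h ⟨_, isIrrCharacter_inflate M ψ.2⟩ fun m hm => ?_
    show (ψ : G ⧸ M → ℂ) (m : G ⧸ M) = (ψ : G ⧸ M → ℂ) ((1 : G) : G ⧸ M)
    rw [(QuotientGroup.eq_one_iff m).2 hm]; rfl
  rw [Finset.sum_congr rfl (g := fun ψ : IrrCharacter (G ⧸ M) => (ψ : G ⧸ M → ℂ) 1 ^ 2)
    fun ψ _ => ?_, sum_sq_degree] at h1
  · exact Nat.cast_ne_zero.2 Nat.card_pos.ne' h1
  · obtain ⟨d, hd⟩ := ψ.2.isCharacter.exists_degree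
    rw [h2, hd, map_natCast, sq]

/-- The squares of the degrees of the characters of a quotient add up to its order. -/
theorem sum_sq_charDegree_quotient (M : Subgroup G) [M.Normal]
    [Fintype {χ : IrrCharacter G // ∀ m ∈ M, (χ : G → ℂ) m = (χ : G → ℂ) 1}] :
    ∑ χ : {χ : IrrCharacter G // ∀ m ∈ M, (χ : G → ℂ) m = (χ : G → ℂ) 1},
      charDegree (χ.1 : G → ℂ) ^ 2 = M.index := by
  classical
  haveI := Fintype.ofFinite (G ⧸ M)
  have hone : ∀ ψ : IrrCharacter (G ⧸ M), ∀ m ∈ M, (ψ : G ⧸ M → ℂ) (m : G ⧸ M) =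
      (ψ : G ⧸ M → ℂ) ((1 : G) : G ⧸ M) := fun ψ m hm => by
    rw [(QuotientGroup.eq_one_iff m).2 hm]; rfl
  let e : IrrCharacter (G ⧸ M) →
      {χ : IrrCharacter G // ∀ m ∈ M, (χ : G → ℂ) m = (χ : G → ℂ) 1} := fun ψ =>
    ⟨⟨_, isIrrCharacter_inflate M ψ.2⟩, hone ψ⟩
  have he : Function.Bijective e := by
    refine ⟨fun a b hab => ?_, fun χ => ?_⟩
    · refine Subtype.ext (funext fun q => ?_)
      obtain ⟨g, rfl⟩ := QuotientGroup.mk_surjective q
      exact congrFun (congrArg (fun c : {χ : IrrCharacter G //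
        ∀ m ∈ M, (χ : G → ℂ) m = (χ : G → ℂ) 1} => (c.1 : G → ℂ)) hab) g
    · obtain ⟨ψ, hψ, hval⟩ := exists_deflate_irr M χ.1.2 χ.2
      exact ⟨⟨ψ, hψ⟩, Subtype.ext (Subtype.ext (funext hval))⟩
  have h : ((∑ χ : {χ : IrrCharacter G // ∀ m ∈ M, (χ : G → ℂ) m = (χ : G → ℂ) 1},
      charDegree (χ.1 : G → ℂ) ^ 2 : ℕ) : ℂ) = (M.index : ℂ) := by
    push_cast
    rw [← Equiv.sum_comp (Equiv.ofBijective e he), Subgroup.index_eq_card, ← sum_sq_degree]
    refine Finset.sum_congr rfl fun ψ _ => ?_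
    rw [cast_charDegree]
    rfl
  exact_mod_cast h

/-- Expansion of the degree along a restriction. -/
theorem exists_res_expansion (H : Subgroup G) [Fintype H] (χ : IrrCharacter G) :
    ∃ m : IrrCharacter H → ℕ, (∀ ψ : IrrCharacter H,
        classInner (fun x : H => (χ : G → ℂ) x) (ψ : H → ℂ) = m ψ) ∧
      ∑ ψ, m ψ * charDegree (ψ : H → ℂ) = charDegree (χ : G → ℂ) ∧
      ∀ x : H, (χ : G → ℂ) x = ∑ ψ, (m ψ : ℂ) * (ψ : H → ℂ) x := by
  classical
  have hres : IsCharacter H (fun x : H => (χ : G → ℂ) x) := χ.2.isCharacter.comp H.subtype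
  choose m hm using fun ψ : IrrCharacter H => hres.exists_nat_classInner ψ.2.isCharacter
  have hexp : ∀ x : H, (χ : G → ℂ) x = ∑ ψ, (m ψ : ℂ) * (ψ : H → ℂ) x := by
    intro x
    have h := congrFun (eq_sum_classInner hres.isClassFunction) x
    simp only [Finset.sum_apply, Pi.smul_apply, smul_eq_mul, hm] at h
    exact h
  refine ⟨m, hm, ?_, hexp⟩
  have h : ((∑ ψ, m ψ * charDegree (ψ : H → ℂ) : ℕ) : ℂ) = (charDegree (χ : G → ℂ) : ℕ) := by
    push_cast
    simp only [cast_charDegree]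
    exact ((hexp 1).symm.trans (by rw [Subgroup.coe_one]))
  exact_mod_cast h

/-- An irreducible character of odd degree lies over a character of odd degree of a subgroup of
odd index, with odd multiplicity. -/
theorem exists_odd_over (H : Subgroup G) [Fintype H] (hH : Odd H.index) (ψ : IrrCharacter H)
    (hψ : Odd (charDegree (ψ : H → ℂ))) :
    ∃ χ : IrrCharacter G, Odd (charDegree (χ : G → ℂ)) ∧
      classInner (fun x : H => (χ : G → ℂ) x) (ψ : H → ℂ) ≠ 0 := by
  classical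
  choose m hm hdeg hexp using fun χ : IrrCharacter G => exists_res_expansion H χ
  have h : ((∑ χ : IrrCharacter G, m χ ψ * charDegree (χ : G → ℂ) : ℕ) : ℂ) =
      ((H.index * charDegree (ψ : H → ℂ) : ℕ) : ℂ) := by
    push_cast
    simp only [cast_charDegree]
    rw [← indFun_apply_one H (ψ : H → ℂ)]
    conv_rhs => rw [eq_sum_classInner (isClassFunction_indFun H (ψ : H → ℂ))]
    simp only [Finset.sum_apply, Pi.smul_apply, smul_eq_mul]
    refine Finset.sum_congr rfl fun χ _ => ?_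
    rw [classInner_indFun H (ψ : H → ℂ) χ.2.isClassFunction, ← classInner_conj_symm, hm χ ψ,
      map_natCast]
  have hodd : Odd (∑ χ : IrrCharacter G, m χ ψ * charDegree (χ : G → ℂ)) := by
    rw [Nat.cast_inj.1 h]; exact hH.mul hψ
  obtain ⟨χ, -, hχ⟩ := Finset.exists_ne_zero_of_sum_ne_zero (s := Finset.univ)
    (f := fun χ : IrrCharacter G => (m χ ψ * charDegree (χ : G → ℂ)) % 2) (fun h0 => by
      rw [Nat.odd_iff, Finset.sum_nat_mod, h0] at hodd
      exact zero_ne_one hodd)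
  have hχ' : Odd (m χ ψ * charDegree (χ : G → ℂ)) := Nat.odd_iff.2 (by omega)
  refine ⟨χ, (Nat.odd_mul.1 hχ').2, ?_⟩
  rw [hm χ ψ]
  exact Nat.cast_ne_zero.2 (Nat.odd_mul.1 hχ').1.pos.ne'

/-- A `p`-group acting on a finite set: an invariant integral function sums to its sum over the
fixed points modulo `p`. -/
theorem exists_sum_eq_fixed {Q : Type*} [Group Q] [Finite Q] {p : ℕ} [Fact p.Prime]
    (hQ : IsPGroup p Q) {α : Type*} [Fintype α] [MulAction Q α] (f : α → ℂ)
    (hf : ∀ (q : Q) (a : α), f (q • a) = f a) (hint : ∀ a, IsIntegral ℤ (f a)) (a₀ : α)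
    (hfix : ∀ a, (∀ q : Q, q • a = a) ↔ a = a₀) :
    ∃ w : ℂ, IsIntegral ℤ w ∧ ∑ a, f a = f a₀ + (p : ℂ) * w := by
  classical
  haveI := fun ω : MulAction.orbitRel.Quotient Q α => Fintype.ofFinite (MulAction.orbit Q ω.out)
  haveI := Fintype.ofFinite (MulAction.orbitRel.Quotient Q α)
  have key : ∀ ω : MulAction.orbitRel.Quotient Q α, ∃ w : ℂ, IsIntegral ℤ w ∧
      ∑ x : MulAction.orbit Q ω.out, f (x : α) =
        (if ω = Quotient.mk'' a₀ then f a₀ else 0) + (p : ℂ) * w := by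
    intro ω
    have hconst : ∀ x : MulAction.orbit Q ω.out, f (x : α) = f ω.out := by
      rintro ⟨x, q, rfl⟩
      exact hf q _
    rw [Finset.sum_congr rfl fun x _ => hconst x, Finset.sum_const, Finset.card_univ,
      ← Nat.card_eq_fintype_card, nsmul_eq_mul]
    obtain ⟨n, hn⟩ := hQ.card_orbit ω.out
    rcases Nat.eq_zero_or_pos n with rfl | hpos
    · have hfx : ∀ q : Q, q • ω.out = ω.out := fun q => by
        haveI := (Nat.card_eq_one_iff_unique.1 (hn.trans (pow_zero p))).1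
        exact congrArg Subtype.val (Subsingleton.elim
          (⟨q • ω.out, ⟨q, rfl⟩⟩ : MulAction.orbit Q ω.out) ⟨ω.out, MulAction.mem_orbit_self _⟩)
      have hω : ω = Quotient.mk'' a₀ := by rw [← (hfix _).1 hfx]; exact (Quotient.out_eq' ω).symm
      refine ⟨0, isIntegral_zero, ?_⟩
      rw [if_pos hω, hn, pow_zero, Nat.cast_one, one_mul, (hfix _).1 hfx, mul_zero, add_zero]
    · have hω : ω ≠ Quotient.mk'' a₀ := by
        intro h
        have h1 : ω.out ∈ MulAction.orbit Q a₀ := by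
          have := Quotient.out_eq' ω
          rw [h] at this ⊢
          exact Quotient.exact' this
        obtain ⟨q, hq⟩ := h1
        have h2 : MulAction.orbit Q ω.out = {a₀} := by
          rw [← hq]
          show MulAction.orbit Q (q • a₀) = {a₀}
          rw [(hfix a₀).2 rfl q]
          exact Set.eq_singleton_iff_unique_mem.2 ⟨MulAction.mem_orbit_self _, fun y hy => by
            obtain ⟨q', rfl⟩ := hy; exact (hfix a₀).2 rfl q'⟩
        rw [h2, Nat.card_eq_fintype_card] at hn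
        simp at hn
        exact absurd hn.symm (Nat.one_lt_pow hpos.ne' (Fact.out : p.Prime).one_lt).ne'
      refine ⟨((p ^ (n - 1) : ℕ) : ℂ) * f ω.out, isIntegral_algebraMap.mul (hint _), ?_⟩
      rw [if_neg hω, hn, zero_add, ← mul_assoc, ← Nat.cast_mul, ← pow_succ']
      congr 3
      omega
  choose w hw hsum using key
  refine ⟨∑ ω, w ω, IsIntegral.sum _ fun ω _ => hw ω, ?_⟩
  rw [← Equiv.sum_comp (MulAction.selfEquivSigmaOrbits Q α).symm, Fintype.sum_sigma]
  refine (Finset.sum_congr rfl fun ω _ => hsum ω).trans ?_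
  rw [Finset.sum_add_distrib, Finset.sum_ite_eq' Finset.univ, if_pos (Finset.mem_univ _),
    Finset.mul_sum]

end Cfsg.Lib.Char
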