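import Cfsg.Agent.Lib.Char.RationalSylowBound
import Cfsg.Agent.Lib.Char.PRationalLift
import Cfsg.Agent.Lib.Char.CoprimeElem
import Cfsg.Agent.Lib.Local.PLengthChain

/-!
# The index of `O_p` in a Sylow p-subgroup of a p-solvable linear group
-/

set_option autoImplicit false
set_option linter.unusedSectionVars false
set_option linter.style.haveILetI false
set_option maxHeartbeats 1000000

namespace Cfsg.Lib.Char

open Cfsg
open scoped ComplexConjugate

universe u

variable {G : Type u} [Group G] [Finite G]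

/-- A faithful character of the `p'`-core of `G / O_p(G)`, invariant in `G / O_p(G)`. -/
theorem exists_core_character {p n : ℕ} [hp : Fact p.Prime] {χ : G → ℂ} (hχ : IsCharacter G χ)
    (hfaith : ∀ g, χ g = χ 1 → g = 1) (hn : χ 1 = (n : ℂ)) :
    ∃ c : Cfsg.pPrimeCore p (G ⧸ Cfsg.pCore p G) → ℂ,
      IsCharacter (Cfsg.pPrimeCore p (G ⧸ Cfsg.pCore p G)) c ∧ (∀ x, c x = c 1 → x = 1) ∧
      c 1 = (n : ℂ) ∧ ∀ (g : G ⧸ Cfsg.pCore p G) (x : Cfsg.pPrimeCore p (G ⧸ Cfsg.pCore p G)),
        c (MulAut.conjNormal g x) = c x := by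
  classical
  set Q := Cfsg.pCore p G with hQ
  set f := QuotientGroup.mk' Q with hf
  set Nb := Cfsg.pPrimeCore p (G ⧸ Q) with hNb
  set N := Nb.comap f with hN
  have hQN : Q ≤ N := fun x hx => by
    show f x ∈ Nb
    rw [hf, QuotientGroup.mk'_apply, (QuotientGroup.eq_one_iff x).2 hx]
    exact one_mem _
  have hcop : (Nat.card Q).Coprime (Nat.card Nb) := by
    obtain ⟨i, hi⟩ := IsPGroup.iff_card.1 (Core.pCore_isPGroup p G)
    rw [show Nat.card Q = p ^ i from hi]
    exact ((Core.pPrimeCore_coprime p (G ⧸ Q)).symm).pow_left i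
  have hidx : (Q.subgroupOf N).index = Nat.card Nb := by
    have h6 := Subgroup.index_ker (f.comp N.subtype)
    rw [MonoidHom.range_comp, Subgroup.range_subtype, hN,
      Subgroup.map_comap_eq_self_of_surjective (QuotientGroup.mk'_surjective _),
      ← MonoidHom.comap_ker, hf, QuotientGroup.ker_mk'] at h6
    exact h6
  obtain ⟨K, hK⟩ := Subgroup.exists_right_complement'_of_coprime (N := Q.subgroupOf N) (by
    rw [Nat.card_congr (Subgroup.subgroupOfEquivOfLe hQN).toEquiv, hidx]; exact hcop)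
  let φ : K →* Nb := ((f.comp N.subtype).comp K.subtype).codRestrict Nb fun x => (x : N).2
  have hKcard : Nat.card K = Nat.card Nb := by rw [← hK.symm.index_eq_card, hidx]
  have hφinj : Function.Injective φ := by
    rw [injective_iff_map_eq_one]
    intro x hx
    have h1 : ((x : N) : G) ∈ Q := (QuotientGroup.eq_one_iff _).1 (congrArg Subtype.val hx)
    have h2 : (x : N) ∈ Q.subgroupOf N ⊓ K := Subgroup.mem_inf.2 ⟨h1, x.2⟩
    rw [hK.disjoint.eq_bot, Subgroup.mem_bot] at h2
    exact Subtype.ext h2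
  have hφbij : Function.Bijective φ :=
    (Nat.bijective_iff_injective_and_card φ).2 ⟨hφinj, hKcard⟩
  let e : K ≃* Nb := MulEquiv.ofBijective φ hφbij
  let ι : Nb →* G := (N.subtype.comp K.subtype).comp e.symm.toMonoidHom
  have hι : ∀ x : Nb, f (ι x) = x := fun x => congrArg Subtype.val (e.apply_symm_apply x)
  have hιinj : Function.Injective ι :=
    (N.subtype_injective.comp K.subtype_injective).comp e.symm.injective
  refine ⟨fun x => χ (ι x), hχ.comp ι, fun x hx => ?_, by simpa using hn, fun g x => ?_⟩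
  · apply hιinj
    rw [map_one]
    exact hfaith _ (by simpa using hx)
  obtain ⟨g, rfl⟩ := QuotientGroup.mk_surjective g
  set y := MulAut.conjNormal (g : G ⧸ Q) x with hy
  set s := ι y with hs
  have hyv : ((y : Nb) : G ⧸ Q) = (g : G ⧸ Q) * x * (g : G ⧸ Q)⁻¹ := MulAut.conjNormal_apply _ _
  have hmem : g * ι x * g⁻¹ * s⁻¹ ∈ Q := by
    rw [← QuotientGroup.eq_one_iff]
    show f (g * ι x * g⁻¹ * s⁻¹) = 1
    rw [map_mul, map_mul, map_mul, map_inv, map_inv, hι, hs, hι, hyv]
    exact mul_inv_cancel _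
  have hso : orderOf s ∣ Nat.card Nb := by
    rw [hs, orderOf_injective ι hιinj]; exact orderOf_dvd_natCard _
  have hnorm : s ∈ Subgroup.normalizer (Q : Set G) :=
    Subgroup.le_normalizer_of_normal_subgroupOf (K := ⊤) le_top (Subgroup.mem_top s)
  obtain ⟨w, hw, c, hc, hcs, he⟩ :=
    exists_conj_eq_mul hnorm (hcop.coprime_dvd_right hso) hmem
  have hpow : (g * ι x * g⁻¹) ^ Nat.card Nb = 1 := by
    rw [conj_pow, ← map_pow, pow_card_eq_one', map_one, mul_one, mul_inv_cancel]
  rw [inv_mul_cancel_right] at he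
  have hc1 : c = 1 := by
    rw [← he, conj_pow, conj_eq_one_iff, hcs.mul_pow, orderOf_dvd_iff_pow_eq_one.1 hso,
      mul_one] at hpow
    have h1 := Nat.dvd_gcd (Subgroup.orderOf_dvd_natCard Q hc) (orderOf_dvd_of_pow_eq_one hpow)
    rw [hcop.gcd_eq_one, Nat.dvd_one, orderOf_eq_one_iff] at h1
    exact h1
  rw [hc1, one_mul] at he
  calc χ (ι y) = χ (w * s * w⁻¹) := (hχ.conj_invariant _ _).symm
    _ = χ (g * ι x * g⁻¹) := by rw [he]
    _ = χ (ι x) := hχ.conj_invariant _ _

/-- The bound on the index of `O_p` in a Sylow p-subgroup. -/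
theorem pCore_index_bound {p n : ℕ} [hp : Fact p.Prime] (hsolv : Cfsg.IsPSolvable p G) {χ : G → ℂ}
    (hχ : IsCharacter G χ) (hfaith : ∀ g, χ g = χ 1 → g = 1) (hn : χ 1 = (n : ℂ)) :
    (Cfsg.pCore p G).index.factorization p ≤ degBound p (n + 1) n := by
  classical
  obtain ⟨c, hc, hcfaith, hc1, hcinv⟩ := exists_core_character (p := p) hχ hfaith hn
  let Gb := G ⧸ Cfsg.pCore p G
  let Nb : Subgroup Gb := Cfsg.pPrimeCore p Gb
  haveI := Fintype.ofFinite Nb
  let P : Sylow p Gb := Classical.arbitrary _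
  set a := (Cfsg.pCore p G).index.factorization p with ha
  have hPcard : Nat.card (P : Subgroup Gb) = p ^ a := P.card_eq_multiplicity
  set H := Nb ⊔ (P : Subgroup Gb) with hH
  have hNH : Nb ≤ H := le_sup_left
  haveI := Fintype.ofFinite H
  haveI := Fintype.ofFinite (Nb.subgroupOf H)
  haveI : (Nb.subgroupOf H).Normal := Subgroup.Normal.subgroupOf inferInstance H
  let E := Subgroup.subgroupOfEquivOfLe hNH
  have hcopN : (Nat.card (Nb.subgroupOf H)).Coprime (Nb.subgroupOf H).index := by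
    rw [Nat.card_congr E.toEquiv]
    have h1 : (Nb.subgroupOf H).index ∣ p ^ a := by
      show Nb.relIndex H ∣ _
      rw [hH, sup_comm, Subgroup.relIndex_sup_right, ← hPcard]
      exact Subgroup.relIndex_dvd_card _ _
    exact Nat.Coprime.coprime_dvd_right h1 ((Core.pPrimeCore_coprime p Gb).pow_right a)
  -- the constituents
  have hc' : IsCharacter (Nb.subgroupOf H) (fun x => c (E x)) := hc.comp E.toMonoidHom
  set S : Finset (IrrCharacter (Nb.subgroupOf H)) :=
    Finset.univ.filter fun θ => multIn hc' θ ≠ 0 with hS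
  have hmem : ∀ θ, θ ∈ S ↔ multIn hc' θ ≠ 0 := fun θ => by simp [hS]
  have hcl : ∀ θ ∈ S, ∀ g : H, ∃ φ ∈ S,
      (φ : Nb.subgroupOf H → ℂ) = conjTwist (Nb.subgroupOf H) (θ : Nb.subgroupOf H → ℂ) g := by
    intro θ hθ g
    refine ⟨⟨_, isIrrCharacter_conjTwist _ θ.2 g⟩, (hmem _).2 fun h0 => (hmem θ).1 hθ ?_, rfl⟩
    have hh := classInner_conjTwist (Nb.subgroupOf H) (fun x => c (E x))
      (θ : Nb.subgroupOf H → ℂ) g
    have hi : conjTwist (Nb.subgroupOf H) (fun x => c (E x)) g = fun x => c (E x) := by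
      funext x
      rw [conjTwist_apply]
      refine Eq.trans ?_ (hcinv (g : Gb) (E x))
      exact congrArg c (Subtype.ext (by simp [E, Subgroup.subgroupOfEquivOfLe]))
    rw [hi, classInner_eq_multIn hc' θ] at hh
    have h1 := classInner_eq_multIn hc' ⟨_, isIrrCharacter_conjTwist _ θ.2 g⟩
    rw [h0, Nat.cast_zero] at h1
    exact_mod_cast hh.symm.trans h1
  obtain ⟨ψ, hψ, hψres, hψinv⟩ := exists_lift_sum hcopN S hcl
  -- degrees
  choose d hd0 hd using fun θ : IrrCharacter (Nb.subgroupOf H) => θ.2.exists_degree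
  have hψ1 : ψ 1 = ((∑ θ ∈ S, d θ : ℕ) : ℂ) := by
    have h := hψres 1
    rw [OneMemClass.coe_one] at h
    rw [h, Nat.cast_sum]
    exact Finset.sum_congr rfl fun θ _ => hd θ
  have hdeg : ∑ θ ∈ S, d θ ≤ n := by
    have h := apply_eq_sum_multIn hc' 1
    simp only [map_one, hc1, hd] at h
    have h' : n = ∑ θ, multIn hc' θ * d θ := by exact_mod_cast h
    rw [h']
    calc ∑ θ ∈ S, d θ ≤ ∑ θ ∈ S, multIn hc' θ * d θ := Finset.sum_le_sum fun θ hθ =>
          Nat.le_mul_of_pos_left _ (Nat.pos_of_ne_zero ((hmem θ).1 hθ))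
      _ ≤ _ := Finset.sum_le_univ_sum_of_nonneg fun _ => Nat.zero_le _
  -- the kernel meets the core trivially
  have hker : charKer hψ ⊓ Nb.subgroupOf H = ⊥ := by
    rw [eq_bot_iff]
    intro x hx
    obtain ⟨hx1, hx2⟩ := Subgroup.mem_inf.1 hx
    have h := (mem_charKer hψ).1 hx1
    rw [hψres ⟨x, hx2⟩, hψ1, Nat.cast_sum] at h
    have hre : ∀ θ ∈ S, ((θ : Nb.subgroupOf H → ℂ) ⟨x, hx2⟩).re ≤ (d θ : ℝ) := fun θ _ => by
      refine (Complex.re_le_norm _).trans ((θ.2.isCharacter.norm_le _).trans (le_of_eq ?_))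
      rw [hd θ, Complex.natCast_re]
    have hsum := congrArg Complex.re h
    rw [Complex.re_sum, Complex.re_sum] at hsum
    simp only [Complex.natCast_re] at hsum
    have hall := (Finset.sum_eq_sum_iff_of_le hre).1 hsum
    have hval : ∀ θ ∈ S, (θ : Nb.subgroupOf H → ℂ) ⟨x, hx2⟩ = (d θ : ℂ) := by
      intro θ hθ
      have h1 := hall θ hθ
      have h2 : ‖(θ : Nb.subgroupOf H → ℂ) ⟨x, hx2⟩‖ ≤ (d θ : ℝ) :=
        (θ.2.isCharacter.norm_le _).trans (le_of_eq (by rw [hd θ, Complex.natCast_re]))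
      rw [← h1, Complex.norm_eq_sqrt_sq_add_sq] at h2
      have h0 : 0 ≤ ((θ : Nb.subgroupOf H → ℂ) ⟨x, hx2⟩).re := by rw [h1]; positivity
      have h3 := Real.sqrt_le_iff.1 h2
      refine Complex.ext (by rw [h1, Complex.natCast_re]) ?_
      rw [Complex.natCast_im]
      nlinarith [h3.2]
    have hce : c (E ⟨x, hx2⟩) = c (E 1) := by
      rw [show c (E ⟨x, hx2⟩) = (fun y => c (E y)) ⟨x, hx2⟩ from rfl,
        show c (E 1) = (fun y => c (E y)) 1 from rfl]
      refine (apply_eq_sum_multIn hc' _).trans (Eq.trans ?_ (apply_eq_sum_multIn hc' 1).symm)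
      refine Finset.sum_congr rfl fun θ _ => ?_
      by_cases h0 : multIn hc' θ = 0
      · simp [h0]
      · rw [hval θ ((hmem θ).2 h0), hd θ]
    rw [map_one] at hce
    exact Subgroup.mem_bot.2 (congrArg Subtype.val (E.map_eq_one_iff.1 (hcfaith _ hce)))
  -- the character on the Sylow subgroup
  have hPH : (P : Subgroup Gb) ≤ H := le_sup_right
  let j : (P : Subgroup Gb) →* H := Subgroup.inclusion hPH
  haveI := Fintype.ofFinite (P : Subgroup Gb)
  have hfaithP : ∀ g, ψ (j g) = ψ (j 1) → g = 1 := by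
    intro g hg
    rw [map_one] at hg
    haveI := charKer_normal hψ
    have hcen : (g : Gb) ∈ Subgroup.centralizer (Nb : Set Gb) := by
      rw [Subgroup.mem_centralizer_iff]
      intro v hv
      have h1 := Subgroup.commute_of_normal_of_disjoint (charKer hψ) (Nb.subgroupOf H)
        inferInstance inferInstance (disjoint_iff.2 hker) (j g) ⟨v, hNH hv⟩
        ((mem_charKer hψ).2 hg) (Subgroup.mem_subgroupOf.2 hv)
      exact (congrArg Subtype.val h1.eq).symm
    have hgN : (g : Gb) ∈ Nb := Local.centralizer_pPrimeCore_le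
      (Core.isPSolvable_quotient hsolv _) Core.pCore_quotient_pCore_eq_bot hcen
    have hd1 := Nat.dvd_gcd (Subgroup.orderOf_dvd_natCard Nb hgN)
      (Subgroup.orderOf_dvd_natCard (P : Subgroup Gb) g.2)
    rw [hPcard, ((Core.pPrimeCore_coprime p Gb).pow_right a).gcd_eq_one, Nat.dvd_one,
      orderOf_eq_one_iff] at hd1
    exact Subtype.ext hd1
  have hrat : ∀ k : ℕ, k.Coprime (Nat.card (P : Subgroup Gb)) →
      ∀ g : (P : Subgroup Gb), ψ (j (g ^ k)) = ψ (j g) := by
    intro k hk g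
    rcases Nat.eq_zero_or_pos a with ha0 | ha0
    · rw [ha0, pow_zero] at hPcard
      haveI := (Nat.card_eq_one_iff_unique.1 hPcard).1
      rw [Subsingleton.elim (g ^ k) g]
    have hco : Nat.Coprime (p ^ a) (Nat.card (Nb.subgroupOf H)) := by
      rw [Nat.card_congr E.toEquiv]
      exact ((Core.pPrimeCore_coprime p Gb).symm).pow_left a
    obtain ⟨k', hk1, hk2⟩ := Nat.chineseRemainder hco k 1
    have hkH : k'.Coprime (Nat.card H) := by
      rw [← (Nb.subgroupOf H).card_mul_index]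
      refine Nat.Coprime.mul_right (by rw [Nat.Coprime, hk2.gcd_eq, Nat.gcd_one_left]) ?_
      refine Nat.Coprime.coprime_dvd_right (?_ : _ ∣ p ^ a)
        (by rw [Nat.Coprime, hk1.gcd_eq, ← hPcard]; exact hk)
      show Nb.relIndex H ∣ _
      rw [hH, sup_comm, Subgroup.relIndex_sup_right, ← hPcard]
      exact Subgroup.relIndex_dvd_card _ _
    have hgk : g ^ k' = g ^ k := pow_eq_pow_iff_modEq.2
      (Nat.ModEq.of_dvd (hPcard ▸ orderOf_dvd_natCard g) hk1)
    rw [← hgk, map_pow]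
    exact hψinv k' hkH hk2 (j g)
  have h := exponent_le_degBound hp.out hPcard (hψ.comp j) hfaithP
    (m := ∑ θ ∈ S, d θ) (by rw [map_one, hψ1]) hrat
  refine h.trans (le_trans ?_ (degBound_mono hdeg))
  exact Finset.sum_le_sum_of_subset_of_nonneg (Finset.range_mono (by omega))
    fun _ _ _ => Nat.zero_le _

end Cfsg.Lib.Char
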