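import Cfsg.Agent.Lib.Char.PSolvableBound
import Cfsg.Agent.Lib.Coprime.Action

/-!
# p-solvable linear groups of degree at most `p - 1`

Below degree `p - 1` a Sylow p-subgroup is normal; in degree `p - 1` the degree is a prime power
and the representation is irreducible when the Sylow p-subgroup is not normal.
-/

set_option autoImplicit false
set_option linter.unusedSectionVars false
set_option linter.style.haveILetI false
set_option maxHeartbeats 1000000

namespace Cfsg.Lib.Char

open Cfsg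
open scoped ComplexConjugate

universe u

theorem degBound_eq_zero {p B n : ℕ} (hp : p.Prime) (h : n < p - 1) : degBound p B n = 0 :=
  Finset.sum_eq_zero fun i _ => Nat.div_eq_of_lt
    (h.trans_le (Nat.le_mul_of_pos_right _ (pow_pos hp.pos i)))

theorem degBound_self_le_one {p B : ℕ} (hp : p.Prime) : degBound p B (p - 1) ≤ 1 := by
  have h1 : ∀ i ∈ Finset.range B, (p - 1) / ((p - 1) * p ^ i) = if i = 0 then 1 else 0 := by
    intro i _
    split_ifs with h
    · subst h
      rw [pow_zero, mul_one, Nat.div_self (Nat.sub_pos_of_lt hp.one_lt)]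
    · exact Nat.div_eq_of_lt
        (lt_mul_of_one_lt_right (Nat.sub_pos_of_lt hp.one_lt) (Nat.one_lt_pow h hp.one_lt))
  rw [degBound, Finset.sum_congr rfl h1, Finset.sum_ite_eq']
  split_ifs <;> omega

variable {G : Type u} [Group G] [Finite G]

/-- If the index of `O_p` is prime to `p`, the Sylow subgroups are normal. -/
theorem sylow_normal_of_index {p : ℕ} [hp : Fact p.Prime]
    (h : (Cfsg.pCore p G).index.factorization p = 0) (P : Sylow p G) : (P : Subgroup G).Normal := by
  have hle := Core.pCore_le_sylow P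
  have hndvd : ¬ p ∣ (Cfsg.pCore p G).index := by
    rcases (Nat.factorization_eq_zero_iff _ _).1 h with h1 | h1 | h1
    · exact absurd hp.out h1
    · exact h1
    · exact absurd h1 Subgroup.index_ne_zero_of_finite
  have h2 : (Cfsg.pCore p G).relIndex (P : Subgroup G) = 1 := by
    have hpp : ∃ k, (Cfsg.pCore p G).relIndex (P : Subgroup G) = p ^ k := by
      obtain ⟨k, -, hk⟩ := (Nat.dvd_prime_pow hp.out).1
        (P.card_eq_multiplicity ▸ Subgroup.relIndex_dvd_card (Cfsg.pCore p G) (P : Subgroup G))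
      exact ⟨k, hk⟩
    obtain ⟨k, hk⟩ := hpp
    rcases Nat.eq_zero_or_pos k with h0 | h0
    · rw [hk, h0, pow_zero]
    · exact absurd ((dvd_pow_self p h0.ne').trans (hk ▸ Subgroup.relIndex_dvd_index_of_le hle)) hndvd
  rw [← le_antisymm hle (Subgroup.relIndex_eq_one.1 h2)]
  infer_instance

/-- A p-solvable group with a faithful character of degree below `p - 1` has a normal Sylow
p-subgroup. -/
theorem sylow_normal_of_degree_lt {p n : ℕ} [hp : Fact p.Prime] (hsolv : Cfsg.IsPSolvable p G)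
    {χ : G → ℂ} (hχ : IsCharacter G χ) (hfaith : ∀ g, χ g = χ 1 → g = 1) (hn : χ 1 = (n : ℂ))
    (hlt : n < p - 1) (P : Sylow p G) : (P : Subgroup G).Normal := by
  have h := pCore_index_bound hsolv hχ hfaith hn
  rw [degBound_eq_zero hp.out hlt] at h
  exact sylow_normal_of_index (Nat.le_zero.1 h) P

/-- A reducible faithful character of degree at most `p - 1` forces a normal Sylow p-subgroup. -/
theorem isIrr_of_not_normal {p n : ℕ} [hp : Fact p.Prime] (hsolv : Cfsg.IsPSolvable p G)
    {χ : G → ℂ} (hχ : IsCharacter G χ) (hfaith : ∀ g, χ g = χ 1 → g = 1) (hn : χ 1 = (n : ℂ))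
    (hle : n ≤ p - 1) (P : Sylow p G) (hP : ¬ (P : Subgroup G).Normal) : IsIrrCharacter G χ := by
  classical
  haveI := Fintype.ofFinite G
  choose d hd0 hd using fun φ : IrrCharacter G => φ.2.exists_degree
  have hsum : n = ∑ φ, multIn hχ φ * d φ := by
    have h := apply_eq_sum_multIn hχ 1
    simp only [hn, hd] at h
    exact_mod_cast h
  by_cases hbig : ∃ φ, multIn hχ φ ≠ 0 ∧ n ≤ d φ
  · obtain ⟨φ, hφ0, hφd⟩ := hbig
    have hrest : ∀ ψ, ψ ≠ φ → multIn hχ ψ = 0 ∧ multIn hχ φ = 1 := by
      intro ψ hψ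
      have h2 := Finset.add_sum_erase Finset.univ (fun θ => multIn hχ θ * d θ) (Finset.mem_univ φ)
      have h3 : multIn hχ ψ * d ψ ≤ ∑ θ ∈ Finset.univ.erase φ, multIn hχ θ * d θ :=
        Finset.single_le_sum (f := fun θ => multIn hχ θ * d θ) (fun _ _ => Nat.zero_le _)
          (Finset.mem_erase.2 ⟨hψ, Finset.mem_univ _⟩)
      have h4 : d φ ≤ multIn hχ φ * d φ := Nat.le_mul_of_pos_left _ (Nat.pos_of_ne_zero hφ0)
      have h5 : multIn hχ ψ * d ψ = 0 := by omega
      refine ⟨(Nat.mul_eq_zero.1 h5).resolve_right (hd0 ψ).ne', ?_⟩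
      have h6 : multIn hχ φ * d φ = 1 * d φ := by omega
      exact Nat.eq_of_mul_eq_mul_right (hd0 φ) h6
    have hm : multIn hχ φ = 1 := by
      have h2 := Finset.add_sum_erase Finset.univ (fun θ => multIn hχ θ * d θ) (Finset.mem_univ φ)
      have h4 : d φ ≤ multIn hχ φ * d φ := Nat.le_mul_of_pos_left _ (Nat.pos_of_ne_zero hφ0)
      have h6 : multIn hχ φ * d φ = 1 * d φ := by omega
      exact Nat.eq_of_mul_eq_mul_right (hd0 φ) h6
    have he : χ = (φ : G → ℂ) := by
      funext g
      rw [apply_eq_sum_multIn hχ g, Finset.sum_eq_single φ (fun ψ _ hψ => by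
        rw [(hrest ψ hψ).1, Nat.cast_zero, zero_mul]) (fun h => absurd (Finset.mem_univ φ) h),
        hm, Nat.cast_one, one_mul]
    exact he ▸ φ.2
  exfalso
  apply hP
  have hnorm : ∀ φ : IrrCharacter G, multIn hχ φ ≠ 0 →
      ((P : Subgroup G) ⊔ charKer φ.2.isCharacter).Normal ∧
        ∀ g ∈ (P : Subgroup G) ⊔ charKer φ.2.isCharacter,
          g ^ Nat.card (P : Subgroup G) ∈ charKer φ.2.isCharacter := by
    intro φ hφ
    haveI := charKer_normal φ.2.isCharacter
    set K := charKer φ.2.isCharacter with hK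
    obtain ⟨ψ, hψ, hψe⟩ := exists_deflate_irr K φ.2 fun x hx => hx
    have hfψ : ∀ q : G ⧸ K, ψ q = ψ 1 → q = 1 := by
      intro q hq
      obtain ⟨g, rfl⟩ := QuotientGroup.mk_surjective q
      rw [hψe, show ψ 1 = φ.1 1 from hψe 1] at hq
      exact (QuotientGroup.eq_one_iff g).2 hq
    have hlt : d φ < p - 1 := by
      have : ¬ n ≤ d φ := fun h => hbig ⟨φ, hφ, h⟩
      omega
    have hN := sylow_normal_of_degree_lt (Core.isPSolvable_quotient hsolv K) hψ.isCharacter hfψ
      (show ψ 1 = (d φ : ℂ) from (hψe 1).trans (hd φ)) hlt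
      (P.mapSurjective (f := QuotientGroup.mk' K) (QuotientGroup.mk'_surjective K))
    have hcm : (P : Subgroup G) ⊔ K =
        ((P : Subgroup G).map (QuotientGroup.mk' K)).comap (QuotientGroup.mk' K) := by
      rw [Subgroup.comap_map_eq, QuotientGroup.ker_mk']
    have hN' : ((P : Subgroup G).map (QuotientGroup.mk' K)).Normal := hN
    refine ⟨hcm ▸ hN'.comap _, fun g hg => ?_⟩
    rw [hcm, Subgroup.mem_comap] at hg
    rw [← QuotientGroup.eq_one_iff]
    obtain ⟨x, hx, hxe⟩ := Subgroup.mem_map.1 hg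
    show (QuotientGroup.mk' K) (g ^ _) = 1
    rw [map_pow, ← hxe, ← map_pow]
    have : x ^ Nat.card (P : Subgroup G) = 1 := orderOf_dvd_iff_pow_eq_one.1
      (Subgroup.orderOf_dvd_natCard _ hx)
    rw [this, map_one]
  set M : Subgroup G := ⨅ φ : {φ : IrrCharacter G // multIn hχ φ ≠ 0},
    ((P : Subgroup G) ⊔ charKer φ.1.2.isCharacter) with hM
  have hPM : (P : Subgroup G) ≤ M := le_iInf fun φ => le_sup_left
  have hMn : M.Normal := Subgroup.normal_iInf_normal fun φ => (hnorm φ.1 φ.2).1
  have hMp : IsPGroup p M := by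
    intro x
    refine ⟨(Nat.card G).factorization p, Subtype.ext ?_⟩
    rw [Subgroup.coe_pow, OneMemClass.coe_one, ← P.card_eq_multiplicity]
    refine hfaith _ ?_
    rw [apply_eq_sum_multIn hχ _, apply_eq_sum_multIn hχ 1]
    refine Finset.sum_congr rfl fun φ _ => ?_
    by_cases h0 : multIn hχ φ = 0
    · simp [h0]
    · rw [(mem_charKer φ.2.isCharacter).1 ((hnorm φ h0).2 _ (Subgroup.mem_iInf.1 x.2 ⟨φ, h0⟩))]
  exact P.is_maximal' hMp hPM ▸ hMn

/-- A coprime automorphism of prime order acting nontrivially moves some Sylow subgroup. -/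
theorem exists_moved_subgroup {p : ℕ} [hp : Fact p.Prime] {N P : Subgroup G} [N.Normal]
    (hP : Nat.card P = p) (hN : (Nat.card N).Coprime p) (hmoved : ¬ N ≤ Subgroup.centralizer (P : Set G)) :
    ∃ (q : ℕ) (_ : q.Prime) (Q : Subgroup G), Q ≤ N ∧ IsPGroup q Q ∧
      P ≤ Subgroup.normalizer (Q : Set G) ∧ ¬ Q ≤ Subgroup.centralizer (P : Set G) := by
  by_contra hcon
  push Not at hcon
  apply hmoved
  have hAG : P ≤ Subgroup.normalizer (N : Set G) :=
    le_top.trans (Subgroup.le_normalizer_of_normal_subgroupOf (K := ⊤) le_top)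
  have hcop : (Nat.card P).Coprime (Nat.card N) := hP ▸ hN.symm
  haveI : IsCyclic P := isCyclic_of_prime_card hP
  have hsol : Group.IsSolvable P ∨ Group.IsSolvable N :=
    Or.inl (by letI : CommGroup P := IsCyclic.commGroup; infer_instance)
  have h1 : ∀ q : ℕ, q.Prime → ¬ q ∣ (Subgroup.centralizer (P : Set G)).relIndex N := by
    intro q hq hdvd
    haveI : Fact q.Prime := ⟨hq⟩
    obtain ⟨Q, hQ⟩ := Coprime.exists_invariant_sylow hAG hcop hsol q
    have hle := hcon q hq ((Q : Subgroup N).map N.subtype) (Subgroup.map_subtype_le _)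
      (Q.isPGroup'.map _) hQ
    refine Q.not_dvd_index (hdvd.trans ?_)
    exact Subgroup.index_dvd_of_le fun x hx => hle (Subgroup.mem_map_of_mem _ hx)
  have h2 : (Subgroup.centralizer (P : Set G)).relIndex N = 1 := by
    by_contra h3
    obtain ⟨q, hq, hd⟩ := Nat.exists_prime_and_dvd h3
    exact h1 q hq hd
  exact Subgroup.relIndex_eq_one.1 h2

/-- A moved invariant q-subgroup gives a prime power degree at least `p - 1`. -/
theorem exists_degree_of_moved {p q n : ℕ} [hp : Fact p.Prime] (hq : q.Prime) {N P Q : Subgroup G}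
    (hP : Nat.card P = p) (hQN : Q ≤ N) (hQq : IsPGroup q Q)
    (hN : (Nat.card N).Coprime p) (hPQ : P ≤ Subgroup.normalizer (Q : Set G))
    (hmoved : ¬ Q ≤ Subgroup.centralizer (P : Set G)) {c : N → ℂ} (hc : IsCharacter N c)
    (hfaith : ∀ x, c x = c 1 → x = 1) (hn : c 1 = (n : ℂ)) [N.Normal]
    (hinv : ∀ (g : G) (x : N), c (MulAut.conjNormal g x) = c x) (hnp : n ≤ p - 1) :
    ∃ e : ℕ, p - 1 = q ^ e := by
  classical
  haveI := Fintype.ofFinite G
  set H := Q ⊔ P with hH
  have hQH : Q ≤ H := le_sup_left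
  have hPH : P ≤ H := le_sup_right
  haveI : (Q.subgroupOf H).Normal :=
    (Subgroup.normal_subgroupOf_iff_le_normalizer hQH).2 (sup_le Subgroup.le_normalizer hPQ)
  haveI := Fintype.ofFinite H
  haveI := Fintype.ofFinite (Q.subgroupOf H)
  haveI : Fact q.Prime := ⟨hq⟩
  obtain ⟨e, he⟩ := hQq.exists_card_eq
  have hcardQ : Nat.card (Q.subgroupOf H) = q ^ e := by
    rw [Nat.card_congr (Subgroup.subgroupOfEquivOfLe hQH).toEquiv, he]
  have hidxdvd : (Q.subgroupOf H).index ∣ p := by
    show Q.relIndex H ∣ p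
    have hd : Disjoint Q P := by
      refine Coprime.disjoint_of_coprime_card ?_
      rw [hP]
      exact hN.coprime_dvd_left (Subgroup.card_dvd_of_le hQN)
    have h := (Q.subgroupOf H).card_mul_index
    rw [hcardQ, Coprime.card_sup_of_disjoint hPQ hd, he, hP] at h
    exact dvd_of_eq (Nat.eq_of_mul_eq_mul_left (pow_pos hq.pos e) h)
  have hcop : (Nat.card (Q.subgroupOf H)).Coprime (Q.subgroupOf H).index := by
    rw [hcardQ]
    exact Nat.Coprime.coprime_dvd_right hidxdvd
      (he ▸ hN.coprime_dvd_left (Subgroup.card_dvd_of_le hQN))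
  let ι : Q.subgroupOf H →* N :=
    { toFun := fun x => ⟨((x : H) : G), hQN x.2⟩
      map_one' := rfl
      map_mul' := fun _ _ => rfl }
  have hc' : IsCharacter (Q.subgroupOf H) (fun x => c (ι x)) := hc.comp ι
  choose d hd0 hd using fun θ : IrrCharacter (Q.subgroupOf H) => θ.2.exists_degree
  have hdeg : ∑ θ, multIn hc' θ * d θ = n := by
    have h := apply_eq_sum_multIn hc' 1
    simp only [map_one, hn, hd] at h
    exact_mod_cast h.symm
  have hfix : ∀ θ : IrrCharacter (Q.subgroupOf H), multIn hc' θ ≠ 0 →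
      inertia (Q.subgroupOf H) (θ : Q.subgroupOf H → ℂ) = ⊤ := by
    intro θ hθ
    by_contra hne
    set S : Finset (IrrCharacter (Q.subgroupOf H)) := Finset.univ.filter fun φ =>
      multIn hc' φ ≠ 0 ∧ d φ = d θ
    have hsub : twistOrbit (Q.subgroupOf H) (θ : Q.subgroupOf H → ℂ) ⊆
        S.image fun φ : IrrCharacter (Q.subgroupOf H) => (φ : Q.subgroupOf H → ℂ) := by
      intro φ hφ
      obtain ⟨g, rfl⟩ := (mem_twistOrbit _).1 hφ
      refine Finset.mem_image.2
        ⟨⟨_, isIrrCharacter_conjTwist _ θ.2 g⟩, Finset.mem_filter.2 ⟨Finset.mem_univ _, ?_, ?_⟩, rfl⟩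
      · intro h0
        have hh := classInner_conjTwist (Q.subgroupOf H) (fun x => c (ι x))
          (θ : Q.subgroupOf H → ℂ) g
        have hi : conjTwist (Q.subgroupOf H) (fun x => c (ι x)) g = fun x => c (ι x) := by
          funext x
          rw [conjTwist_apply]
          refine Eq.trans ?_ (hinv (g : G) (ι x))
          exact congrArg c (Subtype.ext (by simp [ι]))
        rw [hi, classInner_eq_multIn hc' θ] at hh
        have h1 := classInner_eq_multIn hc' ⟨_, isIrrCharacter_conjTwist _ θ.2 g⟩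
        rw [h0, Nat.cast_zero] at h1
        exact hθ (by exact_mod_cast hh.symm.trans h1)
      · have h1 := hd ⟨_, isIrrCharacter_conjTwist (Q.subgroupOf H) θ.2 g⟩
        simp only [conjTwist_apply_one, hd θ] at h1
        exact_mod_cast h1.symm
    have hcard := (Finset.card_le_card hsub).trans Finset.card_image_le
    rw [card_twistOrbit] at hcard
    have hidx : (inertia (Q.subgroupOf H) (θ : Q.subgroupOf H → ℂ)).index = p := by
      have hd1 := (Subgroup.index_dvd_of_le (le_inertia (Q.subgroupOf H) θ.2.isClassFunction)).trans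
        hidxdvd
      rcases (Nat.dvd_prime hp.out).1 hd1 with h1 | h1
      · exact absurd (Subgroup.index_eq_one.1 h1) hne
      · exact h1
    rw [hidx] at hcard
    have h2 : S.card * d θ ≤ n := by
      rw [← hdeg, ← smul_eq_mul, ← Finset.sum_const]
      refine le_trans (Finset.sum_le_sum fun φ hφ => ?_)
        (Finset.sum_le_univ_sum_of_nonneg (s := S) fun _ => Nat.zero_le _)
      obtain ⟨-, h3, h4⟩ := Finset.mem_filter.1 hφ
      rw [← h4]
      exact Nat.le_mul_of_pos_left _ (Nat.pos_of_ne_zero h3)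
    have h5 : p ≤ S.card * d θ := le_trans hcard (Nat.le_mul_of_pos_right _ (hd0 θ))
    have := hp.out.one_lt
    omega
  by_contra hcon
  apply hmoved
  intro x hx
  rw [Subgroup.mem_centralizer_iff]
  intro g hg
  -- each constituent is trivial on the commutator
  have hker : ∀ θ : IrrCharacter (Q.subgroupOf H), multIn hc' θ ≠ 0 →
      ∀ (y : Q.subgroupOf H), ((y : H) : G) = g * x * g⁻¹ * x⁻¹ →
        (θ : Q.subgroupOf H → ℂ) y = (θ : Q.subgroupOf H → ℂ) 1 := by
    intro θ hθ y hy
    obtain ⟨ψ, hψ, hψres, hψinv⟩ := exists_extension_pRational hcop θ.2 (fun t z =>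
      (mem_inertia_iff _).1 (show t ∈ inertia (Q.subgroupOf H) _ from hfix θ hθ ▸ Subgroup.mem_top t) z)
    haveI := charKer_normal hψ
    haveI := Fintype.ofFinite P
    let j : P →* H := Subgroup.inclusion hPH
    have hgk : j ⟨g, hg⟩ ∈ charKer hψ := by
      by_contra hgn
      have hfP : ∀ u : P, ψ (j u) = ψ (j 1) → u = 1 := by
        intro u hu
        rw [map_one] at hu
        haveI : Fact (Nat.card P).Prime := ⟨hP.symm ▸ hp.out⟩
        rcases Subgroup.eq_bot_or_eq_top_of_prime_card ((charKer hψ).comap j) with h1 | h1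
        · exact Subgroup.mem_bot.1 (h1 ▸ (show u ∈ (charKer hψ).comap j from hu))
        · exact absurd (h1.ge (Subgroup.mem_top ⟨g, hg⟩)) hgn
      have hrat : ∀ k : ℕ, k.Coprime (Nat.card P) → ∀ u : P, ψ (j (u ^ k)) = ψ (j u) := by
        intro k hk u
        have hco : Nat.Coprime p (Nat.card (Q.subgroupOf H)) := by
          rw [hcardQ]
          exact (he ▸ hN.coprime_dvd_left (Subgroup.card_dvd_of_le hQN) :
            (q ^ e).Coprime p).symm
        obtain ⟨k', hk1, hk2⟩ := Nat.chineseRemainder hco k 1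
        have hkH : k'.Coprime (Nat.card H) := by
          rw [← (Q.subgroupOf H).card_mul_index]
          exact Nat.Coprime.mul_right (by rw [Nat.Coprime, hk2.gcd_eq, Nat.gcd_one_left])
            (Nat.Coprime.coprime_dvd_right hidxdvd (by rw [Nat.Coprime, hk1.gcd_eq, ← hP]; exact hk))
        have hgk' : u ^ k' = u ^ k := pow_eq_pow_iff_modEq.2
          (Nat.ModEq.of_dvd (hP ▸ orderOf_dvd_natCard u) hk1)
        rw [← hgk', map_pow]
        exact hψinv k' hkH hk2 (j u)
      have hψ1 : ψ (j 1) = (d θ : ℂ) := by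
        rw [map_one]
        have := hψres 1
        rw [OneMemClass.coe_one, hd θ] at this
        exact this
      have hb := exponent_le_degBound (n := 1) hp.out (by rw [hP, pow_one]) (hψ.comp j) hfP hψ1 hrat
      have hdn : d θ ≤ n := by
        rw [← hdeg]
        exact (Nat.le_mul_of_pos_left _ (Nat.pos_of_ne_zero hθ)).trans
          (Finset.single_le_sum (f := fun φ => multIn hc' φ * d φ) (fun _ _ => Nat.zero_le _)
            (Finset.mem_univ θ))
      have hge : p - 1 ≤ d θ := by
        by_contra hlt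
        rw [degBound_eq_zero hp.out (by omega)] at hb
        omega
      obtain ⟨i, -, hi⟩ := (Nat.dvd_prime_pow hq).1 (hcardQ ▸ degree_dvd_card θ.2 (hd θ))
      exact hcon ⟨i, by omega⟩
    have hy2 : (y : H) ∈ charKer hψ := by
      have h2 : (y : H) = j ⟨g, hg⟩ *
          ((⟨x, hQH hx⟩ : H) * (j ⟨g, hg⟩)⁻¹ * (⟨x, hQH hx⟩ : H)⁻¹) := by
        apply Subtype.ext
        show ((y : H) : G) = g * (x * g⁻¹ * x⁻¹)
        rw [hy]; group
      rw [h2]
      exact mul_mem hgk ((charKer_normal hψ).conj_mem _ (inv_mem hgk) _)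
    have h3 := (mem_charKer hψ).1 hy2
    have h4 := hψres 1
    rw [OneMemClass.coe_one] at h4
    rw [hψres y, h4] at h3
    exact h3
  have hxg : g * x * g⁻¹ * x⁻¹ ∈ Q :=
    mul_mem ((Subgroup.mem_normalizer_iff.1 (hPQ hg) x).1 hx) (inv_mem hx)
  set y : Q.subgroupOf H := ⟨⟨g * x * g⁻¹ * x⁻¹, hQH hxg⟩, hxg⟩ with hy
  have hce : c (ι y) = c (ι 1) := by
    refine (apply_eq_sum_multIn hc' y).trans (Eq.trans ?_ (apply_eq_sum_multIn hc' 1).symm)
    refine Finset.sum_congr rfl fun θ _ => ?_
    by_cases h0 : multIn hc' θ = 0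
    · simp [h0]
    · rw [hker θ h0 y rfl]
  rw [map_one] at hce
  have h5 : g * x * g⁻¹ * x⁻¹ = 1 := congrArg Subtype.val (hfaith _ hce)
  have h6 : g * x * g⁻¹ = x := mul_inv_eq_one.1 h5
  calc g * x = (g * x * g⁻¹) * g := by group
    _ = x * g := by rw [h6]

/-- p-solvable groups of degree at most `p - 1` with a non-normal Sylow p-subgroup. -/
theorem small_degree_structure {p n : ℕ} [hp : Fact p.Prime] (hsolv : Cfsg.IsPSolvable p G)
    {χ : G → ℂ} (hχ : IsCharacter G χ) (hfaith : ∀ g, χ g = χ 1 → g = 1) (hn : χ 1 = (n : ℂ))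
    (hnp : n ≤ p - 1) (P : Sylow p G) (hP : ¬ (P : Subgroup G).Normal) :
    n = p - 1 ∧ ∃ k, n = 2 ^ k := by
  classical
  have heq : n = p - 1 := by
    by_contra hne
    exact hP (sylow_normal_of_degree_lt hsolv hχ hfaith hn (by omega) P)
  refine ⟨heq, ?_⟩
  obtain ⟨c, hc, hcfaith, hc1, hcinv⟩ := exists_core_character (p := p) hχ hfaith hn
  let Gb := G ⧸ Cfsg.pCore p G
  let Nb : Subgroup Gb := Cfsg.pPrimeCore p Gb
  let Pb : Sylow p Gb := Classical.arbitrary _
  have ha : (Cfsg.pCore p G).index.factorization p = 1 := by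
    have h1 := pCore_index_bound hsolv hχ hfaith hn
    rw [heq] at h1
    have h2 := h1.trans (degBound_self_le_one hp.out)
    have h3 : (Cfsg.pCore p G).index.factorization p ≠ 0 := fun h => hP (sylow_normal_of_index h P)
    omega
  have hPb : Nat.card (Pb : Subgroup Gb) = p := by
    rw [Pb.card_eq_multiplicity]
    show p ^ (Cfsg.pCore p G).index.factorization p = p
    rw [ha, pow_one]
  have hmoved : ¬ Nb ≤ Subgroup.centralizer ((Pb : Subgroup Gb) : Set Gb) := by
    intro h
    have h1 : (Pb : Subgroup Gb) ≤ Subgroup.centralizer (Nb : Set Gb) := fun x hx =>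
      Subgroup.mem_centralizer_iff.2 fun v hv => (Subgroup.mem_centralizer_iff.1 (h hv) x hx).symm
    have h2 := h1.trans (Local.centralizer_pPrimeCore_le
      (Core.isPSolvable_quotient hsolv _) Core.pCore_quotient_pCore_eq_bot)
    have h3 := Subgroup.card_dvd_of_le h2
    rw [hPb] at h3
    exact (hp.out.coprime_iff_not_dvd.1 (Core.pPrimeCore_coprime p Gb).symm) h3
  obtain ⟨q, hq, Q, hQN, hQq, hPQ, hQm⟩ :=
    exists_moved_subgroup (N := Nb) hPb (Core.pPrimeCore_coprime p Gb) hmoved
  obtain ⟨e, he⟩ := exists_degree_of_moved hq hPb hQN hQq (Core.pPrimeCore_coprime p Gb) hPQ hQm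
    hc hcfaith hc1 hcinv hnp
  rcases Nat.eq_zero_or_pos e with rfl | he0
  · exact ⟨0, by rw [heq, he, pow_zero, pow_zero]⟩
  · rcases hp.out.eq_two_or_odd' with h2 | hodd
    · exfalso
      have := Nat.one_lt_pow he0.ne' hq.one_lt
      omega
    · obtain ⟨m, hm⟩ := hodd
      have h2 : 2 ∣ q ^ e := he ▸ ⟨m, by omega⟩
      have hq2 : q = 2 := ((Nat.prime_dvd_prime_iff_eq Nat.prime_two hq).1
        (Nat.prime_two.dvd_of_dvd_pow h2)).symm
      exact ⟨e, by rw [heq, he, hq2]⟩

end Cfsg.Lib.Char
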