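import Cfsg.Agent.Lib.Char.PGroupFieldBound
import Cfsg.Agent.Lib.Core.Fitting
import Cfsg.Agent.Lib.Core.Layer
import Cfsg.Agent.Lib.Core.PSolvable
import Cfsg.Agent.Lib.Coprime.Action

/-!
# Prime power divisors of the degree of a solvable linear group

A solvable group with a faithful irreducible character of degree `n` and a non-normal Sylow
p-subgroup has a prime power `q > 1` dividing `n` with `q` congruent to `0` or `±1` modulo `p`.
-/

set_option autoImplicit false
set_option linter.unusedSectionVars false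
set_option linter.style.haveILetI false
set_option maxHeartbeats 1000000

namespace Cfsg.Lib.Char

open Cfsg
open scoped ComplexConjugate commutatorElement

universe u

/-- `n` has a prime power divisor above one congruent to `0` or `±1` modulo `p`. -/
def PGood (p n : ℕ) : Prop :=
  ∃ q i : ℕ, q.Prime ∧ 0 < i ∧ q ^ i ∣ n ∧ (p ∣ q ^ i - 1 ∨ p ∣ q ^ i + 1 ∨ q = p)

theorem PGood.of_dvd {p m n : ℕ} (h : PGood p m) (hmn : m ∣ n) : PGood p n := by
  obtain ⟨q, i, hq, hi, hd, hc⟩ := h
  exact ⟨q, i, hq, hi, hd.trans hmn, hc⟩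

/-- Counting the fixed points of an element of p-power order on a q-subgroup. -/
theorem dvd_pow_sub_one_of_moved {G : Type u} [Group G] [Finite G] {p q : ℕ} (hp : p.Prime)
    (hq : q.Prime) (hne : q ≠ p) {N : Subgroup G} (hN : IsPGroup q N) {x : G} {k : ℕ}
    (hxk : x ^ p ^ k = 1) (hx : x ∈ Subgroup.normalizer (N : Set G))
    (hmoved : ¬ N ≤ Subgroup.centralizer ({x} : Set G)) :
    ∃ d e : ℕ, Nat.card N = q ^ d ∧ Nat.card ↥(N ⊓ Subgroup.centralizer ({x} : Set G)) = q ^ e ∧
      e < d ∧ p ∣ q ^ (d - e) - 1 := by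
  haveI : Fact q.Prime := ⟨hq⟩
  haveI : Fact p.Prime := ⟨hp⟩
  obtain ⟨d, hd⟩ := hN.exists_card_eq
  set W := N ⊓ Subgroup.centralizer ({x} : Set G) with hW
  obtain ⟨e, hed, he⟩ := (Nat.dvd_prime_pow hq).1
    (hd ▸ Subgroup.card_dvd_of_le (inf_le_left : W ≤ N))
  have hlt : e < d := by
    refine lt_of_le_of_ne hed fun h => hmoved ?_
    have h1 : W = N := Subgroup.eq_of_le_of_card_ge inf_le_left (le_of_eq (by rw [hd, he, h]))
    exact h1 ▸ inf_le_right
  let xb : Subgroup.normalizer (N : Set G) := ⟨x, hx⟩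
  have hpg : IsPGroup p (Subgroup.zpowers xb) := by
    have hxb : xb ^ p ^ k = 1 := Subtype.ext (by simpa [xb] using hxk)
    obtain ⟨j, -, hj⟩ := (Nat.dvd_prime_pow hp).1 (orderOf_dvd_of_pow_eq_one hxb)
    exact IsPGroup.of_card (n := j) (by rw [Nat.card_zpowers, hj])
  have hsmul : ∀ (a : Subgroup.normalizer (N : Set G)) (v : N),
      ((a • v : N) : G) = (a : G) * v * (a : G)⁻¹ := fun a v => rfl
  have hmod := hpg.card_modEq_card_fixedPoints (α := N)
  have hfix : Nat.card (MulAction.fixedPoints (Subgroup.zpowers xb) N) = Nat.card W := by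
    refine Nat.card_congr
      { toFun := fun v => ⟨(v.1 : G), Subgroup.mem_inf.2 ⟨v.1.2, ?_⟩⟩
        invFun := fun w => ⟨⟨(w : G), (Subgroup.mem_inf.1 w.2).1⟩, ?_⟩
        left_inv := fun v => rfl
        right_inv := fun w => rfl }
    · rw [Subgroup.mem_centralizer_singleton_iff]
      have h1 : ((xb • v.1 : N) : G) = ((v.1 : N) : G) :=
        congrArg Subtype.val (v.2 ⟨xb, Subgroup.mem_zpowers xb⟩)
      rw [hsmul, mul_inv_eq_iff_eq_mul] at h1
      exact h1.symm
    · intro a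
      have hst : xb ∈ MulAction.stabilizer (Subgroup.normalizer (N : Set G))
          (⟨(w : G), (Subgroup.mem_inf.1 w.2).1⟩ : N) := by
        rw [MulAction.mem_stabilizer_iff]
        apply Subtype.ext
        rw [hsmul]
        exact mul_inv_eq_iff_eq_mul.2
          (Subgroup.mem_centralizer_singleton_iff.1 (Subgroup.mem_inf.1 w.2).2).symm
      exact MulAction.mem_stabilizer_iff.1 (Subgroup.zpowers_le.2 hst a.2)
  rw [hfix, hd, he] at hmod
  have h1 : p ∣ q ^ d - q ^ e :=
    (Nat.modEq_iff_dvd' (Nat.pow_le_pow_right hq.pos hed)).1 hmod.symm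
  rw [← Nat.add_sub_cancel' hed, pow_add] at h1
  have h2 : p ∣ q ^ e * (q ^ (d - e) - 1) := by rwa [Nat.mul_sub_one]
  refine ⟨d, e, hd, he, hlt, ?_⟩
  exact ((Nat.coprime_primes hp hq).2 hne.symm).pow_right e |>.dvd_of_dvd_mul_left h2

/-- A p-element outside the core of a maximal subgroup of a solvable group. -/
theorem pGood_index_of_maximal {G : Type u} [Group G] [Finite G] [Group.IsSolvable G] {p : ℕ}
    (hp : p.Prime) {M : Subgroup G} (hM : IsCoatom M) {x : G} {k : ℕ} (hxk : x ^ p ^ k = 1)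
    (hx : x ∉ M.normalCore) : PGood p M.index := by
  classical
  set C := M.normalCore with hC
  set f := QuotientGroup.mk' C with hf
  have hfs := QuotientGroup.mk'_surjective C
  haveI : Group.IsSolvable (G ⧸ C) := Group.isSolvable_of_surjective hfs
  set M' := M.map f with hM'
  have hidx : M'.index = M.index := Subgroup.index_map_eq _ hfs (by
    rw [hf, QuotientGroup.ker_mk']; exact Subgroup.normalCore_le M)
  have hx1 : f x ≠ 1 := fun h => hx ((QuotientGroup.eq_one_iff x).1 h)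
  haveI : Nontrivial (G ⧸ C) := ⟨⟨f x, 1, hx1⟩⟩
  obtain ⟨N, hN⟩ := Core.exists_isMinNormal_univ (G := G ⧸ C)
  obtain ⟨hNab, q, hq, -, hNp⟩ := Core.minimal_solvable_elementary hN inferInstance
  haveI := hN.1
  have hsup : N ⊔ M' = ⊤ := by
    have h1 : N.comap f ⊔ M = ⊤ := by
      refine hM.2 _ (lt_of_le_of_ne le_sup_right fun h => hN.2.1 ?_)
      have h2 : N.comap f ≤ C := by
        haveI : (N.comap f).Normal := hN.1.comap f
        exact Subgroup.normal_le_normalCore.2 (le_trans le_sup_left h.ge)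
      rw [← Subgroup.map_comap_eq_self_of_surjective hfs N, Subgroup.map_eq_bot_iff,
        QuotientGroup.ker_mk']
      exact h2
    have h3 := congrArg (Subgroup.map f) h1
    rwa [Subgroup.map_sup, Subgroup.map_comap_eq_self_of_surjective hfs,
      Subgroup.map_top_of_surjective f hfs] at h3
  -- a normal subgroup inside `M'` is trivial
  have hcore : ∀ K : Subgroup (G ⧸ C), K.Normal → K ≤ M' → K = ⊥ := by
    intro K hK hle
    rw [← Subgroup.map_comap_eq_self_of_surjective hfs K, Subgroup.map_eq_bot_iff,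
      QuotientGroup.ker_mk']
    haveI : (K.comap f).Normal := hK.comap f
    refine Subgroup.normal_le_normalCore.2 ((Subgroup.comap_mono hle).trans (le_of_eq ?_))
    rw [hM', Subgroup.comap_map_eq, QuotientGroup.ker_mk', sup_eq_left]
    exact Subgroup.normalCore_le M
  have hcomm : ∀ a ∈ N, ∀ b ∈ N, a * b = b * a := fun a ha b hb =>
    congrArg Subtype.val (hNab.is_comm.comm ⟨a, ha⟩ ⟨b, hb⟩)
  have hnormal : ∀ S : Subgroup (G ⧸ C), M' ≤ Subgroup.normalizer (S : Set (G ⧸ C)) →
      N ≤ Subgroup.normalizer (S : Set (G ⧸ C)) → S.Normal := fun S h1 h2 =>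
    Subgroup.normalizer_eq_top_iff.1 (top_le_iff.1 (hsup ▸ sup_le h2 h1))
  have hinf : N ⊓ M' = ⊥ := by
    refine hcore _ (hnormal _ ?_ ?_) inf_le_right
    · exact le_trans (le_inf (le_top.trans (Subgroup.le_normalizer_of_normal_subgroupOf (K := ⊤) le_top))
        Subgroup.le_normalizer) Subgroup.inf_normalizer_le_normalizer_inf
    · intro n hn
      refine Subgroup.centralizer_le_normalizer _ (Subgroup.mem_centralizer_iff.2 fun v hv => ?_)
      exact hcomm v (Subgroup.mem_inf.1 hv).1 n hn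
  have hcardN : Nat.card N = M'.index := by
    have h1 : N.index = Nat.card M' := by
      rw [← Subgroup.relIndex_top_right, ← hsup, sup_comm, Subgroup.relIndex_sup_right,
        ← Subgroup.inf_relIndex_right, hinf, Subgroup.relIndex_bot_left]
    have h2 := N.card_mul_index
    rw [h1, ← M'.card_mul_index, mul_comm] at h2
    exact Nat.eq_of_mul_eq_mul_left Nat.card_pos h2
  haveI : Fact q.Prime := ⟨hq⟩
  obtain ⟨d, hd⟩ := hNp.exists_card_eq
  have hd0 : 0 < d := by
    refine Nat.pos_of_ne_zero fun h => hN.2.1 (Subgroup.eq_bot_of_card_eq N ?_)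
    rw [hd, h, pow_zero]
  rw [← hidx, ← hcardN, hd]
  by_cases hqp : q = p
  · exact ⟨q, d, hq, hd0, dvd_rfl, Or.inr (Or.inr hqp)⟩
  have hfxk : (f x) ^ p ^ k = 1 := by rw [← map_pow, hxk, map_one]
  have hmoved : ¬ N ≤ Subgroup.centralizer ({f x} : Set (G ⧸ C)) := by
    intro hle
    have hxC : f x ∈ Subgroup.centralizer (N : Set (G ⧸ C)) :=
      Subgroup.mem_centralizer_iff.2 fun v hv => Subgroup.mem_centralizer_singleton_iff.1 (hle hv)
    obtain ⟨n, hn, m, hm, he⟩ := Subgroup.mem_sup_of_normal_left.1 (hsup ▸ Subgroup.mem_top (f x))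
    have hnC : n ∈ Subgroup.centralizer (N : Set (G ⧸ C)) :=
      Subgroup.mem_centralizer_iff.2 fun v hv => hcomm v hv n hn
    have hmC : m ∈ Subgroup.centralizer (N : Set (G ⧸ C)) := by
      have : m = n⁻¹ * f x := by rw [← he, inv_mul_cancel_left]
      rw [this]; exact mul_mem (inv_mem hnC) hxC
    have hT : (Subgroup.centralizer (N : Set (G ⧸ C)) ⊓ M') = ⊥ := by
      refine hcore _ (hnormal _ ?_ ?_) inf_le_right
      · exact le_trans (le_inf (le_top.trans (Subgroup.le_normalizer_of_normal_subgroupOf (K := ⊤) le_top))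
          Subgroup.le_normalizer) Subgroup.inf_normalizer_le_normalizer_inf
      · intro v hv
        refine Subgroup.centralizer_le_normalizer _ (Subgroup.mem_centralizer_iff.2 fun w hw => ?_)
        exact (Subgroup.mem_centralizer_iff.1 (Subgroup.mem_inf.1 hw).1 v hv).symm
    have hm1 : m = 1 := Subgroup.mem_bot.1 (hT ▸ Subgroup.mem_inf.2 ⟨hmC, hm⟩)
    rw [hm1, mul_one] at he
    apply hx1
    have h1 : orderOf (f x) ∣ q ^ d := by
      rw [← hd, ← he]; exact Subgroup.orderOf_dvd_natCard N hn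
    have h2 := Nat.dvd_gcd h1 (orderOf_dvd_of_pow_eq_one hfxk)
    rw [(((Nat.coprime_primes hq hp).2 hqp).pow d k).gcd_eq_one, Nat.dvd_one,
      orderOf_eq_one_iff] at h2
    exact h2
  obtain ⟨d', e, hd', -, hed, hdvd⟩ := dvd_pow_sub_one_of_moved hp hq hqp hNp hfxk
    (Subgroup.le_normalizer_of_normal_subgroupOf (K := ⊤) le_top (Subgroup.mem_top _)) hmoved
  obtain rfl : d' = d := Nat.pow_right_injective hq.two_le (hd'.symm.trans hd)
  exact ⟨q, d' - e, hq, Nat.sub_pos_of_lt hed, pow_dvd_pow _ (Nat.sub_le _ _), Or.inl hdvd⟩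

/-- A p-element outside the core of a subgroup of a solvable group. -/
theorem pGood_index_of_not_mem_core {p : ℕ} (hp : p.Prime) :
    ∀ n : ℕ, ∀ (G : Type u) [Group G] [Finite G] [Group.IsSolvable G], Nat.card G = n →
      ∀ (H : Subgroup G) (x : G) (k : ℕ), x ^ p ^ k = 1 → x ∉ H.normalCore → PGood p H.index := by
  intro n
  induction n using Nat.strong_induction_on with
  | h n ih =>
  intro G _ _ _ hcard H x k hxk hx
  have hHtop : H ≠ ⊤ := fun h => hx (by
    rw [h]
    exact Subgroup.normal_le_normalCore.2 le_rfl (Subgroup.mem_top x))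
  obtain ⟨M, hHM, hMne, hMmax⟩ :=
    (Set.toFinite {K : Subgroup G | K ≠ ⊤}).exists_le_maximal (a := H) hHtop
  have hM : IsCoatom M := ⟨hMne, fun K hK => by
    by_contra h
    exact hK.not_ge (hMmax h hK.le)⟩
  by_cases hxM : x ∈ M.normalCore
  · obtain ⟨g, hg⟩ : ∃ g : G, g * x * g⁻¹ ∉ H := by
      by_contra h
      push Not at h
      exact hx h
    have hgM : g * x * g⁻¹ ∈ M := hxM g
    haveI : Group.IsSolvable M := Group.isSolvable_of_isSolvable_injective M.subtype_injective
    have hlt : Nat.card M < n := by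
      rw [← hcard]
      refine lt_of_le_of_ne (Nat.le_of_dvd Nat.card_pos M.card_subgroup_dvd_card) fun h => hMne ?_
      exact Subgroup.eq_top_of_card_eq M h
    have h1 := ih _ hlt M rfl (H.subgroupOf M) ⟨g * x * g⁻¹, hgM⟩ k
      (Subtype.ext (by
        rw [Subgroup.coe_pow, OneMemClass.coe_one, conj_pow, hxk, mul_one, mul_inv_cancel]))
      (fun h => hg (Subgroup.mem_subgroupOf.1 (Subgroup.normalCore_le (H.subgroupOf M) h)))
    exact h1.of_dvd ⟨M.index, (Subgroup.relIndex_mul_index hHM).symm⟩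
  · exact (pGood_index_of_maximal hp hM hxk hxM).of_dvd (Subgroup.index_dvd_of_le hHM)

/-- A subgroup of class at most two whose centre is central in a faithful irreducible group. -/
theorem card_eq_sq_mul {G : Type u} [Group G] [Fintype G] {χ : G → ℂ} (hχ : IsIrrCharacter G χ)
    (hfaith : ∀ g, χ g = χ 1 → g = 1) (W : Subgroup G) [Fintype W]
    (hcomm : ∀ a ∈ W, ∀ b ∈ W, a * b * a⁻¹ * b⁻¹ ∈ Subgroup.center G)
    (hcen : W ⊓ Subgroup.centralizer (W : Set G) ≤ Subgroup.center G) :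
    ∃ (θ : IrrCharacter W) (m : ℕ), classInner (fun h : W => χ h) (θ : W → ℂ) ≠ 0 ∧
      (θ : W → ℂ) 1 = (m : ℂ) ∧ Nat.card W = Nat.card ↥(W ⊓ Subgroup.center G) * m ^ 2 := by
  classical
  have hres : IsCharacter W (fun h : W => χ h) := hχ.isCharacter.comp W.subtype
  obtain ⟨θ, hθ⟩ := exists_constituent hres (by simpa using hχ.apply_one_ne_zero)
  have hm0 : multIn hres θ ≠ 0 := by
    intro h0
    rw [classInner_eq_multIn hres, h0, Nat.cast_zero] at hθ
    exact hθ rfl
  obtain ⟨m, -, hm⟩ := θ.2.exists_degree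
  refine ⟨θ, m, hθ, hm, ?_⟩
  have hscal : ∀ c : W, (c : G) ∈ Subgroup.center G → ∃ ω : ℂ, ‖ω‖ = 1 ∧
      χ c = ω * χ 1 ∧ ∀ y : W, (θ : W → ℂ) (c * y) = ω * (θ : W → ℂ) y := by
    intro c hc
    have hcW : c ∈ Subgroup.center W := Subgroup.mem_center_iff.2 fun g =>
      Subtype.ext (Subgroup.mem_center_iff.1 hc g)
    obtain ⟨ω, hω1, hω2⟩ := exists_translate_multIn W hχ hres θ hm0 hc
    obtain ⟨l, hl1, hl⟩ := Block.exists_central_scalar θ hcW
    have hlω : l = ω := by
      have h1 := hl 1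
      rw [mul_one, hω1] at h1
      exact (mul_right_cancel₀ θ.2.apply_one_ne_zero h1).symm
    exact ⟨ω, hlω ▸ Complex.norm_eq_one_of_pow_eq_one hl1 (orderOf_pos c).ne', hω2,
      fun y => hlω ▸ hl y⟩
  have hvan : ∀ y : W, (y : G) ∉ Subgroup.center G → (θ : W → ℂ) y = 0 := by
    intro y hy
    obtain ⟨v, hv, hvy⟩ : ∃ v ∈ W, v * (y : G) ≠ y * v := by
      by_contra h
      push Not at h
      exact hy (hcen (Subgroup.mem_inf.2 ⟨y.2, Subgroup.mem_centralizer_iff.2 h⟩))
    let c : W := ⟨v, hv⟩ * y * ⟨v, hv⟩⁻¹ * y⁻¹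
    obtain ⟨ω, -, hω, hωθ⟩ := hscal c (hcomm v hv y y.2)
    have hω1 : ω ≠ 1 := by
      rintro rfl
      rw [one_mul] at hω
      have h1 : v * (y : G) * v⁻¹ * (y : G)⁻¹ = 1 := hfaith _ hω
      exact hvy (mul_inv_eq_iff_eq_mul.1 (mul_inv_eq_one.1 h1))
    have h2 := hωθ y
    rw [inv_mul_cancel_right, θ.2.isCharacter.conj_invariant] at h2
    have h3 : (ω - 1) * (θ : W → ℂ) y = 0 := by rw [sub_mul, one_mul, ← h2, sub_self]
    exact (mul_eq_zero.1 h3).resolve_left (sub_ne_zero.2 hω1)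
  have hnorm := classInner_irr_self θ.2
  rw [classInner_self] at hnorm
  have hnorm' : (Nat.card W : ℝ)⁻¹ * ∑ y : W, ‖(θ : W → ℂ) y‖ ^ 2 = 1 := by exact_mod_cast hnorm
  rw [inv_mul_eq_iff_eq_mul₀ (Nat.cast_ne_zero.2 Nat.card_pos.ne'), mul_one] at hnorm'
  have hsum : ∑ y : W, ‖(θ : W → ℂ) y‖ ^ 2 =
      ((Nat.card ↥(W ⊓ Subgroup.center G) * m ^ 2 : ℕ) : ℝ) := by
    have h1 : ∀ y : W, ‖(θ : W → ℂ) y‖ ^ 2 =
        if (y : G) ∈ Subgroup.center G then (m : ℝ) ^ 2 else 0 := by
      intro y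
      split_ifs with hy
      · obtain ⟨ω, hω, -, hωθ⟩ := hscal y hy
        have := hωθ 1
        rw [mul_one] at this
        rw [this, norm_mul, hω, one_mul, hm, Complex.norm_natCast]
      · rw [hvan y hy, norm_zero]; ring
    rw [Finset.sum_congr rfl fun y _ => h1 y, ← Finset.sum_filter, Finset.sum_const, nsmul_eq_mul]
    push_cast
    congr 2
    rw [← Nat.card_eq_finsetCard]
    exact Nat.card_congr
      { toFun := fun y => ⟨(y.1 : G), Subgroup.mem_inf.2 ⟨y.1.2, (Finset.mem_filter.1 y.2).2⟩⟩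
        invFun := fun z => ⟨⟨z, (Subgroup.mem_inf.1 z.2).1⟩,
          Finset.mem_filter.2 ⟨Finset.mem_univ _, (Subgroup.mem_inf.1 z.2).2⟩⟩
        left_inv := fun y => rfl
        right_inv := fun z => rfl }
  rw [hsum] at hnorm'
  exact_mod_cast hnorm'.symm

/-- A Sylow subgroup normal in enough quotients is normal. -/
theorem sylow_normal_of_quotients {G : Type u} [Group G] [Finite G] {p : ℕ} [Fact p.Prime]
    {ι : Type*} (K : ι → Subgroup G) [∀ i, (K i).Normal]
    (htriv : ∀ g : G, (∀ i, g ∈ K i) → g = 1) (P : Sylow p G)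
    (h : ∀ i, ((P.mapSurjective (f := QuotientGroup.mk' (K i)) (QuotientGroup.mk'_surjective (K i))
      : Sylow p (G ⧸ K i)) : Subgroup (G ⧸ K i)).Normal) : (P : Subgroup G).Normal := by
  set L : ι → Subgroup G := fun i =>
    ((P : Subgroup G).map (QuotientGroup.mk' (K i))).comap (QuotientGroup.mk' (K i)) with hL
  set M : Subgroup G := ⨅ i, L i with hM
  have hPM : (P : Subgroup G) ≤ M := le_iInf fun i => Subgroup.le_comap_map _ _
  have hMn : M.Normal := Subgroup.normal_iInf_normal fun i => (h i).comap _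
  have hMp : IsPGroup p M := by
    intro x
    refine ⟨(Nat.card G).factorization p, Subtype.ext ?_⟩
    rw [Subgroup.coe_pow, OneMemClass.coe_one, ← P.card_eq_multiplicity]
    refine htriv _ fun i => ?_
    obtain ⟨y, hy, hye⟩ := Subgroup.mem_map.1 (Subgroup.mem_comap.1 (Subgroup.mem_iInf.1 x.2 i))
    rw [← QuotientGroup.eq_one_iff]
    show (QuotientGroup.mk' (K i)) ((x : G) ^ _) = 1
    rw [map_pow, ← hye, ← map_pow, orderOf_dvd_iff_pow_eq_one.1
      (Subgroup.orderOf_dvd_natCard _ hy), map_one]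
  exact P.is_maximal' hMp hPM ▸ hMn

/-- The degree of a constituent on a normal subgroup, and its inertia index, divide the degree. -/
theorem degree_and_index_dvd {G : Type u} [Group G] [Fintype G] {χ : G → ℂ}
    (hχ : IsIrrCharacter G χ) {n : ℕ} (hn : χ 1 = (n : ℂ)) (N : Subgroup G) [N.Normal] [Fintype N]
    (θ : IrrCharacter N) (hθ : classInner (fun x : N => χ x) (θ : N → ℂ) ≠ 0) {m : ℕ}
    (hm : (θ : N → ℂ) 1 = (m : ℂ)) : m ∣ n ∧ (inertia N (θ : N → ℂ)).index ∣ n := by
  obtain ⟨e, he⟩ := (hχ.isCharacter.comp N.subtype).exists_nat_classInner θ.2.isCharacter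
  have he' : classInner (fun x : N => χ x) (θ : N → ℂ) = (e : ℂ) := he
  have h := clifford_degree N hχ θ.2 hθ
  rw [hn, he', hm] at h
  have h' : n = e * (inertia N (θ : N → ℂ)).index * m := by exact_mod_cast h
  exact ⟨⟨e * (inertia N (θ : N → ℂ)).index, by rw [h']; ring⟩,
    ⟨e * m, by rw [h']; ring⟩⟩

/-- The main theorem on prime power divisors of the degree. -/
theorem pGood_degree {p : ℕ} [hp : Fact p.Prime] :
    ∀ N : ℕ, ∀ (G : Type u) [Group G] [Finite G] [Group.IsSolvable G], Nat.card G = N →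
      ∀ (χ : G → ℂ), IsIrrCharacter G χ → (∀ g, χ g = χ 1 → g = 1) → ∀ n : ℕ, χ 1 = (n : ℂ) →
      ∀ P : Sylow p G, ¬ (P : Subgroup G).Normal → PGood p n := by
  intro N
  induction N using Nat.strong_induction_on with
  | h N ih =>
  intro G _ _ _ hcard χ hχ hfaith n hn P hP
  classical
  haveI := Fintype.ofFinite G
  by_cases hpn : p ∣ n
  · exact ⟨p, 1, hp.out, one_pos, by rwa [pow_one], Or.inr (Or.inr rfl)⟩
  by_contra hbad
  -- every proper normal subgroup misses the Sylow subgroup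
  have hgen : ∀ C : Subgroup G, C.Normal → (P : Subgroup G) ≤ C → C = ⊤ := by
    intro C hC hPC
    by_contra hne
    haveI := Fintype.ofFinite C
    haveI : Group.IsSolvable C := Group.isSolvable_of_isSolvable_injective C.subtype_injective
    have hres : IsCharacter C (fun x : C => χ x) := hχ.isCharacter.comp C.subtype
    let P' : Sylow p C := P.subtype hPC
    have hP' : ¬ (P' : Subgroup C).Normal := by
      intro hn'
      apply hP
      have h1 : (P : Subgroup G) ≤ Cfsg.pCore p G := by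
        have h2 : (Cfsg.pCore p C).map C.subtype ≤ Cfsg.pCore p G :=
          Core.pCore_map_le_of_isSubnormal hC.isSubnormal
        intro y hy
        exact h2 ⟨⟨y, hPC hy⟩, Core.le_pCore' hn' P'.isPGroup' hy, rfl⟩
      rw [le_antisymm h1 (Core.pCore_le_sylow P)]
      infer_instance
    haveI : ∀ φ : {φ : IrrCharacter C // multIn hres φ ≠ 0}, (charKer φ.1.2.isCharacter).Normal :=
      fun φ => charKer_normal φ.1.2.isCharacter
    apply hP'
    refine sylow_normal_of_quotients
      (fun φ : {φ : IrrCharacter C // multIn hres φ ≠ 0} => charKer φ.1.2.isCharacter)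
      (fun g hg => Subtype.ext (hfaith _ ?_)) P' fun φ => ?_
    · rw [res_apply_eq_sum C hres g, show χ 1 = χ ((1 : C) : G) from rfl, res_apply_eq_sum C hres 1]
      refine Finset.sum_congr rfl fun φ _ => ?_
      by_cases h0 : multIn hres φ = 0
      · simp [h0]
      · rw [(mem_charKer φ.2.isCharacter).1 (hg ⟨φ, h0⟩)]
    · by_contra hnn
      set K := charKer φ.1.2.isCharacter
      obtain ⟨ψ, hψ, hψe⟩ := exists_deflate_irr K φ.1.2 fun x hx => hx
      haveI : Group.IsSolvable (C ⧸ K) := Group.isSolvable_of_surjective (QuotientGroup.mk'_surjective K)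
      have hfψ : ∀ q : C ⧸ K, ψ q = ψ 1 → q = 1 := by
        intro q hq
        obtain ⟨g, rfl⟩ := QuotientGroup.mk_surjective q
        rw [hψe, show ψ 1 = φ.1.1 1 from hψe 1] at hq
        exact (QuotientGroup.eq_one_iff g).2 hq
      obtain ⟨m, -, hm⟩ := φ.1.2.exists_degree
      have hlt : Nat.card (C ⧸ K) < N := by
        rw [← hcard]
        refine lt_of_le_of_lt (Nat.le_of_dvd Nat.card_pos (Subgroup.card_quotient_dvd_card K)) ?_
        refine lt_of_le_of_ne (Nat.le_of_dvd Nat.card_pos C.card_subgroup_dvd_card) fun h => hne ?_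
        exact Subgroup.eq_top_of_card_eq C h
      have hgood := ih _ hlt (C ⧸ K) rfl ψ hψ hfψ m ((hψe 1).trans hm) _ hnn
      refine hbad (hgood.of_dvd (degree_and_index_dvd hχ hn C φ.1 ?_ hm).1)
      rw [classInner_eq_multIn hres]
      exact Nat.cast_ne_zero.2 φ.2
  -- abelian normal subgroups are central
  have habel : ∀ A : Subgroup G, A.Normal → (∀ a ∈ A, ∀ b ∈ A, a * b = b * a) →
      A ≤ Subgroup.center G := by
    intro A hA hab a ha
    haveI := Fintype.ofFinite A
    obtain ⟨θ, hθ⟩ := exists_irr_constituent_res A hχ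
    have hc : ∀ u v : A, u * v = v * u := fun u v => Subtype.ext (hab u u.2 v v.2)
    have hθ1 : (θ : A → ℂ) 1 = ((1 : ℕ) : ℂ) := by
      rw [Nat.cast_one]; exact degree_eq_one_of_comm hc θ.2
    have hT : inertia A (θ : A → ℂ) = ⊤ := by
      by_contra hne
      set T := inertia A (θ : A → ℂ)
      have hcore : T.normalCore ≠ ⊤ := fun h => hne (top_le_iff.1 (h ▸ Subgroup.normalCore_le T))
      obtain ⟨x, hxP, hx⟩ : ∃ x ∈ (P : Subgroup G), x ∉ T.normalCore := by
        by_contra h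
        push Not at h
        exact hcore (hgen _ inferInstance h)
      obtain ⟨k, hk⟩ := IsPGroup.iff_orderOf.1 P.isPGroup' ⟨x, hxP⟩
      have hxk : x ^ p ^ k = 1 := by
        rw [Subgroup.orderOf_mk] at hk
        rw [← hk]; exact pow_orderOf_eq_one x
      exact hbad ((pGood_index_of_not_mem_core hp.out _ G rfl T x k hxk hx).of_dvd
        (degree_and_index_dvd hχ hn A θ hθ hθ1).2)
    have hres := clifford_invariant A hχ θ.2
      (fun g => (mem_inertia A).1 (hT ▸ Subgroup.mem_top g)) hθ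
    obtain ⟨φ, hφ⟩ := exists_hom_of_degree_one θ.2.isCharacter (by rw [hθ1, Nat.cast_one])
    rw [Subgroup.mem_center_iff]
    intro g
    set b : A := ⟨g * a * g⁻¹, hA.conj_mem a ha g⟩
    have hb : φ b = φ ⟨a, ha⟩ := by
      have h := (mem_inertia_iff A).1 (show g ∈ inertia A (θ : A → ℂ) from hT ▸ Subgroup.mem_top g)
        ⟨a, ha⟩
      rw [hφ] at h
      exact Units.ext h
    have h1 : χ ((b * ⟨a, ha⟩⁻¹ : A) : G) = χ 1 := by
      have e1 := congrFun hres (b * ⟨a, ha⟩⁻¹)
      have e2 := congrFun hres 1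
      simp only [Pi.smul_apply, smul_eq_mul] at e1 e2
      rw [e1, show χ 1 = χ ((1 : A) : G) from rfl, e2, hφ]
      simp [map_mul, hb]
    have h2 : g * a * g⁻¹ * a⁻¹ = 1 := hfaith _ h1
    exact mul_inv_eq_iff_eq_mul.1 (mul_inv_eq_one.1 h2)
  have hP1 : ∀ Q : Subgroup G, Q.Normal → (P : Subgroup G) ≤ Subgroup.centralizer (Q : Set G) →
      Q ≤ Subgroup.center G := by
    intro Q hQ hle
    haveI := hQ
    have := hgen (Subgroup.centralizer (Q : Set G)) inferInstance hle
    exact fun x hx => Subgroup.mem_center_iff.2 fun g =>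
      ((Subgroup.mem_centralizer_iff.1 (this.symm ▸ Subgroup.mem_top g : g ∈ Subgroup.centralizer (Q : Set G))) x hx).symm
  -- normal p-subgroups are abelian
  have hR : Cfsg.pCore p G ≤ Subgroup.center G := by
    refine habel _ inferInstance fun a ha b hb => ?_
    haveI := Fintype.ofFinite (Cfsg.pCore p G)
    have hres : IsCharacter (Cfsg.pCore p G) (fun x : Cfsg.pCore p G => χ x) :=
      hχ.isCharacter.comp (Cfsg.pCore p G).subtype
    obtain ⟨i, hi⟩ := IsPGroup.iff_card.1 (Core.pCore_isPGroup p G)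
    let u : Cfsg.pCore p G := ⟨a, ha⟩
    let v : Cfsg.pCore p G := ⟨b, hb⟩
    have h1 : χ ((u * v * u⁻¹ * v⁻¹ : Cfsg.pCore p G) : G) = χ 1 := by
      rw [res_apply_eq_sum _ hres, show χ 1 = χ ((1 : Cfsg.pCore p G) : G) from rfl,
        res_apply_eq_sum _ hres 1]
      refine Finset.sum_congr rfl fun θ _ => ?_
      by_cases h0 : multIn hres θ = 0
      · simp [h0]
      obtain ⟨m, -, hm⟩ := θ.2.exists_degree
      have hd := (degree_and_index_dvd hχ hn (Cfsg.pCore p G) θ
        (by rw [classInner_eq_multIn hres]; exact Nat.cast_ne_zero.2 h0) hm).1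
      obtain ⟨j, -, hj⟩ := (Nat.dvd_prime_pow hp.out).1 (hi ▸ degree_dvd_card θ.2 hm)
      have hm1 : m = 1 := by
        rcases Nat.eq_zero_or_pos j with h | h
        · rw [hj, h, pow_zero]
        · exact absurd ((dvd_pow_self p h.ne').trans (hj ▸ hd)) hpn
      rw [hm1, Nat.cast_one] at hm
      obtain ⟨φ, hφ⟩ := exists_hom_of_degree_one θ.2.isCharacter hm
      simp [hφ, map_mul]
    have h2 : a * b * a⁻¹ * b⁻¹ = 1 := hfaith _ h1
    exact mul_inv_eq_iff_eq_mul.1 (mul_inv_eq_one.1 h2)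
  -- a normal q-subgroup which is not central
  obtain ⟨q, hq, hqp, hqc⟩ : ∃ q : ℕ, q.Prime ∧ q ≠ p ∧
      ¬ Cfsg.pCore q G ≤ Subgroup.center G := by
    by_contra hcon
    push Not at hcon
    apply hP
    have hF : Cfsg.fittingSubgroup G ≤ Subgroup.center G := by
      rw [Core.fittingSubgroup_eq_iSup_pCore]
      refine iSup_le fun r => ?_
      by_cases h : (r : ℕ) = p
      · rw [h]; exact hR
      · exact hcon r r.2 h
    have htop : Subgroup.center G = ⊤ := by
      refine top_le_iff.1 fun x _ => hF (Core.centralizer_fitting_le_of_isSolvable ?_)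
      exact Subgroup.mem_centralizer_iff.2 fun v hv => (Subgroup.mem_center_iff.1 (hF hv) x).symm
    refine ⟨fun y hy g => ?_⟩
    have : y ∈ Subgroup.center G := htop ▸ Subgroup.mem_top y
    rwa [Subgroup.mem_center_iff.1 this g, mul_inv_cancel_right]
  haveI : Fact q.Prime := ⟨hq⟩
  obtain ⟨Q, ⟨hQn, hQle, hQc⟩, hQmin⟩ :=
    (Set.toFinite {Q : Subgroup G | Q.Normal ∧ Q ≤ Cfsg.pCore q G ∧ ¬ Q ≤ Subgroup.center G}).exists_minimal
      ⟨Cfsg.pCore q G, inferInstance, le_rfl, hqc⟩
  haveI := hQn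
  haveI := Fintype.ofFinite Q
  have hQq : IsPGroup q Q := (Core.pCore_isPGroup q G).to_le hQle
  have hcl : ⁅Q, Q⁆ ≤ Subgroup.center G := by
    by_contra h
    have hle : ⁅Q, Q⁆ ≤ Q := Subgroup.commutator_le_right Q Q
    have heq : ⁅Q, Q⁆ = Q := le_antisymm hle
      (hQmin ⟨inferInstance, hle.trans hQle, h⟩ hle)
    haveI : Nontrivial Q := (Subgroup.nontrivial_iff_ne_bot Q).2 fun hb => hQc (hb ▸ bot_le)
    haveI : Group.IsSolvable Q := Group.isSolvable_of_isSolvable_injective Q.subtype_injective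
    have : Group.IsPerfect Q := Subgroup.isPerfect_iff.2 heq
    exact Group.IsPerfect.not_isSolvable Q inferInstance
  have hcomm : ∀ a ∈ Q, ∀ b ∈ Q, a * b * a⁻¹ * b⁻¹ ∈ Subgroup.center G := fun a ha b hb => by
    rw [← commutatorElement_def]
    exact hcl (Subgroup.commutator_mem_commutator ha hb)
  have hQcen : Q ⊓ Subgroup.centralizer (Q : Set G) ≤ Subgroup.center G :=
    habel _ inferInstance fun a ha b hb =>
      (Subgroup.mem_centralizer_iff.1 (Subgroup.mem_inf.1 hb).2 a (Subgroup.mem_inf.1 ha).1)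
  obtain ⟨x, hxP, hx⟩ : ∃ x ∈ (P : Subgroup G), ¬ Q ≤ Subgroup.centralizer ({x} : Set G) := by
    by_contra h
    push Not at h
    refine hQc (hP1 Q hQn fun y hy => Subgroup.mem_centralizer_iff.2 fun v hv => ?_)
    exact Subgroup.mem_centralizer_singleton_iff.1 (h y hy hv)
  obtain ⟨k, hk⟩ := IsPGroup.iff_orderOf.1 P.isPGroup' ⟨x, hxP⟩
  rw [Subgroup.orderOf_mk] at hk
  have hxk : x ^ p ^ k = 1 := by rw [← hk]; exact pow_orderOf_eq_one x
  have hxN : x ∈ Subgroup.normalizer (Q : Set G) :=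
    Subgroup.le_normalizer_of_normal_subgroupOf (K := ⊤) le_top (Subgroup.mem_top x)
  set W := Q ⊓ Subgroup.centralizer ({x} : Set G) with hW
  obtain ⟨D, E, hD, hE, hED, hdvd⟩ := dvd_pow_sub_one_of_moved hp.out hq hqp hQq hxk hxN hx
  have hWcen : W ⊓ Subgroup.centralizer (W : Set G) ≤ Subgroup.center G := by
    intro y hy
    obtain ⟨hyW, hyC⟩ := Subgroup.mem_inf.1 hy
    obtain ⟨hyQ, hyx⟩ := Subgroup.mem_inf.1 hyW
    refine hQcen (Subgroup.mem_inf.2 ⟨hyQ, Subgroup.mem_centralizer_iff.2 fun v hv => ?_⟩)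
    have hA : Subgroup.zpowers x ≤ Subgroup.normalizer (Q : Set G) := Subgroup.zpowers_le.2 hxN
    have hcop : (Nat.card (Subgroup.zpowers x)).Coprime (Nat.card Q) := by
      rw [Nat.card_zpowers, hk, hD]
      exact ((Nat.coprime_primes hp.out hq).2 hqp.symm).pow k D
    obtain ⟨u, hu, c, hc, rfl⟩ := Coprime.le_commutator_sup_centralizer hA hcop
      (Or.inr (Group.isSolvable_of_isSolvable_injective Q.subtype_injective)) hv
    have hcW : c ∈ W := by
      obtain ⟨hcQ, hcA⟩ := Subgroup.mem_inf.1 hc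
      refine Subgroup.mem_inf.2 ⟨hcQ, Subgroup.mem_centralizer_singleton_iff.2 ?_⟩
      exact (Subgroup.mem_centralizer_iff.1 hcA x (Subgroup.mem_zpowers x)).symm
    have hcy : Commute c y := Subgroup.mem_centralizer_iff.1 hyC c hcW
    have huy : Commute u y := by
      have hle : ⁅Q, Subgroup.zpowers x⁆ ≤ Subgroup.centralizer ({y} : Set G) := by
        rw [Subgroup.commutator_le]
        intro a ha b hb
        rw [Subgroup.mem_centralizer_singleton_iff]
        have hby : y * b * y⁻¹ = b := by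
          obtain ⟨j, rfl⟩ := Subgroup.mem_zpowers_iff.1 hb
          have h3 : Commute y x := Subgroup.mem_centralizer_singleton_iff.1 hyx
          rw [(h3.zpow_right j).eq, mul_inv_cancel_right]
        have hz := hcomm y hyQ a ha
        have hya : y * a * y⁻¹ = (y * a * y⁻¹ * a⁻¹) * a := by group
        have h4 : y * ⁅a, b⁆ * y⁻¹ = ⁅a, b⁆ := by
          have e1 : y * ⁅a, b⁆ * y⁻¹ =
              (y * a * y⁻¹) * (y * b * y⁻¹) * (y * a * y⁻¹)⁻¹ * (y * b * y⁻¹)⁻¹ := by
            rw [commutatorElement_def]; group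
          rw [e1, hby, hya]
          generalize hgz : y * a * y⁻¹ * a⁻¹ = z at hz
          rw [commutatorElement_def, mul_inv_rev]
          calc z * a * b * (a⁻¹ * z⁻¹) * b⁻¹ = z * (a * b * a⁻¹) * z⁻¹ * b⁻¹ := by group
            _ = a * b * a⁻¹ * b⁻¹ := by
              rw [← Subgroup.mem_center_iff.1 hz (a * b * a⁻¹), mul_inv_cancel_right]
        exact (mul_inv_eq_iff_eq_mul.1 h4).symm
      exact Subgroup.mem_centralizer_singleton_iff.1 (hle hu)
    exact (huy.mul_left hcy).eq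
  haveI := Fintype.ofFinite W
  obtain ⟨θ, m, hθ, hm, hcQ⟩ := card_eq_sq_mul hχ hfaith Q hcomm hQcen
  obtain ⟨θ', w, -, -, hcW⟩ := card_eq_sq_mul hχ hfaith W
    (fun a ha b hb => hcomm a (Subgroup.mem_inf.1 ha).1 b (Subgroup.mem_inf.1 hb).1) hWcen
  have hZeq : W ⊓ Subgroup.center G = Q ⊓ Subgroup.center G := by
    refine le_antisymm (inf_le_inf_right _ inf_le_left) (le_inf (le_inf inf_le_left ?_) inf_le_right)
    intro y hy
    exact Subgroup.mem_centralizer_singleton_iff.2
      (Subgroup.mem_center_iff.1 (Subgroup.mem_inf.1 hy).2 x).symm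
  rw [hZeq, hE] at hcW
  rw [hD] at hcQ
  obtain ⟨z, -, hz⟩ := (Nat.dvd_prime_pow hq).1 (Dvd.intro _ hcQ.symm)
  obtain ⟨a, -, ha⟩ := (Nat.dvd_prime_pow hq).1
    ((dvd_pow_self m two_ne_zero).trans (Dvd.intro_left _ hcQ.symm))
  obtain ⟨b, -, hb⟩ := (Nat.dvd_prime_pow hq).1
    ((dvd_pow_self w two_ne_zero).trans (Dvd.intro_left _ hcW.symm))
  rw [hz, ha, ← pow_mul, ← pow_add] at hcQ
  rw [hz, hb, ← pow_mul, ← pow_add] at hcW
  have hDa := Nat.pow_right_injective hq.two_le hcQ
  have hEb := Nat.pow_right_injective hq.two_le hcW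
  apply hbad
  refine ⟨q, a - b, hq, by omega, ?_, ?_⟩
  · refine (pow_dvd_pow q (Nat.sub_le a b)).trans ?_
    rw [← ha]
    exact (degree_and_index_dvd hχ hn Q θ hθ hm).1
  · have h2 : q ^ (D - E) - 1 = (q ^ (a - b) + 1) * (q ^ (a - b) - 1) := by
      rw [show D - E = (a - b) * 2 by omega, pow_mul, ← Nat.sq_sub_sq, one_pow]
    rw [h2] at hdvd
    rcases hp.out.dvd_mul.1 hdvd with h | h
    · exact Or.inr (Or.inl h)
    · exact Or.inl h

end Cfsg.Lib.Char
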