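import Cfsg.Agent.Lib.Char.PrimitiveClassSize
import Cfsg.Agent.Lib.Fusion.Parts
import Cfsg.Agent.S0144
import Mathlib

/-!
# Noncentral chief factors of metanilpotent groups with two prime divisors

A Sylow `p`-subgroup centralizes every `p`-chief factor, so a Sylow `q`-subgroup controls the
noncentral ones.
-/

set_option autoImplicit false
set_option linter.style.haveILetI false
set_option linter.unusedSectionVars false

namespace Cfsg.Lib.Char.PrimitiveTwoPrime

open Cfsg Cfsg.Lib.Char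
open scoped commutatorElement

universe u

variable {G : Type u} [Group G] [Fintype G]

/-- The elements centralizing `N` modulo `M`. -/
def centMod (M N : Subgroup G) [M.Normal] : Subgroup G where
  carrier := {g | ∀ n ∈ N, Commute (QuotientGroup.mk' M g) (QuotientGroup.mk' M n)}
  one_mem' n _ := by rw [map_one]; exact Commute.one_left _
  mul_mem' {a b} ha hb n hn := by rw [map_mul]; exact (ha n hn).mul_left (hb n hn)
  inv_mem' {a} ha n hn := by rw [map_inv]; exact (ha n hn).inv_left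

theorem mem_centMod {M N : Subgroup G} [M.Normal] {g : G} :
    g ∈ centMod M N ↔ ∀ n ∈ N, ⁅g, n⁆ ∈ M := by
  refine forall₂_congr fun n _ => ?_
  show Commute (QuotientGroup.mk' M g) (QuotientGroup.mk' M n) ↔ _
  rw [← commutatorElement_eq_one_iff_commute, ← map_commutatorElement]
  exact QuotientGroup.eq_one_iff _

/-- A Sylow `q`-subgroup controls the noncentral `p`-chief factors. -/
theorem controls {p q : ℕ} [Fact p.Prime] [Fact q.Prime] (hpq : p ≠ q) {a b : ℕ}
    (hG : Nat.card G = p ^ a * q ^ b) (hF : (Cfsg.fittingSubgroup G).Normal)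
    (hmeta : Group.IsNilpotent (G ⧸ Cfsg.fittingSubgroup G)) (P : Sylow p G) (Q : Sylow q G) :
    PrimitiveClassSize.Controls p (Q : Subgroup G) (P : Subgroup G) := by
  classical
  have hcop : ∀ i j, (p ^ i).Coprime (q ^ j) := fun i j =>
    Nat.Coprime.pow i j ((Nat.coprime_primes Fact.out Fact.out).2 hpq)
  intro M N hM hN hlt hchief hp hnc
  haveI := hM
  set F := Cfsg.fittingSubgroup G with hFdef
  haveI := hF
  -- the preimage of the Sylow subgroup of `G ⧸ F`
  set R : Subgroup G := (P : Subgroup G) ⊔ F with hR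
  have hRn : R.Normal := by
    haveI := hmeta
    have hs : Function.Surjective (QuotientGroup.mk' F) := QuotientGroup.mk'_surjective F
    haveI hPn : ((P.mapSurjective hs : Sylow p (G ⧸ F)) : Subgroup (G ⧸ F)).Normal := inferInstance
    have h : R = ((P : Subgroup G).map (QuotientGroup.mk' F)).comap (QuotientGroup.mk' F) := by
      rw [hR, Subgroup.comap_map_eq, QuotientGroup.ker_mk']
    rw [h]
    exact hPn.comap _
  set π := QuotientGroup.mk' M with hπ
  set Nb := N.map π with hNb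
  haveI hNbn : Nb.Normal := hN.map π (QuotientGroup.mk'_surjective M)
  have hNp : IsPGroup p Nb := by
    rintro ⟨_, n, hn, rfl⟩
    obtain ⟨k, hk⟩ := hp n hn
    exact ⟨k, Subtype.ext (by
      show π n ^ p ^ k = 1
      rw [← map_pow]; exact (QuotientGroup.eq_one_iff _).2 hk)⟩
  have hNne : Nb ≠ ⊥ := fun h => by
    obtain ⟨n, hn, hnM⟩ := SetLike.exists_of_lt hlt
    refine hnM ((QuotientGroup.eq_one_iff n).1 ?_)
    have := Subgroup.mem_map_of_mem π hn
    rw [← hNb, h, Subgroup.mem_bot] at this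
    exact this
  -- `R` fixes a nontrivial element of the chief factor
  set Pb := ((P : Subgroup G).map π) with hPb
  have hPbp : IsPGroup p Pb := P.2.map π
  have hNle : Nb ≤ Pb := by
    have hs : Function.Surjective π := QuotientGroup.mk'_surjective M
    set S : Sylow p (G ⧸ M) := P.mapSurjective hs
    have h1 : IsPGroup p ((S : Subgroup (G ⧸ M)) ⊔ Nb : Subgroup (G ⧸ M)) :=
      S.2.to_sup_of_normal_right hNp
    have h2 : ((S : Subgroup (G ⧸ M)) ⊔ Nb : Subgroup (G ⧸ M)) = S := S.3 h1 le_sup_left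
    exact le_of_le_of_eq le_sup_right h2
  obtain ⟨z, hzN, hz1, hzP⟩ : ∃ z ∈ Nb, z ≠ 1 ∧ ∀ x ∈ Pb, x * z = z * x := by
    letI : MulDistribMulAction Pb Nb :=
      MulDistribMulAction.compHom Nb ((MulAut.conjNormal (H := Nb)).comp Pb.subtype)
    haveI : Nontrivial Nb := (Subgroup.nontrivial_iff_ne_bot Nb).2 hNne
    haveI : Fintype (MulAction.fixedPoints Pb Nb) := Fintype.ofFinite _
    obtain ⟨k, hk⟩ := IsPGroup.iff_card.1 hNp
    have hk0 : k ≠ 0 := fun h => by
      rw [h, pow_zero] at hk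
      exact (Finite.one_lt_card (α := Nb)).ne' hk
    obtain ⟨z, hz, hz1⟩ := hPbp.exists_fixed_point_of_prime_dvd_card_of_fixed_point Nb
      (by rw [hk]; exact dvd_pow_self p hk0) (a := (1 : Nb)) (fun n => smul_one n)
    refine ⟨z, z.2, fun h => hz1 (Subtype.ext h.symm), fun x hx => ?_⟩
    have h : x * (z : G ⧸ M) * x⁻¹ = z := congrArg Subtype.val (hz ⟨x, hx⟩)
    exact mul_inv_eq_iff_eq_mul.1 h
  obtain ⟨n₀, hn₀, rfl⟩ := hzN
  -- the elements of `N` fixed by `R`
  let W : Subgroup G :=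
    { carrier := {n | n ∈ N ∧ ∀ r ∈ R, Commute (π r) (π n)}
      one_mem' := ⟨one_mem N, fun r _ => by rw [map_one]; exact Commute.one_right _⟩
      mul_mem' := fun {x y} hx hy => ⟨mul_mem hx.1 hy.1, fun r hr => by
        rw [map_mul]; exact (hx.2 r hr).mul_right (hy.2 r hr)⟩
      inv_mem' := fun {x} hx => ⟨inv_mem hx.1, fun r hr => by rw [map_inv]; exact (hx.2 r hr).inv_right⟩ }
  have hWn : W.Normal := ⟨fun n hn g => ⟨hN.conj_mem n hn.1 g, fun r hr => by
    have h1 := hn.2 (g⁻¹ * r * g) (by simpa using hRn.conj_mem r hr g⁻¹)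
    have e1 : π r = π g * π (g⁻¹ * r * g) * (π g)⁻¹ := by simp only [map_mul, map_inv]; group
    rw [e1, map_mul, map_mul, map_inv]
    exact (Commute.conj_iff (π g)).2 h1⟩⟩
  have hMW : M ≤ W := fun m hm => ⟨hlt.le hm, fun r _ => by
    rw [show π m = 1 from (QuotientGroup.eq_one_iff m).2 hm]; exact Commute.one_right _⟩
  have hn₀W : n₀ ∈ W := by
    refine ⟨hn₀, ?_⟩
    suffices h : R ≤ (Subgroup.centralizer ({π n₀} : Set (G ⧸ M))).comap π from fun r hr =>
      Subgroup.mem_centralizer_singleton_iff.1 (h hr)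
    rw [hR, sup_le_iff]
    refine ⟨fun x hx => Subgroup.mem_centralizer_singleton_iff.2 (hzP _ (Subgroup.mem_map_of_mem π hx)), ?_⟩
    intro f hf
    obtain ⟨i, j, hij⟩ : ∃ i j, orderOf f = p ^ i * q ^ j := by
      have hd : orderOf f ∣ p ^ a * q ^ b := hG ▸ orderOf_dvd_natCard f
      obtain ⟨x, y, hx, hy, hxy⟩ := exists_dvd_and_dvd_of_dvd_mul hd
      obtain ⟨i, -, rfl⟩ := (Nat.dvd_prime_pow Fact.out).1 hx
      obtain ⟨j, -, rfl⟩ := (Nat.dvd_prime_pow Fact.out).1 hy
      exact ⟨i, j, hxy⟩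
    -- the two parts of `f`
    obtain ⟨s, t, hst⟩ := (Nat.isCoprime_iff_coprime.2 (hcop i j))
    have hfp : f ^ q ^ j ∈ (Subgroup.centralizer ({π n₀} : Set (G ⧸ M))).comap π := by
      refine Subgroup.mem_centralizer_singleton_iff.2 (hzP _ (Subgroup.mem_map_of_mem π ?_))
      have h1 : f ^ q ^ j ∈ pCore p G := Cfsg.Lib.Fusion.mem_pCore_of_mem_fitting (pow_mem hf _)
        ((Nat.dvd_prime_pow Fact.out).1 (orderOf_dvd_of_pow_eq_one (x := f ^ q ^ j) (n := p ^ i) (by
          rw [← pow_mul, mul_comm, ← hij, pow_orderOf_eq_one])) |>.imp fun k hk => hk.2)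
      haveI : (pCore p G).Normal := Subgroup.sSup_normal _ fun _ h => h.1
      have h2 : IsPGroup p ((P : Subgroup G) ⊔ pCore p G : Subgroup G) :=
        P.2.to_sup_of_normal_right (Cfsg.Lib.Fusion.pCore_isPGroup p)
      exact P.3 h2 le_sup_left ▸ Subgroup.mem_sup_right h1
    have hfq : f ^ p ^ i ∈ (Subgroup.centralizer ({π n₀} : Set (G ⧸ M))).comap π := by
      have h1 : f ^ p ^ i ∈ pCore q G := Cfsg.Lib.Fusion.mem_pCore_of_mem_fitting (pow_mem hf _)
        ((Nat.dvd_prime_pow Fact.out).1 (orderOf_dvd_of_pow_eq_one (x := f ^ p ^ i) (n := q ^ j) (by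
          rw [← pow_mul, ← hij, pow_orderOf_eq_one])) |>.imp fun k hk => hk.2)
      haveI : (pCore q G).Normal := Subgroup.sSup_normal _ fun _ h => h.1
      rw [Subgroup.mem_comap, Subgroup.mem_centralizer_singleton_iff]
      show Commute (π (f ^ p ^ i)) (π n₀)
      rw [← commutatorElement_eq_one_iff_commute, ← map_commutatorElement]
      refine (QuotientGroup.eq_one_iff _).2 ?_
      set c := ⁅f ^ p ^ i, n₀⁆ with hc
      have hcN : c ∈ N := by
        rw [hc, commutatorElement_def]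
        exact mul_mem (hN.conj_mem n₀ hn₀ _) (inv_mem hn₀)
      have hcQ : c ∈ pCore q G := by
        rw [hc, commutatorElement_def, mul_assoc, mul_assoc]
        refine mul_mem h1 ?_
        rw [← mul_assoc]
        exact (inferInstance : (pCore q G).Normal).conj_mem _ (inv_mem h1) n₀
      obtain ⟨k, hk⟩ := hp c hcN
      obtain ⟨l, hl⟩ := Cfsg.Lib.Fusion.pCore_isPGroup q ⟨c, hcQ⟩
      have hl' : c ^ q ^ l = 1 := congrArg Subtype.val hl
      obtain ⟨s, t, hst⟩ := (Nat.isCoprime_iff_coprime.2 (hcop k l))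
      have hc1 : c = (c ^ p ^ k) ^ s := by
        conv_lhs => rw [← zpow_one c, ← hst, zpow_add, mul_comm t, zpow_mul c (((q ^ l : ℕ) : ℤ)) t,
          zpow_natCast, hl', one_zpow, mul_one, mul_comm, zpow_mul, zpow_natCast]
      rw [hc1]
      exact zpow_mem hk s
    have hf' : f = (f ^ p ^ i) ^ s * (f ^ q ^ j) ^ t := by
      conv_lhs => rw [← zpow_one f, ← hst, zpow_add, mul_comm s, mul_comm t, zpow_mul, zpow_mul,
        zpow_natCast, zpow_natCast]
    rw [hf']
    exact mul_mem (zpow_mem hfq s) (zpow_mem hfp t)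
  have hPtriv : ∀ x ∈ (P : Subgroup G), x ∈ centMod M N := by
    intro x hx n hn
    rcases hchief W hWn hMW (fun n hn => hn.1) with h | h
    · exact absurd ((QuotientGroup.eq_one_iff n₀).2 (h ▸ hn₀W)) hz1
    · exact (h.symm ▸ hn : n ∈ W).2 x (Subgroup.mem_sup_left hx)
  -- `G` is the product of the two Sylow subgroups
  have hprod : ∀ g : G, ∃ x ∈ (Q : Subgroup G), ∃ y ∈ (P : Subgroup G), x * y = g := by
    have hp0 : (p ^ a : ℕ) ≠ 0 := pow_ne_zero _ (Fact.out : p.Prime).ne_zero
    have hq0 : (q ^ b : ℕ) ≠ 0 := pow_ne_zero _ (Fact.out : q.Prime).ne_zero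
    have hPc : Nat.card P = p ^ a := by
      rw [P.card_eq_multiplicity, hG, Nat.factorization_mul hp0 hq0, Finsupp.add_apply,
        Nat.Prime.factorization_pow Fact.out, Nat.Prime.factorization_pow Fact.out,
        Finsupp.single_eq_same, Finsupp.single_eq_of_ne hpq, add_zero]
    have hQc : Nat.card Q = q ^ b := by
      rw [Q.card_eq_multiplicity, hG, Nat.factorization_mul hp0 hq0, Finsupp.add_apply,
        Nat.Prime.factorization_pow Fact.out, Nat.Prime.factorization_pow Fact.out,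
        Finsupp.single_eq_same, Finsupp.single_eq_of_ne (Ne.symm hpq), zero_add]
    have hc := Subgroup.isComplement'_of_coprime (H := (Q : Subgroup G)) (K := (P : Subgroup G))
      (by rw [hPc, hQc, hG, mul_comm]) (by rw [hPc, hQc]; exact (hcop a b).symm)
    intro g
    obtain ⟨⟨x, y⟩, hxy⟩ := hc.2 g
    exact ⟨x, x.2, y, y.2, hxy⟩
  refine ⟨fun y hy => mem_centMod.1 (hPtriv y hy), fun W' hMW' hWN' hW' => hchief W' ⟨fun w hw g => ?_⟩ hMW' hWN', ?_⟩
  · obtain ⟨x, hx, y, hy, rfl⟩ := hprod g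
    have h1 : y * w * y⁻¹ ∈ W' := by
      have h := mem_centMod.1 (hPtriv y hy) w (hWN' hw)
      rw [commutatorElement_def] at h
      have := mul_mem (hMW' h) hw
      rwa [inv_mul_cancel_right] at this
    rw [show x * y * w * (x * y)⁻¹ = x * (y * w * y⁻¹) * x⁻¹ by group]
    exact hW' x hx _ h1
  · obtain ⟨g, n, hn, hgn⟩ := hnc
    by_contra hall
    push Not at hall
    obtain ⟨x, hx, y, hy, rfl⟩ := hprod g
    exact hgn (mem_centMod.1 (mul_mem (mem_centMod.2 (hall x hx)) (hPtriv y hy)) n hn)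

/-- The degree divides a class size. -/
theorem dvd_class_size {p q : ℕ} [Fact p.Prime] [Fact q.Prime] (hpq : p ≠ q) {a b : ℕ}
    (hG : Nat.card G = p ^ a * q ^ b) (hF : (Cfsg.fittingSubgroup G).Normal)
    (hmeta : Group.IsNilpotent (G ⧸ Cfsg.fittingSubgroup G)) {χ : G → ℂ} (hχ : IsIrrCharacter G χ)
    (hprim : ¬ ∃ H : Subgroup G, H ≠ ⊤ ∧ ∃ θ : H → ℂ, IsCharacter H θ ∧ indFun H θ = χ) {c : ℕ}
    (hc : χ 1 = c) : ∃ g : G, c ∣ (Subgroup.centralizer ({g} : Set G)).index := by
  classical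
  haveI : Group.IsSolvable G := Cfsg.Agent.S0144.result p q a b Fact.out Fact.out hG
  obtain ⟨P⟩ : Nonempty (Sylow p G) := inferInstance
  obtain ⟨Q⟩ : Nonempty (Sylow q G) := inferInstance
  have hG' : Nat.card G = q ^ b * p ^ a := by rw [hG, mul_comm]
  obtain ⟨x, hx⟩ := PrimitiveClassSize.exists_le p hχ hprim (controls hpq hG hF hmeta P Q) hc
  obtain ⟨y, hy⟩ := PrimitiveClassSize.exists_le q hχ hprim (controls hpq.symm hG' hF hmeta Q P) hc
  refine ⟨(x : G) * y, ?_⟩
  have hswap : (Subgroup.centralizer ({(y : G) * x} : Set G)).index =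
      (Subgroup.centralizer ({(x : G) * y} : Set G)).index := by
    have e : (Subgroup.centralizer ({(x : G) * y} : Set G)).map (MulAut.conj (y : G)).toMonoidHom =
        Subgroup.centralizer ({(y : G) * x} : Set G) := by
      ext z
      rw [Subgroup.mem_map_equiv, Subgroup.mem_centralizer_singleton_iff,
        Subgroup.mem_centralizer_singleton_iff, MulAut.conj_symm_apply]
      constructor
      · intro h
        calc z * ((y : G) * x) = (y : G) * ((y : G)⁻¹ * z * y * ((x : G) * y)) * (y : G)⁻¹ := by group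
          _ = (y : G) * ((x : G) * y * ((y : G)⁻¹ * z * y)) * (y : G)⁻¹ := by rw [h]
          _ = (y : G) * x * z := by group
      · intro h
        calc (y : G)⁻¹ * z * y * ((x : G) * y) = (y : G)⁻¹ * (z * ((y : G) * x)) * y := by group
          _ = (y : G)⁻¹ * ((y : G) * x * z) * y := by rw [h]
          _ = (x : G) * y * ((y : G)⁻¹ * z * y) := by group
    rw [← e]
    exact Subgroup.index_map_equiv _ (MulAut.conj (y : G))
  have h1 := hx (y : G) y.2
  have h2 := hy (x : G) x.2
  rw [hswap] at h2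
  have hc0 : c ≠ 0 := fun h => hχ.apply_one_ne_zero (by rw [hc, h, Nat.cast_zero])
  have hcG : c ∣ p ^ a * q ^ b := hG ▸ Cfsg.Lib.Char.degree_dvd_card hχ hc
  refine (Nat.factorization_le_iff_dvd hc0 Subgroup.index_ne_zero_of_finite).1 fun r => ?_
  by_cases hrp : r = p
  · subst hrp; exact h1
  by_cases hrq : r = q
  · subst hrq; exact h2
  have h0 : c.factorization r = 0 := by
    by_contra hne
    have hr : r.Prime := Nat.prime_of_mem_primeFactors (Nat.support_factorization c ▸ Finsupp.mem_support_iff.2 hne)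
    have := (Nat.dvd_of_factorization_pos hne).trans hcG
    rcases (Nat.Prime.dvd_mul hr).1 this with h | h
    · exact hrp ((Nat.prime_dvd_prime_iff_eq hr Fact.out).1 (hr.dvd_of_dvd_pow h))
    · exact hrq ((Nat.prime_dvd_prime_iff_eq hr Fact.out).1 (hr.dvd_of_dvd_pow h))
  rw [h0]; exact Nat.zero_le _

end Cfsg.Lib.Char.PrimitiveTwoPrime
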