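import Cfsg.Agent.Lib.Char.Extension
import Cfsg.Agent.Lib.Char.Clifford2

/-!
# Sylow preimages under a fully ramified character

For a character fully ramified over `Z`, a Sylow preimage `Q` carries a unique irreducible
character over `θ`, and the characters of `Q ⊓ K` over `θ` form one orbit.
-/

set_option autoImplicit false
set_option linter.unusedSectionVars false
set_option linter.style.haveILetI false
set_option linter.style.longLine false

namespace Cfsg.Lib.Char.RamifiedSylow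

open Cfsg Cfsg.Lib.Char
open scoped ComplexConjugate

universe uH

theorem classInner_comp_expand {A : Type uH} [Group A] [Fintype A] {Z : Type uH} [Group Z]
    [Fintype Z] {f : A → ℂ} (hf : IsClassFunction A f) (ι : Z →* A) (θ : Z → ℂ) :
    classInner (fun z => f (ι z)) θ =
      ∑ φ : IrrCharacter A, classInner f (φ : A → ℂ) *
        classInner (fun z => (φ : A → ℂ) (ι z)) θ := by
  have e := eq_sum_classInner hf
  calc classInner (fun z => f (ι z)) θ
      = classInner (∑ φ : IrrCharacter A, classInner f (φ : A → ℂ) •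
          (fun z => (φ : A → ℂ) (ι z))) θ := by
        congr 1
        funext z
        have h := congrFun e (ι z)
        simpa using h
    _ = _ := by simp [classInner_sum_left, classInner_smul_left]

theorem over_trans {A : Type uH} [Group A] [Fintype A] {Z : Type uH} [Group Z]
    [Fintype Z] {f : A → ℂ} (hf : IsCharacter A f) (ι : Z →* A) {θ : Z → ℂ}
    (hθ : IsCharacter Z θ) {ψ : A → ℂ} (hψ : IsIrrCharacter A ψ) (h1 : classInner f ψ ≠ 0)
    (h2 : classInner (fun z => ψ (ι z)) θ ≠ 0) : classInner (fun z => f (ι z)) θ ≠ 0 := by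
  choose m hm using fun φ : IrrCharacter A => hf.exists_nat_classInner φ.2.isCharacter
  choose k hk using fun φ : IrrCharacter A =>
    (φ.2.isCharacter.comp ι).exists_nat_classInner hθ
  rw [classInner_comp_expand hf.isClassFunction ι θ, Finset.sum_congr rfl
    (g := fun φ : IrrCharacter A => ((m φ * k φ : ℕ) : ℂ)) fun φ _ => by
      push_cast; rw [hm φ, ← hk φ]; first | rfl | skip,
    ← Nat.cast_sum, Nat.cast_ne_zero]
  intro h
  have h' := (Finset.sum_eq_zero_iff.mp h) ⟨ψ, hψ⟩ (Finset.mem_univ _)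
  rcases mul_eq_zero.mp h' with h0 | h0
  · exact h1 (by rw [hm ⟨ψ, hψ⟩, h0, Nat.cast_zero])
  · exact h2 ((hk ⟨ψ, hψ⟩).trans (by rw [h0, Nat.cast_zero]))

theorem sup_relIndex {G : Type uH} [Group G] [Finite G] (Q K : Subgroup G) [K.Normal] :
    Q.relIndex (Q ⊔ K) = Q.relIndex K := by
  have h1 : Nat.card Q * Q.relIndex (Q ⊔ K) = Nat.card (Q ⊔ K : Subgroup G) := by
    rw [← Subgroup.relIndex_bot_left, ← Subgroup.relIndex_bot_left]
    exact Subgroup.relIndex_mul_relIndex _ _ _ bot_le le_sup_left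
  have h2 : Nat.card K * K.relIndex Q = Nat.card (Q ⊔ K : Subgroup G) := by
    rw [← Subgroup.relIndex_sup_right (H := Q) (K := K), ← Subgroup.relIndex_bot_left,
      ← Subgroup.relIndex_bot_left]
    exact Subgroup.relIndex_mul_relIndex _ _ _ bot_le le_sup_right
  have h3 : Nat.card (Q ⊓ K : Subgroup G) * Q.relIndex K = Nat.card K := by
    rw [← Subgroup.inf_relIndex_right Q K, ← Subgroup.relIndex_bot_left,
      ← Subgroup.relIndex_bot_left]
    exact Subgroup.relIndex_mul_relIndex _ _ _ bot_le inf_le_right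
  have h4 : Nat.card (Q ⊓ K : Subgroup G) * K.relIndex Q = Nat.card Q := by
    rw [← Subgroup.inf_relIndex_left Q K, ← Subgroup.relIndex_bot_left,
      ← Subgroup.relIndex_bot_left]
    exact Subgroup.relIndex_mul_relIndex _ _ _ bot_le inf_le_left
  have h5 : Nat.card Q * Q.relIndex (Q ⊔ K) = Nat.card Q * Q.relIndex K := by
    rw [h1, ← h2, ← h3, ← h4]; ring
  exact Nat.eq_of_mul_eq_mul_left Nat.card_pos h5


/-- The orbit argument in the normalizer. -/
theorem index_inertia_of_relIndex {G : Type uH} [Group G] [Fintype G] {Z : Type uH} [Group Z] [Fintype Z]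
    {θ : Z → ℂ} (hθ : IsCharacter Z θ) (B Q : Subgroup G) [B.Normal] [Fintype B] [Fintype Q]
    (hBQ : B ≤ Q) (ι : Z →* B)
    (hconj : ∀ (g : G) (ψ : B → ℂ), IsIrrCharacter B ψ → classInner (fun z => ψ (ι z)) θ ≠ 0 →
      classInner (fun z => conjTwist B ψ g (ι z)) θ ≠ 0)
    (huniq : ∀ ω₁ ω₂ : Q → ℂ, IsIrrCharacter Q ω₁ → IsIrrCharacter Q ω₂ →
      classInner (fun z => ω₁ (Subgroup.inclusion hBQ (ι z))) θ ≠ 0 →
      classInner (fun z => ω₂ (Subgroup.inclusion hBQ (ι z))) θ ≠ 0 → ω₁ = ω₂)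
    {ψ : B → ℂ} (hψ : IsIrrCharacter B ψ) (hψθ : classInner (fun z => ψ (ι z)) θ ≠ 0)
    (hTQ : (inertia B ψ).relIndex Q = B.relIndex Q) :
    (inertia B ψ).index = B.relIndex Q := by
  classical
  haveI : Fintype (B.subgroupOf Q) := Fintype.ofFinite _
  haveI : (B.subgroupOf Q).Normal := Subgroup.Normal.subgroupOf inferInstance Q
  have hover : ∀ ω : Q → ℂ, IsIrrCharacter Q ω →
      classInner (fun b : B.subgroupOf Q => ω b) (resTo B ψ Q) ≠ 0 →
      classInner (fun z => ω (Subgroup.inclusion hBQ (ι z))) θ ≠ 0 := by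
    intro ω hω h
    rw [classInner_resTo B ψ hBQ] at h
    exact over_trans (hω.isCharacter.comp (Subgroup.inclusion hBQ)) ι hθ hψ h hψθ
  set T := inertia B ψ with hT
  rw [← hTQ]
  symm
  -- transitivity
  obtain ⟨ω, hωc⟩ := exists_constituent
    (isCharacter_indFun (B.subgroupOf Q) (isIrrCharacter_resTo B hψ hBQ).isCharacter)
    (by
      rw [indFun_apply_one]
      exact mul_ne_zero (Nat.cast_ne_zero.mpr Subgroup.index_ne_zero_of_finite)
        (isIrrCharacter_resTo B hψ hBQ).apply_one_ne_zero)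
  rw [classInner_indFun _ _ ω.2.isClassFunction, ← classInner_conj_symm] at hωc
  replace hωc : classInner (fun b : B.subgroupOf Q => (ω : Q → ℂ) b) (resTo B ψ Q) ≠ 0 :=
    fun h => hωc (by rw [h, map_zero])
  have htrans : ∀ g : G, ∃ q : Q, g * (q : G)⁻¹ ∈ T := by
    intro g
    have hψ' := isIrrCharacter_conjTwist B hψ g
    have hψθ' := hconj g ψ hψ hψθ
    obtain ⟨ω', hω'⟩ := exists_constituent
      (isCharacter_indFun (B.subgroupOf Q) (isIrrCharacter_resTo B hψ' hBQ).isCharacter)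
      (by
        rw [indFun_apply_one]
        exact mul_ne_zero (Nat.cast_ne_zero.mpr Subgroup.index_ne_zero_of_finite)
          (isIrrCharacter_resTo B hψ' hBQ).apply_one_ne_zero)
    rw [classInner_indFun _ _ ω'.2.isClassFunction, ← classInner_conj_symm] at hω'
    replace hω' : classInner (fun b : B.subgroupOf Q => (ω' : Q → ℂ) b)
        (resTo B (conjTwist B ψ g) Q) ≠ 0 := fun h => hω' (by rw [h, map_zero])
    have hov' : classInner (fun z => (ω' : Q → ℂ) (Subgroup.inclusion hBQ (ι z))) θ ≠ 0 := by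
      rw [classInner_resTo B _ hBQ] at hω'
      exact over_trans (ω'.2.isCharacter.comp (Subgroup.inclusion hBQ)) ι hθ hψ' hω' hψθ'
    rw [huniq ω' ω ω'.2 ω.2 hov' (hover ω ω.2 hωc)] at hω'
    obtain ⟨q, hq⟩ := (mem_twistOrbit _).mp (mem_twistOrbit_of_constituent (B.subgroupOf Q) ω.2
      (isIrrCharacter_resTo B hψ hBQ) (isIrrCharacter_resTo B hψ' hBQ) hωc hω')
    refine ⟨q, (mem_inertia B).mpr ?_⟩
    have e : conjTwist B ψ (q : G) = conjTwist B ψ g := funext fun b =>
      congrFun hq ⟨⟨b, hBQ b.2⟩, b.2⟩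
    rw [← conjTwist_conjTwist, ← e, conjTwist_conjTwist, mul_inv_cancel, conjTwist_one]
  let f : Q ⧸ T.subgroupOf Q → G ⧸ T := Quotient.map' (fun q : Q => (q : G)) fun a b hab => by
    rw [QuotientGroup.leftRel_apply] at hab ⊢
    exact hab
  refine Nat.card_eq_of_bijective f ⟨?_, ?_⟩
  · intro a b
    induction a using QuotientGroup.induction_on with | H a => ?_
    induction b using QuotientGroup.induction_on with | H b => ?_
    intro h
    rw [QuotientGroup.eq]
    exact (QuotientGroup.eq (s := T)).mp h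
  · intro y
    obtain ⟨g, rfl⟩ := QuotientGroup.mk_surjective y
    obtain ⟨q, hq⟩ := htrans g⁻¹
    refine ⟨((q⁻¹ : Q) : Q ⧸ T.subgroupOf Q), ?_⟩
    change (((q⁻¹ : Q) : G) : G ⧸ T) = g
    rw [eq_comm, QuotientGroup.eq]
    exact hq

/-- Uniqueness over the fully ramified character in a Sylow preimage. -/
theorem unique_over {H : Type uH} [Group H] [Fintype H] (Z : Subgroup H) [Z.Normal] [Fintype Z]
    (χ : Cfsg.IrrCharacter H) (θ : Cfsg.IrrCharacter ↥Z) (e : ℕ) (he : e ^ 2 = Z.index)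
    (hχθ : ∀ z : ↥Z, (χ : H → ℂ) z = (e : ℂ) * (θ : ↥Z → ℂ) z)
    {p : ℕ} (hp : p.Prime) (Q : Subgroup H) [Fintype Q] (hZQ : Z ≤ Q) {k : ℕ}
    (hk : Z.relIndex Q = p ^ k) (hpQ : ¬ p ∣ Q.index) :
    ∀ ω₁ ω₂ : Q → ℂ, IsIrrCharacter Q ω₁ → IsIrrCharacter Q ω₂ →
      classInner (fun z : Z => ω₁ (Subgroup.inclusion hZQ z)) θ ≠ 0 →
      classInner (fun z : Z => ω₂ (Subgroup.inclusion hZQ z)) θ ≠ 0 → ω₁ = ω₂ ∧
        ∀ d : ℕ, classInner (fun z : Z => ω₁ (Subgroup.inclusion hZQ z)) θ = d →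
          d * d = p ^ k := by
  classical
  have he0 : (e : ℂ) ≠ 0 := by
    rw [Nat.cast_ne_zero]
    rintro rfl
    exact Subgroup.index_ne_zero_of_finite (H := Z) he.symm
  have hθinv : ∀ g : H, conjTwist Z (θ : Z → ℂ) g = θ := by
    intro g
    funext z
    apply mul_left_cancel₀ he0
    rw [conjTwist_apply, ← hχθ, ← hχθ]
    exact χ.2.isCharacter.conj_invariant _ _
  -- only `χ` lies over `θ`
  have honly : ∀ φ : H → ℂ, IsIrrCharacter H φ →
      classInner (fun z : Z => φ z) θ ≠ 0 → φ = (χ : H → ℂ) := by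
    intro φ hφ h
    have hc : classInner (fun z : Z => (χ : H → ℂ) z) θ = e := by
      rw [show (fun z : Z => (χ : H → ℂ) z) = (e : ℂ) • (θ : Z → ℂ) from funext hχθ,
        classInner_smul_left, classInner_irr_self θ.2, mul_one]
    have hind : indFun Z (θ : Z → ℂ) = (e : ℂ) • (χ : H → ℂ) := by
      have hΦ := isClassFunction_indFun Z (θ : Z → ℂ)
      have h1 : classInner (indFun Z (θ : Z → ℂ)) (χ : H → ℂ) = e := by
        rw [classInner_indFun Z _ χ.2.isClassFunction, ← classInner_conj_symm, hc,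
          Complex.conj_natCast]
      have h2 : classInner (indFun Z (θ : Z → ℂ)) (indFun Z (θ : Z → ℂ)) = (e : ℂ) * e := by
        apply mul_left_cancel₀ (card_cast_ne_zero (G := Z))
        rw [classInner_indFun_self Z θ.2,
          show inertia Z (θ : Z → ℂ) = ⊤ from Subgroup.ext fun g =>
            ⟨fun _ => Subgroup.mem_top g, fun _ => hθinv g⟩, Subgroup.card_top, ← Z.card_mul_index,
          ← he]
        push_cast
        ring
      refine sub_eq_zero.mp (eq_zero_of_classInner_self ?_)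
      rw [classInner_sub_left, classInner_sub_right, classInner_sub_right, classInner_smul_left,
        classInner_smul_left, classInner_smul_right, classInner_smul_right, h1, h2,
        ← classInner_conj_symm (indFun Z (θ : Z → ℂ)) (χ : H → ℂ), h1, classInner_irr_self χ.2]
      simp only [Complex.conj_natCast]
      ring
    by_contra hne
    have h3 := classInner_indFun Z (θ : Z → ℂ) hφ.isClassFunction
    rw [hind, classInner_smul_left, classInner_irr_ne χ.2 hφ (Ne.symm hne), mul_zero,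
      ← classInner_conj_symm] at h3
    exact h ((map_eq_zero _).mp h3.symm)
  haveI : Fintype (Z.subgroupOf Q) := Fintype.ofFinite _
  haveI : (Z.subgroupOf Q).Normal := Subgroup.Normal.subgroupOf inferInstance Q
  let d : IrrCharacter Q → ℕ := fun φ =>
    ((φ.2.isCharacter.comp (Subgroup.inclusion hZQ)).exists_nat_classInner θ.2.isCharacter).choose
  have hd : ∀ φ : IrrCharacter Q,
      classInner (fun z : Z => (φ : Q → ℂ) (Subgroup.inclusion hZQ z)) θ = d φ := fun φ =>
    ((φ.2.isCharacter.comp (Subgroup.inclusion hZQ)).exists_nat_classInner θ.2.isCharacter).choose_spec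
  have hdeg : ∀ φ : IrrCharacter Q, d φ ≠ 0 → (φ : Q → ℂ) 1 = (d φ : ℂ) * (θ : Z → ℂ) 1 := by
    intro φ h0
    have h := clifford_invariant (Z.subgroupOf Q) φ.2 (isIrrCharacter_resTo Z θ.2 hZQ)
      (fun t => funext fun x => congrFun (hθinv (t : H)) ⟨(x : Q), x.2⟩) (by
        rw [classInner_resTo Z _ hZQ]
        exact (hd φ).trans_ne (Nat.cast_ne_zero.mpr h0))
    rw [classInner_resTo Z _ hZQ, show classInner (fun z : Z => (φ : Q → ℂ) ⟨z, hZQ z.2⟩) θ = d φ
      from hd φ] at h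
    exact congrFun h 1
  -- degrees are large
  have hbig : ∀ φ : IrrCharacter Q, d φ ≠ 0 → p ^ k ≤ d φ * d φ := by
    intro φ h0
    have hF := isCharacter_indFun Q φ.2.isCharacter
    obtain ⟨c, hc⟩ := hF.exists_nat_classInner χ.2.isCharacter
    have hFeq : indFun Q (φ : Q → ℂ) = (c : ℂ) • (χ : H → ℂ) := by
      refine ext_classInner hF.isClassFunction
        (fun g h => by simp [χ.2.isCharacter.conj_invariant]) fun ψ hψ => ?_
      rw [classInner_smul_left]
      by_cases hψc : ψ = (χ : H → ℂ)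
      · rw [hψc, hc, classInner_irr_self χ.2, mul_one]
      · rw [classInner_irr_ne χ.2 hψ (Ne.symm hψc), mul_zero]
        by_contra hne
        rw [classInner_indFun Q _ hψ.isClassFunction, ← classInner_conj_symm] at hne
        exact hψc (honly ψ hψ (over_trans (hψ.isCharacter.comp Q.subtype) (Subgroup.inclusion hZQ)
          θ.2.isCharacter φ.2 (fun h => hne (by
            rw [show (fun x : Q => ψ x) = fun x => ψ (Q.subtype x) from rfl, h, map_zero]))
          ((hd φ).trans_ne (Nat.cast_ne_zero.mpr h0))))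
    have h1 := congrFun hFeq 1
    rw [indFun_apply_one, hdeg φ h0, Pi.smul_apply, smul_eq_mul,
      show (χ : H → ℂ) 1 = (e : ℂ) * (θ : Z → ℂ) 1 from hχθ 1, ← mul_assoc, ← mul_assoc] at h1
    have h2 : Q.index * d φ = c * e := by
      exact_mod_cast mul_right_cancel₀ θ.2.apply_one_ne_zero h1
    have h3 : c ^ 2 * (p ^ k * Q.index) = (Q.index * d φ) ^ 2 := by
      rw [h2, mul_pow, he, ← Subgroup.relIndex_mul_index hZQ, hk]
    have h4 : c ^ 2 * p ^ k = Q.index * (d φ * d φ) :=
      Nat.eq_of_mul_eq_mul_right (Nat.pos_of_ne_zero (Subgroup.index_ne_zero_of_finite (H := Q)))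
        (by rw [mul_assoc, h3]; ring)
    refine Nat.le_of_dvd (by positivity) ?_
    exact ((hp.coprime_iff_not_dvd.mpr hpQ).pow_left k).dvd_of_dvd_mul_left ⟨c ^ 2, by
      rw [← h4]; ring⟩
  -- total
  have hsum : ∑ φ : IrrCharacter Q, d φ * d φ = p ^ k := by
    have hF := isClassFunction_indFun (Z.subgroupOf Q) (resTo Z (θ : Z → ℂ) Q)
    have h1 := congrFun (eq_sum_classInner hF) 1
    rw [indFun_apply_one, Finset.sum_apply] at h1
    have h2 : ∀ φ : IrrCharacter Q,
        (classInner (indFun (Z.subgroupOf Q) (resTo Z (θ : Z → ℂ) Q)) (φ : Q → ℂ) •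
          (φ : Q → ℂ)) 1 = ((d φ * d φ : ℕ) : ℂ) * (θ : Z → ℂ) 1 := by
      intro φ
      rw [Pi.smul_apply, smul_eq_mul, classInner_indFun _ _ φ.2.isClassFunction,
        ← classInner_conj_symm, classInner_resTo Z _ hZQ,
        show classInner (fun z : Z => (φ : Q → ℂ) ⟨z, hZQ z.2⟩) θ = d φ from hd φ,
        Complex.conj_natCast]
      by_cases h0 : d φ = 0
      · simp [h0]
      · rw [hdeg φ h0]; push_cast; ring
    rw [Finset.sum_congr rfl fun φ _ => h2 φ, ← Finset.sum_mul,
      show resTo Z (θ : Z → ℂ) Q 1 = (θ : Z → ℂ) 1 from rfl] at h1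
    have h3 := mul_right_cancel₀ θ.2.apply_one_ne_zero h1
    rw [← Nat.cast_sum, Nat.cast_inj] at h3
    rw [← hk, ← h3]
    rfl
  intro ω₁ ω₂ h₁ h₂ e₁ e₂
  have d1 : d ⟨ω₁, h₁⟩ ≠ 0 := fun h => e₁ ((hd ⟨ω₁, h₁⟩).trans (by rw [h, Nat.cast_zero]))
  have d2 : d ⟨ω₂, h₂⟩ ≠ 0 := fun h => e₂ ((hd ⟨ω₂, h₂⟩).trans (by rw [h, Nat.cast_zero]))
  refine ⟨?_, fun d' hd' => ?_⟩
  · by_contra hne
    have hp2 : ∑ φ ∈ ({⟨ω₁, h₁⟩, ⟨ω₂, h₂⟩} : Finset (IrrCharacter Q)), d φ * d φ ≤
        ∑ φ, d φ * d φ := Finset.sum_le_sum_of_subset (Finset.subset_univ _)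
    rw [Finset.sum_pair (fun h => hne (congrArg Subtype.val h)), hsum] at hp2
    have := hbig _ d1
    have := hbig _ d2
    have := pow_pos hp.pos k
    omega
  · have h0 : d' = d ⟨ω₁, h₁⟩ := by exact_mod_cast hd'.symm.trans (hd ⟨ω₁, h₁⟩)
    rw [h0]
    exact le_antisymm ((Finset.single_le_sum (f := fun φ => d φ * d φ) (fun _ _ => Nat.zero_le _)
      (Finset.mem_univ _)).trans hsum.le) (hbig _ d1)

theorem relIndex_inertia {G : Type uH} [Group G] [Fintype G] (B Q : Subgroup G) [B.Normal]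
    [Fintype Q] [(B.subgroupOf Q).Normal] (hBQ : B ≤ Q) (ψ : B → ℂ) :
    (inertia B ψ).relIndex Q = (inertia (B.subgroupOf Q) (resTo B ψ Q)).index := by
  change ((inertia B ψ).subgroupOf Q).index = _
  congr 1
  ext q
  rw [Subgroup.mem_subgroupOf, mem_inertia_iff, mem_inertia_iff]
  exact ⟨fun h b => h ⟨(b : Q), b.2⟩, fun h b => h ⟨⟨b, hBQ b.2⟩, b.2⟩⟩

/-- Multiplicities under a unique character above. -/
theorem exists_mult {A : Type uH} [Group A] [Fintype A] (B : Subgroup A) [B.Normal] [Fintype B]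
    {Z : Type uH} [Group Z] [Fintype Z] {θ : Z → ℂ} (hθ : IsCharacter Z θ) (ι : Z →* B)
    (hconj : ∀ (g : A) (ψ : B → ℂ), IsIrrCharacter B ψ →
      classInner (fun z => conjTwist B ψ g (ι z)) θ = classInner (fun z => ψ (ι z)) θ)
    (huniq : ∀ ω₁ ω₂ : A → ℂ, IsIrrCharacter A ω₁ → IsIrrCharacter A ω₂ →
      classInner (fun z => ω₁ (ι z)) θ ≠ 0 → classInner (fun z => ω₂ (ι z)) θ ≠ 0 → ω₁ = ω₂)
    {ψ : B → ℂ} (hψ : IsIrrCharacter B ψ) {a : ℕ} (ha : a ≠ 0)
    (hψθ : classInner (fun z => ψ (ι z)) θ = a) :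
    ∃ (c d : ℕ) (ω : A → ℂ), IsIrrCharacter A ω ∧ classInner (fun z => ω (ι z)) θ = d ∧
      d ≠ 0 ∧ c * d = B.index * a ∧ c * c * (inertia B ψ).index = B.index := by
  classical
  have hψθ0 : classInner (fun z => ψ (ι z)) θ ≠ 0 := hψθ.trans_ne (Nat.cast_ne_zero.mpr ha)
  have hover : ∀ ω : A → ℂ, IsIrrCharacter A ω → classInner (fun b : B => ω b) ψ ≠ 0 →
      classInner (fun z => ω (ι z)) θ ≠ 0 := fun ω hω h =>
    over_trans (hω.isCharacter.comp B.subtype) ι hθ hψ h hψθ0
  have hΦ := isCharacter_indFun B hψ.isCharacter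
  have hΦ1 : indFun B ψ 1 ≠ 0 := by
    rw [indFun_apply_one]
    exact mul_ne_zero (Nat.cast_ne_zero.mpr Subgroup.index_ne_zero_of_finite) hψ.apply_one_ne_zero
  obtain ⟨ω, hω⟩ := exists_constituent hΦ hΦ1
  obtain ⟨c, hc⟩ := hΦ.exists_nat_classInner ω.2.isCharacter
  have hωψ : classInner (fun b : B => (ω : A → ℂ) b) ψ = c := by
    rw [classInner_indFun B ψ ω.2.isClassFunction, ← classInner_conj_symm] at hc
    have := congrArg conj hc
    rwa [Complex.conj_conj, Complex.conj_natCast] at this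
  have hc0 : c ≠ 0 := fun h => hω (by rw [hc, h, Nat.cast_zero])
  have hωψ0 : classInner (fun b : B => (ω : A → ℂ) b) ψ ≠ 0 :=
    hωψ.trans_ne (Nat.cast_ne_zero.mpr hc0)
  obtain ⟨d, hd⟩ := (ω.2.isCharacter.comp (B.subtype.comp ι)).exists_nat_classInner hθ
  have hd' : classInner (fun z => (ω : A → ℂ) (ι z)) θ = d := hd
  have hd0 : d ≠ 0 := fun h => hover ω ω.2 hωψ0 (hd'.trans (by rw [h, Nat.cast_zero]))
  have hind : indFun B ψ = (c : ℂ) • (ω : A → ℂ) := by
    refine ext_classInner hΦ.isClassFunction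
      (fun g h => by simp [ω.2.isCharacter.conj_invariant]) fun φ hφ => ?_
    rw [classInner_smul_left]
    by_cases he : φ = (ω : A → ℂ)
    · rw [he, hc, classInner_irr_self ω.2, mul_one]
    · rw [classInner_irr_ne ω.2 hφ (Ne.symm he), mul_zero]
      by_contra h
      rw [classInner_indFun B ψ hφ.isClassFunction, ← classInner_conj_symm] at h
      exact he (huniq φ ω hφ ω.2 (hover φ hφ fun h' => h (by rw [h', map_zero]))
        (hover ω ω.2 hωψ0))
  have h1 : ((c * d : ℕ) : ℂ) = ((B.index * a : ℕ) : ℂ) := by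
    have e1 : classInner (fun z => indFun B ψ (ι z)) θ = (c : ℂ) * d := by
      rw [hind, show (fun z => ((c : ℂ) • (ω : A → ℂ)) (ι z)) =
        (c : ℂ) • (fun z => (ω : A → ℂ) (ι z)) from rfl, classInner_smul_left, hd']
    have e2 : (fun z => indFun B ψ (ι z)) =
        (Nat.card B : ℂ)⁻¹ • ∑ g : A, (fun z => conjTwist B ψ g (ι z)) := by
      funext z
      have h := congrFun (indFun_res B ψ) (ι z)
      simp only [Pi.smul_apply, Finset.sum_apply] at h ⊢
      exact h
    rw [e2, classInner_smul_left, classInner_sum_left, Finset.sum_congr rfl fun g _ =>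
      (hconj g ψ hψ).trans hψθ, Finset.sum_const, Finset.card_univ, nsmul_eq_mul] at e1
    push_cast
    rw [← e1, ← mul_assoc, ← Nat.card_eq_fintype_card, card_inv_mul_card]
  have h2 : (d : ℂ) = ((c * (inertia B ψ).index * a : ℕ) : ℂ) := by
    rw [← hd', show (fun z => (ω : A → ℂ) (ι z)) =
      (c : ℂ) • ∑ φ ∈ twistOrbit B ψ, (fun z => φ (ι z)) from funext fun z => by
        have h := congrFun (clifford_res B ω.2 hψ hωψ0) (ι z)
        rw [hωψ] at h
        simpa using h, classInner_smul_left, classInner_sum_left,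
      Finset.sum_congr rfl (g := fun _ => (a : ℂ)) fun φ hφ => by
        obtain ⟨g, rfl⟩ := (mem_twistOrbit B).mp hφ
        exact (hconj g ψ hψ).trans hψθ,
      Finset.sum_const, nsmul_eq_mul, card_twistOrbit]
    push_cast
    ring
  rw [Nat.cast_inj] at h1 h2
  refine ⟨c, d, ω, ω.2, hd', hd0, h1, Nat.eq_of_mul_eq_mul_right (Nat.pos_of_ne_zero ha) ?_⟩
  rw [← h1, h2]
  ring

/-- A Sylow preimage adapted to `K`. -/
theorem exists_setup {H : Type uH} [Group H] [Finite H] (Z : Subgroup H) [Z.Normal]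
    (K : Subgroup H) [K.Normal] (hZK : Z ≤ K) {p : ℕ} [Fact p.Prime] (P : Sylow p (H ⧸ K)) :
    ∃ (Q : Subgroup H) (k : ℕ), Z ≤ Q ∧ ¬ p ∣ Q.index ∧ Z.relIndex Q = p ^ k ∧
      Q.map (QuotientGroup.mk' K) = (P : Subgroup (H ⧸ K)) ∧ ¬ p ∣ Q.relIndex K ∧
      Q ≤ Subgroup.normalizer ((Q ⊓ K : Subgroup H) : Set H) ∧
      Subgroup.normalizer ((Q ⊓ K : Subgroup H) : Set H) ⊔ K = ⊤ := by
  classical
  obtain ⟨S, hS⟩ := Sylow.mapSurjective_surjective (QuotientGroup.mk'_surjective K) p P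
  have hSP : (S : Subgroup H).map (QuotientGroup.mk' K) = (P : Subgroup (H ⧸ K)) := by
    rw [← hS, Sylow.coe_mapSurjective]
  let Q : Subgroup H := Z ⊔ (S : Subgroup H)
  have hZQ : Z ≤ Q := le_sup_left
  have hpQ : ¬ p ∣ Q.index := fun h =>
    S.not_dvd_index (h.trans (Subgroup.index_dvd_of_le le_sup_right))
  obtain ⟨k, hk⟩ : ∃ k, Z.relIndex Q = p ^ k := by
    have h1 : Q.map (QuotientGroup.mk' Z) = (S : Subgroup H).map (QuotientGroup.mk' Z) := by
      rw [Subgroup.map_sup, QuotientGroup.map_mk'_self, bot_sup_eq]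
    have h2 := IsPGroup.iff_card.mp (S.2.map (QuotientGroup.mk' Z))
    rw [← h1, ← Subgroup.relIndex_ker, QuotientGroup.ker_mk'] at h2
    exact h2
  let A : Subgroup H := (S : Subgroup H) ⊓ K
  have hB : Q ⊓ K = Z ⊔ A := by
    refine le_antisymm ?_ (sup_le (le_inf hZQ hZK) (inf_le_inf_right K le_sup_right))
    rintro x ⟨hx, hxK⟩
    obtain ⟨z, hz, s, hs, rfl⟩ := Subgroup.mem_sup_of_normal_left.mp hx
    exact mul_mem (Subgroup.mem_sup_left hz)
      (Subgroup.mem_sup_right ⟨hs, (mul_mem_cancel_left (hZK hz)).mp hxK⟩)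
  let N : Subgroup H := Subgroup.normalizer ((Q ⊓ K : Subgroup H) : Set H)
  have hQN : Q ≤ N := by
    intro q hq
    rw [Subgroup.mem_normalizer_iff]
    intro x
    refine and_congr ?_ ?_
    · exact ((mul_mem_cancel_right (inv_mem hq)).trans (mul_mem_cancel_left hq)).symm
    · constructor
      · exact fun h => (inferInstance : K.Normal).conj_mem x h q
      · intro h
        have := (inferInstance : K.Normal).conj_mem _ h q⁻¹
        simpa [mul_assoc] using this
  -- Frattini
  have hrel : ∀ L : Subgroup H, ¬ p ∣ L.index → ¬ p ∣ L.relIndex K := fun L hL h =>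
    hL (h.trans (sup_relIndex L K ▸ Subgroup.relIndex_dvd_index_of_le le_sup_left))
  have hfr : N ⊔ K = ⊤ := by
    have hAp : IsPGroup p ((S : Subgroup H).subgroupOf K) := S.2.comap_subtype
    have h := Sylow.normalizer_sup_eq_top (hAp.toSylow (hrel _ S.not_dvd_index))
    have hA : ((hAp.toSylow (hrel _ S.not_dvd_index) : Sylow p K) : Subgroup K).map K.subtype = A :=
      Subgroup.subgroupOf_map_subtype _ _
    rw [hA] at h
    rw [← top_le_iff, ← h]
    refine sup_le_sup_right ?_ K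
    intro g hg
    rw [Subgroup.mem_normalizer_iff_map_conj_eq] at hg
    change g ∈ Subgroup.normalizer ((Q ⊓ K : Subgroup H) : Set H)
    rw [Subgroup.mem_normalizer_iff_map_conj_eq, hB, Subgroup.map_sup, Subgroup.Normal.map_conj_eq Z g]
    exact congrArg (fun L => Z ⊔ L) hg
  refine ⟨Q, k, hZQ, hpQ, hk, ?_, hrel Q hpQ, hQN, hfr⟩
  rw [Subgroup.map_sup,
    (Subgroup.map_eq_bot_iff Z).mpr (hZK.trans (QuotientGroup.ker_mk' K).ge), bot_sup_eq, hSP]

/-- A stabilizer of the right index yields a subgroup of Sylow index. -/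
theorem exists_index_eq {H : Type uH} [Group H] [Finite H]
    (K : Subgroup H) [K.Normal] {p : ℕ} [Fact p.Prime] (P : Sylow p (H ⧸ K)) (Q : Subgroup H)
    (hQmap : Q.map (QuotientGroup.mk' K) = (P : Subgroup (H ⧸ K))) (hrelQ : ¬ p ∣ Q.relIndex K)
    (hQN : Q ≤ Subgroup.normalizer ((Q ⊓ K : Subgroup H) : Set H))
    (hfr : Subgroup.normalizer ((Q ⊓ K : Subgroup H) : Set H) ⊔ K = ⊤)
    (T : Subgroup ↥(Subgroup.normalizer ((Q ⊓ K : Subgroup H) : Set H)))
    (hBT : (Q ⊓ K).subgroupOf _ ≤ T)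
    (hidx : T.index = ((Q ⊓ K).subgroupOf (Subgroup.normalizer ((Q ⊓ K : Subgroup H) : Set H))).relIndex
      (Q.subgroupOf _)) :
    ∃ M : Subgroup (H ⧸ K), Nat.card M * Nat.card P = Nat.card (H ⧸ K) := by
  classical
  have hp : p.Prime := Fact.out
  let N : Subgroup H := Subgroup.normalizer ((Q ⊓ K : Subgroup H) : Set H)
  let B : Subgroup N := (Q ⊓ K).subgroupOf N
  let Q' : Subgroup N := Q.subgroupOf N
  let K' : Subgroup N := K.subgroupOf N
  haveI : K'.Normal := Subgroup.Normal.subgroupOf inferInstance N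
  let φN : N →* H ⧸ K := (QuotientGroup.mk' K).comp N.subtype
  have hker : φN.ker = K' := by
    ext x
    simp [φN, K', Subgroup.mem_subgroupOf]
  have hQmap' : Q'.map φN = (P : Subgroup (H ⧸ K)) := by
    rw [← Subgroup.map_map, Subgroup.map_subgroupOf_eq_of_le hQN, hQmap]
  have hBeq : B = Q' ⊓ K' := rfl
  have hPcard : B.relIndex Q' = Nat.card P := by
    rw [hBeq, Subgroup.inf_relIndex_left, ← hker, Subgroup.relIndex_ker, hQmap']
  replace hidx : T.index = Nat.card P := hidx.trans hPcard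
  have hKT : K' ≤ T := by
    rw [← Subgroup.relIndex_eq_one]
    obtain ⟨j, hj⟩ := IsPGroup.iff_card.mp P.2
    have h1 : T.relIndex K' ∣ p ^ j := by
      rw [← hj, ← hidx, ← sup_relIndex T K']
      exact Subgroup.relIndex_dvd_index_of_le le_sup_left
    have h2 : ¬ p ∣ T.relIndex K' := by
      intro h
      have h3 := h.trans (Subgroup.relIndex_dvd_of_le_left K' hBT)
      change p ∣ B.relIndex K' at h3
      rw [hBeq, Subgroup.inf_relIndex_right] at h3
      have h4 : Q'.relIndex K' ∣ Q.relIndex K := by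
        have e1 : Q'.relIndex K' = Q.relIndex (K ⊓ N) := by
          change (Q.subgroupOf N).relIndex (K.subgroupOf N) = _
          rw [← Subgroup.inf_subgroupOf_right K N, Subgroup.relIndex_subgroupOf inf_le_right]
        have hinf : Q ⊓ K = Q ⊓ (K ⊓ N) := by
          rw [inf_comm K N, ← inf_assoc, inf_eq_left.mpr hQN]
        rw [e1, ← Subgroup.inf_relIndex_right Q (K ⊓ N), ← Subgroup.inf_relIndex_right Q K, hinf]
        exact Dvd.intro _ (Subgroup.relIndex_mul_relIndex _ _ _ inf_le_right inf_le_left)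
      exact hrelQ (h3.trans h4)
    obtain ⟨i, -, hi⟩ := (Nat.dvd_prime_pow hp).mp h1
    rcases Nat.eq_zero_or_pos i with h0 | h0
    · rw [hi, h0, pow_zero]
    · exact absurd (hi ▸ dvd_pow_self p h0.ne') h2
  refine ⟨T.map φN, ?_⟩
  have hsurj : φN.range = ⊤ := by
    rw [MonoidHom.range_comp, Subgroup.range_subtype]
    have h := congrArg (Subgroup.map (QuotientGroup.mk' K)) hfr
    rwa [Subgroup.map_sup, QuotientGroup.map_mk'_self, sup_bot_eq,
      Subgroup.map_top_of_surjective _ (QuotientGroup.mk'_surjective K)] at h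
  rw [← hidx, ← Subgroup.relIndex_ker T φN, hker, Subgroup.relIndex_mul_index hKT, ← hker,
    Subgroup.index_ker, hsurj, Subgroup.card_top]

end Cfsg.Lib.Char.RamifiedSylow
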