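import Cfsg.Agent.Lib.Char.RealClassNormalizer
import Cfsg.Agent.Lib.Char.GlaubermanNormalSylow
import Cfsg.Agent.Lib.Char.Indicator

/-!
# Real characters of degree prime to `p` and the Sylow normalizer

For a normal subgroup `K` of odd index the Frobenius–Schur indicators show that each real irreducible
character of `K` lies under exactly one real irreducible character, with multiplicity one. With the
correspondence for a normal Sylow subgroup of `K` this gives a bijection between the real characters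
of the group and the real `p'`-degree characters of the normalizer of a Sylow subgroup.
-/

set_option autoImplicit false
set_option linter.unusedSectionVars false
set_option linter.style.haveILetI false

namespace Cfsg.Lib.Char.RealClassNormalizer

open Cfsg Cfsg.Lib Subgroup
open scoped ComplexConjugate
open Cfsg.Lib.Char.RealOdd (IsReal)

universe u

attribute [local instance 100] Fintype.ofFinite
attribute [local instance] subFintype

variable {Γ : Type u} [Group Γ] [Finite Γ]

theorem indFun_notMem (K : Subgroup Γ) [hK : K.Normal] (θ : K → ℂ) {g : Γ} (hg : g ∉ K) :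
    indFun K θ g = 0 := by
  classical
  simp only [indFun]
  refine mul_eq_zero_of_right _ (Finset.sum_eq_zero fun x _ => ?_)
  simp only [extendByZero]
  refine Function.extend_apply' _ _ _ ?_
  rintro ⟨a, ha⟩
  have h := hK.conj_mem _ a.2 x
  rw [ha] at h
  exact hg (by simpa [mul_assoc] using h)

/-- Squares lie in a subgroup of odd index only for its elements. -/
theorem sq_mem_iff (K : Subgroup Γ) [K.Normal] (hodd : Odd K.index) (g : Γ) :
    g * g ∈ K ↔ g ∈ K := by
  refine ⟨fun h => ?_, fun h => mul_mem h h⟩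
  obtain ⟨j, hj⟩ := hodd
  have h1 : g ^ K.index ∈ K := K.pow_index_mem g
  have h2 : (g * g) ^ j ∈ K := pow_mem h j
  have h3 : g = ((g * g) ^ j)⁻¹ * g ^ K.index := by
    rw [hj, ← pow_two, ← pow_mul, pow_succ, inv_mul_cancel_left]
  rw [h3]
  exact mul_mem (inv_mem h2) h1

/-- The indicators above a real character add up to its indicator. -/
theorem sum_mult_indicator (K : Subgroup Γ) [K.Normal] (hodd : Odd K.index) (θ : RealIrr K) :
    ∑ φ : IrrCharacter Γ, classInner (indFun K (θ.1 : K → ℂ)) (φ : Γ → ℂ) *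
        ∑ g : Γ, (φ : Γ → ℂ) (g * g) = (Nat.card Γ : ℂ) ∨
      ∑ φ : IrrCharacter Γ, classInner (indFun K (θ.1 : K → ℂ)) (φ : Γ → ℂ) *
        ∑ g : Γ, (φ : Γ → ℂ) (g * g) = -(Nat.card Γ : ℂ) := by
  classical
  set I := indFun K (θ.1 : K → ℂ) with hI
  have hIc : IsClassFunction Γ I := isClassFunction_indFun K _
  have h1 : ∑ φ : IrrCharacter Γ, classInner I (φ : Γ → ℂ) * ∑ g : Γ, (φ : Γ → ℂ) (g * g) =
      ∑ g : Γ, I (g * g) := by
    simp only [Finset.mul_sum]
    rw [Finset.sum_comm]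
    refine Finset.sum_congr rfl fun g _ => ?_
    conv_rhs => rw [eq_sum_classInner hIc]
    simp [Finset.sum_apply, smul_eq_mul]
  have h2 : ∑ g : Γ, I (g * g) = ∑ k : K, I ((k : Γ) * k) := by
    rw [← Finset.sum_subtype (Finset.univ.filter fun g => g ∈ K) (fun g => by simp)
      (fun g => I (g * g))]
    refine (Finset.sum_filter_of_ne fun g _ hne => ?_).symm
    by_contra hg
    exact hne (indFun_notMem K _ fun h => hg ((sq_mem_iff K hodd g).1 h))
  have h3 : ∑ k : K, I ((k : Γ) * k) =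
      (Nat.card K : ℂ)⁻¹ * ((Nat.card Γ : ℂ) * ∑ k : K, (θ.1 : K → ℂ) (k * k)) := by
    calc ∑ k : K, I ((k : Γ) * k) = ∑ k : K, (Nat.card K : ℂ)⁻¹ * ∑ x : Γ,
          conjTwist K (θ.1 : K → ℂ) x (k * k) := by
            refine Finset.sum_congr rfl fun k _ => ?_
            exact indFun_normal_apply (H := K) (θ.1 : K → ℂ) (k * k)
      _ = (Nat.card K : ℂ)⁻¹ * ∑ x : Γ, ∑ k : K, conjTwist K (θ.1 : K → ℂ) x (k * k) := by
            rw [← Finset.mul_sum, Finset.sum_comm]
      _ = _ := by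
            congr 1
            rw [Finset.sum_congr rfl fun x _ => ?_, Finset.sum_const, Finset.card_univ,
              nsmul_eq_mul, Nat.card_eq_fintype_card]
            refine Fintype.sum_equiv (MulAut.conjNormal x : MulAut K).toEquiv _
              (fun k => (θ.1 : K → ℂ) (k * k)) fun k => ?_
            exact congrArg θ.1.1 (map_mul (MulAut.conjNormal x : MulAut K) k k)
  have hK : (Nat.card K : ℂ) ≠ 0 := Nat.cast_ne_zero.2 Nat.card_pos.ne'
  rcases indicator_cases θ.1.2 with ⟨h, -⟩ | ⟨-, h | ⟨h, -⟩⟩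
  · exact absurd (RealOdd.isReal_iff_im.1 θ.2) h
  · left; rw [h1, h2, h3, h]; field_simp
  · right; rw [h1, h2, h3, h]; field_simp

/-- Real characters of the group and orbits of real characters below. -/
theorem real_correspondence (K : Subgroup Γ) [hKn : K.Normal] (hodd : Odd K.index)
    (hclass : ∀ x : Γ, IsConj x x⁻¹ → ∃ hx : x ∈ K, IsConj (⟨x, hx⟩ : K) (⟨x, hx⟩ : K)⁻¹) :
    (∀ χ : IrrCharacter Γ, IsReal (χ : Γ → ℂ) → ∃ θ : RealIrr K,
      classInner (fun k : K => (χ : Γ → ℂ) k) (θ.1 : K → ℂ) ≠ 0) ∧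
    (∀ θ : RealIrr K, ∃ χ : IrrCharacter Γ, IsReal (χ : Γ → ℂ) ∧
      classInner (fun k : K => (χ : Γ → ℂ) k) (θ.1 : K → ℂ) ≠ 0 ∧
      charDegree (χ : Γ → ℂ) = (inertia K (θ.1 : K → ℂ)).index * charDegree (θ.1 : K → ℂ) ∧
      ∀ χ' : IrrCharacter Γ, IsReal (χ' : Γ → ℂ) →
        classInner (fun k : K => (χ' : Γ → ℂ) k) (θ.1 : K → ℂ) ≠ 0 → χ' = χ) := by
  classical
  have hTop : (⊤ : Subgroup Γ) ≤ normalizer (K : Set Γ) := by rw [normalizer_eq_top]
  have hoddTop : ∀ a ∈ (⊤ : Subgroup Γ), ∃ m : ℕ, Odd m ∧ a ^ m ∈ K := fun a _ =>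
    ⟨K.index, hodd, K.pow_index_mem a⟩
  letI a₁ := charAction ⊤ K hTop
  letI a₂ := clAction ⊤ K hTop
  haveI : Finite (ConjClasses K) := Quotient.finite _
  haveI : Finite (ConjClasses Γ) := Quotient.finite _
  haveI : Finite (MulAction.orbitRel.Quotient (⊤ : Subgroup Γ) (RealIrr K)) := Quotient.finite _
  haveI : Finite (MulAction.orbitRel.Quotient (⊤ : Subgroup Γ) (RealCl K)) := Quotient.finite _
  -- constituents of one character lie in one orbit
  have hClif : ∀ (χ : IrrCharacter Γ) (θ θ' : RealIrr K),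
      classInner (fun k : K => (χ : Γ → ℂ) k) (θ.1 : K → ℂ) ≠ 0 →
      classInner (fun k : K => (χ : Γ → ℂ) k) (θ'.1 : K → ℂ) ≠ 0 →
      ∃ g : (⊤ : Subgroup Γ), g • θ = θ' := by
    intro χ θ θ' h h'
    obtain ⟨g, hg⟩ := (mem_twistOrbit K).1 (mem_twistOrbit_of_constituent K χ.2 θ.1.2 θ'.1.2
      (by convert h) (by convert h'))
    refine ⟨⟨g⁻¹, mem_top _⟩, Subtype.ext (Subtype.ext ?_)⟩
    rw [← hg]
    funext k
    exact congrArg θ.1.1 (Subtype.ext (by simp [twistEquiv]))
  choose R hRr hRc using fun θ : RealIrr K => exists_real_over_of_odd_index K hodd θ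
  let Φ : MulAction.orbitRel.Quotient (⊤ : Subgroup Γ) (RealIrr K) →
      {χ : IrrCharacter Γ // IsReal (χ : Γ → ℂ)} := fun o => ⟨R o.out, hRr _⟩
  have hΦi : Function.Injective Φ := by
    intro o₁ o₂ h
    have h' : R o₁.out = R o₂.out := congrArg Subtype.val h
    obtain ⟨g, hg⟩ := hClif _ o₂.out o₁.out (hRc _) (h' ▸ hRc o₁.out)
    rw [← o₁.out_eq', ← o₂.out_eq']
    exact Quotient.sound' (MulAction.orbitRel_apply.2 ⟨g, hg⟩)
  let S : {c : ConjClasses Γ // ∀ x : Γ, ConjClasses.mk x = c → IsConj x x⁻¹} →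
      MulAction.orbitRel.Quotient (⊤ : Subgroup Γ) (RealCl K) := fun c =>
    have hx := hclass c.1.exists_rep.choose (c.2 _ c.1.exists_rep.choose_spec)
    Quotient.mk'' ⟨ConjClasses.mk ⟨c.1.exists_rep.choose, hx.choose⟩, by
      rw [classInv_mk, ConjClasses.mk_eq_mk_iff_isConj]; exact hx.choose_spec.symm⟩
  have hSi : Function.Injective S := by
    intro c₁ c₂ h
    obtain ⟨g, hg⟩ := Quotient.exact' h
    have hx₁ := hclass c₁.1.exists_rep.choose (c₁.2 _ c₁.1.exists_rep.choose_spec)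
    have hx₂ := hclass c₂.1.exists_rep.choose (c₂.2 _ c₂.1.exists_rep.choose_spec)
    have hg' : ConjClasses.mk ((twistEquiv K (hTop g.2)) ⟨c₂.1.exists_rep.choose, hx₂.choose⟩) =
        ConjClasses.mk (⟨c₁.1.exists_rep.choose, hx₁.choose⟩ : K) := congrArg Subtype.val hg
    obtain ⟨k, hk⟩ := isConj_iff.1 (ConjClasses.mk_eq_mk_iff_isConj.1 hg')
    have hk' : (k : Γ) * ((g : Γ) * c₂.1.exists_rep.choose * (g : Γ)⁻¹) * (k : Γ)⁻¹ =
        c₁.1.exists_rep.choose := congrArg Subtype.val hk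
    refine Subtype.ext ?_
    rw [← c₁.1.exists_rep.choose_spec, ← c₂.1.exists_rep.choose_spec,
      ConjClasses.mk_eq_mk_iff_isConj]
    exact (isConj_iff.2 ⟨(k : Γ) * g, by rw [← hk']; group⟩ : IsConj _ _).symm
  have hle : Nat.card {χ : IrrCharacter Γ // IsReal (χ : Γ → ℂ)} ≤
      Nat.card (MulAction.orbitRel.Quotient (⊤ : Subgroup Γ) (RealIrr K)) := by
    rw [card_orbits_eq ⊤ K hTop hoddTop,
      Nat.card_congr (Equiv.subtypeEquivRight fun χ : IrrCharacter Γ =>
        RealOdd.isReal_iff_im (f := (χ : Γ → ℂ))), card_real_irr]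
    exact Nat.card_le_card_of_injective S hSi
  have hΦb := hΦi.bijective_of_nat_card_le hle
  refine ⟨fun χ hχ => ?_, fun θ => ?_⟩
  · obtain ⟨o, ho⟩ := hΦb.2 ⟨χ, hχ⟩
    have h' : R o.out = χ := congrArg Subtype.val ho
    refine ⟨o.out, ?_⟩
    rw [← h']
    exact hRc o.out
  have huniq : ∀ χ' : IrrCharacter Γ, IsReal (χ' : Γ → ℂ) →
      classInner (fun k : K => (χ' : Γ → ℂ) k) (θ.1 : K → ℂ) ≠ 0 →
      χ' = R (Quotient.mk'' θ : MulAction.orbitRel.Quotient (⊤ : Subgroup Γ) (RealIrr K)).out := by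
    intro χ' h1 h2
    obtain ⟨o, ho⟩ := hΦb.2 ⟨χ', h1⟩
    have ho' : R o.out = χ' := congrArg Subtype.val ho
    obtain ⟨g, hg⟩ := hClif χ' θ o.out h2 (ho' ▸ hRc o.out)
    have : (Quotient.mk'' θ : MulAction.orbitRel.Quotient (⊤ : Subgroup Γ) (RealIrr K)) = o := by
      rw [← o.out_eq']
      exact (Quotient.sound' (MulAction.orbitRel_apply.2 ⟨g, hg⟩)).symm
    rw [this, ho']
  have hu : ∀ χ' : IrrCharacter Γ, IsReal (χ' : Γ → ℂ) →
      classInner (fun k : K => (χ' : Γ → ℂ) k) (θ.1 : K → ℂ) ≠ 0 → χ' = R θ := fun χ' h1 h2 =>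
    (huniq χ' h1 h2).trans (huniq (R θ) (hRr θ) (hRc θ)).symm
  refine ⟨R θ, hRr θ, hRc θ, ?_, hu⟩
  -- the multiplicity is one
  obtain ⟨e, he⟩ := ((R θ).2.isCharacter.comp K.subtype).exists_nat_classInner θ.1.2.isCharacter
  have he' : classInner (fun k : K => (R θ : Γ → ℂ) k) (θ.1 : K → ℂ) = e := by
    convert he; rfl
  have hsum : ∑ φ : IrrCharacter Γ, classInner (indFun K (θ.1 : K → ℂ)) (φ : Γ → ℂ) *
      ∑ g : Γ, (φ : Γ → ℂ) (g * g) = (e : ℂ) * ∑ g : Γ, (R θ : Γ → ℂ) (g * g) := by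
    rw [Finset.sum_eq_single_of_mem (R θ) (Finset.mem_univ _) fun φ _ hne => ?_]
    · congr 1
      rw [classInner_indFun _ _ (R θ).2.isClassFunction, ← classInner_conj_symm]
      have he'' : classInner (fun k : K => (R θ : Γ → ℂ) k) (θ.1 : K → ℂ) = e := he'
      convert congrArg conj he'' using 1
      simp
    · rcases indicator_cases φ.2 with ⟨-, h⟩ | ⟨h, -⟩
      · rw [h, mul_zero]
      · have : classInner (fun k : K => (φ : Γ → ℂ) k) (θ.1 : K → ℂ) = 0 := by
          by_contra hc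
          exact hne (hu φ (RealOdd.isReal_iff_im.2 h) hc)
        rw [classInner_indFun _ _ φ.2.isClassFunction, ← classInner_conj_symm]
        refine mul_eq_zero_of_left ?_ _
        convert map_zero (starRingEnd ℂ) using 2
  have hG : (Nat.card Γ : ℂ) ≠ 0 := Nat.cast_ne_zero.2 Nat.card_pos.ne'
  have he1 : e = 1 := by
    have hs := sum_mult_indicator K hodd θ
    rw [hsum] at hs
    rcases indicator_cases (R θ).2 with ⟨h, -⟩ | ⟨-, h | ⟨h, -⟩⟩
    · exact absurd (RealOdd.isReal_iff_im.1 (hRr θ)) h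
    · rw [h] at hs
      rcases hs with hs | hs
      · have : (e : ℂ) = 1 := mul_right_cancel₀ hG (by rw [hs, one_mul])
        exact_mod_cast this
      · exfalso
        have : (e : ℂ) + 1 = 0 := mul_right_cancel₀ hG (by rw [add_mul, hs]; ring)
        exact Nat.cast_add_one_ne_zero e this
    · rw [h] at hs
      rcases hs with hs | hs
      · exfalso
        have : (e : ℂ) + 1 = 0 := mul_right_cancel₀ hG (by
          rw [add_mul, one_mul, zero_mul, ← neg_neg ((e : ℂ) * _), ← mul_neg, hs]; ring)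
        exact Nat.cast_add_one_ne_zero e this
      · have : (e : ℂ) = 1 := mul_right_cancel₀ hG (by
          rw [one_mul, ← neg_neg ((e : ℂ) * _), ← mul_neg, hs, neg_neg])
        exact_mod_cast this
  have hdeg := clifford_degree K (R θ).2 θ.1.2 (by convert hRc θ)
  rw [he', he1, RealOdd.degree_eq, RealOdd.degree_eq, Nat.cast_one, one_mul] at hdeg
  exact_mod_cast hdeg

/-- Twisting both sides of a correspondence. -/
theorem IsGood.twist {p : ℕ} [Fact p.Prime] {P K C : Subgroup Γ} (hCK : C ≤ K) {χ : K → ℂ}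
    {ξ : C → ℂ} (hg : NormalSylowAction.IsGood P C p hCK χ ξ) {n : Γ}
    (hnK : n ∈ normalizer (K : Set Γ)) (hnC : n ∈ normalizer (C : Set Γ))
    (hnP : n ∈ normalizer (P : Set Γ)) :
    NormalSylowAction.IsGood P C p hCK (fun g => χ (twistEquiv K hnK g))
      (fun c => ξ (twistEquiv C hnC c)) := by
  refine ⟨fun ζ hζ hζi => ?_, ?_⟩
  · have hnC' : n⁻¹ ∈ normalizer (C : Set Γ) := inv_mem hnC
    have hζ' : IsInvOn P C fun c => ζ (twistEquiv C hnC' c) := hζi.comp_twist
      (fun t ht => (mem_normalizer_iff.1 (inv_mem hnP) t).1 ht) hnC'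
    obtain ⟨m, hm, h1, h2⟩ := hg.1 _ (isIrrCharacter_comp_equiv _ hζ) hζ'
    have hback : ∀ c, twistEquiv C hnC' (twistEquiv C hnC c) = c := fun c =>
      Subtype.ext (by simp only [coe_twistEquiv]; group)
    have hforth : ∀ c, twistEquiv C hnC (twistEquiv C hnC' c) = c := fun c =>
      Subtype.ext (by simp only [coe_twistEquiv]; group)
    refine ⟨m, ?_, fun he => h1 ?_, fun hne => h2 fun he => hne ?_⟩
    · rw [← hm, ← classInner_comp_equiv (twistEquiv C hnC) (resOn hCK χ)
        (fun c => ζ (twistEquiv C hnC' c))]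
      simp only [hback]
      rfl
    · funext c
      rw [he]
      exact congrArg ξ (hforth c)
    · funext c
      rw [← he]
      exact (congrArg ζ (hback c)).symm
  · have e1 : charDegree (fun c => ξ (twistEquiv C hnC c)) = charDegree ξ := by
      simp [charDegree, map_one]
    have e2 : charDegree (fun g => χ (twistEquiv K hnK g)) = charDegree χ := by
      simp [charDegree, map_one]
    rw [e1, e2]
    exact hg.2

/-- Conjugating both sides of a correspondence. -/
theorem IsGood.conj' {p : ℕ} [Fact p.Prime] {P K C : Subgroup Γ} (hCK : C ≤ K) {χ : K → ℂ}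
    {ξ : C → ℂ} (hg : NormalSylowAction.IsGood P C p hCK χ ξ) :
    NormalSylowAction.IsGood P C p hCK (fun g => conj (χ g)) (fun c => conj (ξ c)) := by
  refine ⟨fun ζ hζ hζi => ?_, ?_⟩
  · obtain ⟨m, hm, h1, h2⟩ := hg.1 (fun c => conj (ζ c)) (isIrrCharacter_conjFn hζ)
      (fun s hs g g' h => by simp only [hζi s hs g g' h])
    refine ⟨m, ?_, fun he => h1 ?_, fun hne => h2 fun he => hne ?_⟩
    · have := congrArg conj hm
      rw [classInner_conj_symm, Complex.conj_natCast, ← classInner_conjFn] at this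
      simp only [Complex.conj_conj] at this
      exact this
    · rw [he]; simp only [Complex.conj_conj]
    · rw [← he]; simp only [Complex.conj_conj]
  · have e1 : charDegree (fun c => conj (ξ c)) = charDegree ξ := by simp [charDegree]
    have e2 : charDegree (fun g => conj (χ g)) = charDegree χ := by simp [charDegree]
    rw [e1, e2]
    exact hg.2

/-- Sylow subgroups of an overgroup are conjugate inside it. -/
theorem exists_inv_mul_mem_normalizer {p : ℕ} [hp : Fact p.Prime] (P : Sylow p Γ) {I : Subgroup Γ}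
    (hPI : (P : Subgroup Γ) ≤ I) {g : Γ} (hg : ∀ s ∈ (P : Subgroup Γ), g * s * g⁻¹ ∈ I) :
    ∃ i ∈ I, i⁻¹ * g ∈ normalizer ((P : Subgroup Γ) : Set Γ) := by
  have hP' : ((g • P : Sylow p Γ) : Subgroup Γ) ≤ I := by
    intro z hz
    rw [Sylow.coe_subgroup_smul, Subgroup.mem_pointwise_smul_iff_inv_smul_mem] at hz
    have := hg _ hz
    simpa [mul_assoc] using this
  obtain ⟨i, hi⟩ := MulAction.exists_smul_eq I (P.subtype hPI) ((g • P).subtype hP')
  rw [Sylow.smul_subtype] at hi
  have h1 : ((i : Γ) • P : Sylow p Γ) = g • P := Sylow.subtype_injective hi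
  refine ⟨i, i.2, Sylow.smul_eq_iff_mem_normalizer.1 ?_⟩
  rw [mul_smul, ← h1, inv_smul_smul]

/-- Fixed cosets of a Sylow subgroup. -/
theorem index_modEq {p : ℕ} [hp : Fact p.Prime] (P : Sylow p Γ) {I : Subgroup Γ}
    (hPI : (P : Subgroup Γ) ≤ I) :
    (I.index : ZMod p) =
      ((I.subgroupOf (normalizer ((P : Subgroup Γ) : Set Γ))).index : ZMod p) := by
  classical
  set N := normalizer ((P : Subgroup Γ) : Set Γ)
  have hmod := P.2.card_modEq_card_fixedPoints (Γ ⧸ I)
  let F : ↥N ⧸ I.subgroupOf N → MulAction.fixedPoints (P : Subgroup Γ) (Γ ⧸ I) :=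
    Quotient.lift (fun n : N => ⟨((n : Γ) : Γ ⧸ I), fun s => by
      show (((s : Γ) * n : Γ) : Γ ⧸ I) = _
      refine (QuotientGroup.eq).2 ?_
      have h1 : (n : Γ)⁻¹ * (s : Γ)⁻¹ * n ∈ (P : Subgroup Γ) :=
        (mem_normalizer_iff'.1 n.2 _).2 (by simpa [mul_assoc] using inv_mem s.2)
      simpa [mul_assoc] using hPI h1⟩) fun a b hab => by
    refine Subtype.ext ((QuotientGroup.eq).2 ?_)
    exact (QuotientGroup.leftRel_apply.1 hab : a⁻¹ * b ∈ I.subgroupOf N)
  have hF : Function.Bijective F := by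
    refine ⟨fun a b hab => ?_, fun y => ?_⟩
    · obtain ⟨a, rfl⟩ := QuotientGroup.mk_surjective a
      obtain ⟨b, rfl⟩ := QuotientGroup.mk_surjective b
      exact (QuotientGroup.eq).2 (QuotientGroup.eq.1 (congrArg Subtype.val hab) :)
    · obtain ⟨y, hy⟩ := y
      obtain ⟨g, rfl⟩ := QuotientGroup.mk_surjective y
      have hgI : ∀ s ∈ (P : Subgroup Γ), g⁻¹ * s * g⁻¹⁻¹ ∈ I := fun s hs => by
        have h1 : ((s⁻¹ * g : Γ) : Γ ⧸ I) = (g : Γ ⧸ I) := hy ⟨s⁻¹, inv_mem hs⟩
        have h2 := QuotientGroup.eq.1 h1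
        simpa [mul_assoc] using h2
      obtain ⟨i, hi, hn⟩ := exists_inv_mul_mem_normalizer P hPI hgI
      have hn' : g * i ∈ N := by
        have := inv_mem hn
        simp only [mul_inv_rev, inv_inv] at this
        exact this
      exact ⟨((⟨g * i, hn'⟩ : N) : ↥N ⧸ I.subgroupOf N), Subtype.ext (by
        show ((g * i : Γ) : Γ ⧸ I) = (g : Γ ⧸ I)
        exact QuotientGroup.eq.2 (by simpa [mul_assoc] using inv_mem hi))⟩
  rw [Subgroup.index_eq_card, Subgroup.index_eq_card, Nat.card_eq_of_bijective F hF]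
  exact (ZMod.natCast_eq_natCast_iff _ _ _).2 hmod

end Cfsg.Lib.Char.RealClassNormalizer
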