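import Cfsg.Agent.Lib.Char.RealCharBijection

/-!
# The bijection between real characters of a group and of a Sylow normalizer
-/

set_option autoImplicit false
set_option linter.unusedSectionVars false
set_option linter.style.haveILetI false

namespace Cfsg.Lib.Char.RealClassNormalizer

open Cfsg Cfsg.Lib Subgroup
open scoped ComplexConjugate
open Cfsg.Lib.Char.RealOdd (IsReal)

universe u

attribute [local instance 100] Fintype.ofFinite
attribute [local instance] subFintype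

variable {Γ : Type u} [Group Γ] [Finite Γ]

/-- Real elements lie in a normal subgroup of odd index and are inverted inside it. -/
theorem real_mem_of_odd_index (K : Subgroup Γ) [K.Normal] (hodd : Odd K.index) (x : Γ)
    (hx : IsConj x x⁻¹) : ∃ hx : x ∈ K, IsConj (⟨x, hx⟩ : K) (⟨x, hx⟩ : K)⁻¹ := by
  obtain ⟨y, hy⟩ := isConj_iff.1 hx
  obtain ⟨j, hj⟩ := hodd
  have hky : y ^ K.index ∈ K := K.pow_index_mem y
  have hkx : y ^ K.index * x * (y ^ K.index)⁻¹ = x⁻¹ := hj ▸ conj_pow_inv hy j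
  have hxK : x ∈ K := by
    rw [← QuotientGroup.eq_one_iff (N := K)]
    refine eq_one_of_isConj_inv ⟨j, ?_⟩ ?_
    · rw [← Subgroup.index_eq_card, hj]
    · rw [← QuotientGroup.mk_inv]
      exact isConj_iff.2 ⟨(y : Γ ⧸ K), by
        rw [← QuotientGroup.mk_inv, ← QuotientGroup.mk_mul, ← QuotientGroup.mk_mul, hy]⟩
  exact ⟨hxK, isConj_iff.2 ⟨⟨y ^ K.index, hky⟩, Subtype.ext hkx⟩⟩

/-- A twist of a constituent of a class function of the group is again a constituent. -/
theorem classInner_res_twist (K : Subgroup Γ) {f : Γ → ℂ} (hf : IsClassFunction Γ f) (θ : K → ℂ)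
    {n : Γ} (hn : n ∈ normalizer (K : Set Γ)) :
    classInner (fun k : K => f k) (fun k => θ (twistEquiv K hn k)) =
      classInner (fun k : K => f k) θ := by
  have h : (fun k : K => f k) = fun k => (fun k : K => f k) (twistEquiv K hn k) :=
    funext fun k => by
      show f k = f (twistEquiv K hn k : Γ)
      rw [coe_twistEquiv]
      exact (hf k n).symm
  conv_lhs => rw [h]
  exact classInner_comp_equiv (twistEquiv K hn) (fun k : K => f k) θ

/-- A real character determines its orbit below, and degrees multiply. -/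
theorem real_over_degree (K : Subgroup Γ) [K.Normal] (hodd : Odd K.index) {χ : IrrCharacter Γ}
    (hχ : IsReal (χ : Γ → ℂ)) {θ : RealIrr K}
    (h : classInner (fun k : K => (χ : Γ → ℂ) k) (θ.1 : K → ℂ) ≠ 0) :
    charDegree (χ : Γ → ℂ) = (inertia K (θ.1 : K → ℂ)).index * charDegree (θ.1 : K → ℂ) := by
  obtain ⟨χ', -, -, hdeg, huniq⟩ :=
    (real_correspondence K hodd (real_mem_of_odd_index K hodd)).2 θ
  rw [huniq χ hχ h]
  exact hdeg

/-- One real character lies over each real character below. -/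
theorem real_over_unique (K : Subgroup Γ) [K.Normal] (hodd : Odd K.index) {χ χ' : IrrCharacter Γ}
    (hχ : IsReal (χ : Γ → ℂ)) (hχ' : IsReal (χ' : Γ → ℂ)) {θ : RealIrr K}
    (h : classInner (fun k : K => (χ : Γ → ℂ) k) (θ.1 : K → ℂ) ≠ 0)
    (h' : classInner (fun k : K => (χ' : Γ → ℂ) k) (θ.1 : K → ℂ) ≠ 0) : χ = χ' := by
  obtain ⟨χ₀, -, -, -, huniq⟩ := (real_correspondence K hodd (real_mem_of_odd_index K hodd)).2 θ
  rw [huniq χ hχ h, huniq χ' hχ' h']

/-- A subgroup of index prime to `p` contains every normal `p`-subgroup. -/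
theorem le_of_not_dvd_index {p : ℕ} [hp : Fact p.Prime] (S I : Subgroup Γ) [S.Normal]
    (hS : IsPGroup p S) (hI : ¬ p ∣ I.index) : S ≤ I := by
  obtain ⟨k, hk⟩ := IsPGroup.iff_card.1 hS
  obtain ⟨j, -, hj⟩ := (Nat.dvd_prime_pow hp.out).1 (hk ▸ relIndex_dvd_card (H := I) (K := S))
  rcases Nat.eq_zero_or_pos j with rfl | hpos
  · exact relIndex_eq_one.1 (by rw [hj, pow_zero])
  · exfalso
    refine hI ((dvd_pow_self p hpos.ne').trans ?_)
    rw [← hj]
    have h1 : I.relIndex S = I.relIndex (I ⊔ S) := by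
      have e2 := card_mul_index (I.subgroupOf (I ⊔ S))
      have e3 := card_mul_index (S.subgroupOf (I ⊔ S))
      have e4 := card_mul_index (I.subgroupOf S)
      have e5 := card_mul_index (S.subgroupOf I)
      rw [Nat.card_congr (subgroupOfEquivOfLe (le_sup_left : I ≤ I ⊔ S)).toEquiv] at e2
      rw [Nat.card_congr (subgroupOfEquivOfLe (le_sup_right : S ≤ I ⊔ S)).toEquiv] at e3
      have e6 : Nat.card (I.subgroupOf S) = Nat.card (S.subgroupOf I) := by
        rw [← inf_subgroupOf_right, ← inf_subgroupOf_right S I,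
          Nat.card_congr (subgroupOfEquivOfLe inf_le_right).toEquiv,
          Nat.card_congr (subgroupOfEquivOfLe inf_le_right).toEquiv, inf_comm]
      have e7 : S.relIndex (I ⊔ S) = S.relIndex I := relIndex_sup_right I S
      rw [relIndex, relIndex] at e7
      rw [e7] at e3
      rw [relIndex, relIndex]
      refine Nat.eq_of_mul_eq_mul_left (Nat.card_pos (α := I)) ?_
      rw [e2, ← e3, ← e5, ← e4, e6]
      ring
    rw [h1]
    exact relIndex_dvd_index_of_le le_sup_left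

variable {p : ℕ} [hp : Fact p.Prime]

/-- The fixed point subgroup on `K / Q`. -/
theorem normalSylowAction_of_sylow (P : Sylow p Γ) (K Q : Subgroup Γ) [hKn : K.Normal]
    [hQn : Q.Normal] (hQK : Q ≤ K) (hQp : IsPGroup p Q) (hQi : ¬ p ∣ Q.relIndex K) :
    NormalSylowAction p (P : Subgroup Γ) K Q
      (K ⊓ normalizer ((P : Subgroup Γ) : Set Γ)) := by
  have hQP : Q ≤ (P : Subgroup Γ) :=
    le_sup_right.trans (P.is_maximal' (P.2.to_sup_of_normal_right hQp) le_sup_left).le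
  have hPK : ∀ y ∈ (P : Subgroup Γ), y ∈ K → y ∈ Q := fun y hy hyK => by
    obtain ⟨k, hk⟩ := P.2 ⟨y, hy⟩
    have h1 : orderOf ((⟨y, hyK⟩ : K) : K ⧸ Q.subgroupOf K) ∣ p ^ k := by
      refine orderOf_dvd_of_pow_eq_one ?_
      rw [← QuotientGroup.mk_pow, show (⟨y, hyK⟩ : K) ^ p ^ k = 1 from
        Subtype.ext (congrArg Subtype.val hk :)]
      rfl
    obtain ⟨j, -, hj⟩ := (Nat.dvd_prime_pow hp.out).1 h1
    rcases Nat.eq_zero_or_pos j with rfl | hpos
    · rw [pow_zero, orderOf_eq_one_iff, QuotientGroup.eq_one_iff] at hj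
      exact hj
    · exact absurd ((dvd_pow_self p hpos.ne').trans (hj ▸ orderOf_dvd_natCard _)) hQi
  refine ⟨P.2, by rw [normalizer_eq_top]; exact le_top, hQK,
    by rw [normalizer_eq_top]; exact le_top, hQp, hQi, fun k => ⟨fun hk => ⟨hk.1, fun x hx => ?_⟩,
      fun hk => ⟨hk.1, ?_⟩⟩⟩
  · refine hPK _ ?_ ?_
    · have := mul_mem hx ((mem_normalizer_iff.1 hk.2 _).1 (inv_mem hx))
      simpa [mul_assoc] using this
    · exact mul_mem (hKn.conj_mem _ hk.1 x) (inv_mem hk.1)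
  · have key : ∀ s ∈ (P : Subgroup Γ), k * s * k⁻¹ ∈ (P : Subgroup Γ) := fun s hs => by
      have h1 := hQP (hk.2 s⁻¹ (inv_mem hs))
      have := mul_mem hs h1
      simpa [mul_assoc] using this
    exact (Sylow.smul_eq_iff_mem_normalizer (g := k) (P := P)).1 (Sylow.ext (Subgroup.eq_of_le_of_card_ge
      (fun z hz => by
        rw [Sylow.coe_subgroup_smul, Subgroup.mem_pointwise_smul_iff_inv_smul_mem] at hz
        have := key _ hz
        simpa [mul_assoc] using this)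
      (le_of_eq ((Sylow.card_eq_multiplicity P).trans
        (Sylow.card_eq_multiplicity (k • P)).symm))))

/-- The bijection. -/
theorem exists_real_bijection (hsolv : Group.IsSolvable (RealPDegree.powGen p Γ))
    (hreal : ∀ χ : IrrCharacter Γ, IsReal (χ : Γ → ℂ) → ¬ p ∣ charDegree (χ : Γ → ℂ))
    (P : Sylow p Γ) :
    ∃ f : {χ : IrrCharacter Γ // IsReal (χ : Γ → ℂ)} →
        {ξ : IrrCharacter ↥(normalizer ((P : Subgroup Γ) : Set Γ)) //
          IsReal (ξ : ↥(normalizer ((P : Subgroup Γ) : Set Γ)) → ℂ) ∧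
            ¬ p ∣ charDegree (ξ : ↥(normalizer ((P : Subgroup Γ) : Set Γ)) → ℂ)},
      Function.Bijective f ∧ ∀ χ,
        ((charDegree ((f χ).1 : ↥(normalizer ((P : Subgroup Γ) : Set Γ)) → ℂ) : ZMod p) =
            (charDegree (χ.1 : Γ → ℂ) : ZMod p) ∨
          (charDegree ((f χ).1 : ↥(normalizer ((P : Subgroup Γ) : Set Γ)) → ℂ) : ZMod p) =
            -(charDegree (χ.1 : Γ → ℂ) : ZMod p)) := by
  classical
  set S : Subgroup Γ := (P : Subgroup Γ) with hSdef
  set N := normalizer (S : Set Γ) with hNdef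
  set K := RealPDegree.powGen 2 Γ
  haveI hKn : K.Normal := RealPDegree.powGen_normal 2
  have hodd : Odd K.index := by
    haveI : Fact (Nat.Prime 2) := ⟨Nat.prime_two⟩
    obtain ⟨T⟩ : Nonempty (Sylow 2 Γ) := inferInstance
    have hTK : (T : Subgroup Γ) ≤ K := fun t ht => by
      obtain ⟨k, hk⟩ := T.2 ⟨t, ht⟩
      exact RealPDegree.mem_powGen Nat.prime_two (k := k) (congrArg Subtype.val hk)
    rw [← Nat.not_even_iff_odd, even_iff_two_dvd]
    exact fun h => T.not_dvd_index (h.trans (Subgroup.index_dvd_of_le hTK))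
  obtain ⟨Q, hQn, hQK, hQp, hQi⟩ := RealPDegree.exists_normal_sylow _ Γ rfl hsolv hreal K hKn le_rfl
    (fun u hu => ⟨0, by rw [pow_zero, pow_one]; exact hu⟩)
  haveI := hQn
  set L : Subgroup Γ := K ⊓ N
  have h : NormalSylowAction p S K Q L := normalSylowAction_of_sylow P K Q hQK hQp hQi
  obtain ⟨hex, hinj, hsurj⟩ := h.exists_correspondence
  set M : Subgroup N := K.subgroupOf N
  have hMn : M.Normal := inferInstanceAs (K.subgroupOf N).Normal
  have hMo : Odd M.index := Odd.of_dvd_nat hodd (relIndex_dvd_index_of_normal (H := K) (K := N))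
  let e : M ≃* L :=
    { toFun := fun m => ⟨((m : N) : Γ), m.2, m.1.2⟩
      invFun := fun l => ⟨⟨(l : Γ), l.2.2⟩, l.2.1⟩
      left_inv := fun _ => rfl
      right_inv := fun _ => rfl
      map_mul' := fun _ _ => rfl }
  have hnK : ∀ n : Γ, n ∈ normalizer (K : Set Γ) := fun n => by
    rw [normalizer_eq_top]; exact mem_top _
  have hnL : ∀ n ∈ N, n ∈ normalizer (L : Set Γ) := fun n hn => by
    have key : ∀ n ∈ N, ∀ y ∈ L, n * y * n⁻¹ ∈ L := fun n hn y hy =>
      Subgroup.mem_inf.2 ⟨hKn.conj_mem y hy.1 n, N.mul_mem (N.mul_mem hn hy.2) (N.inv_mem hn)⟩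
    refine mem_normalizer_iff.2 fun y => ⟨key n hn y, fun h => ?_⟩
    simpa [mul_assoc] using key n⁻¹ (inv_mem hn) _ h
  have hSI : ∀ θ : K → ℂ, IsInvOn S K θ → S ≤ inertia K θ := fun θ hθ s hs =>
    (mem_inertia_iff K).2 fun k => hθ s hs _ _ (by simp [mul_assoc])
  -- an invariant real constituent
  have hA : ∀ χ : IrrCharacter Γ, IsReal (χ : Γ → ℂ) → ∃ θ : RealIrr K,
      IsInvOn S K (θ.1 : K → ℂ) ∧
      classInner (fun k : K => (χ : Γ → ℂ) k) (θ.1 : K → ℂ) ≠ 0 := by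
    intro χ hχ
    obtain ⟨θ, hθ⟩ := (real_correspondence K hodd (real_mem_of_odd_index K hodd)).1 χ hχ
    set I := inertia K (θ.1 : K → ℂ)
    have hI : ¬ p ∣ I.index := fun hd =>
      hreal χ hχ (real_over_degree K hodd hχ hθ ▸ hd.mul_right _)
    obtain ⟨R⟩ : Nonempty (Sylow p I) := inferInstance
    have hRp : IsPGroup p ((R : Subgroup I).map I.subtype) := R.2.map _
    obtain ⟨P₁, hP₁⟩ := hRp.exists_le_sylow
    have hP₁I : (P₁ : Subgroup Γ) ≤ I := by
      have hcard : Nat.card (P₁ : Subgroup Γ) ≤ Nat.card ((R : Subgroup I).map I.subtype) := by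
        rw [Subgroup.card_subtype, Sylow.card_eq_multiplicity, Sylow.card_eq_multiplicity,
          ← I.card_mul_index, Nat.factorization_mul Nat.card_pos.ne' Subgroup.index_ne_zero_of_finite,
          Finsupp.add_apply, Nat.factorization_eq_zero_of_not_dvd hI, add_zero]
      rw [← Subgroup.eq_of_le_of_card_ge hP₁ hcard]
      exact Subgroup.map_subtype_le _
    obtain ⟨g, hg⟩ := MulAction.exists_smul_eq Γ P₁ P
    refine ⟨⟨⟨fun k => (θ.1 : K → ℂ) (twistEquiv K (hnK g⁻¹) k),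
      isIrrCharacter_comp_equiv _ θ.1.2⟩, fun k => θ.2 _⟩, fun s hs k k' hk => ?_, ?_⟩
    · have hs' : g⁻¹ * s * g ∈ I := hP₁I (by
        have : s ∈ ((g • P₁ : Sylow p Γ) : Subgroup Γ) := by rw [hg]; exact hs
        rw [Sylow.coe_subgroup_smul, Subgroup.mem_pointwise_smul_iff_inv_smul_mem] at this
        simpa [mul_assoc] using this)
      show (θ.1 : K → ℂ) _ = (θ.1 : K → ℂ) _
      refine Eq.trans (congrArg θ.1.1 (Subtype.ext ?_)) ((mem_inertia_iff K).1 hs' _)
      simp only [coe_twistEquiv, hk]; push_cast; group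
    · show classInner _ (fun k => (θ.1 : K → ℂ) (twistEquiv K (hnK g⁻¹) k)) ≠ 0
      rw [classInner_res_twist K χ.2.isClassFunction]
      exact hθ
  -- the correspondent, transported to the normalizer
  have hB : ∀ θ : RealIrr K, IsInvOn S K (θ.1 : K → ℂ) → ∃ φ : RealIrr M,
      IsInvOn S L (fun l => (φ.1 : M → ℂ) (e.symm l)) ∧
      NormalSylowAction.IsGood S L p h.hCK (θ.1 : K → ℂ) (fun l => (φ.1 : M → ℂ) (e.symm l)) := by
    intro θ hθ
    obtain ⟨φ, hφ, hφi, hφg⟩ := hex _ θ.1.2 hθ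
    have hreal' : ∀ l, conj (φ l) = φ l := by
      have h1 := IsGood.conj' h.hCK hφg
      simp only [θ.2 _] at h1
      exact congrFun (h.isGood_unique (isIrrCharacter_conjFn hφ)
        (fun s hs l l' hl => congrArg conj (hφi s hs l l' hl)) hφg h1)
    refine ⟨⟨⟨fun m => φ (e m), isIrrCharacter_comp_equiv e hφ⟩, fun m => hreal' _⟩, ?_, ?_⟩
    · simpa using hφi
    · simpa using hφg
  -- the inertia group of the correspondent
  have hC : ∀ (θ : RealIrr K) (φ : RealIrr M), IsInvOn S K (θ.1 : K → ℂ) →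
      IsInvOn S L (fun l => (φ.1 : M → ℂ) (e.symm l)) →
      NormalSylowAction.IsGood S L p h.hCK (θ.1 : K → ℂ) (fun l => (φ.1 : M → ℂ) (e.symm l)) →
      inertia M (φ.1 : M → ℂ) = (inertia K (θ.1 : K → ℂ)).subgroupOf N := by
    intro θ φ hθ hφ hg
    ext n
    have hnS : ∀ t ∈ S, (n : Γ) * t * (n : Γ)⁻¹ ∈ S := fun t ht => (mem_normalizer_iff.1 n.2 t).1 ht
    have h1 := IsGood.twist h.hCK hg (hnK n) (hnL n n.2) n.2
    have hθt := isIrrCharacter_comp_equiv (twistEquiv K (hnK (n : Γ))) θ.1.2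
    have hθti := hθ.comp_twist hnS (hnK (n : Γ))
    have hφ' : IsIrrCharacter L fun l => (φ.1 : M → ℂ) (e.symm l) :=
      isIrrCharacter_comp_equiv e.symm φ.1.2
    rw [mem_subgroupOf, mem_inertia_iff, mem_inertia_iff]
    constructor
    · intro hn k
      refine Eq.trans ?_ (congrFun (hinj _ _ _ hθt hθti θ.1.2 hθ hφ' hφ ?_ hg) k)
      · exact congrArg θ.1.1 (Subtype.ext (by simp [coe_twistEquiv]))
      · have e1 : (fun l => (φ.1 : M → ℂ) (e.symm (twistEquiv L (hnL n n.2) l))) =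
            fun l => (φ.1 : M → ℂ) (e.symm l) := funext fun l =>
          (congrArg φ.1.1 (Subtype.ext (Subtype.ext (by simp [e, coe_twistEquiv])))).trans (hn (e.symm l))
        rw [← e1]
        exact h1
    · intro hn m
      have e1 : (fun k => (θ.1 : K → ℂ) (twistEquiv K (hnK (n : Γ)) k)) = (θ.1 : K → ℂ) :=
        funext fun k => (congrArg θ.1.1 (Subtype.ext (by simp [coe_twistEquiv]))).trans (hn k)
      rw [e1] at h1
      have := congrFun (h.isGood_unique (isIrrCharacter_comp_equiv _ hφ')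
        (hφ.comp_twist hnS (hnL n n.2)) hg h1) (e m)
      refine Eq.trans (congrArg φ.1.1 (Subtype.ext (Subtype.ext ?_))) this
      simp [e, coe_twistEquiv]
  have hdeg : ∀ (χ : IrrCharacter Γ) (θ : RealIrr K) (φ : RealIrr M) (ξ : IrrCharacter N),
      IsReal (χ : Γ → ℂ) → IsReal (ξ : N → ℂ) → IsInvOn S K (θ.1 : K → ℂ) →
      IsInvOn S L (fun l => (φ.1 : M → ℂ) (e.symm l)) →
      NormalSylowAction.IsGood S L p h.hCK (θ.1 : K → ℂ) (fun l => (φ.1 : M → ℂ) (e.symm l)) →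
      classInner (fun k : K => (χ : Γ → ℂ) k) (θ.1 : K → ℂ) ≠ 0 →
      classInner (fun m : M => (ξ : N → ℂ) m) (φ.1 : M → ℂ) ≠ 0 →
      ((charDegree (ξ : N → ℂ) : ZMod p) = (charDegree (χ : Γ → ℂ) : ZMod p) ∨
        (charDegree (ξ : N → ℂ) : ZMod p) = -(charDegree (χ : Γ → ℂ) : ZMod p)) := by
    intro χ θ φ ξ hχ hξ hθ hφ hg hc hc'
    rw [real_over_degree K hodd hχ hc, real_over_degree M hMo hξ hc', hC θ φ hθ hφ hg,
      Nat.cast_mul, Nat.cast_mul, index_modEq P (hSI _ hθ)]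
    have e1 : charDegree (φ.1 : M → ℂ) = charDegree fun l => (φ.1 : M → ℂ) (e.symm l) := by
      simp [charDegree]
    rcases hg.2 with h2 | h2
    · left; rw [e1, h2]
    · right; rw [e1, h2, mul_neg]
  choose θ₀ hθi hθc using fun χ : {χ : IrrCharacter Γ // IsReal (χ : Γ → ℂ)} => hA χ.1 χ.2
  choose φ₀ hφi hφg using fun χ => hB (θ₀ χ) (hθi χ)
  choose ξ₀ hξr hξc _ _ using fun χ =>
    (real_correspondence M hMo (real_mem_of_odd_index M hMo)).2 (φ₀ χ)
  have hdeg₀ := fun χ : {χ : IrrCharacter Γ // IsReal (χ : Γ → ℂ)} =>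
    hdeg χ.1 (θ₀ χ) (φ₀ χ) (ξ₀ χ) χ.2 (hξr χ) (hθi χ) (hφi χ) (hφg χ) (hθc χ) (hξc χ)
  have hnd : ∀ χ, ¬ p ∣ charDegree (ξ₀ χ : N → ℂ) := fun χ hd => by
    refine hreal χ.1 χ.2 ?_
    rw [← ZMod.natCast_eq_zero_iff] at hd ⊢
    rcases hdeg₀ χ with h2 | h2 <;> rw [hd] at h2
    · exact h2.symm
    · exact neg_eq_zero.1 h2.symm
  refine ⟨fun χ => ⟨ξ₀ χ, hξr χ, hnd χ⟩, ⟨fun χ₁ χ₂ h12 => ?_, fun ξ => ?_⟩, hdeg₀⟩
  · -- injectivity
    have h12' : ξ₀ χ₁ = ξ₀ χ₂ := congrArg Subtype.val h12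
    have hc₁ := hξc χ₁
    rw [h12'] at hc₁
    obtain ⟨n, hn⟩ := (mem_twistOrbit M).1 (mem_twistOrbit_of_constituent M (ξ₀ χ₂).2
      (φ₀ χ₁).1.2 (φ₀ χ₂).1.2 (by convert hc₁) (by convert hξc χ₂))
    have hnS : ∀ t ∈ S, (n : Γ) * t * (n : Γ)⁻¹ ∈ S := fun t ht => (mem_normalizer_iff.1 n.2 t).1 ht
    have h1 := IsGood.twist h.hCK (hφg χ₁) (hnK n) (hnL n n.2) n.2
    have e1 : (fun l => ((φ₀ χ₁).1 : M → ℂ) (e.symm (twistEquiv L (hnL n n.2) l))) =
        fun l => ((φ₀ χ₂).1 : M → ℂ) (e.symm l) := funext fun l =>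
      (congrArg (φ₀ χ₁).1.1 (Subtype.ext (Subtype.ext (by simp [e, coe_twistEquiv])))).trans
        (congrFun hn (e.symm l))
    rw [e1] at h1
    have h2 := hinj _ _ _ (isIrrCharacter_comp_equiv _ (θ₀ χ₁).1.2)
      ((hθi χ₁).comp_twist hnS (hnK (n : Γ))) (θ₀ χ₂).1.2 (hθi χ₂)
      (isIrrCharacter_comp_equiv e.symm (φ₀ χ₂).1.2) (hφi χ₂) h1 (hφg χ₂)
    refine Subtype.ext (real_over_unique K hodd χ₁.2 χ₂.2 ?_ (hθc χ₂))
    rw [← h2, classInner_res_twist K χ₁.1.2.isClassFunction]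
    exact hθc χ₁
  · -- surjectivity
    obtain ⟨ξ, hξ, hξp⟩ := ξ
    obtain ⟨φ, hφ⟩ := (real_correspondence M hMo (real_mem_of_odd_index M hMo)).1 ξ hξ
    have hd := real_over_degree M hMo hξ hφ
    have hφI : S.subgroupOf N ≤ inertia M (φ.1 : M → ℂ) := by
      haveI : (S.subgroupOf N).Normal := normal_subgroupOf_of_le_normalizer le_rfl
      refine le_of_not_dvd_index (p := p) _ _ ?_ fun hdv => hξp (hd ▸ hdv.mul_right _)
      exact P.2.comap_of_injective N.subtype N.subtype_injective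
    have hφi' : IsInvOn S L fun l => (φ.1 : M → ℂ) (e.symm l) := fun s hs l l' hl => by
      have hsN : s ∈ N := Subgroup.le_normalizer hs
      refine Eq.trans (congrArg φ.1.1 (Subtype.ext (Subtype.ext ?_)))
        ((mem_inertia_iff M).1 (hφI (x := ⟨s, hsN⟩) hs) (e.symm l))
      simp [e, hl]
    obtain ⟨θ, hθ, hθI, hθg⟩ := hsurj _ (isIrrCharacter_comp_equiv e.symm φ.1.2) hφi'
    have hθr : ∀ k, conj (θ k) = θ k := by
      have h1 := IsGood.conj' h.hCK hθg
      simp only [φ.2 _] at h1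
      exact congrFun (hinj _ _ _ (isIrrCharacter_conjFn hθ)
        (fun s hs k k' hk => congrArg conj (hθI s hs k k' hk)) hθ hθI
        (isIrrCharacter_comp_equiv e.symm φ.1.2) hφi' h1 hθg)
    let θ' : RealIrr K := ⟨⟨θ, hθ⟩, hθr⟩
    obtain ⟨χ, hχ, hχc, -, -⟩ :=
      (real_correspondence K hodd (real_mem_of_odd_index K hodd)).2 θ'
    refine ⟨⟨χ, hχ⟩, Subtype.ext ?_⟩
    set χ' : {χ : IrrCharacter Γ // IsReal (χ : Γ → ℂ)} := ⟨χ, hχ⟩
    obtain ⟨g, hg⟩ := (mem_twistOrbit K).1 (mem_twistOrbit_of_constituent K χ.2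
      θ'.1.2 (θ₀ χ').1.2 (by convert hχc) (by convert hθc χ'))
    have hgI : ∀ s ∈ S, g * s * g⁻¹ ∈ inertia K (θ'.1 : K → ℂ) := fun s hs => by
      refine (mem_inertia_iff K).2 fun k => ?_
      have hk' : g⁻¹ * (k : Γ) * g ∈ K := by
        simpa using hKn.conj_mem _ k.2 g⁻¹
      have h1 := hθi χ' s hs ⟨_, hk'⟩
        ⟨s * (g⁻¹ * (k : Γ) * g) * s⁻¹, hKn.conj_mem _ hk' s⟩ rfl
      rw [← congrFun hg, ← congrFun hg] at h1
      refine Eq.trans (congrArg θ'.1.1 (Subtype.ext ?_))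
        (h1.trans (congrArg θ'.1.1 (Subtype.ext ?_))) <;> simp [mul_assoc]
    obtain ⟨i, hi, hn⟩ := exists_inv_mul_mem_normalizer P (hSI _ hθI) hgI
    set n : Γ := i⁻¹ * g with hndef
    have hnS : ∀ t ∈ S, n * t * n⁻¹ ∈ S := fun t ht => (mem_normalizer_iff.1 hn t).1 ht
    have e1 : (fun k => θ (twistEquiv K (hnK n) k)) = ((θ₀ χ').1 : K → ℂ) := by
      funext k
      rw [← congrFun hg]
      refine Eq.trans ?_ (((mem_inertia_iff K).1 hi (twistEquiv K (hnK n) k)).trans rfl) |>.symm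
      exact congrArg θ (Subtype.ext (by simp [coe_twistEquiv, hndef, mul_assoc]))
    have h1 := IsGood.twist h.hCK hθg (hnK n) (hnL n hn) hn
    rw [e1] at h1
    have h2 := h.isGood_unique (isIrrCharacter_comp_equiv _ (isIrrCharacter_comp_equiv e.symm φ.1.2))
      (hφi'.comp_twist hnS (hnL n hn)) (hφg χ') h1
    refine real_over_unique M hMo (hξr χ') hξ (θ := φ₀ χ') (hξc χ') ?_
    have hnM : (⟨n, hn⟩ : N) ∈ normalizer (M : Set N) := by rw [normalizer_eq_top]; exact mem_top _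
    have h3 : ((φ₀ χ').1 : M → ℂ) = fun m => (φ.1 : M → ℂ) (twistEquiv M hnM m) := by
      funext m
      refine Eq.trans ?_ ((congrFun h2 (e m)).symm.trans (congrArg φ.1.1 ?_))
      · simp
      · exact Subtype.ext (Subtype.ext (by simp [e, coe_twistEquiv]))
    rw [h3, classInner_res_twist M ξ.2.isClassFunction]
    exact hφ

end Cfsg.Lib.Char.RealClassNormalizer
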