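import Cfsg.Agent.Lib.Char.RealOver
import Cfsg.Agent.Lib.Core.PSolvable
import Cfsg.Agent.Lib.PGroup.Basic

/-!
# Real characters of degree prime to `p`
-/

set_option autoImplicit false
set_option linter.unusedSectionVars false
set_option linter.style.haveILetI false

namespace Cfsg.Lib.Char.RealPDegree

open Cfsg Cfsg.Lib Subgroup
open Cfsg.Lib.Char.RealOdd (IsReal)
open scoped commutatorElement Pointwise

universe u

/-- The subgroup generated by the elements of `r`-power order. -/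
abbrev powGen (r : ℕ) (G : Type u) [Group G] : Subgroup G :=
  Subgroup.closure {g : G | ∃ k : ℕ, orderOf g = r ^ k}

variable {G : Type u} [Group G]

theorem powGen_normal (r : ℕ) : (powGen r G).Normal := by
  refine ⟨fun x hx g => ?_⟩
  induction hx using Subgroup.closure_induction with
  | mem y hy =>
    obtain ⟨k, hk⟩ := hy
    exact Subgroup.subset_closure ⟨k, (MulAut.conj g).orderOf_eq y ▸ hk⟩
  | one => simp
  | mul a b _ _ ha hb => simpa [mul_assoc] using mul_mem ha hb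
  | inv a _ ha => simpa [mul_assoc] using inv_mem ha

theorem mem_powGen {r : ℕ} (hr : r.Prime) {g : G} {k : ℕ} (h : g ^ r ^ k = 1) : g ∈ powGen r G :=
  let ⟨j, _, hj⟩ := (Nat.dvd_prime_pow hr).1 (orderOf_dvd_of_pow_eq_one h)
  Subgroup.subset_closure ⟨j, hj⟩

theorem powGen_quotient_le [Finite G] {r : ℕ} (hr : r.Prime) (N : Subgroup G) [N.Normal] :
    powGen r (G ⧸ N) ≤ (powGen r G).map (QuotientGroup.mk' N) := by
  refine (Subgroup.closure_le _).2 ?_
  rintro q ⟨k, hk⟩
  obtain ⟨x, rfl⟩ := QuotientGroup.mk'_surjective N q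
  obtain ⟨j, m, hm, hx⟩ := Nat.exists_eq_pow_mul_and_not_dvd (orderOf_pos x).ne' r hr.ne_one
  have hcop : Nat.Coprime m (orderOf (QuotientGroup.mk' N x)) := by
    rw [hk]; exact ((hr.coprime_iff_not_dvd.2 hm).symm).pow_right k
  obtain ⟨i, hi⟩ := exists_pow_eq_self_of_coprime hcop
  refine ⟨(x ^ m) ^ i, pow_mem (mem_powGen hr (k := j) ?_) i, ?_⟩
  · rw [← pow_mul, mul_comm, ← hx, pow_orderOf_eq_one]
  · rw [map_pow, map_pow]; exact hi

/-- A 2-element not centralizing `M` has a power acting on `M` with order two. -/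
theorem exists_flip {M : Subgroup G} : ∀ (k : ℕ) (g : G), g ^ 2 ^ k = 1 →
    (∃ n ∈ M, g * n * g⁻¹ ≠ n) →
    ∃ t : G, (∃ n ∈ M, t * n * t⁻¹ ≠ n) ∧ ∀ n ∈ M, t * (t * n * t⁻¹) * t⁻¹ = n := by
  intro k
  induction k with
  | zero =>
    intro g hg ⟨n, _, hne⟩
    rw [pow_zero, pow_one] at hg
    exact absurd (by simp [hg]) hne
  | succ k ih =>
    intro g hg hne
    by_cases h : ∃ n ∈ M, g ^ 2 * n * (g ^ 2)⁻¹ ≠ n
    · exact ih (g ^ 2) (by rw [← pow_mul, mul_comm, ← pow_succ, hg]) h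
    push Not at h
    refine ⟨g, hne, fun n hn => ?_⟩
    conv_rhs => rw [← h n hn, pow_two]
    group

/-- A linear character inverted by an involutory automorphism. -/
theorem exists_linear_flip [Finite G] (M : Subgroup G) [hM : M.Normal] (t : G)
    (ht2 : ∀ n ∈ M, t * (t * n * t⁻¹) * t⁻¹ = n)
    (hne : ∃ n : M, ⟨t * n * t⁻¹, hM.conj_mem n n.2 t⟩ * n⁻¹ ∉ commutator M) :
    ∃ l : M →* ℂˣ, l ≠ 1 ∧ ∀ n : M, l ⟨t * n * t⁻¹, hM.conj_mem n n.2 t⟩ = (l n)⁻¹ := by
  classical
  obtain ⟨n₀, hn₀⟩ := hne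
  haveI : Finite (Abelianization M) := Quotient.finite _
  haveI : NeZero (Monoid.exponent (Abelianization M)) :=
    ⟨Monoid.exponent_ne_zero_of_finite⟩
  have h1 : Abelianization.of (⟨t * n₀ * t⁻¹, hM.conj_mem n₀ n₀.2 t⟩ * n₀⁻¹) ≠ 1 := fun h =>
    hn₀ (Abelianization.ker_of M ▸ (MonoidHom.mem_ker.2 h))
  obtain ⟨μ, hμ⟩ := CommGroup.exists_apply_ne_one_of_hasEnoughRootsOfUnity
    (Abelianization M) ℂ h1
  refine ⟨MonoidHom.mk' (fun n => μ (Abelianization.of ⟨t * n * t⁻¹, hM.conj_mem n n.2 t⟩) *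
      (μ (Abelianization.of n))⁻¹) fun a b => ?_, fun h => hμ ?_, fun n => ?_⟩
  · rw [mul_mul_mul_comm, ← mul_inv, ← map_mul μ, ← map_mul μ, ← map_mul, ← map_mul]
    congr 3
    exact Subtype.ext (by simp [mul_assoc])
  · rw [map_mul, map_mul, map_inv, map_inv]
    exact DFunLike.congr_fun h n₀
  · show μ (Abelianization.of ⟨t * (t * n * t⁻¹) * t⁻¹, _⟩) * _ = _
    rw [MonoidHom.mk'_apply, mul_inv, inv_inv, mul_comm]
    congr 1
    exact congrArg (fun m : M => μ (Abelianization.of m)) (Subtype.ext (ht2 n n.2))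

/-- An involutory automorphism of a `p`-group of odd order moves the abelianization. -/
theorem exists_moved_mod_commutator [Finite G] {p : ℕ} [hp : Fact p.Prime] (hp2 : p ≠ 2)
    (M : Subgroup G) [hM : M.Normal] (hMp : IsPGroup p M) (t : G)
    (ht : ∃ n ∈ M, t * n * t⁻¹ ≠ n) (ht2 : ∀ n ∈ M, t * (t * n * t⁻¹) * t⁻¹ = n) :
    ∃ n : M, ⟨t * n * t⁻¹, hM.conj_mem n n.2 t⟩ * n⁻¹ ∉ commutator M := by
  by_contra hall
  push Not at hall
  let σ : M →* M := (MulAut.conjNormal t : MulAut M).toMonoidHom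
  have hσ : ∀ n : M, σ n = ⟨t * n * t⁻¹, hM.conj_mem n n.2 t⟩ :=
    fun n => Subtype.ext (MulAut.conjNormal_apply t n)
  have hσ2 : ∀ n : M, σ (σ n) = n := fun n => by
    rw [hσ, hσ]; exact Subtype.ext (ht2 n n.2)
  let C : Subgroup M := σ.eqLocus (MonoidHom.id M)
  have hC : C = ⊤ := by
    refine frattini_nongenerating (top_unique fun n _ => ?_)
    set m : M := n⁻¹ * σ n with hm
    have hmD : m ∈ commutator M := by
      have h := (inferInstance : (commutator M).Normal).conj_mem _ (hall n) n⁻¹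
      rw [← hσ] at h
      simpa [hm, mul_assoc] using h
    have hσm : σ m = m⁻¹ := by simp [hm, hσ2]
    obtain ⟨e, he⟩ := IsPGroup.iff_card.1 hMp
    have hcard : Odd (orderOf m) :=
      ((hp.out.odd_of_ne_two hp2).pow (n := e)).of_dvd_nat (he ▸ orderOf_dvd_natCard m)
    obtain ⟨d, hd⟩ := hcard
    set s := m ^ (d + 1) with hs
    have hss : s * s = m := by
      rw [hs, ← pow_add, show d + 1 + (d + 1) = orderOf m + 1 by omega, pow_succ,
        pow_orderOf_eq_one, one_mul]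
    have hσs : σ s = s⁻¹ := by rw [hs, map_pow, hσm, inv_pow]
    have hfix : n * s ∈ C := by
      show σ (n * s) = n * s
      have hn : σ n = n * m := by rw [hm, mul_inv_cancel_left]
      rw [map_mul, hσs, hn, ← hss, ← mul_assoc, mul_inv_cancel_right]
    have hsD : s ∈ frattini M := PGroup.commutator_le_frattini hMp (pow_mem hmD _)
    have := Subgroup.mul_mem_sup hfix (inv_mem hsD)
    rwa [mul_inv_cancel_right] at this
  obtain ⟨n, hn, hne⟩ := ht
  have h := (Subgroup.mem_top (⟨n, hn⟩ : M))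
  rw [← hC] at h
  have h' : σ ⟨n, hn⟩ = ⟨n, hn⟩ := h
  rw [hσ] at h'
  exact hne (congrArg Subtype.val h')

variable [Finite G] {p : ℕ} [hp : Fact p.Prime]

attribute [local instance 100] Fintype.ofFinite

theorem dvd_inertia_index (N : Subgroup G) [hN : N.Normal] {P : Subgroup G} (hP : IsPGroup p P)
    (hNP : ⁅N, P⁆ = N) (l : N →* ℂˣ) (hl : l ≠ 1) :
    p ∣ (inertia N (fun x : N => (l x : ℂ))).index := by
  by_contra hnd
  set T := inertia N (fun x : N => (l x : ℂ)) with hT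
  obtain ⟨Q₀⟩ : Nonempty (Sylow p T) := inferInstance
  set Q : Subgroup G := (Q₀ : Subgroup T).map T.subtype with hQ
  have hQi : ¬ p ∣ Q.index := by
    rw [hQ, Subgroup.index_map_subtype]
    exact fun h => (hp.out.dvd_mul.1 h).elim Q₀.not_dvd_index hnd
  let QS : Sylow p G := (Q₀.isPGroup'.map T.subtype).toSylow hQi
  obtain ⟨P', hP'⟩ := hP.exists_le_sylow
  obtain ⟨x, hx⟩ := MulAction.exists_smul_eq G P' QS
  have hxP : ∀ y ∈ P, x * y * x⁻¹ ∈ T := fun y hy => by
    have h1 : MulAut.conj x y ∈ (x • P' : Sylow p G) :=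
      (Sylow.smul_def (g := x) (P := P')).symm ▸ ⟨y, hP' hy, rfl⟩
    rw [hx] at h1
    exact Subgroup.map_subtype_le (Q₀ : Subgroup T) h1
  let W : Subgroup G :=
    { carrier := {n | ∃ h : n ∈ N, l ⟨x * n * x⁻¹, hN.conj_mem n h x⟩ = 1}
      one_mem' := ⟨N.one_mem, by
        rw [show (⟨x * 1 * x⁻¹, hN.conj_mem 1 N.one_mem x⟩ : N) = 1 from Subtype.ext (by simp),
          map_one]⟩
      mul_mem' := fun {a b} ⟨ha, ha'⟩ ⟨hb, hb'⟩ => ⟨N.mul_mem ha hb, by
        rw [show (⟨x * (a * b) * x⁻¹, hN.conj_mem _ (N.mul_mem ha hb) x⟩ : N) =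
          ⟨x * a * x⁻¹, hN.conj_mem a ha x⟩ * ⟨x * b * x⁻¹, hN.conj_mem b hb x⟩ from
          Subtype.ext (by simp [mul_assoc]), map_mul, ha', hb', one_mul]⟩
      inv_mem' := fun {a} ⟨ha, ha'⟩ => ⟨N.inv_mem ha, by
        rw [show (⟨x * a⁻¹ * x⁻¹, hN.conj_mem _ (N.inv_mem ha) x⟩ : N) =
          ⟨x * a * x⁻¹, hN.conj_mem a ha x⟩⁻¹ from
          Subtype.ext (by simp [mul_assoc]), map_inv, ha', inv_one]⟩ }
  have hle : ⁅N, P⁆ ≤ W := Subgroup.commutator_le.2 fun a ha b hb => by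
    have h1 : ⁅a, b⁆ ∈ N := Subgroup.commutator_le_left N P (Subgroup.commutator_mem_commutator ha hb)
    refine ⟨h1, ?_⟩
    set a' : N := ⟨x * a * x⁻¹, hN.conj_mem a ha x⟩ with ha'
    have hT' := (RealOver.mem_inertia_linear l _).1 (hxP b hb) a'⁻¹
    have e : (⟨x * ⁅a, b⁆ * x⁻¹, hN.conj_mem _ h1 x⟩ : N) =
        a' * ⟨(x * b * x⁻¹) * (a'⁻¹ : N) * (x * b * x⁻¹)⁻¹, hN.conj_mem _ (a'⁻¹).2 _⟩ :=
      Subtype.ext (by simp [ha', commutatorElement_def, mul_assoc])
    rw [e, map_mul, hT', map_inv, mul_inv_cancel]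
  refine hl (MonoidHom.ext fun n => ?_)
  obtain ⟨h, h'⟩ := hle (hNP.ge (hN.conj_mem n n.2 x⁻¹))
  rw [show (⟨x * (x⁻¹ * n * x⁻¹⁻¹) * x⁻¹, hN.conj_mem _ h x⟩ : N) = n from
    Subtype.ext (by simp [mul_assoc])] at h'
  exact h'

theorem exists_normal_sylow : ∀ (n : ℕ) (G : Type u) [Group G] [Finite G], Nat.card G = n →
    Group.IsSolvable (powGen p G) →
    (∀ χ : IrrCharacter G, IsReal (χ : G → ℂ) → ¬ p ∣ charDegree (χ : G → ℂ)) →
    ∀ U : Subgroup G, U.Normal → powGen 2 G ≤ U → (∀ u ∈ U, ∃ k : ℕ, u ^ p ^ k ∈ powGen 2 G) →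
    ∃ P : Subgroup G, P.Normal ∧ P ≤ U ∧ IsPGroup p P ∧ ¬ p ∣ P.relIndex U := by
  intro n
  induction n using Nat.strong_induction_on with
  | _ n ih =>
  intro G _ _ hn hsolv hreal U hU hKU hUK
  by_cases hUbot : U = ⊥
  · refine ⟨⊥, inferInstance, bot_le, IsPGroup.of_bot, ?_⟩
    rw [hUbot, Subgroup.relIndex_self]
    exact hp.out.not_dvd_one
  obtain ⟨N, hN, hNU⟩ := Core.exists_isMinNormal hU hUbot
  haveI := hN.1
  have hcard : Nat.card (G ⧸ N) < n := by
    have h := N.card_eq_card_quotient_mul_card_subgroup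
    have h2 : 1 < Nat.card N := N.one_lt_card_iff_ne_bot.2 hN.2.1
    have h3 : 0 < Nat.card (G ⧸ N) := Nat.card_pos
    rw [hn] at h; nlinarith
  obtain ⟨Pb, hPbn, hPbU, hPbp, hPbi⟩ := ih _ hcard (G ⧸ N) rfl (by
      haveI := hsolv
      haveI : Group.IsSolvable ((powGen p G).map (QuotientGroup.mk' N)) :=
        Group.isSolvable_of_surjective ((QuotientGroup.mk' N).subgroupMap_surjective (powGen p G))
      exact Group.isSolvable_of_isSolvable_injective
        (f := Subgroup.inclusion (powGen_quotient_le hp.out N)) (Subgroup.inclusion_injective _))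
    (fun χ hχ => by
      have := hreal ⟨fun g => (χ : G ⧸ N → ℂ) g, isIrrCharacter_inflate N χ.2⟩ (fun g => hχ _)
      simpa [charDegree] using this)
    (U.map (QuotientGroup.mk' N)) (hU.map _ (QuotientGroup.mk'_surjective N))
    ((powGen_quotient_le Nat.prime_two N).trans (Subgroup.map_mono hKU)) (by
      rintro _ ⟨u, hu, rfl⟩
      obtain ⟨k, hk⟩ := hUK u hu
      have h1 : (QuotientGroup.mk' N) (u ^ p ^ k) ∈ powGen 2 (G ⧸ N) := by
        have h2 : (powGen 2 G).map (QuotientGroup.mk' N) ≤ powGen 2 (G ⧸ N) := by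
          rw [MonoidHom.map_closure]
          refine Subgroup.closure_mono ?_
          rintro _ ⟨y, ⟨j, hj⟩, rfl⟩
          obtain ⟨i, -, hi⟩ := (Nat.dvd_prime_pow Nat.prime_two).1
            (hj ▸ orderOf_map_dvd (QuotientGroup.mk' N) y)
          exact ⟨i, hi⟩
        exact h2 ⟨_, hk, rfl⟩
      exact ⟨k, by rwa [map_pow] at h1⟩)
  set R := Pb.comap (QuotientGroup.mk' N) with hR
  haveI hRn : R.Normal := hPbn.comap _
  have hNR : N ≤ R := fun x hx => by
    show QuotientGroup.mk' N x ∈ Pb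
    rw [show QuotientGroup.mk' N x = 1 from (QuotientGroup.eq_one_iff x).2 hx]
    exact Pb.one_mem
  have hRU : R ≤ U := by
    refine (Subgroup.comap_mono hPbU).trans ?_
    rw [Subgroup.comap_map_eq, QuotientGroup.ker_mk']
    exact sup_le le_rfl hNU
  have hRi : ¬ p ∣ R.relIndex U := by rw [hR, Subgroup.relIndex_comap]; exact hPbi
  have hRpow : ∀ x ∈ R, ∃ k, x ^ p ^ k ∈ N := fun x hx => by
    obtain ⟨k, hk⟩ := hPbp ⟨QuotientGroup.mk' N x, hx⟩
    refine ⟨k, (QuotientGroup.eq_one_iff _).1 ?_⟩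
    exact congrArg Subtype.val hk
  have hfin : ∀ P : Subgroup G, P.Normal → IsPGroup p P → P ≤ R → ¬ p ∣ P.relIndex R →
      ∃ P : Subgroup G, P.Normal ∧ P ≤ U ∧ IsPGroup p P ∧ ¬ p ∣ P.relIndex U :=
    fun P hPn hPp hPR hPi => ⟨P, hPn, hPR.trans hRU, hPp, by
      rw [← Subgroup.relIndex_mul_relIndex P R U hPR hRU]
      exact fun h => (hp.out.dvd_mul.1 h).elim hPi hRi⟩
  obtain ⟨P₀⟩ : Nonempty (Sylow p R) := inferInstance
  set P : Subgroup G := (P₀ : Subgroup R).map R.subtype with hP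
  have hPp : IsPGroup p P := P₀.isPGroup'.map _
  have hPR : P ≤ R := Subgroup.map_subtype_le _
  have hPi : ¬ p ∣ P.relIndex R := by
    rw [Subgroup.relIndex, hP, Subgroup.subgroupOf,
      Subgroup.comap_map_eq_self_of_injective R.subtype_injective]
    exact P₀.not_dvd_index
  have hPH : P ≤ powGen p G := fun x hx => by
    obtain ⟨k, hk⟩ := hPp ⟨x, hx⟩
    exact mem_powGen hp.out (congrArg Subtype.val hk)
  haveI := powGen_normal (G := G) p
  rcases hN.inf_eq_bot_or_le (powGen p G) with hNH | hNH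
  · refine hfin (R ⊓ powGen p G) inferInstance ?_ inf_le_left fun h => hPi (h.trans
      (Subgroup.relIndex_dvd_of_le_left R (le_inf hPR hPH)))
    rintro ⟨x, hxR, hxH⟩
    obtain ⟨k, hk⟩ := hRpow x hxR
    refine ⟨k, Subtype.ext ?_⟩
    have : x ^ p ^ k ∈ N ⊓ powGen p G := ⟨hk, pow_mem hxH _⟩
    rw [hNH, Subgroup.mem_bot] at this
    simpa using this
  haveI := hsolv
  have hNsolv : Group.IsSolvable N :=
    Group.isSolvable_of_isSolvable_injective (f := Subgroup.inclusion hNH)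
      (Subgroup.inclusion_injective _)
  obtain ⟨hNc, r, hr, hrexp, -⟩ := Core.minimal_solvable_elementary hN hNsolv
  haveI := Fact.mk hr
  by_cases hrp : r = p
  · subst hrp
    refine hfin R hRn (fun x => ?_) le_rfl (by rw [Subgroup.relIndex_self]; exact hp.out.not_dvd_one)
    obtain ⟨k, hk⟩ := hRpow x x.2
    refine ⟨k + 1, Subtype.ext ?_⟩
    rw [SubmonoidClass.coe_pow, OneMemClass.coe_one, pow_succ, pow_mul]
    exact hrexp _ hk
  set C := Subgroup.normalizer (P : Set G) with hC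
  have hfr : C ⊔ N = ⊤ := by
    have hNP : R ≤ N ⊔ P := by
      rw [← Subgroup.relIndex_eq_one]
      haveI : (N.subgroupOf R).Normal := Subgroup.Normal.subgroupOf inferInstance R
      have hq : IsPGroup p (R ⧸ N.subgroupOf R) := fun q => by
        obtain ⟨x, rfl⟩ := QuotientGroup.mk_surjective q
        obtain ⟨k, hk⟩ := hRpow x x.2
        refine ⟨k, ?_⟩
        rw [← QuotientGroup.mk_pow, QuotientGroup.eq_one_iff, Subgroup.mem_subgroupOf]
        simpa using hk
      obtain ⟨e, he⟩ := IsPGroup.iff_card.1 hq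
      have h1 : (N ⊔ P).relIndex R ∣ p ^ e :=
        he ▸ Subgroup.relIndex_dvd_of_le_left R le_sup_left
      obtain ⟨i, -, hi⟩ := (Nat.dvd_prime_pow hp.out).1 h1
      rcases Nat.eq_zero_or_pos i with rfl | hi0
      · exact hi
      · exact absurd ((dvd_pow_self p hi0.ne').trans
          (hi ▸ Subgroup.relIndex_dvd_of_le_left R le_sup_right)) hPi
    refine top_unique ((Sylow.normalizer_sup_eq_top P₀).ge.trans (sup_le le_sup_left ?_))
    exact hNP.trans (sup_le le_sup_right (Subgroup.le_normalizer.trans le_sup_left))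
  have hcomm : ∀ a ∈ N, ∀ b ∈ N, a * b = b * a := fun a ha b hb => by
    haveI := hNc
    exact congrArg Subtype.val (mul_comm' (⟨a, ha⟩ : N) ⟨b, hb⟩)
  by_cases hNC : N ≤ C
  · have : C = ⊤ := top_unique (hfr.ge.trans (sup_le le_rfl hNC))
    exact hfin P (Subgroup.normalizer_eq_top_iff.1 this) hPp hPR hPi
  exfalso
  have hdis : N ⊓ C = ⊥ := by
    refine (hN.2.2 _ ?_ inf_le_left).resolve_right fun h => hNC (inf_eq_left.1 h)
    refine Subgroup.normalizer_eq_top_iff.1 (top_unique (hfr.ge.trans (sup_le ?_ ?_)))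
    · intro c hc
      refine Subgroup.mem_normalizer_iff.2 fun y => ⟨fun hy =>
        ⟨hN.1.conj_mem y hy.1 c, C.mul_mem (C.mul_mem hc hy.2) (C.inv_mem hc)⟩, fun hy => ⟨?_, ?_⟩⟩
      · simpa [mul_assoc] using hN.1.conj_mem _ hy.1 c⁻¹
      · simpa [mul_assoc] using C.mul_mem (C.mul_mem (C.inv_mem hc) hy.2) hc
    · intro m hm
      refine Subgroup.mem_normalizer_iff.2 fun y => ⟨fun hy => ?_, fun hy => ?_⟩
      · rwa [hcomm m hm y hy.1, mul_inv_cancel_right]
      · have hyN : y ∈ N := by simpa [mul_assoc] using hN.1.conj_mem _ hy.1 m⁻¹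
        rwa [hcomm m hm y hyN, mul_inv_cancel_right] at hy
  -- `[N, P] = N`
  have hNP : ⁅N, P⁆ = N := by
    refine (hN.2.2 _ ?_ (Subgroup.commutator_le_left N P)).resolve_left fun h => hNC ?_
    · refine Subgroup.normalizer_eq_top_iff.1 (top_unique (hfr.ge.trans (sup_le ?_ ?_)))
      · intro c hc
        rw [Subgroup.mem_normalizer_iff]
        have e : ⁅N, P⁆.map (MulAut.conj c).toMonoidHom = ⁅N, P⁆ := by
          rw [Subgroup.map_commutator, Core.map_conj_eq_of_mem_normalizer hc,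
            Core.map_conj_eq_of_mem_normalizer (show c ∈ Subgroup.normalizer (N : Set G) by
              rw [Subgroup.normalizer_eq_top]; trivial)]
        intro y
        conv_rhs => rw [← e]
        exact (Subgroup.mem_map_iff_mem (MulAut.conj c).injective).symm
      · exact Subgroup.normalizer_commutator_ge_left N P
    · intro a ha
      refine Subgroup.mem_normalizer_iff.2 fun y => ?_
      have hc := Subgroup.mem_centralizer_iff.1 (Subgroup.commutator_eq_bot_iff_le_centralizer.1 h ha)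
      constructor
      · intro hy
        rw [← hc y hy, mul_inv_cancel_right]
        exact hy
      · intro hy
        have h1 := hc _ hy
        have : y = a * y * a⁻¹ := by
          calc y = a⁻¹ * ((a * y * a⁻¹) * a) := by group
            _ = a⁻¹ * (a * (a * y * a⁻¹)) := by rw [h1]
            _ = a * y * a⁻¹ := by group
        exact this ▸ hy
  have hkey : ∀ (l : N →* ℂˣ), l ≠ 1 → ∀ t : G,
      (∀ m : N, l ⟨t * m * t⁻¹, hN.1.conj_mem m m.2 t⟩ = (l m)⁻¹) → False := by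
    intro l hl t ht
    obtain ⟨χ, hχ, hχr, hχ1, -⟩ :=
      RealOver.exists_real_of_complement N C hdis (sup_comm C N ▸ hfr) l t ht
    refine hreal ⟨χ, hχ⟩ hχr ?_
    have h : (charDegree χ : ℂ) = ((inertia N (fun x : N => (l x : ℂ))).index : ℂ) :=
      (RealOdd.degree_eq ⟨χ, hχ⟩).symm.trans hχ1
    rw [show charDegree χ = _ from by exact_mod_cast h]
    exact dvd_inertia_index N hPp hNP l hl
  have hsep : ∀ a : N, a ≠ 1 → a ∉ commutator N := by
    intro a ha h
    haveI := hNc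
    apply ha
    rw [_root_.commutator_def, Subgroup.commutator_eq_bot_iff_le_centralizer.2] at h
    · exact h
    · intro x _
      exact Subgroup.mem_centralizer_iff.2 fun y _ => mul_comm' y x
  by_cases hr2 : r = 2
  · subst hr2
    obtain ⟨a, ha, ha1⟩ := N.bot_or_exists_ne_one.resolve_left hN.2.1
    haveI : Finite (Abelianization N) := Quotient.finite _
    haveI : NeZero (Monoid.exponent (Abelianization N)) := ⟨Monoid.exponent_ne_zero_of_finite⟩
    obtain ⟨μ, hμ⟩ := CommGroup.exists_apply_ne_one_of_hasEnoughRootsOfUnity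
      (Abelianization N) ℂ (a := Abelianization.of (⟨a, ha⟩ : N)) fun h =>
        hsep ⟨a, ha⟩ (fun h' => ha1 (congrArg Subtype.val h'))
          (Abelianization.ker_of N ▸ MonoidHom.mem_ker.2 h)
    refine hkey (μ.comp Abelianization.of) (fun h => hμ (DFunLike.congr_fun h _)) 1 fun m => ?_
    rw [show (⟨1 * (m : G) * 1⁻¹, hN.1.conj_mem m m.2 1⟩ : N) = m from Subtype.ext (by simp)]
    refine eq_inv_of_mul_eq_one_left ?_
    rw [← map_mul, show m * m = 1 from Subtype.ext ((pow_two _).symm.trans (hrexp m m.2))]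
    exact map_one _
  · have hNK : N ≤ powGen 2 G := fun a ha => by
      obtain ⟨k, hk⟩ := hUK a (hNU ha)
      obtain ⟨i, hi⟩ := exists_pow_eq_self_of_coprime (x := a) (n := p ^ k)
        (((Nat.coprime_primes hp.out hr).2 (Ne.symm hrp)).pow_left k |>.coprime_dvd_right
          (orderOf_dvd_of_pow_eq_one (hrexp a ha)))
      rw [← hi]
      exact pow_mem hk i
    by_cases hall : ∀ g : G, (∃ k : ℕ, orderOf g = 2 ^ k) → ∀ a ∈ N, g * a * g⁻¹ = a
    · refine hNC (hNK.trans ((Subgroup.closure_le _).2 ?_))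
      rintro g ⟨k, hk⟩
      obtain ⟨a, ha, c, hc, rfl⟩ := Subgroup.mem_sup_of_normal_left.1
        ((sup_comm C N ▸ hfr : N ⊔ C = ⊤).symm ▸ Subgroup.mem_top g : g ∈ N ⊔ C)
      have h1 : Commute (a * c) a := mul_inv_eq_iff_eq_mul.1 (hall _ ⟨k, hk⟩ a ha)
      have h2 : Commute a c := by
        have := mul_left_cancel (a := a) (b := c * a) (c := a * c)
          (by rw [← mul_assoc]; exact h1.eq)
        exact this.symm
      have h3 : a ^ 2 ^ k ∈ N ⊓ C := by
        refine ⟨pow_mem ha _, ?_⟩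
        have h4 : a ^ 2 ^ k * c ^ 2 ^ k = 1 := by rw [← h2.mul_pow, ← hk, pow_orderOf_eq_one]
        rw [eq_inv_of_mul_eq_one_left h4]
        exact C.inv_mem (pow_mem hc _)
      rw [hdis, Subgroup.mem_bot] at h3
      have h5 : a = 1 := by
        rw [← orderOf_eq_one_iff]
        have h6 : orderOf a ∣ Nat.gcd (2 ^ k) r :=
          Nat.dvd_gcd (orderOf_dvd_of_pow_eq_one h3) (orderOf_dvd_of_pow_eq_one (hrexp a ha))
        rw [Nat.Coprime.gcd_eq_one (((Nat.coprime_primes Nat.prime_two hr).2 (Ne.symm hr2)).pow_left k)]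
          at h6
        exact Nat.dvd_one.1 h6
      rw [h5, one_mul]
      exact hc
    push Not at hall
    obtain ⟨g, ⟨k, hk⟩, hmv⟩ := hall
    obtain ⟨t, ⟨a, ha, hne⟩, ht2⟩ := exists_flip k g (hk ▸ pow_orderOf_eq_one g) hmv
    obtain ⟨l, hl, hlt⟩ := exists_linear_flip N t ht2 ⟨⟨a, ha⟩, hsep _ fun h => hne (by
      exact mul_inv_eq_one.1 (congrArg Subtype.val h))⟩
    exact hkey l hl t hlt

/-- A normal `p`-subgroup of `P'` generated within the elements of 2-power order is centralized by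
them. -/
theorem le_centralizer_of_real (hp2 : p ≠ 2)
    (hreal : ∀ χ : IrrCharacter G, IsReal (χ : G → ℂ) → ¬ p ∣ charDegree (χ : G → ℂ))
    (P : Sylow p G) (M : Subgroup G) [hM : M.Normal] (hMP : M ≤ ⁅(P : Subgroup G), (P : Subgroup G)⁆) :
    powGen 2 G ≤ Subgroup.centralizer (M : Set G) := by
  refine (Subgroup.closure_le _).2 fun g hg => Subgroup.mem_centralizer_iff.2 fun a ha => ?_
  by_contra hne
  obtain ⟨k, hk⟩ := hg
  obtain ⟨t, ht, ht2⟩ := exists_flip (M := M) k g (hk ▸ pow_orderOf_eq_one g)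
    ⟨a, ha, fun h => hne (mul_inv_eq_iff_eq_mul.1 h).symm⟩
  have hMle : M ≤ (P : Subgroup G) := hMP.trans (Subgroup.commutator_le_self _)
  have hMp : IsPGroup p M := P.isPGroup'.to_le hMle
  obtain ⟨l, hl, hlt⟩ := exists_linear_flip M t ht2
    (exists_moved_mod_commutator hp2 M hMp t ht ht2)
  obtain ⟨e, he⟩ := IsPGroup.iff_card.1 hMp
  obtain ⟨χ, hχr, hχM⟩ := RealOver.exists_real_over M
    (he ▸ (hp.out.odd_of_ne_two hp2).pow) l hl t hlt
  refine hreal χ hχr ?_
  by_contra hnd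
  have hres : IsCharacter (P : Subgroup G) (fun x : (P : Subgroup G) => (χ : G → ℂ) x) :=
    χ.2.isCharacter.comp (P : Subgroup G).subtype
  obtain ⟨φ, hφ, hφc⟩ : ∃ φ : IrrCharacter ↥(P : Subgroup G),
      ¬ p ∣ charDegree (φ : ↥(P : Subgroup G) → ℂ) ∧
      classInner (fun x : (P : Subgroup G) => (χ : G → ℂ) x) (φ : ↥(P : Subgroup G) → ℂ) ≠ 0 := by
    choose m hm using fun φ : IrrCharacter (P : Subgroup G) =>
      hres.exists_nat_classInner φ.2.isCharacter
    have hs := RealOdd.sum_mult_degree hres (d := charDegree (χ : G → ℂ)) (RealOdd.degree_eq χ) m hm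
    by_contra hcon
    refine hnd (hs ▸ Finset.dvd_sum fun φ _ => ?_)
    by_cases h0 : m φ = 0
    · simp [h0]
    · refine Dvd.dvd.mul_left ?_ _
      by_contra h
      exact hcon ⟨φ, h, by rw [hm]; exact_mod_cast h0⟩
  have hdeg1 : (φ : ↥(P : Subgroup G) → ℂ) 1 = 1 := by
    obtain ⟨e, he⟩ := IsPGroup.iff_card.1 P.isPGroup'
    have hdvd := degree_dvd_card φ.2 (RealOdd.degree_eq φ)
    rw [he] at hdvd
    obtain ⟨j, -, hj⟩ := (Nat.dvd_prime_pow hp.out).1 hdvd
    rcases Nat.eq_zero_or_pos j with rfl | hj0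
    · rw [RealOdd.degree_eq, hj]; simp
    · exact absurd (hj ▸ dvd_pow_self p hj0.ne') hφ
  obtain ⟨μ, hμ⟩ := exists_hom_of_degree_one φ.2.isCharacter hdeg1
  have hone : ∀ x : M, (φ : ↥(P : Subgroup G) → ℂ) ⟨x, hMle x.2⟩ = 1 := fun x => by
    have hcle : ⁅(P : Subgroup G), (P : Subgroup G)⁆ ≤ μ.ker.map (P : Subgroup G).subtype := by
      refine Subgroup.commutator_le.2 fun a ha b hb => ⟨⁅(⟨a, ha⟩ : (P : Subgroup G)), ⟨b, hb⟩⁆,
        Abelianization.commutator_subset_ker μ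
          (Subgroup.commutator_mem_commutator (Subgroup.mem_top _) (Subgroup.mem_top _)), rfl⟩
    obtain ⟨y, hy, hyx⟩ := hcle (hMP x.2)
    rw [show (⟨x, hMle x.2⟩ : (P : Subgroup G)) = y from (Subtype.ext hyx).symm, hμ]
    simp [MonoidHom.mem_ker.1 hy]
  have hle := classInner_res_le M hMle hres φ.2 hφc (isIrrCharacter_one (G := M))
  rw [show (fun x : M => (φ : ↥(P : Subgroup G) → ℂ) ⟨x, hMle x.2⟩) = fun _ => (1 : ℂ) from
    funext hone, classInner_irr_self isIrrCharacter_one, Complex.one_re] at hle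
  change _ ≤ (classInner (fun x : M => (χ : G → ℂ) x) fun _ => (1 : ℂ)).re at hle
  have hker := RealOdd.kernel_of_trivial_constituent M χ.2 (fun h => by
    rw [h, Complex.zero_re] at hle; exact not_le.2 one_pos hle)
  apply hχM
  rw [show (fun x : M => (χ : G → ℂ) x) = (χ : G → ℂ) 1 • fun _ : M => (1 : ℂ) from
      funext fun x => by rw [Pi.smul_apply, smul_eq_mul, mul_one]; exact hker x x.2,
    classInner_smul_left, classInner_irr_ne isIrrCharacter_one (isIrrCharacter_linear l) ?_,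
    mul_zero]
  intro h
  exact hl (MonoidHom.ext fun x => Units.ext (congrFun h x).symm)

end Cfsg.Lib.Char.RealPDegree
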