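import Cfsg.Agent.Lib.Char.GlaubermanSolv
import Cfsg.Agent.Lib.Char.PermLemma
import Cfsg.Agent.Lib.Char.RealPDegree

/-!
# Real classes and Sylow normalizers

If all real irreducible characters of `Γ` have degree prime to `p` and `K` is a normal `p'`-subgroup of odd
index, then every real class of `K` meets the centralizer in `K` of a Sylow `p`-subgroup: orbit counting on
real characters and classes, through the Glauberman correspondence.
-/

set_option autoImplicit false
set_option linter.unusedSectionVars false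
set_option linter.style.haveILetI false

namespace Cfsg.Lib.Char.RealClassNormalizer

open Cfsg Cfsg.Lib Subgroup
open scoped ComplexConjugate
open Cfsg.Lib.Char.RealOdd (IsReal)

universe u

attribute [local instance 100] Fintype.ofFinite

variable {Γ : Type u} [Group Γ] [Finite Γ]

/-- Real irreducible characters. -/
abbrev RealIrr (K : Subgroup Γ) : Type u := {θ : IrrCharacter K // IsReal (θ : K → ℂ)}

/-- Real classes. -/
abbrev RealCl (K : Subgroup Γ) : Type u := {c : ConjClasses K // classInv c = c}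

/-- An irreducible character moved by a normalizing element. -/
def twistIrr (K : Subgroup Γ) {a : Γ} (ha : a ∈ normalizer (K : Set Γ)) (θ : IrrCharacter K) :
    IrrCharacter K :=
  ⟨fun g => (θ : K → ℂ) (twistEquiv K ha g), isIrrCharacter_comp_equiv _ θ.2⟩

/-- The action on real characters. -/
@[reducible] def charAction (A K : Subgroup Γ) (hA : A ≤ normalizer (K : Set Γ)) :
    MulAction A (RealIrr K) where
  smul a θ := ⟨twistIrr K (hA (a⁻¹).2) θ.1, fun g => θ.2 _⟩
  one_smul θ := Subtype.ext (Subtype.ext (funext fun g => congrArg θ.1.1 (Subtype.ext (by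
    simp only [coe_twistEquiv]; push_cast; group))))
  mul_smul a b θ := Subtype.ext (Subtype.ext (funext fun g => congrArg θ.1.1 (Subtype.ext (by
    simp only [coe_twistEquiv]; push_cast; group))))

/-- The action on real classes. -/
@[reducible] def clAction (A K : Subgroup Γ) (hA : A ≤ normalizer (K : Set Γ)) :
    MulAction A (RealCl K) where
  smul a c := ⟨ConjClasses.map (twistEquiv K (hA a.2)).toMonoidHom c.1, by
    obtain ⟨c, hc⟩ := c
    obtain ⟨g, rfl⟩ := c.exists_rep
    show classInv (ConjClasses.mk ((twistEquiv K (hA a.2)) g)) = ConjClasses.mk ((twistEquiv K (hA a.2)) g)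
    rw [classInv_mk, ConjClasses.mk_eq_mk_iff_isConj] at hc ⊢
    rw [← map_inv]
    exact MonoidHom.map_isConj (twistEquiv K (hA a.2)).toMonoidHom hc⟩
  one_smul c := Subtype.ext (by
    obtain ⟨c, hc⟩ := c
    obtain ⟨g, rfl⟩ := c.exists_rep
    exact congrArg ConjClasses.mk (Subtype.ext (by
      show ((twistEquiv K (hA (1 : A).2)) g : Γ) = g
      simp only [coe_twistEquiv]; push_cast; group)))
  mul_smul a b c := Subtype.ext (by
    obtain ⟨c, hc⟩ := c
    obtain ⟨g, rfl⟩ := c.exists_rep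
    exact congrArg ConjClasses.mk (Subtype.ext (by
      show ((twistEquiv K (hA (a * b).2)) g : Γ) =
        ((twistEquiv K (hA a.2)) ((twistEquiv K (hA b.2)) g) : Γ)
      simp only [coe_twistEquiv]; push_cast; group)))

theorem twist_iterate (K : Subgroup Γ) {a : Γ} (ha : a ∈ normalizer (K : Set Γ))
    (θ : IrrCharacter K) : ∀ (j : ℕ) (g g' : K), (g' : Γ) = a ^ j * g * (a ^ j)⁻¹ →
      (((twistIrr K ha)^[j] θ : IrrCharacter K) : K → ℂ) g = (θ : K → ℂ) g' := by
  intro j
  induction j generalizing θ with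
  | zero => intro g g' h; exact congrArg θ.1 (Subtype.ext (by simpa using h.symm))
  | succ j ih =>
    intro g g' h
    have hj : a ^ j * g * (a ^ j)⁻¹ ∈ K :=
      (mem_normalizer_iff.mp (pow_mem ha j) _).mp g.2
    rw [Function.iterate_succ_apply, ih (twistIrr K ha θ) g ⟨_, hj⟩ rfl]
    exact congrArg θ.1 (Subtype.ext (by
      rw [coe_twistEquiv, h, pow_succ']; group))

theorem card_fixed_eq (A K : Subgroup Γ) (hA : A ≤ normalizer (K : Set Γ)) (a : A)
    (ha : ∃ m : ℕ, Odd m ∧ (a : Γ) ^ m ∈ K) :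
    (letI := charAction A K hA; Nat.card (MulAction.fixedBy (RealIrr K) a⁻¹)) =
      (letI := clAction A K hA; Nat.card (MulAction.fixedBy (RealCl K) a)) := by
  classical
  letI := charAction A K hA
  letI := clAction A K hA
  obtain ⟨m, hm, hak⟩ := ha
  -- the two permutations
  let s : IrrCharacter K → IrrCharacter K := twistIrr K (hA ((a⁻¹)⁻¹).2)
  let t : ConjClasses K → ConjClasses K := ConjClasses.map (twistEquiv K (hA a.2)).toMonoidHom
  let f : IrrCharacter K → IrrCharacter K := fun χ => irrConj (twistIrr K (hA (a⁻¹).2) χ)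
  let f' : IrrCharacter K → IrrCharacter K := fun χ => irrConj (s χ)
  let h : ConjClasses K → ConjClasses K := fun c => classInv (t c)
  have hti : Function.Bijective t := by
    refine Finite.injective_iff_bijective.1 fun c₁ c₂ hc => ?_
    obtain ⟨g₁, rfl⟩ := c₁.exists_rep
    obtain ⟨g₂, rfl⟩ := c₂.exists_rep
    have hc' : IsConj ((twistEquiv K (hA a.2)) g₁) ((twistEquiv K (hA a.2)) g₂) :=
      ConjClasses.mk_eq_mk_iff_isConj.1 hc
    refine ConjClasses.mk_eq_mk_iff_isConj.2 ?_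
    simpa using MonoidHom.map_isConj (twistEquiv K (hA a.2)).symm.toMonoidHom hc'
  have hcv : Function.Involutive (classInv (G := K)) := fun c => by
    obtain ⟨g, rfl⟩ := c.exists_rep
    simp [classInv_mk]
  have hB := brauer_permutation f h (hcv.bijective.comp hti) fun χ g g' hg => by
    change ConjClasses.mk g' = classInv (ConjClasses.mk ((twistEquiv K (hA a.2)) g)) at hg
    rw [classInv_mk, ConjClasses.mk_eq_mk_iff_isConj] at hg
    have hcf : (twistIrr K (hA (a⁻¹).2) χ : K → ℂ) g' =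
        (twistIrr K (hA (a⁻¹).2) χ : K → ℂ) ((twistEquiv K (hA a.2)) g)⁻¹ := by
      obtain ⟨c, hc⟩ := isConj_iff.mp hg
      rw [← hc]
      exact ((twistIrr K (hA (a⁻¹).2) χ).2.isClassFunction g' c).symm
    show conj ((twistIrr K (hA (a⁻¹).2) χ : K → ℂ) g') = _
    rw [hcf, (twistIrr K (hA (a⁻¹).2) χ).2.isCharacter.apply_inv, Complex.conj_conj]
    exact congrArg χ.1 (Subtype.ext (by simp only [coe_twistEquiv]; push_cast; group))
  -- fixed points of the composites are real and fixed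
  have hinner : ∀ (χ : IrrCharacter K) (g g' : K), (g' : Γ) = (a : Γ) ^ m * g * ((a : Γ) ^ m)⁻¹ →
      (χ : K → ℂ) g' = (χ : K → ℂ) g := fun χ g g' h' => by
    rw [show g' = ⟨_, hak⟩ * g * ⟨_, hak⟩⁻¹ from Subtype.ext h']
    exact χ.2.isClassFunction g ⟨_, hak⟩
  have hsm : ∀ χ : IrrCharacter K, s^[m] χ = χ := fun χ => Subtype.ext (funext fun g => by
    have hg : (a : Γ) ^ m * g * ((a : Γ) ^ m)⁻¹ ∈ K :=
      mul_mem (mul_mem hak g.2) (inv_mem hak)
    rw [twist_iterate K (hA ((a⁻¹)⁻¹).2) χ m g ⟨_, hg⟩ (by push_cast; rw [inv_inv])]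
    exact hinner χ g _ rfl)
  have hcomm : Function.Commute (irrConj (G := K)) s := fun χ => rfl
  have hbb : Function.Involutive (irrConj (G := K)) := fun χ =>
    Subtype.ext (funext fun g => Complex.conj_conj _)
  have hf' : ∀ χ, f' χ = χ ↔ (s χ = χ ∧ IsReal (χ : K → ℂ)) := by
    intro χ
    constructor
    · intro hχ
      have h1 : ((irrConj (G := K)) ∘ s)^[m] χ = χ :=
        (Function.iterate_fixed (f := (irrConj (G := K)) ∘ s) hχ m)
      rw [hcomm.comp_iterate, hbb.iterate_odd hm, Function.comp_apply, hsm] at h1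
      refine ⟨?_, fun g => congrFun (congrArg Subtype.val h1) g⟩
      have h2 : irrConj (s χ) = irrConj χ := hχ.trans h1.symm
      exact hbb.injective h2
    · rintro ⟨h1, h2⟩
      show irrConj (s χ) = χ
      rw [h1]
      exact Subtype.ext (funext h2)
  have hf : ∀ χ, f χ = χ ↔ f' χ = χ := by
    intro χ
    have key : ∀ χ : IrrCharacter K, twistIrr K (hA (a⁻¹).2) (s χ) = χ ∧
        s (twistIrr K (hA (a⁻¹).2) χ) = χ := fun χ =>
      ⟨Subtype.ext (funext fun g => congrArg χ.1 (Subtype.ext (by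
        simp only [coe_twistEquiv]; push_cast; group))),
      Subtype.ext (funext fun g => congrArg χ.1 (Subtype.ext (by
        simp only [coe_twistEquiv]; push_cast; group)))⟩
    constructor
    · intro hχ
      have h1 : twistIrr K (hA (a⁻¹).2) χ = irrConj χ := by
        have := congrArg irrConj hχ
        rwa [hbb] at this
      have h2 := congrArg s h1
      rw [(key χ).2, ← hcomm χ] at h2
      exact h2.symm
    · intro hχ
      have h1 : s χ = irrConj χ := by
        have := congrArg irrConj hχ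
        rwa [hbb] at this
      have h2 := congrArg (twistIrr K (hA (a⁻¹).2)) h1
      rw [(key χ).1] at h2
      exact h2.symm
  have hl : Nat.card (MulAction.fixedBy (RealIrr K) a⁻¹) =
      Nat.card {χ : IrrCharacter K // f χ = χ} := by
    refine Nat.card_congr
      { toFun := fun θ => ⟨θ.1.1, (hf _).2 ((hf' _).2 ⟨congrArg Subtype.val θ.2, θ.1.2⟩)⟩
        invFun := fun χ => ⟨⟨χ.1, ((hf' _).1 ((hf _).1 χ.2)).2⟩,
          Subtype.ext ((hf' _).1 ((hf _).1 χ.2)).1⟩
        left_inv := fun θ => rfl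
        right_inv := fun χ => rfl }
  -- the same on classes
  have htm : ∀ c, t^[m] c = c := by
    intro c
    obtain ⟨g, rfl⟩ := c.exists_rep
    have hit : ∀ j, t^[j] (ConjClasses.mk g) = ConjClasses.mk
        ⟨(a : Γ) ^ j * g * ((a : Γ) ^ j)⁻¹, (mem_normalizer_iff.mp (pow_mem (hA a.2) j) _).mp g.2⟩ := by
      intro j
      induction j with
      | zero => exact congrArg ConjClasses.mk (Subtype.ext (by simp))
      | succ j ih =>
        rw [Function.iterate_succ_apply', ih]
        exact congrArg ConjClasses.mk (Subtype.ext (by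
          show ((twistEquiv K (hA a.2)) _ : Γ) = _
          simp only [coe_twistEquiv, pow_succ']; group))
    show t^[m] (ConjClasses.mk g) = ConjClasses.mk g
    rw [hit, ConjClasses.mk_eq_mk_iff_isConj]
    exact isConj_iff.mpr ⟨⟨_, inv_mem hak⟩, Subtype.ext (by push_cast; group)⟩
  have hcomm' : Function.Commute (classInv (G := K)) t := fun c => by
    obtain ⟨g, rfl⟩ := c.exists_rep
    show classInv (ConjClasses.mk _) = ConjClasses.mk _
    rw [classInv_mk, ← map_inv]
  have hh : ∀ c, h c = c ↔ (t c = c ∧ classInv c = c) := by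
    intro c
    constructor
    · intro hc
      have h1 : ((classInv (G := K)) ∘ t)^[m] c = c :=
        Function.iterate_fixed (f := (classInv (G := K)) ∘ t) hc m
      rw [hcomm'.comp_iterate, hcv.iterate_odd hm, Function.comp_apply, htm] at h1
      exact ⟨hcv.injective (hc.trans h1.symm), h1⟩
    · rintro ⟨h1, h2⟩
      show classInv (t c) = c
      rw [h1, h2]
  have hr : Nat.card (MulAction.fixedBy (RealCl K) a) =
      Nat.card {c : ConjClasses K // h c = c} := by
    refine Nat.card_congr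
      { toFun := fun c => ⟨c.1.1, (hh _).2 ⟨congrArg Subtype.val c.2, c.1.2⟩⟩
        invFun := fun c => ⟨⟨c.1, ((hh _).1 c.2).2⟩, Subtype.ext ((hh _).1 c.2).1⟩
        left_inv := fun c => rfl
        right_inv := fun c => rfl }
  rw [hl, hr, hB]

/-- As many orbits on real characters as on real classes. -/
theorem card_orbits_eq (A K : Subgroup Γ) (hA : A ≤ normalizer (K : Set Γ))
    (hodd : ∀ a ∈ A, ∃ m : ℕ, Odd m ∧ a ^ m ∈ K) :
    (letI := charAction A K hA; Nat.card (MulAction.orbitRel.Quotient A (RealIrr K))) =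
      (letI := clAction A K hA; Nat.card (MulAction.orbitRel.Quotient A (RealCl K))) := by
  classical
  letI := charAction A K hA
  letI := clAction A K hA
  haveI : Finite (ConjClasses K) := Quotient.finite _
  haveI : Finite (MulAction.orbitRel.Quotient A (RealIrr K)) := Quotient.finite _
  haveI : Finite (MulAction.orbitRel.Quotient A (RealCl K)) := Quotient.finite _
  have h1 := MulAction.sum_card_fixedBy_eq_card_orbits_mul_card_group A (RealIrr K)
  have h2 := MulAction.sum_card_fixedBy_eq_card_orbits_mul_card_group A (RealCl K)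
  simp only [← Nat.card_eq_fintype_card] at h1 h2
  rw [← Equiv.sum_comp (Equiv.inv A)] at h1
  simp only [Equiv.inv_apply] at h1
  rw [Finset.sum_congr rfl fun a _ =>
    card_fixed_eq A K hA a (hodd _ a.2), h2] at h1
  exact (Nat.eq_of_mul_eq_mul_right Nat.card_pos h1).symm

/-- The conjugate of a correspondent corresponds to the conjugate. -/
theorem HasCorr.conj' {K C : Type u} [Group K] [Group C] [Fintype C] {ι : C →* K} {p : ℕ}
    {χ : K → ℂ} {β : C → ℂ} (h : HasCorr ι p χ β) :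
    HasCorr ι p (fun g => conj (χ g)) (fun c => conj (β c)) := by
  obtain ⟨hβ, ε, hε, hall⟩ := h
  refine ⟨isIrrCharacter_conjFn hβ, ε, hε, fun η m hη hm => ?_⟩
  have h1 : classInner (fun c => χ (ι c)) (fun c => conj (η c)) = m := by
    have := congrArg conj hm
    rw [classInner_conj_symm, Complex.conj_natCast] at this
    rw [← this, ← classInner_conjFn]
    simp only [Complex.conj_conj]
  obtain ⟨e1, e2⟩ := hall _ m (isIrrCharacter_conjFn hη) h1
  refine ⟨fun he => e1 ?_, fun hne => e2 fun he => hne ?_⟩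
  · rw [he]; simp only [Complex.conj_conj]
  · rw [← he]; simp only [Complex.conj_conj]

/-- A real irreducible character over a real character of a normal subgroup of odd index. -/
theorem exists_real_over_of_odd_index (K : Subgroup Γ) [K.Normal] (hodd : Odd K.index)
    (θ : RealIrr K) : ∃ χ : IrrCharacter Γ, IsReal (χ : Γ → ℂ) ∧
      classInner (fun k : K => (χ : Γ → ℂ) k) (θ.1 : K → ℂ) ≠ 0 := by
  classical
  have hψ : IsCharacter Γ (indFun K (θ.1 : K → ℂ)) := isCharacter_indFun _ θ.1.2.isCharacter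
  have hψr : IsReal (indFun K (θ.1 : K → ℂ)) := RealOdd.isReal_indFun _ θ.2
  choose m hm using fun φ : IrrCharacter Γ => hψ.exists_nat_classInner φ.2.isCharacter
  -- the norm is the odd index of `K` in the inertia group
  have hnorm := classInner_indFun_self K θ.1.2
  have hle : K ≤ inertia K (θ.1 : K → ℂ) := le_inertia K θ.1.2.isClassFunction
  have hsum : (∑ φ : IrrCharacter Γ, ((m φ * m φ : ℕ) : ℂ)) =
      classInner (indFun K (θ.1 : K → ℂ)) (indFun K (θ.1 : K → ℂ)) := by
    conv_rhs => arg 1; rw [eq_sum_classInner hψ.isClassFunction]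
    rw [classInner_sum_left]
    refine Finset.sum_congr rfl fun φ _ => ?_
    rw [classInner_smul_left, hm φ, ← classInner_conj_symm (indFun K (θ.1 : K → ℂ)) (φ : Γ → ℂ),
      hm φ, Complex.conj_natCast, Nat.cast_mul]
  have hN : (∑ φ : IrrCharacter Γ, m φ * m φ) = K.relIndex (inertia K (θ.1 : K → ℂ)) := by
    have h1 : (Nat.card K : ℂ) * ((∑ φ : IrrCharacter Γ, m φ * m φ : ℕ) : ℂ) =
        (Nat.card K : ℂ) * (K.relIndex (inertia K (θ.1 : K → ℂ)) : ℂ) := by
      rw [Nat.cast_sum, hsum, hnorm, ← Nat.cast_mul, Subgroup.relIndex,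
        ← Nat.card_congr (Subgroup.subgroupOfEquivOfLe hle).toEquiv, mul_comm, index_mul_card]
    exact_mod_cast mul_left_cancel₀ (Nat.cast_ne_zero.2 Nat.card_pos.ne') h1
  have hIodd : Odd (K.relIndex (inertia K (θ.1 : K → ℂ))) :=
    Odd.of_dvd_nat hodd (Dvd.intro _ (relIndex_mul_index hle))
  by_contra hcon
  push Not at hcon
  have hzero : ∀ φ : IrrCharacter Γ, irrConj φ = φ → m φ = 0 := by
    intro φ hφ
    have h1 := hcon φ fun g => congrFun (congrArg Subtype.val hφ) g
    have h2 : classInner (indFun K (θ.1 : K → ℂ)) (φ : Γ → ℂ) = 0 := by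
      rw [classInner_indFun _ _ φ.2.isClassFunction, ← classInner_conj_symm]
      convert map_zero (starRingEnd ℂ) using 2
      convert h1
    rw [hm φ] at h2
    exact_mod_cast h2
  have hbar : ∀ φ : IrrCharacter Γ, m (irrConj φ) = m φ := by
    intro φ
    have h3 : (fun g => conj (indFun K (θ.1 : K → ℂ) g)) = indFun K (θ.1 : K → ℂ) := funext hψr
    have : (m (irrConj φ) : ℂ) = m φ := by
      rw [← hm, ← hm]
      calc classInner (indFun K (θ.1 : K → ℂ)) ((irrConj φ : IrrCharacter Γ) : Γ → ℂ)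
          = classInner (fun g => conj (indFun K (θ.1 : K → ℂ) g))
              (fun g => conj ((φ : Γ → ℂ) g)) := by rw [h3]; rfl
        _ = conj (classInner (indFun K (θ.1 : K → ℂ)) (φ : Γ → ℂ)) := by
          rw [classInner_conjFn, classInner_conj_symm]
        _ = classInner (indFun K (θ.1 : K → ℂ)) (φ : Γ → ℂ) := by rw [hm φ]; simp
    exact_mod_cast this
  have h0 : ∑ φ : IrrCharacter Γ, ((m φ * m φ : ℕ) : ZMod 2) = 0 := by
    refine Finset.sum_involution (fun φ _ => irrConj φ) (fun φ _ => ?_) (fun φ _ hne he => ?_)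
      (fun φ _ => Finset.mem_univ _)
      (fun φ _ => Subtype.ext (funext fun g => Complex.conj_conj _))
    · simp only [hbar]; exact CharTwo.add_self_eq_zero _
    · simp [hzero φ he] at hne
  rw [← Nat.cast_sum, hN, ZMod.natCast_eq_zero_iff_even] at h0
  exact Nat.not_even_iff_odd.2 hIodd h0

/-- A real class of a normal `p'`-subgroup of odd index meets the fixed points of a Sylow
`p`-subgroup. -/
theorem exists_conj_mem_centralizer {p : ℕ} [hp : Fact p.Prime] (K : Subgroup Γ) [hKn : K.Normal]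
    (hKp : ¬ p ∣ Nat.card K) (hodd : Odd K.index)
    (hreal : ∀ χ : IrrCharacter Γ, IsReal (χ : Γ → ℂ) → ¬ p ∣ charDegree (χ : Γ → ℂ))
    (P : Sylow p Γ) (x : K) (hx : IsConj x x⁻¹) :
    ∃ c ∈ centralizer ((P : Subgroup Γ) : Set Γ), IsConj (x : Γ) c := by
  classical
  set S : Subgroup Γ := (P : Subgroup Γ)
  let N : Subgroup Γ := normalizer (S : Set Γ)
  let C : Subgroup Γ := K ⊓ centralizer (S : Set Γ)
  have hC : ∀ y, y ∈ C ↔ y ∈ K ∧ y ∈ centralizer (S : Set Γ) := fun _ => Iff.rfl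
  have hTop : (⊤ : Subgroup Γ) ≤ normalizer (K : Set Γ) := by rw [normalizer_eq_top]
  have hSK : S ≤ normalizer (K : Set Γ) := le_top.trans hTop
  have hNC : N ≤ normalizer (C : Set Γ) := fun n hn => by
    have key : ∀ n ∈ N, ∀ y ∈ C, n * y * n⁻¹ ∈ C := fun n hn y hy =>
      ⟨hKn.conj_mem y hy.1 n, mem_centralizer_iff.2 fun s hs => by
        have h1 : n⁻¹ * s * n ∈ S := (mem_normalizer_iff'.1 hn _).2 (by simpa [mul_assoc] using hs)
        have h2 := mem_centralizer_iff.1 hy.2 _ h1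
        calc s * (n * y * n⁻¹) = n * ((n⁻¹ * s * n) * y) * n⁻¹ := by group
          _ = n * (y * (n⁻¹ * s * n)) * n⁻¹ := by rw [h2]
          _ = n * y * n⁻¹ * s := by group⟩
    refine mem_normalizer_iff.2 fun y => ⟨key n hn y, fun h => ?_⟩
    simpa [mul_assoc] using key n⁻¹ (inv_mem hn) _ h
  have hcop := coprime_card_pGroup (G := K) P.2 hKp
  have hcorr := isCorrespondence_pGroup hp.out S P.2 K C hSK hcop inf_le_left hC
  have hoddTop : ∀ a ∈ (⊤ : Subgroup Γ), ∃ m : ℕ, Odd m ∧ a ^ m ∈ K := fun a _ =>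
    ⟨K.index, hodd, K.pow_index_mem a⟩
  have hoddN : ∀ a ∈ N, ∃ m : ℕ, Odd m ∧ a ^ m ∈ C := by
    intro a ha
    refine ⟨K.index, hodd, K.pow_index_mem a, mem_centralizer_iff.2 fun s hs => ?_⟩
    set k := a ^ K.index
    have hk : k ∈ K := K.pow_index_mem a
    have h1 : k * s * k⁻¹ * s⁻¹ ∈ S :=
      mul_mem ((mem_normalizer_iff.1 (pow_mem ha _) s).1 hs) (inv_mem hs)
    have h2 : k * s * k⁻¹ * s⁻¹ ∈ K := by
      simpa [mul_assoc] using mul_mem hk (hKn.conj_mem _ (inv_mem hk) s)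
    have h3 := Subgroup.disjoint_def.1 (Subgroup.disjoint_of_coprime_natCard hcop) h2 h1
    calc s * k = (k * s * k⁻¹ * s⁻¹) * (s * k) := by rw [h3, one_mul]
      _ = k * s := by group
  letI a₁ := charAction ⊤ K hTop
  letI a₂ := clAction ⊤ K hTop
  letI a₃ := charAction N C hNC
  letI a₄ := clAction N C hNC
  haveI : Finite (ConjClasses K) := Quotient.finite _
  haveI : Finite (ConjClasses C) := Quotient.finite _
  haveI : Finite (MulAction.orbitRel.Quotient (⊤ : Subgroup Γ) (RealIrr K)) := Quotient.finite _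
  haveI : Finite (MulAction.orbitRel.Quotient (⊤ : Subgroup Γ) (RealCl K)) := Quotient.finite _
  haveI : Finite (MulAction.orbitRel.Quotient N (RealIrr C)) := Quotient.finite _
  haveI : Finite (MulAction.orbitRel.Quotient N (RealCl C)) := Quotient.finite _
  -- every real character has a conjugate fixed by `S`
  have hfix : ∀ θ : RealIrr K, ∃ g : (⊤ : Subgroup Γ), IsInvOn S K ((g • θ).1 : K → ℂ) := by
    intro θ
    obtain ⟨χ, hχr, hχc⟩ := exists_real_over_of_odd_index K hodd θ
    have hdeg := clifford_degree K χ.2 θ.1.2 (by convert hχc)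
    obtain ⟨e, he⟩ := (χ.2.isCharacter.comp K.subtype).exists_nat_classInner θ.1.2.isCharacter
    have he' : classInner (fun k : K => (χ : Γ → ℂ) k) (θ.1 : K → ℂ) = e := by
      convert he; rfl
    rw [he', RealOdd.degree_eq, RealOdd.degree_eq] at hdeg
    have hdeg' : charDegree (χ : Γ → ℂ) =
        e * (inertia K (θ.1 : K → ℂ)).index * charDegree (θ.1 : K → ℂ) := by exact_mod_cast hdeg
    set I := inertia K (θ.1 : K → ℂ)
    have hI : ¬ p ∣ I.index := fun hd => hreal χ hχr (hdeg' ▸ (hd.mul_left e).mul_right _)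
    obtain ⟨Q⟩ : Nonempty (Sylow p I) := inferInstance
    have hQp : IsPGroup p ((Q : Subgroup I).map I.subtype) := Q.2.map _
    obtain ⟨P₁, hP₁⟩ := hQp.exists_le_sylow
    have hP₁I : (P₁ : Subgroup Γ) ≤ I := by
      have hcard : Nat.card (P₁ : Subgroup Γ) ≤ Nat.card ((Q : Subgroup I).map I.subtype) := by
        rw [Subgroup.card_subtype, Sylow.card_eq_multiplicity, Sylow.card_eq_multiplicity,
          ← I.card_mul_index, Nat.factorization_mul Nat.card_pos.ne' Subgroup.index_ne_zero_of_finite,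
          Finsupp.add_apply, Nat.factorization_eq_zero_of_not_dvd hI, add_zero]
      rw [← Subgroup.eq_of_le_of_card_ge hP₁ hcard]
      exact Subgroup.map_subtype_le _
    obtain ⟨g, hg⟩ := MulAction.exists_smul_eq Γ P₁ P
    refine ⟨⟨g, mem_top _⟩, fun s hs k k' hk => ?_⟩
    have hs' : g⁻¹ * s * g ∈ I := hP₁I (by
      have : s ∈ ((g • P₁ : Sylow p Γ) : Subgroup Γ) := by rw [hg]; exact hs
      rw [Sylow.smul_def] at this
      simpa [Sylow.pointwise_smul_def, Subgroup.mem_pointwise_smul_iff_inv_smul_mem, mul_assoc]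
        using this)
    show (θ.1 : K → ℂ) _ = (θ.1 : K → ℂ) _
    refine Eq.trans (congrArg θ.1.1 (Subtype.ext ?_)) ((mem_inertia_iff K).1 hs' _)
    simp only [coe_twistEquiv, hk]; push_cast; group
  choose g₀ hg₀ using fun o : MulAction.orbitRel.Quotient (⊤ : Subgroup Γ) (RealIrr K) =>
    hfix o.out
  -- the correspondent is real
  choose β hβ using fun o => hcorr.exists_corr _ ((g₀ o • o.out).1.2) (hg₀ o)
  have hβr : ∀ o, IsReal (β o) := fun o c => by
    have h1 := HasCorr.conj' (hβ o)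
    simp only [(g₀ o • o.out).2 _] at h1
    exact congrFun (h1.eq_of_not_dvd hp.out (g₀ o • o.out).1.2.isCharacter (hβ o)) c
  let F : MulAction.orbitRel.Quotient (⊤ : Subgroup Γ) (RealIrr K) →
      MulAction.orbitRel.Quotient N (RealIrr C) :=
    fun o => Quotient.mk'' ⟨⟨β o, (hβ o).1⟩, hβr o⟩
  have hFi : Function.Injective F := by
    intro o₁ o₂ ho
    obtain ⟨n, hn⟩ := Quotient.exact' ho
    have hn' : (fun c => β o₂ (twistEquiv C (hNC (n⁻¹).2) c)) = β o₁ :=
      congrArg (fun z : RealIrr C => (z.1 : C → ℂ)) hn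
    have h1 := corr_twist inf_le_left (hβ o₂) (hTop (mem_top ((n⁻¹ : N) : Γ))) (hNC (n⁻¹).2)
    rw [hn'] at h1
    have hnS : ∀ t ∈ S, ((n⁻¹ : N) : Γ) * t * ((n⁻¹ : N) : Γ)⁻¹ ∈ S := fun t ht =>
      (mem_normalizer_iff.1 (n⁻¹).2 t).1 ht
    have h2 := hcorr.injective _ _ _ (isIrrCharacter_comp_equiv _ (g₀ o₂ • o₂.out).1.2)
      ((hg₀ o₂).comp_twist hnS _) (g₀ o₁ • o₁.out).1.2 (hg₀ o₁) h1 (hβ o₁)
    have h3 : (⟨(n : Γ), mem_top _⟩ : (⊤ : Subgroup Γ)) • (g₀ o₂ • o₂.out) = g₀ o₁ • o₁.out := by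
      refine Subtype.ext (Subtype.ext ?_)
      rw [← h2]
      rfl
    rw [← o₁.out_eq', ← o₂.out_eq']
    refine Quotient.sound' (MulAction.orbitRel_apply.2
      ⟨(g₀ o₁)⁻¹ * ⟨(n : Γ), mem_top _⟩ * g₀ o₂, ?_⟩)
    simp only [mul_smul, h3, inv_smul_smul]
  -- classes
  let incl : RealCl C → RealCl K := fun c => ⟨ConjClasses.map (inclusion inf_le_left) c.1, by
    obtain ⟨c, hc⟩ := c
    obtain ⟨d, rfl⟩ := c.exists_rep
    show classInv (ConjClasses.mk _) = ConjClasses.mk _
    rw [classInv_mk, ConjClasses.mk_eq_mk_iff_isConj] at hc ⊢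
    rw [← map_inv]
    exact MonoidHom.map_isConj _ hc⟩
  let Ψ : MulAction.orbitRel.Quotient N (RealCl C) →
      MulAction.orbitRel.Quotient (⊤ : Subgroup Γ) (RealCl K) :=
    fun o => Quotient.mk'' (incl o.out)
  have hΨi : Function.Injective Ψ := by
    intro o₁ o₂ ho
    obtain ⟨g, hg⟩ := Quotient.exact' ho
    obtain ⟨d₁, hd₁⟩ := o₁.out.1.exists_rep
    obtain ⟨d₂, hd₂⟩ := o₂.out.1.exists_rep
    have hg' : ConjClasses.mk ((twistEquiv K (hTop g.2)) (inclusion inf_le_left d₂)) =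
        ConjClasses.mk (inclusion (inf_le_left : C ≤ K) d₁) := by
      have := congrArg Subtype.val hg
      change ConjClasses.map _ (ConjClasses.map _ o₂.out.1) = ConjClasses.map _ o₁.out.1 at this
      rw [← hd₁, ← hd₂] at this
      exact this
    obtain ⟨k, hk⟩ := isConj_iff.1 (ConjClasses.mk_eq_mk_iff_isConj.1 hg')
    have hk' : (k : Γ) * ((g : Γ) * d₂ * (g : Γ)⁻¹) * (k : Γ)⁻¹ = d₁ :=
      congrArg Subtype.val hk
    obtain ⟨n, hn, hnc⟩ := Sylow.conj_eq_normalizer_conj_of_mem_centralizer P (d₂ : Γ)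
      (((k : Γ) * g)⁻¹) d₂.2.2 (by
        rw [inv_inv, show (k : Γ) * g * d₂ * ((k : Γ) * g)⁻¹ = d₁ by rw [← hk']; group]
        exact d₁.2.2)
    rw [inv_inv, show (k : Γ) * g * d₂ * ((k : Γ) * g)⁻¹ = d₁ by rw [← hk']; group] at hnc
    rw [← o₁.out_eq', ← o₂.out_eq']
    refine Quotient.sound' (MulAction.orbitRel_apply.2 ⟨⟨n⁻¹, inv_mem hn⟩, Subtype.ext ?_⟩)
    show ConjClasses.map _ o₂.out.1 = o₁.out.1
    rw [← hd₁, ← hd₂]
    refine congrArg ConjClasses.mk (Subtype.ext ?_)
    show ((twistEquiv C _) d₂ : Γ) = d₁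
    rw [coe_twistEquiv, hnc]
    simp
  have hle : Nat.card (MulAction.orbitRel.Quotient (⊤ : Subgroup Γ) (RealCl K)) ≤
      Nat.card (MulAction.orbitRel.Quotient N (RealCl C)) := by
    rw [← card_orbits_eq ⊤ K hTop hoddTop, ← card_orbits_eq N C hNC hoddN]
    exact Nat.card_le_card_of_injective F hFi
  have hbij := hΨi.bijective_of_nat_card_le hle
  let cx : RealCl K := ⟨ConjClasses.mk x, by
    rw [classInv_mk, ConjClasses.mk_eq_mk_iff_isConj]; exact hx.symm⟩
  obtain ⟨o, ho⟩ := hbij.2 (Quotient.mk'' cx)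
  obtain ⟨g, hg⟩ := Quotient.exact' ho
  obtain ⟨d, hd⟩ := o.out.1.exists_rep
  refine ⟨(d : Γ), d.2.2, ?_⟩
  have hg' : ConjClasses.mk ((twistEquiv K (hTop g.2)) x) =
      ConjClasses.mk (inclusion (inf_le_left : C ≤ K) d) := by
    have := congrArg Subtype.val hg
    change ConjClasses.map _ (ConjClasses.mk x) = ConjClasses.map _ o.out.1 at this
    rw [← hd] at this
    exact this
  obtain ⟨k, hk⟩ := isConj_iff.1 (ConjClasses.mk_eq_mk_iff_isConj.1 hg')
  exact isConj_iff.2 ⟨(k : Γ) * g, by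
    have hk' : (k : Γ) * ((g : Γ) * x * (g : Γ)⁻¹) * (k : Γ)⁻¹ = d := congrArg Subtype.val hk
    rw [← hk']; group⟩

/-- An odd power of an inverting element inverts. -/
theorem conj_pow_inv {x y : Γ} (h : y * x * y⁻¹ = x⁻¹) : ∀ j : ℕ,
    y ^ (2 * j + 1) * x * (y ^ (2 * j + 1))⁻¹ = x⁻¹
  | 0 => by simpa using h
  | j + 1 => by
    have h2 : y * x⁻¹ * y⁻¹ = x := by
      calc y * x⁻¹ * y⁻¹ = (y * x * y⁻¹)⁻¹ := by group
        _ = x := by rw [h, inv_inv]
    calc y ^ (2 * (j + 1) + 1) * x * (y ^ (2 * (j + 1) + 1))⁻¹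
        = y * (y * (y ^ (2 * j + 1) * x * (y ^ (2 * j + 1))⁻¹) * y⁻¹) * y⁻¹ := by
          rw [show 2 * (j + 1) + 1 = 2 * j + 1 + 1 + 1 by ring, pow_succ', pow_succ']; group
      _ = x⁻¹ := by rw [conj_pow_inv h j, h2, h]

/-- Real elements and Sylow normalizers. -/
theorem exists_conj_mem_normalizer {p : ℕ} [hp : Fact p.Prime]
    (hsolv : Group.IsSolvable (RealPDegree.powGen p Γ))
    (hreal : ∀ χ : IrrCharacter Γ, IsReal (χ : Γ → ℂ) → ¬ p ∣ charDegree (χ : Γ → ℂ))
    (P : Sylow p Γ) {x : Γ} (hx : IsConj x x⁻¹) :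
    ∃ y ∈ normalizer ((P : Subgroup Γ) : Set Γ), IsConj x y := by
  classical
  set K := RealPDegree.powGen 2 Γ
  haveI hKn : K.Normal := RealPDegree.powGen_normal 2
  have hodd : Odd K.index := by
    haveI : Fact (Nat.Prime 2) := ⟨Nat.prime_two⟩
    obtain ⟨T⟩ : Nonempty (Sylow 2 Γ) := inferInstance
    have hTK : (T : Subgroup Γ) ≤ K := fun t ht => by
      obtain ⟨k, hk⟩ := T.2 ⟨t, ht⟩
      exact RealPDegree.mem_powGen Nat.prime_two (k := k) (congrArg Subtype.val hk)
    rw [← Nat.not_even_iff_odd, even_iff_two_dvd]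
    exact fun h => T.not_dvd_index (h.trans (Subgroup.index_dvd_of_le hTK))
  obtain ⟨y, hy⟩ := isConj_iff.1 hx
  obtain ⟨j, hj⟩ := hodd
  have hky : y ^ K.index ∈ K := K.pow_index_mem y
  have hkx : y ^ K.index * x * (y ^ K.index)⁻¹ = x⁻¹ := hj ▸ conj_pow_inv hy j
  have hxK : x ∈ K := by
    rw [← QuotientGroup.eq_one_iff (N := K)]
    refine eq_one_of_isConj_inv ⟨j, ?_⟩ ?_
    · rw [← Subgroup.index_eq_card, hj]
    · rw [← QuotientGroup.mk_inv]
      exact isConj_iff.2 ⟨(y : Γ ⧸ K), by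
        rw [← QuotientGroup.mk_inv, ← QuotientGroup.mk_mul, ← QuotientGroup.mk_mul, hy]⟩
  obtain ⟨Q, hQn, hQK, hQp, hQi⟩ := RealPDegree.exists_normal_sylow _ Γ rfl hsolv hreal K hKn le_rfl
    (fun u hu => ⟨0, by rw [pow_zero, pow_one]; exact hu⟩)
  haveI := hQn
  have hQP : Q ≤ (P : Subgroup Γ) := by
    have h1 : IsPGroup p ((P : Subgroup Γ) ⊔ Q : Subgroup Γ) := P.2.to_sup_of_normal_right hQp
    exact le_sup_right.trans (P.is_maximal' h1 le_sup_left).le
  let π := QuotientGroup.mk' Q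
  have hπ : Function.Surjective π := QuotientGroup.mk'_surjective Q
  haveI hKbn : (K.map π).Normal := hKn.map π hπ
  have hKbp : ¬ p ∣ Nat.card (K.map π) := by
    have h1 := Subgroup.relIndex_ker K π
    rw [QuotientGroup.ker_mk'] at h1
    rw [← h1]
    exact hQi
  have hKbodd : Odd (K.map π).index :=
    Odd.of_dvd_nat ⟨j, hj⟩ (Subgroup.index_map_dvd _ hπ)
  have hrealb : ∀ χ : IrrCharacter (Γ ⧸ Q), IsReal (χ : Γ ⧸ Q → ℂ) →
      ¬ p ∣ charDegree (χ : Γ ⧸ Q → ℂ) := fun χ hχ => by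
    have := hreal ⟨fun g => (χ : Γ ⧸ Q → ℂ) g, isIrrCharacter_inflate Q χ.2⟩ (fun g => hχ _)
    simpa [charDegree] using this
  have hxb : IsConj (⟨π x, mem_map_of_mem π hxK⟩ : K.map π)
      (⟨π x, mem_map_of_mem π hxK⟩ : K.map π)⁻¹ :=
    isConj_iff.2 ⟨⟨π (y ^ K.index), mem_map_of_mem π hky⟩, Subtype.ext (by
      show π (y ^ K.index) * π x * (π (y ^ K.index))⁻¹ = (π x)⁻¹
      rw [← map_inv, ← map_inv, ← map_mul, ← map_mul, hkx])⟩
  obtain ⟨c, hc, hxc⟩ := exists_conj_mem_centralizer (K.map π) hKbp hKbodd hrealb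
    (P.mapSurjective hπ) _ hxb
  obtain ⟨h, hh⟩ := isConj_iff.1 hxc
  obtain ⟨g, rfl⟩ := hπ h
  refine ⟨g * x * g⁻¹, ?_, isConj_iff.2 ⟨g, rfl⟩⟩
  have key : ∀ s ∈ (P : Subgroup Γ), (g * x * g⁻¹) * s * (g * x * g⁻¹)⁻¹ ∈ (P : Subgroup Γ) ∧
      (g * x * g⁻¹)⁻¹ * s * (g * x * g⁻¹) ∈ (P : Subgroup Γ) := by
    intro s hs
    have hcs : π s * c = c * π s := mem_centralizer_iff.1 hc (π s) (by
      rw [Sylow.coe_mapSurjective]; exact mem_map_of_mem π hs)
    have hgc : π (g * x * g⁻¹) = c := by rw [map_mul, map_mul, map_inv]; exact hh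
    refine ⟨?_, ?_⟩
    · have h1 : (g * x * g⁻¹) * s * (g * x * g⁻¹)⁻¹ * s⁻¹ ∈ Q := by
        rw [← QuotientGroup.ker_mk' Q, MonoidHom.mem_ker]
        show π _ = 1
        simp only [map_mul, map_inv, ← hgc] at hcs ⊢
        rw [← hcs]; group
      have := mul_mem (hQP h1) hs
      simpa [mul_assoc] using this
    · have h1 : (g * x * g⁻¹)⁻¹ * s * (g * x * g⁻¹) * s⁻¹ ∈ Q := by
        rw [← QuotientGroup.ker_mk' Q, MonoidHom.mem_ker]
        show π _ = 1
        simp only [map_mul, map_inv, ← hgc] at hcs ⊢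
        rw [mul_assoc _ (π s), hcs]; group
      have := mul_mem (hQP h1) hs
      simpa [mul_assoc] using this
  refine mem_normalizer_iff.2 fun s => ⟨fun hs => (key s hs).1, fun hs => ?_⟩
  simpa [mul_assoc] using (key _ hs).2

end Cfsg.Lib.Char.RealClassNormalizer
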