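import Cfsg.Agent.Lib.Char.RealOddCorrespondence

/-!
# Counting real characters of odd degree; when all characters of odd degree are real
-/

set_option autoImplicit false
set_option linter.unusedSectionVars false
set_option linter.style.haveILetI false

namespace Cfsg.Lib.Char.RealOdd

open Cfsg Cfsg.Lib Subgroup
open scoped ComplexConjugate

universe u

attribute [local instance 100] Fintype.ofFinite

variable {G : Type u} [Group G] [Finite G] {S : Type u} [Group S] [Finite S] {ι : S →* G}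

theorem uniq [Group.IsSolvable G] (hι : IsSylowMap ι) : Uniq ι := uniq_aux _ G S ι rfl hι

/-- Real irreducible characters of odd degree. -/
abbrev RealOddChar (G : Type u) [Group G] [Finite G] : Type u :=
  {χ : IrrCharacter G // IsReal (χ : G → ℂ) ∧ Odd (charDegree (χ : G → ℂ))}

/-- Sign characters which factor through the image. -/
abbrev SignChar (ι : S →* G) : Type u :=
  {μ : S →* ℂˣ // (∀ s, μ s * μ s = 1) ∧ Factors ι μ}

/-- Classes of sign characters. -/
@[instance_reducible]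
def classSetoid (ι : S →* G) : Setoid (SignChar ι) :=
  ⟨fun a b => NConj ι a.1 b.1, fun a => NConj.refl a.1, fun {a _} h => h.symm a.2.2, fun h h' => h.trans h'⟩

theorem card_realOddChar [Group.IsSolvable G] (hι : IsSylowMap ι) :
    Nat.card (RealOddChar G) = Nat.card (Quotient (classSetoid ι)) := by
  choose f hfsq hff hfrel using fun χ : RealOddChar G => exists_right hι χ.2.1 χ.2.2
  refine Nat.card_eq_of_bijective
    (fun χ => Quotient.mk (classSetoid ι) ⟨f χ, hfsq χ, hff χ⟩) ⟨fun χ χ' h => ?_, ?_⟩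
  · have hc : NConj ι (f χ) (f χ') := Quotient.exact h
    exact Subtype.ext ((uniq hι).1 (f χ') (hfsq χ') (hff χ') χ.1 χ'.1 χ.2.1 χ.2.2 χ'.2.1 χ'.2.2
      ((hfrel χ).conj_right χ.1.2.isClassFunction (hff χ) (hff χ') hc) (hfrel χ'))
  · intro q
    induction q using Quotient.ind with
    | _ μ =>
      obtain ⟨χ, hr, ho, hrel⟩ := exists_left hι μ.2.1 μ.2.2
      exact ⟨⟨χ, hr, ho⟩, Quotient.sound ((uniq hι).2 _ μ.1 (hfsq _) (hff _) μ.2.1 μ.2.2 χ hr ho
        (hfrel ⟨χ, hr, ho⟩) hrel)⟩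

theorem isSylowMap_subtype (P : Sylow 2 G) : IsSylowMap (P : Subgroup G).subtype := by
  haveI : Fact (Nat.Prime 2) := ⟨Nat.prime_two⟩
  refine ⟨P.isPGroup', ?_⟩
  rw [Subgroup.range_subtype]
  exact P.not_dvd_index

theorem factors_of_injective (hinj : Function.Injective ι) (μ : S →* ℂˣ) : Factors ι μ := by
  intro s hs
  rw [hinj (hs.trans (map_one ι).symm), map_one]

theorem mem_normalizer_of_conj (P : Subgroup G) (n : G)
    (h : ∀ s : P, ∃ t : P, P.subtype t = n * P.subtype s * n⁻¹) :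
    n ∈ Subgroup.normalizer (P : Set G) := by
  rw [Subgroup.mem_normalizer_iff]
  intro x
  constructor
  · intro hx
    obtain ⟨t, ht⟩ := h ⟨x, hx⟩
    exact (show (t : G) = n * x * n⁻¹ from ht) ▸ t.2
  · intro hx
    obtain ⟨t, ht⟩ := conj_surj h ⟨_, hx⟩
    have e : (t : G) = x := by
      rw [show (t : G) = n⁻¹ * (n * x * n⁻¹) * n from ht]
      group
    exact e ▸ t.2

theorem card_realOddChar_normalizer [Group.IsSolvable G] (P : Sylow 2 G) :
    Nat.card (RealOddChar G) =
      Nat.card (RealOddChar (Subgroup.normalizer ((P : Subgroup G) : Set G))) := by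
  set N := Subgroup.normalizer ((P : Subgroup G) : Set G) with hN
  let ιN : (P : Subgroup G) →* N := Subgroup.inclusion Subgroup.le_normalizer
  have hιN : IsSylowMap ιN :=
    isSylowMap_codRestrict (isSylowMap_subtype P) N ιN fun _ => rfl
  rw [card_realOddChar (isSylowMap_subtype P), card_realOddChar hιN]
  refine Nat.card_congr (Quotient.congr (Equiv.subtypeEquivRight fun μ => and_congr_right fun _ =>
    iff_of_true (factors_of_injective Subtype.val_injective μ)
      (factors_of_injective (Subgroup.inclusion_injective _) μ)) ?_)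
  intro a b
  constructor
  · rintro ⟨n, hn⟩
    refine ⟨⟨n, mem_normalizer_of_conj _ n fun s => (hn s).imp fun _ h => h.1⟩, fun s => ?_⟩
    obtain ⟨t, ht, hν⟩ := hn s
    exact ⟨t, Subtype.ext ht, hν⟩
  · rintro ⟨n, hn⟩
    refine ⟨(n : G), fun s => ?_⟩
    obtain ⟨t, ht, hν⟩ := hn s
    exact ⟨t, congrArg Subtype.val ht, hν⟩

/-- All linear characters are signs. -/
def CondSign (ι : S →* G) : Prop := ∀ μ : S →* ℂˣ, Factors ι μ → ∀ s, μ s * μ s = 1

/-- The image is its own normaliser. -/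
def CondNorm (ι : S →* G) : Prop :=
  ∀ n : G, (∀ s, ∃ t, ι t = n * ι s * n⁻¹) → n ∈ ι.range

theorem CondSign.quotient (h : CondSign ι) (M : Subgroup G) [M.Normal] :
    CondSign ((QuotientGroup.mk' M).comp ι) :=
  fun μ hμ => h μ fun s hs => hμ s (by rw [MonoidHom.comp_apply, hs, map_one])

theorem CondNorm.quotient (h : CondNorm ι) (hι : IsSylowMap ι) (M : Subgroup G) [M.Normal] :
    CondNorm ((QuotientGroup.mk' M).comp ι) := by
  intro q hq
  obtain ⟨g, rfl⟩ := QuotientGroup.mk_surjective q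
  have hg : ∀ s, g * ι s * g⁻¹ ∈ ι.range ⊔ M := fun s => by
    obtain ⟨t, ht⟩ := hq s
    have h2 : (ι t)⁻¹ * (g * ι s * g⁻¹) ∈ M := QuotientGroup.eq.1 (by simpa using! ht)
    have h3 := mul_mem (mem_sup_left (T := M) (MonoidHom.mem_range.2 ⟨t, rfl⟩ : ι t ∈ ι.range))
      (mem_sup_right h2)
    rwa [mul_inv_cancel_left] at h3
  obtain ⟨b, hb, hn⟩ := exists_normalizing hι _ le_sup_left g hg
  have hg2 : g ∈ ι.range ⊔ M := by
    have h3 := mul_mem (inv_mem hb) (mem_sup_left (T := M) (h _ hn))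
    rwa [inv_mul_cancel_left] at h3
  obtain ⟨x, ⟨s, rfl⟩, m, hm, rfl⟩ := Subgroup.mem_sup_of_normal_right.1 hg2
  refine ⟨s, ?_⟩
  show (QuotientGroup.mk (ι s) : G ⧸ M) = QuotientGroup.mk (ι s * m)
  rw [QuotientGroup.mk_mul, (QuotientGroup.eq_one_iff m).2 hm, mul_one]

theorem eq_one_of_pow_coprime {A : Type*} [Monoid A] {x : A} {a b : ℕ} (ha : x ^ a = 1)
    (hb : x ^ b = 1) (h : Nat.Coprime a b) : x = 1 := by
  have h2 := Nat.dvd_gcd (orderOf_dvd_of_pow_eq_one ha) (orderOf_dvd_of_pow_eq_one hb)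
  rw [h.gcd_eq_one] at h2
  exact orderOf_eq_one_iff.1 (Nat.dvd_one.1 h2)

/-- The product of the conjugates under a subgroup. -/
theorem exists_average (R M : Subgroup G) [M.Normal] (hM : ∀ a b : M, a * b = b * a) :
    ∃ c : M →* M, (∀ y ∈ R, ∀ m, y * (c m : G) * y⁻¹ = c m) ∧
      (∀ y ∈ R, ∀ m : M, c (MulAut.conjNormal y m) = c m) ∧
      (∀ m : M, (∀ y ∈ R, y * (m : G) * y⁻¹ = m) → c m = m ^ Nat.card R) ∧
      ∀ θ : M →* ℂˣ, (∀ y ∈ R, ∀ m : M, θ (MulAut.conjNormal y m) = θ m) →
        ∀ m, θ (c m) = θ m ^ Nat.card R := by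
  letI : CommGroup M := { (inferInstance : Group M) with mul_comm := hM }
  let c : M →* M := MonoidHom.mk' (fun m => ∏ y : R, MulAut.conjNormal (y : G) m)
    fun a b => by simp only [map_mul, Finset.prod_mul_distrib]
  refine ⟨c, fun y hy m => ?_, fun y hy m => ?_, fun m hm => ?_, fun θ hθ m => ?_⟩
  · rw [← MulAut.conjNormal_apply]
    congr 1
    show MulAut.conjNormal y (∏ z : R, MulAut.conjNormal (z : G) m) = ∏ z : R, MulAut.conjNormal (z : G) m
    rw [map_prod]
    refine Fintype.prod_equiv (Equiv.mulLeft ⟨y, hy⟩) _ _ fun z => ?_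
    rw [← MulAut.mul_apply, ← map_mul]
    rfl
  · show ∏ z : R, MulAut.conjNormal (z : G) (MulAut.conjNormal y m) = ∏ z : R, MulAut.conjNormal (z : G) m
    refine Fintype.prod_equiv (Equiv.mulRight ⟨y, hy⟩) _ _ fun z => ?_
    rw [← MulAut.mul_apply, ← map_mul]
    rfl
  · show ∏ z : R, MulAut.conjNormal (z : G) m = m ^ Nat.card R
    rw [Finset.prod_congr rfl (g := fun _ => m) fun (z : R) _ => Subtype.ext (hm z z.2),
      Finset.prod_const, Finset.card_univ, Nat.card_eq_fintype_card]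
  · show θ (∏ z : R, MulAut.conjNormal (z : G) m) = θ m ^ Nat.card R
    rw [map_prod, Finset.prod_congr rfl (g := fun _ => θ m) fun (z : R) _ => hθ z z.2 m,
      Finset.prod_const, Finset.card_univ, Nat.card_eq_fintype_card]

theorem isReal_of_cond_aux (n : ℕ) : ∀ (G : Type u) [Group G] [Finite G] [Group.IsSolvable G]
    (S : Type u) [Group S] [Finite S] (ι : S →* G),
    Nat.card G = n → IsSylowMap ι → CondSign ι → CondNorm ι →
      ∀ χ : IrrCharacter G, Odd (charDegree (χ : G → ℂ)) → IsReal (χ : G → ℂ) := by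
  induction n using Nat.strong_induction_on with
  | _ n ih =>
  intro G _ _ _ S _ _ ι hn hι hS hN χ ho
  subst hn
  rcases subsingleton_or_nontrivial G with hG | hG
  · intro g
    rw [Subsingleton.elim g 1, degree_eq, Complex.conj_natCast]
  obtain ⟨r, M, hr, hMn, hMb, hMc, hMe⟩ := exists_normal_elementary (G := G)
  haveI := hMn
  haveI := Fact.mk hr
  have hM1 : 1 < Nat.card M := by
    haveI := (Subgroup.nontrivial_iff_ne_bot M).2 hMb
    exact Finite.one_lt_card
  obtain ⟨k, hk⟩ := IsPGroup.iff_card.1 (range_two hι)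
  obtain ⟨θ, hc, hRT⟩ := exists_fixed_constituent M hMc (range_two hι) ho
  rcases hr.eq_two_or_odd' with rfl | hodd
  · haveI : Fact (Nat.Prime 2) := ⟨Nat.prime_two⟩
    have hMR : M ≤ ι.range := by
      have h1 : IsPGroup 2 M := fun m => ⟨1, Subtype.ext (by simpa using! hMe m m.2)⟩
      exact h1.le_sylow_of_normal ((range_two hι).toSylow hι.index)
    have hM2 : ∀ m ∈ M, m * m = 1 := fun m hm => by rw [← pow_two]; exact hMe m hm
    have hθi : IsIrrCharacter M (fun x : M => (θ x : ℂ)) := isIrrCharacter_linear θ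
    have hMT : M ≤ inertia M (fun x : M => (θ x : ℂ)) := hMR.trans hRT
    obtain ⟨ψ, hψ, hcψ, hind, -⟩ := clifford_exists M hθi hMT rfl χ.2 hc
    have hψo : Odd (charDegree ψ) := by
      have h1 := congrFun hind 1
      rw [indFun_apply_one, degree_eq, show ψ 1 = _ from degree_eq ⟨ψ, hψ⟩] at h1
      have h2 : (inertia M (fun x : M => (θ x : ℂ))).index * charDegree ψ =
          charDegree (χ : G → ℂ) := by exact_mod_cast h1
      rw [← h2] at ho
      exact (Nat.odd_mul.1 ho).2
    have hres : IsCharacter ι.range (fun x : ι.range => ψ ⟨x, hRT x.2⟩) :=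
      hψ.isCharacter.comp (Subgroup.inclusion hRT)
    obtain ⟨φ, hφo, m, hm, hin⟩ := exists_odd_constituent hres (d := charDegree ψ)
      (degree_eq ⟨ψ, hψ⟩) hψo
    obtain ⟨l, hl⟩ := exists_hom_of_odd_degree (range_two hι) φ hφo
    let μ : S →* ℂˣ := l.comp ι.rangeRestrict
    have hμ : Factors ι μ := fun s hs => by
      show l (ι.rangeRestrict s) = 1
      rw [show ι.rangeRestrict s = 1 from Subtype.ext hs, map_one]
    have hlift : hμ.lift = l := MonoidHom.ext fun x => by
      obtain ⟨s, rfl⟩ := ι.rangeRestrict_surjective x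
      exact hμ.lift_apply s
    have hm0 : (m : ℂ) ≠ 0 := Nat.cast_ne_zero.2 (by rintro rfl; exact absurd hm (by decide))
    obtain rfl : hμ.res hMR = θ := by
      have h3 := constituent_res hμ hMR hres (by
        rw [hlift]
        rw [hl] at hin
        rw [hin]
        exact hm0)
      by_contra hne
      refine h3 ?_
      rw [show (fun x : M => (fun x : ι.range => ψ ⟨x, hRT x.2⟩) ⟨x, hMR x.2⟩) =
          fun x : M => ψ ⟨x, hMT x.2⟩ from rfl, res_eq_smul M hθi hMT rfl hψ hcψ,
        classInner_smul_left, classInner_irr_ne hθi (isIrrCharacter_linear _) ?_, mul_zero]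
      exact fun he => hne (linearChar_injective he).symm
    let ιT : S →* (inertia M (fun x : M => (hμ.res hMR x : ℂ))) := ι.codRestrict (inertia M (fun x : M => (hμ.res hMR x : ℂ))) fun s => hRT ⟨s, rfl⟩
    obtain ⟨ε, hε2, hεM⟩ := exists_sign_ext hι hMR hM2 hμ
    have hε2' := hε2 (hS μ hμ)
    haveI : (M.subgroupOf (inertia M (fun x : M => (hμ.res hMR x : ℂ)))).Normal := Subgroup.Normal.subgroupOf hMn (inertia M (fun x : M => (hμ.res hMR x : ℂ)))
    set ψ₀ : IrrCharacter (inertia M (fun x : M => (hμ.res hMR x : ℂ))) := ⟨fun t => ψ t * (ε t : ℂ), isIrrCharacter_mul_linear hψ ε⟩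
    have hker : ∀ n ∈ M.subgroupOf (inertia M (fun x : M => (hμ.res hMR x : ℂ))), (ψ₀ : (inertia M (fun x : M => (hμ.res hMR x : ℂ))) → ℂ) n = (ψ₀ : (inertia M (fun x : M => (hμ.res hMR x : ℂ))) → ℂ) 1 := by
      intro n hn
      have hres1 := res_eq_smul M hθi hMT rfl hψ hcψ
      have h1 := congrFun hres1 ⟨(n : G), hn⟩
      have h2 := congrFun hres1 1
      simp only [Pi.smul_apply, smul_eq_mul, map_one, Units.val_one, mul_one] at h1 h2
      show ψ n * (ε n : ℂ) = ψ 1 * (ε 1 : ℂ)
      rw [show ε n = hμ.res hMR ⟨(n : G), hn⟩ from hεM ⟨(n : G), hn⟩ n.2, map_one, Units.val_one,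
        mul_one]
      refine Eq.trans ?_ h2.symm
      rw [show ψ n = _ from h1, mul_assoc, ← Units.val_mul, hμ.res_sq hMR hM2, Units.val_one,
        mul_one]
    obtain ⟨ψ', -, hψr, hψd⟩ := exists_deflate_real (M.subgroupOf (inertia M (fun x : M => (hμ.res hMR x : ℂ)))) ψ₀ hker
    have hlt : Nat.card ((inertia M (fun x : M => (hμ.res hMR x : ℂ))) ⧸ M.subgroupOf (inertia M (fun x : M => (hμ.res hMR x : ℂ)))) < Nat.card G := by
      calc Nat.card ((inertia M (fun x : M => (hμ.res hMR x : ℂ))) ⧸ M.subgroupOf (inertia M (fun x : M => (hμ.res hMR x : ℂ)))) < Nat.card (inertia M (fun x : M => (hμ.res hMR x : ℂ))) := by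
            rw [Subgroup.card_eq_card_quotient_mul_card_subgroup (M.subgroupOf (inertia M (fun x : M => (hμ.res hMR x : ℂ)))),
              Nat.card_congr (Subgroup.subgroupOfEquivOfLe hMT).toEquiv]
            exact lt_mul_of_one_lt_right Nat.card_pos hM1
        _ ≤ Nat.card G := Subgroup.card_le_card_group (inertia M (fun x : M => (hμ.res hMR x : ℂ)))
    have hιT := isSylowMap_codRestrict hι (inertia M (fun x : M => (hμ.res hMR x : ℂ))) ιT fun s => rfl
    have hST : CondSign ιT := fun ν hν => hS ν fun s hs => hν s (Subtype.ext hs)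
    have hNT : CondNorm ιT := fun n hn => by
      obtain ⟨s, hs⟩ := hN (n : G) fun s => (hn s).imp fun t h => congrArg Subtype.val h
      exact ⟨s, Subtype.ext hs⟩
    have h0 : IsReal (ψ₀ : (inertia M (fun x : M => (hμ.res hMR x : ℂ))) → ℂ) := hψr.1 (ih _ hlt ((inertia M (fun x : M => (hμ.res hMR x : ℂ))) ⧸ M.subgroupOf (inertia M (fun x : M => (hμ.res hMR x : ℂ)))) S _ rfl
      (isSylowMap_quotient hιT _) (hST.quotient _) (hNT.quotient hιT _) ψ'
      (by rw [hψd, show (ψ₀ : (inertia M (fun x : M => (hμ.res hMR x : ℂ))) → ℂ) = fun t => ψ t * (ε t : ℂ) from rfl, charDegree_mul_hom]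
          exact hψo))
    have hψreal : IsReal ψ := fun t => by
      have h2 : ψ t = (ψ₀ : (inertia M (fun x : M => (hμ.res hMR x : ℂ))) → ℂ) t * (ε t : ℂ) := by
        show ψ t = ψ t * (ε t : ℂ) * (ε t : ℂ)
        rw [mul_assoc, ← Units.val_mul, hε2', Units.val_one, mul_one]
      rw [h2, map_mul, h0 t, isReal_of_sq hε2' t]
    rw [← hind]
    exact isReal_indFun _ hψreal
  · have hcop : Nat.Coprime (2 ^ k) r := Nat.Coprime.pow_left k (Nat.coprime_two_left.2 hodd)
    obtain ⟨c, hc1, -, -, hcθ⟩ := exists_average ι.range M hMc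
    have hθR : ∀ y ∈ ι.range, ∀ m : M, θ (MulAut.conjNormal y m) = θ m := fun y hy m =>
      Units.ext ((mem_inertia_iff M).1 (hRT hy) m)
    have hθ1 : ∀ m, θ m = 1 := by
      intro m
      have hcm : c m = 1 := by
        have hmem : (c m : G) ∈ ι.range := hN _ fun s => ⟨s, by
          have h3 := hc1 (ι s) ⟨s, rfl⟩ m
          rw [mul_inv_eq_iff_eq_mul] at h3
          rw [← h3, mul_inv_cancel_right]⟩
        have h4 : (c m : G) ^ (2 ^ k) = 1 := by
          rw [← hk]
          exact congrArg Subtype.val (pow_card_eq_one' (x := (⟨_, hmem⟩ : ι.range)))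
        exact Subtype.ext (eq_one_of_pow_coprime h4 (hMe _ (c m).2) hcop)
      refine eq_one_of_pow_coprime (a := 2 ^ k) ?_ ?_ hcop
      · rw [← hk, ← hcθ θ hθR m, hcm, map_one]
      · rw [← map_pow, show m ^ r = 1 from Subtype.ext (hMe m m.2), map_one]
    have hker := kernel_of_trivial_constituent M χ.2 (by simpa [hθ1] using! hc)
    obtain ⟨ψ', -, hψr, hψd⟩ := exists_deflate_real M χ hker
    refine hψr.1 (ih _ ?_ (G ⧸ M) S _ rfl (isSylowMap_quotient hι M) (hS.quotient M)
      (hN.quotient hι M) ψ' (hψd.symm ▸ ho))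
    rw [Subgroup.card_eq_card_quotient_mul_card_subgroup M]
    exact lt_mul_of_one_lt_right Nat.card_pos hM1

theorem cond_of_isReal_aux (n : ℕ) : ∀ (G : Type u) [Group G] [Finite G] [Group.IsSolvable G]
    (S : Type u) [Group S] [Finite S] (ι : S →* G),
    Nat.card G = n → IsSylowMap ι →
      (∀ χ : IrrCharacter G, Odd (charDegree (χ : G → ℂ)) → IsReal (χ : G → ℂ)) →
      CondSign ι ∧ CondNorm ι := by
  induction n using Nat.strong_induction_on with
  | _ n ih =>
  intro G _ _ _ S _ _ ι hn hι hA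
  subst hn
  rcases subsingleton_or_nontrivial G with hG | hG
  · refine ⟨fun μ hμ s => ?_, fun n _ => ⟨1, Subsingleton.elim _ _⟩⟩
    rw [hμ s (Subsingleton.elim _ _), one_mul]
  obtain ⟨r, M, hr, hMn, hMb, hMc, hMe⟩ := exists_normal_elementary (G := G)
  haveI := hMn
  haveI := Fact.mk hr
  have hM1 : 1 < Nat.card M := by
    haveI := (Subgroup.nontrivial_iff_ne_bot M).2 hMb
    exact Finite.one_lt_card
  obtain ⟨hS', hN'⟩ := ih _
    (by rw [Subgroup.card_eq_card_quotient_mul_card_subgroup M]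
        exact lt_mul_of_one_lt_right Nat.card_pos hM1)
    (G ⧸ M) S _ rfl (isSylowMap_quotient hι M) fun χ hχo q => by
      obtain ⟨g, rfl⟩ := QuotientGroup.mk_surjective q
      exact hA ⟨fun g : G => (χ : G ⧸ M → ℂ) g, isIrrCharacter_inflate M χ.2⟩
        (by simpa [charDegree] using! hχo) g
  have hsup : ∀ n, (∀ s, ∃ t, ι t = n * ι s * n⁻¹) → ∃ s, ∃ m ∈ M, n = ι s * m := by
    intro n hn
    obtain ⟨s, hs⟩ := hN' (QuotientGroup.mk n) fun s => by
      obtain ⟨t, ht⟩ := hn s
      exact ⟨t, by simp [ht]⟩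
    refine ⟨s, (ι s)⁻¹ * n, QuotientGroup.eq.1 hs, by group⟩
  obtain ⟨k, hk⟩ := IsPGroup.iff_card.1 (range_two hι)
  rcases hr.eq_two_or_odd' with rfl | hodd
  · haveI : Fact (Nat.Prime 2) := ⟨Nat.prime_two⟩
    have hMR : M ≤ ι.range := by
      have h1 : IsPGroup 2 M := fun m => ⟨1, Subtype.ext (by simpa using! hMe m m.2)⟩
      exact h1.le_sylow_of_normal ((range_two hι).toSylow hι.index)
    have hM2 : ∀ m ∈ M, m * m = 1 := fun m hm => by rw [← pow_two]; exact hMe m hm
    refine ⟨fun μ hμ s => ?_, fun n hn => ?_⟩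
    · set T := inertia M (fun x : M => (hμ.res hMR x : ℂ)) with hT
      have hRT := hμ.range_le_inertia hMR
      have hMT : M ≤ T := hMR.trans hRT
      let ιT : S →* T := ι.codRestrict T fun a => hRT ⟨a, rfl⟩
      obtain ⟨ε, -, hεM⟩ := exists_sign_ext hι hMR hM2 hμ
      have hθi : IsIrrCharacter M (fun x : M => (hμ.res hMR x : ℂ)) := isIrrCharacter_linear _
      have hε := isIrrCharacter_linear ε
      have hres : (fun x : M => (ε ⟨x, hMT x.2⟩ : ℂ)) = fun x : M => (hμ.res hMR x : ℂ) :=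
        funext fun x => congrArg Units.val (hεM x _)
      have hcε : classInner (fun x : M => (ε ⟨x, hMT x.2⟩ : ℂ))
          (fun x : M => (hμ.res hMR x : ℂ)) ≠ 0 := by
        rw [hres, classInner_irr_self hθi]
        exact one_ne_zero
      obtain ⟨hirr, -⟩ := clifford_induce M hθi hMT hT hε hcε
      have hodd2 : Odd T.index :=
        (odd_index hι).of_dvd_nat (Subgroup.index_dvd_of_le hRT)
      have hdeg : charDegree (indFun T fun t => (ε t : ℂ)) = T.index :=
        Block.charDegree_eq_of_apply_one (by rw [indFun_apply_one, map_one, Units.val_one, mul_one])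
      have hr1 : IsReal (indFun T fun t => (ε t : ℂ)) := hA ⟨_, hirr⟩ (hdeg.symm ▸ hodd2)
      have hconj : (fun t => conj (ε t : ℂ)) = fun t => (ε t : ℂ) := by
        refine clifford_injective M hθi hMT hT (isIrrCharacter_conjFn hε) hε ?_ hcε ?_
        · rw [show (fun x : M => conj (ε ⟨x, hMT x.2⟩ : ℂ)) = fun x : M => (hμ.res hMR x : ℂ) from
            funext fun x => by
              rw [congrFun hres x]; exact isReal_of_sq (hμ.res_sq hMR hM2) x]
          rw [classInner_irr_self hθi]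
          exact one_ne_zero
        · rw [indFun_conjFn]
          exact funext hr1
      have hε2 : ∀ t, ε t * ε t = 1 := sq_eq_one_of_real (fun t => congrFun hconj t)
      have h' : ∀ a, (μ * (ε.comp ιT)⁻¹) a * (μ * (ε.comp ιT)⁻¹) a = 1 := by
        refine hS' _ (factors_quotient fun a ha => ?_)
        rw [MonoidHom.mul_apply, MonoidHom.inv_apply, MonoidHom.comp_apply,
          show ιT a = ⟨ι a, hMT ha⟩ from rfl, hεM ⟨ι a, ha⟩, hμ.res_apply hMR a ha, mul_inv_cancel]
      have h2 := h' s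
      simp only [MonoidHom.mul_apply, MonoidHom.inv_apply, MonoidHom.comp_apply] at h2
      rwa [mul_mul_mul_comm, ← mul_inv, hε2, inv_one, mul_one] at h2
    · obtain ⟨a, m, hm, rfl⟩ := hsup n hn
      exact mul_mem ⟨a, rfl⟩ (hMR hm)
  · have hcop : Nat.Coprime (2 ^ k) r := Nat.Coprime.pow_left k (Nat.coprime_two_left.2 hodd)
    have hRM : ∀ x ∈ ι.range, x ∈ M → x = 1 := fun x hxR hxM =>
      eq_one_of_pow_coprime (hk ▸ congrArg Subtype.val (pow_card_eq_one' (x := (⟨x, hxR⟩ : ι.range))))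
        (hMe x hxM) hcop
    refine ⟨fun μ hμ => hS' μ (factors_quotient fun s hs => hμ s (hRM _ ⟨s, rfl⟩ hs)),
      fun n hn => ?_⟩
    obtain ⟨a, m, hm, rfl⟩ := hsup n hn
    suffices hm1 : m = 1 by rw [hm1, mul_one]; exact ⟨a, rfl⟩
    have hfix : ∀ y ∈ ι.range, y * m * y⁻¹ = m := by
      rintro _ ⟨s, rfl⟩
      obtain ⟨t, ht⟩ := hn s
      have h1 : m * ι s * m⁻¹ * (ι s)⁻¹ = 1 := by
        refine hRM _ ?_ ?_
        · have h2 : m * ι s * m⁻¹ = ι (a⁻¹ * t * a) := by
            rw [map_mul, map_mul, map_inv, ht]; group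
          rw [h2, ← map_inv, ← map_mul]
          exact ⟨_, rfl⟩
        · have h3 := mul_mem hm (hMn.conj_mem _ (inv_mem hm) (ι s))
          rwa [show m * (ι s * m⁻¹ * (ι s)⁻¹) = m * ι s * m⁻¹ * (ι s)⁻¹ by group] at h3
      calc ι s * m * (ι s)⁻¹ = (m * ι s * m⁻¹ * (ι s)⁻¹)⁻¹ * m := by group
        _ = m := by rw [h1, inv_one, one_mul]
    by_contra hm1
    obtain ⟨c, -, hc2, hc3, -⟩ := exists_average ι.range M hMc
    letI : CommGroup M := { (inferInstance : Group M) with mul_comm := hMc }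
    haveI : NeZero (Monoid.exponent M) := ⟨Monoid.exponent_ne_zero_of_finite⟩
    obtain ⟨θ₀, hθ₀⟩ := CommGroup.exists_apply_ne_one_of_hasEnoughRootsOfUnity M ℂ
      (a := (⟨m, hm⟩ : M)) (fun h => hm1 (congrArg Subtype.val h))
    let θ : M →* ℂˣ := θ₀.comp c
    have hθm : θ ⟨m, hm⟩ ≠ 1 := by
      intro h
      change θ₀ (c ⟨m, hm⟩) = 1 at h
      rw [hc3 ⟨m, hm⟩ hfix, map_pow, hk] at h
      exact hθ₀ (eq_one_of_pow_coprime h
        (by rw [← map_pow, show (⟨m, hm⟩ : M) ^ r = 1 from Subtype.ext (hMe m hm), map_one]) hcop)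
    have hθi : IsIrrCharacter M (fun x : M => (θ x : ℂ)) := isIrrCharacter_linear θ
    set B := ι.range ⊔ M with hB
    have hBT : B ≤ inertia M (fun x : M => (θ x : ℂ)) := by
      refine sup_le (fun y hy => (mem_inertia_iff M).2 fun x => ?_) (le_inertia M hθi.isClassFunction)
      exact congrArg Units.val (congrArg θ₀ (hc2 y hy x))
    have hMB : M ≤ B := le_sup_right
    haveI : (M.subgroupOf B).Normal := Subgroup.Normal.subgroupOf hMn B
    let φ : M.subgroupOf B →* ℂˣ := θ.comp (Subgroup.subgroupOfEquivOfLe hMB).toMonoidHom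
    obtain ⟨j, hj⟩ : ∃ j, (M.subgroupOf B).index = 2 ^ j := by
      haveI : Fact (Nat.Prime 2) := ⟨Nat.prime_two⟩
      rw [Subgroup.index_eq_card]
      refine IsPGroup.iff_card.1 ((range_two hι).of_surjective
        ((QuotientGroup.mk' (M.subgroupOf B)).comp (Subgroup.inclusion (le_sup_left : ι.range ≤ B)))
        fun q => ?_)
      obtain ⟨⟨x, hx⟩, rfl⟩ := QuotientGroup.mk_surjective q
      obtain ⟨y, hy, z, hz, rfl⟩ := Subgroup.mem_sup_of_normal_right.1 hx
      refine ⟨⟨y, hy⟩, QuotientGroup.eq.2 ?_⟩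
      show y⁻¹ * (y * z) ∈ M
      rwa [inv_mul_cancel_left]
    have hinv : ∀ (g : B) (x y : M.subgroupOf B), (x : B) ∈ M.subgroupOf B →
        (y : B) = g * x * g⁻¹ → φ y = φ x := by
      intro g x y hx hy
      have hy' : ((y : B) : G) = (g : G) * ((x : B) : G) * (g : G)⁻¹ := congrArg Subtype.val hy
      have h1 := (mem_inertia_iff M).1 (hBT g.2) ⟨((x : B) : G), hx⟩
      refine Units.ext (Eq.trans ?_ h1)
      exact congrArg (fun z => (θ z : ℂ)) (Subtype.ext hy')
    obtain ⟨ε, hεm⟩ : ∃ ε : B →* ℂˣ, ε ⟨m, hMB hm⟩ = θ ⟨m, hm⟩ ^ 2 ^ j := by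
      refine ⟨φ.transfer, ?_⟩
      rw [transfer_apply_of_invariant (M.subgroupOf B) (M.subgroupOf B) le_rfl φ hinv
        ⟨m, hMB hm⟩ hm, hj]
      rfl
    have hBodd : Odd B.index :=
      (odd_index hι).of_dvd_nat (Subgroup.index_dvd_of_le le_sup_left)
    obtain ⟨χ, hχo, i, hi, hin⟩ := exists_odd_constituent
      (isCharacter_indFun B (isIrrCharacter_linear ε).isCharacter) (d := B.index)
      (by rw [indFun_apply_one, map_one, Units.val_one, mul_one]) hBodd
    rw [classInner_indFun _ _ χ.2.isClassFunction, ← classInner_conj_symm] at hin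
    have hne : classInner (fun x : B => (χ : G → ℂ) x) (fun x : B => (ε x : ℂ)) ≠ 0 := by
      intro h0
      rw [h0, map_zero] at hin
      rw [Nat.cast_eq_zero.1 hin.symm] at hi
      exact absurd hi (by decide)
    let εM : M →* ℂˣ := ε.comp (Subgroup.inclusion hMB)
    have hle := classInner_res_le M hMB (χ.2.isCharacter.comp B.subtype) (isIrrCharacter_linear ε)
      hne (isIrrCharacter_linear εM)
    change (classInner (fun x : M => (εM x : ℂ)) (fun x : M => (εM x : ℂ))).re ≤
      (classInner (fun x : M => (χ : G → ℂ) x) (fun x : M => (εM x : ℂ))).re at hle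
    rw [classInner_irr_self (isIrrCharacter_linear εM), Complex.one_re] at hle
    have hMo : Odd (Nat.card M) := by
      have h1 : IsPGroup r M := fun x => ⟨1, Subtype.ext (by simpa using! hMe x x.2)⟩
      obtain ⟨k', hk'⟩ := IsPGroup.iff_card.1 h1
      rw [hk']; exact hodd.pow
    have hker := kernel_of_real_odd M hMc hMo hχo (hA χ hχo)
    have hone : εM = 1 := by
      by_contra hne1
      have e : (fun x : M => (χ : G → ℂ) x) = (χ : G → ℂ) 1 • fun _ : M => (1 : ℂ) :=
        funext fun x => by rw [hker x x.2]; simp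
      rw [e, classInner_smul_left, classInner_irr_ne isIrrCharacter_one (isIrrCharacter_linear εM)
        (fun he => hne1 (MonoidHom.ext fun x => Units.ext (congrFun he x).symm)), mul_zero,
        Complex.zero_re] at hle
      exact not_le.2 one_pos hle
    refine hθm (eq_one_of_pow_coprime (a := 2 ^ j) ?_
      (by rw [← map_pow, show (⟨m, hm⟩ : M) ^ r = 1 from Subtype.ext (hMe m hm), map_one])
      (Nat.Coprime.pow_left j (Nat.coprime_two_left.2 hodd)))
    rw [← hεm]
    exact DFunLike.congr_fun hone ⟨m, hm⟩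

/-- All characters of odd degree are real exactly under the two conditions. -/
theorem isReal_iff_cond [Group.IsSolvable G] (hι : IsSylowMap ι) :
    (∀ χ : IrrCharacter G, Odd (charDegree (χ : G → ℂ)) → IsReal (χ : G → ℂ)) ↔
      CondSign ι ∧ CondNorm ι :=
  ⟨cond_of_isReal_aux _ G S ι rfl hι, fun h => isReal_of_cond_aux _ G S ι rfl hι h.1 h.2⟩

end Cfsg.Lib.Char.RealOdd
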