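import Cfsg.Agent.Lib.Char.RealOddDegree

/-!
# The correspondence for real characters of odd degree of solvable groups
-/

set_option autoImplicit false
set_option linter.unusedSectionVars false
set_option linter.style.haveILetI false

namespace Cfsg.Lib.Char.RealOdd

open Cfsg Cfsg.Lib Subgroup
open scoped ComplexConjugate

universe u

attribute [local instance 100] Fintype.ofFinite

variable {G : Type u} [Group G] [Finite G] {S : Type u} [Group S] [Finite S] {ι : S →* G}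

theorem IsReal.mul {f f' : G → ℂ} (hf : IsReal f) (hf' : IsReal f') :
    IsReal (fun x => f x * f' x) := fun x => by
  show conj (f x * f' x) = f x * f' x
  rw [map_mul, hf x, hf' x]

theorem charDegree_mul_hom (f : G → ℂ) (ε : G →* ℂˣ) :
    charDegree (fun x => f x * (ε x : ℂ)) = charDegree f := by
  simp [charDegree]

theorem odd_pow_eq_self {A : Type*} [Monoid A] {x : A} (h : x * x = 1) {k : ℕ} (hk : Odd k) :
    x ^ k = x := by
  obtain ⟨j, rfl⟩ := hk
  rw [pow_succ, pow_mul, pow_two, h, one_pow, one_mul]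

theorem isSylowMap_quotient (hι : IsSylowMap ι) (M : Subgroup G) [M.Normal] :
    IsSylowMap ((QuotientGroup.mk' M).comp ι) := by
  refine ⟨hι.two, fun h => hι.index (h.trans ?_)⟩
  rw [MonoidHom.range_comp]
  exact Subgroup.index_map_dvd _ (QuotientGroup.mk'_surjective M)

theorem factors_quotient {M : Subgroup G} [M.Normal] {μ : S →* ℂˣ}
    (h : ∀ s, ι s ∈ M → μ s = 1) : Factors ((QuotientGroup.mk' M).comp ι) μ :=
  fun s hs => h s ((QuotientGroup.eq_one_iff _).1 hs)

theorem exists_deflate_real (M : Subgroup G) [M.Normal] (χ : IrrCharacter G)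
    (hker : ∀ n ∈ M, (χ : G → ℂ) n = (χ : G → ℂ) 1) :
    ∃ ψ : IrrCharacter (G ⧸ M), (∀ g : G, (ψ : G ⧸ M → ℂ) g = (χ : G → ℂ) g) ∧
      (IsReal (ψ : G ⧸ M → ℂ) ↔ IsReal (χ : G → ℂ)) ∧
      charDegree (ψ : G ⧸ M → ℂ) = charDegree (χ : G → ℂ) := by
  obtain ⟨ψ, hψ, he⟩ := exists_deflate_irr M χ.2 hker
  refine ⟨⟨ψ, hψ⟩, he, ⟨fun h g => ?_, fun h q => ?_⟩, ?_⟩
  · rw [← he g]; exact h _
  · obtain ⟨g, rfl⟩ := QuotientGroup.mk_surjective q
    show conj (ψ g) = ψ g
    rw [he g]; exact h g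
  · show charDegree ψ = _
    simp only [charDegree, ← he 1]
    rfl

theorem Uniq.descend_left (M : Subgroup G) [M.Normal]
    (h : Uniq ((QuotientGroup.mk' M).comp ι)) {μ : S →* ℂˣ} (hsq : ∀ s, μ s * μ s = 1)
    (hμM : ∀ s, ι s ∈ M → μ s = 1) {χ χ' : IrrCharacter G}
    (hk : ∀ n ∈ M, (χ : G → ℂ) n = (χ : G → ℂ) 1) (hk' : ∀ n ∈ M, (χ' : G → ℂ) n = (χ' : G → ℂ) 1)
    (hr : IsReal (χ : G → ℂ)) (ho : Odd (charDegree (χ : G → ℂ)))
    (hr' : IsReal (χ' : G → ℂ)) (ho' : Odd (charDegree (χ' : G → ℂ)))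
    (hrel : OddRel ι (χ : G → ℂ) μ) (hrel' : OddRel ι (χ' : G → ℂ) μ) : χ = χ' := by
  obtain ⟨ψ, he, hψr, hψd⟩ := exists_deflate_real M χ hk
  obtain ⟨ψ', he', hψr', hψd'⟩ := exists_deflate_real M χ' hk'
  have := h.1 μ hsq (factors_quotient hμM) ψ ψ' (hψr.2 hr) (hψd.symm ▸ ho) (hψr'.2 hr')
    (hψd'.symm ▸ ho')
    (by obtain ⟨m, hm, e⟩ := hrel; exact ⟨m, hm, by simpa [he] using! e⟩)
    (by obtain ⟨m, hm, e⟩ := hrel'; exact ⟨m, hm, by simpa [he'] using! e⟩)
  subst this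
  exact Subtype.ext (funext fun g => (he g).symm.trans (he' g))

theorem Uniq.descend_right (hι : IsSylowMap ι) (M : Subgroup G) [M.Normal]
    (h : Uniq ((QuotientGroup.mk' M).comp ι)) {μ ν : S →* ℂˣ}
    (hsq : ∀ s, μ s * μ s = 1) (hμM : ∀ s, ι s ∈ M → μ s = 1)
    (hsqν : ∀ s, ν s * ν s = 1) (hνM : ∀ s, ι s ∈ M → ν s = 1) {χ : IrrCharacter G}
    (hk : ∀ n ∈ M, (χ : G → ℂ) n = (χ : G → ℂ) 1)
    (hr : IsReal (χ : G → ℂ)) (ho : Odd (charDegree (χ : G → ℂ)))
    (hrel : OddRel ι (χ : G → ℂ) μ) (hrel' : OddRel ι (χ : G → ℂ) ν) : NConj ι μ ν := by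
  obtain ⟨ψ, he, hψr, hψd⟩ := exists_deflate_real M χ hk
  exact NConj.lift_quotient hι M hμM (h.2 μ ν hsq (factors_quotient hμM) hsqν
    (factors_quotient hνM) ψ (hψr.2 hr) (hψd.symm ▸ ho)
    (by obtain ⟨m, hm, e⟩ := hrel; exact ⟨m, hm, by simpa [he] using! e⟩)
    (by obtain ⟨m, hm, e⟩ := hrel'; exact ⟨m, hm, by simpa [he] using! e⟩))

/-- The restriction of `μ` to a subgroup of the image. -/
noncomputable def Factors.res {μ : S →* ℂˣ} (h : Factors ι μ) {M : Subgroup G}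
    (hMR : M ≤ ι.range) : M →* ℂˣ :=
  h.lift.comp (Subgroup.inclusion hMR)

theorem Factors.res_apply {μ : S →* ℂˣ} (h : Factors ι μ) {M : Subgroup G} (hMR : M ≤ ι.range)
    (s : S) (hs : ι s ∈ M) : h.res hMR ⟨ι s, hs⟩ = μ s :=
  h.lift_apply s

theorem Factors.res_sq {μ : S →* ℂˣ} (h : Factors ι μ) {M : Subgroup G} (hMR : M ≤ ι.range)
    (hM2 : ∀ m ∈ M, m * m = 1) (m : M) : h.res hMR m * h.res hMR m = 1 := by
  rw [← map_mul, show m * m = 1 from Subtype.ext (hM2 m m.2), map_one]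

theorem Factors.range_le_inertia {μ : S →* ℂˣ} (h : Factors ι μ) {M : Subgroup G} [M.Normal]
    (hMR : M ≤ ι.range) : ι.range ≤ inertia M (fun x : M => (h.res hMR x : ℂ)) := by
  rintro _ ⟨a, rfl⟩
  rw [mem_inertia_iff]
  rintro ⟨m, hm⟩
  obtain ⟨s, rfl⟩ := hMR hm
  have e : ι a * ι s * (ι a)⁻¹ = ι (a * s * a⁻¹) := by simp
  have hmem : ι (a * s * a⁻¹) ∈ M := e ▸ Subgroup.Normal.conj_mem ‹_› _ hm _
  show (h.res hMR ⟨ι a * ι s * (ι a)⁻¹, _⟩ : ℂ) = (h.res hMR ⟨ι s, hm⟩ : ℂ)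
  rw [show (⟨ι a * ι s * (ι a)⁻¹, _⟩ : M) = ⟨_, hmem⟩ from Subtype.ext e, h.res_apply,
    h.res_apply, map_mul, map_mul, map_inv, mul_inv_cancel_comm]

theorem classInner_lift {μ : S →* ℂˣ} (h : Factors ι μ) (f : ι.range → ℂ) :
    classInner f (fun x : ι.range => (h.lift x : ℂ)) =
      classInner (fun s => f (ι.rangeRestrict s)) (fun s => (μ s : ℂ)) := by
  rw [← classInner_comp_surjective ι.rangeRestrict ι.rangeRestrict_surjective]
  simp only [h.lift_apply]

/-- A character containing `μ` lies over the restriction of `μ`. -/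
theorem constituent_res {μ : S →* ℂˣ} (h : Factors ι μ) {M : Subgroup G} [M.Normal] (hMR : M ≤ ι.range)
    {f : ι.range → ℂ} (hf : IsCharacter ι.range f)
    (hne : classInner f (fun x : ι.range => (h.lift x : ℂ)) ≠ 0) :
    classInner (fun x : M => f ⟨x, hMR x.2⟩) (fun x : M => (h.res hMR x : ℂ)) ≠ 0 := by
  intro h0
  have hle := classInner_res_le M hMR hf (isIrrCharacter_linear h.lift) hne
    (isIrrCharacter_linear (h.res hMR))
  have h1 : classInner (fun x : M => (h.res hMR x : ℂ)) (fun x : M => (h.res hMR x : ℂ)) = 1 :=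
    classInner_irr_self (isIrrCharacter_linear (h.res hMR))
  change (classInner (fun x : M => (h.res hMR x : ℂ)) (fun x : M => (h.res hMR x : ℂ))).re ≤
    _ at hle
  rw [h1, h0, Complex.one_re, Complex.zero_re] at hle
  exact not_le.2 one_pos hle

theorem isSylowMap_codRestrict (hι : IsSylowMap ι) (T : Subgroup G) (ιT : S →* T)
    (hιT : ∀ s, (ιT s : G) = ι s) : IsSylowMap ιT := by
  have hle : ι.range ≤ T := by
    rintro _ ⟨s, rfl⟩
    rw [← hιT]; exact SetLike.coe_mem _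
  have e : ιT.range = ι.range.subgroupOf T := by
    ext x
    rw [mem_subgroupOf, MonoidHom.mem_range, MonoidHom.mem_range]
    exact exists_congr fun s => by rw [Subtype.ext_iff, hιT]
  refine ⟨hι.two, fun h => hι.index ?_⟩
  rw [e] at h
  exact h.trans ⟨T.index, (Subgroup.relIndex_mul_index hle).symm⟩

/-- A sign extension to the inertia group. -/
theorem exists_sign_ext (hι : IsSylowMap ι) {M : Subgroup G} [M.Normal] (hMR : M ≤ ι.range)
    (hM2 : ∀ m ∈ M, m * m = 1) {μ : S →* ℂˣ} (h : Factors ι μ) :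
    ∃ ε : inertia M (fun x : M => (h.res hMR x : ℂ)) →* ℂˣ,
      ((∀ s, μ s * μ s = 1) → ∀ t, ε t * ε t = 1) ∧
      ∀ (m : M) (hm : (m : G) ∈ inertia M (fun x : M => (h.res hMR x : ℂ))),
        ε ⟨m, hm⟩ = h.res hMR m := by
  classical
  have hRT := h.range_le_inertia hMR
  set T := inertia M (fun x : M => (h.res hMR x : ℂ)) with hT
  haveI : (M.subgroupOf T).Normal := Subgroup.Normal.subgroupOf ‹_› T
  let φ : ι.range.subgroupOf T →* ℂˣ :=
    h.lift.comp (Subgroup.subgroupOfEquivOfLe hRT).toMonoidHom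
  refine ⟨φ.transfer, fun hsq t => ?_, fun m hm => ?_⟩
  · rw [MonoidHom.transfer_eq_prod_quotient_orbitRel_zpowers_quot, ← Finset.prod_mul_distrib]
    refine Finset.prod_eq_one fun q _ => ?_
    have hl : ∀ x : ι.range, h.lift x * h.lift x = 1 := fun x => by
      obtain ⟨s, hs⟩ := ι.rangeRestrict_surjective x
      rw [← hs, h.lift_apply]
      exact hsq s
    exact hl _
  · have hinv : ∀ (g : T) (a b : ι.range.subgroupOf T), (a : T) ∈ M.subgroupOf T →
        (b : T) = g * a * g⁻¹ → φ b = φ a := by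
      intro g a b ha hb
      have h1 := (mem_inertia_iff M).1 g.2 ⟨((a : T) : G), ha⟩
      have hb' : ((b : T) : G) = (g : G) * ((a : T) : G) * (g : G)⁻¹ := congrArg Subtype.val hb
      have hgm : (g : G) * ((a : T) : G) * (g : G)⁻¹ ∈ M := Subgroup.Normal.conj_mem ‹_› _ ha _
      have h2 : (⟨(g : G) * ((a : T) : G) * (g : G)⁻¹, hgm⟩ : M) =
          ⟨((b : T) : G), hb'.symm ▸ hgm⟩ := Subtype.ext hb'.symm
      rw [h2] at h1
      exact Units.ext h1
    rw [transfer_apply_of_invariant (M.subgroupOf T) (ι.range.subgroupOf T)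
      (fun x hx => hMR hx) φ hinv ⟨m, hm⟩ m.2]
    show h.res hMR m ^ _ = _
    refine odd_pow_eq_self (h.res_sq hMR hM2 m) ?_
    exact (odd_index hι).of_dvd_nat ⟨T.index, (Subgroup.relIndex_mul_index hRT).symm⟩

/-- Passing to the inertia group and removing the sign. -/
theorem exists_reduce {M : Subgroup G} [M.Normal] (hMR : M ≤ ι.range) {μ : S →* ℂˣ}
    (h : Factors ι μ) (θ : M →* ℂˣ) (hθ : h.res hMR = θ) (hθ2 : ∀ m, θ m * θ m = 1)
    {T : Subgroup G} (hT : T = inertia M (fun x : M => (θ x : ℂ))) (ιT : S →* T)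
    (hιT : ∀ s, (ιT s : G) = ι s) (ε : T →* ℂˣ) (hε2 : ∀ t, ε t * ε t = 1)
    (hεM : ∀ (m : M) (hm : (m : G) ∈ T), ε ⟨m, hm⟩ = θ m) {χ : IrrCharacter G}
    (hr : IsReal (χ : G → ℂ)) (ho : Odd (charDegree (χ : G → ℂ)))
    (hrel : OddRel ι (χ : G → ℂ) μ) :
    ∃ ψ : IrrCharacter T, IsReal (ψ : T → ℂ) ∧ Odd (charDegree (ψ : T → ℂ)) ∧
      (∀ n ∈ M.subgroupOf T, (ψ : T → ℂ) n = (ψ : T → ℂ) 1) ∧
      indFun T (fun t => (ψ : T → ℂ) t * (ε t : ℂ)) = (χ : G → ℂ) ∧
      OddRel ιT (ψ : T → ℂ) (μ * ε.comp ιT) := by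
  have hθi : IsIrrCharacter M (fun x : M => (θ x : ℂ)) := isIrrCharacter_linear θ
  have hMT : M ≤ T := hT ▸ le_inertia M hθi.isClassFunction
  have hRT : ι.range ≤ T := by
    rintro _ ⟨s, rfl⟩
    rw [← hιT]; exact SetLike.coe_mem _
  obtain ⟨m, hm, hin⟩ := hrel
  have hres : IsCharacter ι.range (fun x : ι.range => (χ : G → ℂ) x) :=
    χ.2.isCharacter.comp ι.range.subtype
  have hin' : classInner (fun x : ι.range => (χ : G → ℂ) x) (fun x : ι.range => (h.lift x : ℂ))
      = m := by rw [classInner_lift h]; exact hin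
  have hm0 : (m : ℂ) ≠ 0 := Nat.cast_ne_zero.2 (Nat.ne_of_odd_add (m := m) (n := 0) (by simpa))
  have hcG : classInner (fun x : M => (χ : G → ℂ) x) (fun x : M => (θ x : ℂ)) ≠ 0 := by
    rw [← hθ]
    exact constituent_res h hMR hres (by rw [hin']; exact hm0)
  obtain ⟨ψ₁, hψ₁, hc₁, hind, hmult⟩ := clifford_exists M hθi hMT hT χ.2 hcG
  have hψ₁r : IsReal ψ₁ := by
    have hi := isIrrCharacter_conjFn hψ₁
    have hθc : (fun x : M => (θ x : ℂ)) = fun x : M => conj (θ x : ℂ) :=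
      funext fun x => (isReal_of_sq hθ2 x).symm
    have he : (fun t => conj (ψ₁ t)) = ψ₁ := by
      refine clifford_injective M hθi hMT hT hi hψ₁ ?_ hc₁ ?_
      · rw [hθc, classInner_conjFn (fun x : M => ψ₁ ⟨x, hMT x.2⟩) (fun x : M => (θ x : ℂ)),
          ← classInner_conj_symm]
        exact fun h0 => hc₁ ((map_eq_zero _).1 h0)
      · rw [indFun_conjFn, hind]
        exact funext hr
    exact fun t => congrFun he t
  have hψ₁o : Odd (charDegree ψ₁) := by
    have h1 := congrFun hind 1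
    rw [indFun_apply_one, degree_eq, show ψ₁ 1 = _ from degree_eq ⟨ψ₁, hψ₁⟩] at h1
    have h2 : T.index * charDegree ψ₁ = charDegree (χ : G → ℂ) := by exact_mod_cast h1
    rw [← h2] at ho
    exact (Nat.odd_mul.1 ho).2
  have hχψ : classInner (fun t : T => (χ : G → ℂ) t) ψ₁ ≠ 0 := by
    have h0 := classInner_irr_self χ.2
    conv at h0 => lhs; arg 1; rw [← hind]
    rw [classInner_indFun T ψ₁ χ.2.isClassFunction, ← classInner_conj_symm] at h0
    intro he
    rw [he, map_zero] at h0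
    exact zero_ne_one h0
  have hD : IsCharacter T ((fun t : T => (χ : G → ℂ) t) - ψ₁) :=
    isCharacter_sub_constituent (χ.2.isCharacter.comp T.subtype) hψ₁ hχψ
  have hD0 : classInner (fun x : ι.range => ((fun t : T => (χ : G → ℂ) t) - ψ₁) ⟨x, hRT x.2⟩)
      (fun x : ι.range => (h.lift x : ℂ)) = 0 := by
    by_contra hne
    refine constituent_res h hMR (hD.comp (Subgroup.inclusion hRT)) hne ?_
    rw [hθ]
    show classInner ((fun x : M => (χ : G → ℂ) x) - fun x : M => ψ₁ ⟨x, _⟩) _ = 0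
    rw [classInner_sub_left, sub_eq_zero, ← hmult]
  have hψm : classInner (fun s => ψ₁ (ιT s)) (fun s => (μ s : ℂ)) = m := by
    have h1 : classInner (fun x : ι.range => (χ : G → ℂ) x) (fun x : ι.range => (h.lift x : ℂ)) =
        classInner (fun x : ι.range => ψ₁ ⟨x, hRT x.2⟩) (fun x : ι.range => (h.lift x : ℂ)) := by
      rw [← sub_eq_zero, ← classInner_sub_left]
      exact hD0
    rw [← hin', h1, classInner_lift h]
    congr 1
    funext s
    exact congrArg ψ₁ (Subtype.ext (hιT s))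
  have hψ := isIrrCharacter_mul_linear hψ₁ ε
  have hres1 := res_eq_smul M hθi hMT hT hψ₁ hc₁
  set ψ : IrrCharacter T := ⟨fun t => ψ₁ t * (ε t : ℂ), hψ⟩ with hψdef
  refine ⟨ψ, hψ₁r.mul (isReal_of_sq hε2), (charDegree_mul_hom ψ₁ ε).symm ▸ hψ₁o, ?_, ?_,
    m, hm, ?_⟩
  · intro n hn
    have h1 := congrFun hres1 ⟨(n : G), hn⟩
    have h2 := congrFun hres1 1
    simp only [Pi.smul_apply, smul_eq_mul, map_one, Units.val_one, mul_one] at h1 h2
    show ψ₁ n * (ε n : ℂ) = ψ₁ 1 * (ε 1 : ℂ)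
    rw [show ε n = θ ⟨(n : G), hn⟩ from hεM ⟨(n : G), hn⟩ n.2, map_one, Units.val_one, mul_one]
    refine Eq.trans ?_ h2.symm
    rw [show ψ₁ n = _ from h1, mul_assoc, ← Units.val_mul, hθ2, Units.val_one, mul_one]
  · rw [← hind]
    congr 1
    funext t
    show ψ₁ t * (ε t : ℂ) * (ε t : ℂ) = ψ₁ t
    rw [mul_assoc, ← Units.val_mul, hε2, Units.val_one, mul_one]
  · rw [← hψm]
    exact classInner_mul_sign (fun s => ψ₁ (ιT s)) μ (ε.comp ιT)

theorem twist_trivial {M : Subgroup G} [M.Normal] (hMR : M ≤ ι.range) {μ : S →* ℂˣ}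
    (h : Factors ι μ) (θ : M →* ℂˣ) (hθ : h.res hMR = θ) (hθ2 : ∀ m, θ m * θ m = 1)
    {T : Subgroup G} (ιT : S →* T) (hιT : ∀ s, (ιT s : G) = ι s) (ε : T →* ℂˣ)
    (hεM : ∀ (m : M) (hm : (m : G) ∈ T), ε ⟨m, hm⟩ = θ m) :
    ∀ s, ιT s ∈ M.subgroupOf T → (μ * ε.comp ιT) s = 1 := by
  intro s hs
  rw [mem_subgroupOf, hιT] at hs
  have hsT : ι s ∈ T := hιT s ▸ (ιT s).2
  rw [MonoidHom.mul_apply, MonoidHom.comp_apply,
    show ιT s = ⟨ι s, hsT⟩ from Subtype.ext (hιT s), hεM ⟨ι s, hs⟩ hsT, ← h.res_apply hMR s hs,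
    hθ, hθ2]

/-- The uniqueness statement holds for all solvable groups. -/
theorem uniq_aux (n : ℕ) : ∀ (G : Type u) [Group G] [Finite G] [Group.IsSolvable G]
    (S : Type u) [Group S] [Finite S] (ι : S →* G),
    Nat.card G = n → IsSylowMap ι → Uniq ι := by
  induction n using Nat.strong_induction_on with
  | _ n ih =>
  intro G _ _ _ S _ _ ι hn hι
  subst hn
  rcases subsingleton_or_nontrivial G with hG | hG
  · refine ⟨fun μ _ _ χ χ' _ _ _ _ _ _ => ?_,
      fun μ ν _ hμ _ hν χ _ _ _ _ => ⟨1, fun s => ⟨s, Subsingleton.elim _ _, ?_⟩⟩⟩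
    · refine Subtype.ext (funext fun g => ?_)
      rw [Subsingleton.elim g 1,
        degree_eq_one_of_comm (fun a b => Subsingleton.elim _ _) χ.2,
        degree_eq_one_of_comm (fun a b => Subsingleton.elim _ _) χ'.2]
    · rw [hμ s (Subsingleton.elim _ _), hν s (Subsingleton.elim _ _)]
  obtain ⟨r, M, hr, hMn, hMb, hMc, hMe⟩ := exists_normal_elementary (G := G)
  haveI := hMn
  haveI := Fact.mk hr
  have hM1 : 1 < Nat.card M := by
    haveI := (Subgroup.nontrivial_iff_ne_bot M).2 hMb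
    exact Finite.one_lt_card
  rcases hr.eq_two_or_odd' with rfl | hodd
  · -- elementary abelian 2-subgroup
    haveI : Fact (Nat.Prime 2) := ⟨Nat.prime_two⟩
    have hMR : M ≤ ι.range := by
      have h1 : IsPGroup 2 M := fun m => ⟨1, Subtype.ext (by simpa using! hMe m m.2)⟩
      exact h1.le_sylow_of_normal ((range_two hι).toSylow hι.index)
    have hM2 : ∀ m ∈ M, m * m = 1 := fun m hm => by rw [← pow_two]; exact hMe m hm
    have hred : ∀ T : Subgroup G, M ≤ T → ∀ ιT : S →* T, (∀ s, (ιT s : G) = ι s) →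
        Uniq ((QuotientGroup.mk' (M.subgroupOf T)).comp ιT) := by
      intro T hMT ιT hιT
      haveI : (M.subgroupOf T).Normal := Subgroup.Normal.subgroupOf hMn T
      refine ih _ ?_ (T ⧸ M.subgroupOf T) S _ rfl
        (isSylowMap_quotient (isSylowMap_codRestrict hι T ιT hιT) _)
      calc Nat.card (T ⧸ M.subgroupOf T) < Nat.card T := by
            rw [Subgroup.card_eq_card_quotient_mul_card_subgroup (M.subgroupOf T),
              Nat.card_congr (Subgroup.subgroupOfEquivOfLe hMT).toEquiv]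
            exact lt_mul_of_one_lt_right Nat.card_pos hM1
        _ ≤ Nat.card G := Subgroup.card_le_card_group T
    refine ⟨fun μ hsq hμ χ χ' hr1 ho1 hr2 ho2 h1 h2 => ?_,
      fun μ ν hsq hμ hsqν hν χ hr1 ho1 h1 h2 => ?_⟩
    · set T := inertia M (fun x : M => (hμ.res hMR x : ℂ)) with hT
      have hRT := hμ.range_le_inertia hMR
      let ιT : S →* T := ι.codRestrict T fun s => hRT ⟨s, rfl⟩
      obtain ⟨ε, hε2, hεM⟩ := exists_sign_ext hι hMR hM2 hμ
      have hθ2 := hμ.res_sq hMR hM2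
      obtain ⟨ψ, hψr, hψo, hψk, hψi, hψrel⟩ := exists_reduce hMR hμ _ rfl hθ2 hT ιT
        (fun s => rfl) ε (hε2 hsq) hεM hr1 ho1 h1
      obtain ⟨ψ', hψr', hψo', hψk', hψi', hψrel'⟩ := exists_reduce hMR hμ _ rfl hθ2 hT ιT
        (fun s => rfl) ε (hε2 hsq) hεM hr2 ho2 h2
      haveI : (M.subgroupOf T).Normal := Subgroup.Normal.subgroupOf hMn T
      have h0 := Uniq.descend_left (M.subgroupOf T)
        (hred T (hMR.trans hRT) ιT fun s => rfl)
        (fun s => by
          simp only [MonoidHom.mul_apply]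
          rw [mul_mul_mul_comm, hsq, MonoidHom.comp_apply, hε2 hsq, one_mul])
        (twist_trivial hMR hμ _ rfl hθ2 ιT (fun s => rfl) ε hεM)
        hψk hψk' hψr hψo hψr' hψo' hψrel hψrel'
      subst h0
      exact Subtype.ext (hψi.symm.trans hψi')
    · have hθμ := constituent_res hμ hMR (χ.2.isCharacter.comp ι.range.subtype) (by
        obtain ⟨m, hm, e⟩ := h1
        rw [classInner_lift hμ]
        exact fun h0 => by
          rw [show (classInner (fun s => (χ : G → ℂ) (ι s)) fun s => (μ s : ℂ)) = 0 from h0] at e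
          rw [Nat.cast_eq_zero.1 e.symm] at hm
          exact absurd hm (by decide))
      have hθν := constituent_res hν hMR (χ.2.isCharacter.comp ι.range.subtype) (by
        obtain ⟨m, hm, e⟩ := h2
        rw [classInner_lift hν]
        exact fun h0 => by
          rw [show (classInner (fun s => (χ : G → ℂ) (ι s)) fun s => (ν s : ℂ)) = 0 from h0] at e
          rw [Nat.cast_eq_zero.1 e.symm] at hm
          exact absurd hm (by decide))
      obtain ⟨g, hg⟩ := (mem_twistOrbit M).1 (mem_twistOrbit_of_constituent M χ.2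
        (isIrrCharacter_linear (hμ.res hMR)) (isIrrCharacter_linear (hν.res hMR)) hθμ hθν)
      set Tμ := inertia M (fun x : M => (hμ.res hMR x : ℂ)) with hTμ
      set T := inertia M (fun x : M => (hν.res hMR x : ℂ)) with hT
      have hRT := hν.range_le_inertia hMR
      have hgT : ∀ s, g * ι s * g⁻¹ ∈ Tμ := fun s => by
        have h3 : conjTwist M (fun x : M => (hν.res hMR x : ℂ)) (ι s) =
            fun x : M => (hν.res hMR x : ℂ) := hRT ⟨s, rfl⟩
        rw [← hg, conjTwist_conjTwist] at h3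
        show conjTwist M _ (g * ι s * g⁻¹) = _
        rw [← conjTwist_conjTwist, h3, conjTwist_conjTwist, mul_inv_cancel, conjTwist_one]
      obtain ⟨b, hb, hn⟩ := exists_normalizing hι Tμ (hμ.range_le_inertia hMR) g hgT
      have hmem : ∀ x : ι.range, b * g * (x : G) * (b * g)⁻¹ ∈ ι.range := by
        rintro ⟨_, s, rfl⟩
        obtain ⟨t, ht⟩ := hn s
        exact ⟨t, ht⟩
      let e : ι.range →* ι.range :=
        ((MulAut.conj (b * g)).toMonoidHom.comp ι.range.subtype).codRestrict ι.range hmem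
      let μ2 : S →* ℂˣ := hμ.lift.comp (e.comp ι.rangeRestrict)
      have hμ2 : Factors ι μ2 := fun s hs => by
        show hμ.lift (e (ι.rangeRestrict s)) = 1
        rw [show ι.rangeRestrict s = 1 from Subtype.ext hs, map_one, map_one]
      have hc2 : NConj ι μ μ2 := ⟨b * g, fun s => by
        obtain ⟨t, ht⟩ := hn s
        refine ⟨t, ht, ?_⟩
        show hμ.lift (e (ι.rangeRestrict s)) = μ t
        rw [← hμ.lift_apply t]
        exact congrArg _ (Subtype.ext ht.symm)⟩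
      have hsq2 : ∀ s, μ2 s * μ2 s = 1 := fun s => by
        obtain ⟨t, -, ht⟩ := hc2.choose_spec s
        rw [ht]; exact hsq t
      have hrel2 := h1.conj_right χ.2.isClassFunction hμ hμ2 hc2
      have hθ : hμ2.res hMR = hν.res hMR := by
        refine MonoidHom.ext fun m => Units.ext ?_
        rw [← congrFun hg m]
        obtain ⟨m, hm⟩ := m
        obtain ⟨s, rfl⟩ := hMR hm
        have hm1 : (b * g) * ι s * (b * g)⁻¹ ∈ M := hMn.conj_mem _ hm _
        have h3 : (hμ2.res hMR ⟨ι s, hm⟩ : ℂˣ) = hμ.res hMR ⟨_, hm1⟩ := by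
          rw [hμ2.res_apply]
          show hμ.lift _ = hμ.lift _
          refine congrArg _ (Subtype.ext ?_)
          show b * g * ι s * (b * g)⁻¹ = _
          rfl
        rw [h3]
        have h4 : conjTwist M (conjTwist M (fun x : M => (hμ.res hMR x : ℂ)) b) g ⟨ι s, hm⟩ =
            conjTwist M (fun x : M => (hμ.res hMR x : ℂ)) g ⟨ι s, hm⟩ := by
          rw [show conjTwist M (fun x : M => (hμ.res hMR x : ℂ)) b = _ from hb]
        rw [conjTwist_conjTwist] at h4
        exact h4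
      let ιT : S →* T := ι.codRestrict T fun s => hRT ⟨s, rfl⟩
      obtain ⟨ε, hε2, hεM⟩ := exists_sign_ext hι hMR hM2 hν
      have hθ2 := hν.res_sq hMR hM2
      obtain ⟨ψ, hψr, hψo, hψk, hψi, hψrel⟩ := exists_reduce hMR hμ2 _ hθ hθ2 hT ιT
        (fun s => rfl) ε (hε2 hsqν) hεM hr1 ho1 hrel2
      obtain ⟨ψ', hψr', hψo', hψk', hψi', hψrel'⟩ := exists_reduce hMR hν _ rfl hθ2 hT ιT
        (fun s => rfl) ε (hε2 hsqν) hεM hr1 ho1 h2
      haveI : (M.subgroupOf T).Normal := Subgroup.Normal.subgroupOf hMn T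
      have hMT : M ≤ T := hMR.trans hRT
      have hψe : (fun t => (ψ : T → ℂ) t * (ε t : ℂ)) = fun t => (ψ' : T → ℂ) t * (ε t : ℂ) := by
        have hov : ∀ φ : IrrCharacter T, (∀ n ∈ M.subgroupOf T, (φ : T → ℂ) n = (φ : T → ℂ) 1) →
            classInner (fun h : M => (φ : T → ℂ) ⟨h, hMT h.2⟩ * (ε ⟨h, hMT h.2⟩ : ℂ))
              (fun x : M => (hν.res hMR x : ℂ)) ≠ 0 := by
          intro φ hφ
          have e1 : (fun h : M => (φ : T → ℂ) ⟨h, hMT h.2⟩ * (ε ⟨h, hMT h.2⟩ : ℂ)) =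
              (φ : T → ℂ) 1 • fun x : M => (hν.res hMR x : ℂ) := funext fun h => by
            rw [hφ ⟨h, hMT h.2⟩ h.2, hεM h]
            rfl
          rw [e1, classInner_smul_left, classInner_irr_self (isIrrCharacter_linear _), mul_one]
          exact φ.2.apply_one_ne_zero
        exact clifford_injective M (isIrrCharacter_linear (hν.res hMR)) hMT hT
          (isIrrCharacter_mul_linear ψ.2 ε) (isIrrCharacter_mul_linear ψ'.2 ε)
          (hov ψ hψk) (hov ψ' hψk') (hψi.trans hψi'.symm)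
      have h0 : ψ = ψ' := Subtype.ext (funext fun t =>
        mul_right_cancel₀ (ε t).ne_zero (congrFun hψe t))
      subst h0
      obtain ⟨k, hk⟩ := Uniq.descend_right (isSylowMap_codRestrict hι T ιT fun s => rfl)
        (M.subgroupOf T) (hred T hMT ιT fun s => rfl)
        (fun s => by
          simp only [MonoidHom.mul_apply]
          rw [mul_mul_mul_comm, hsq2, MonoidHom.comp_apply, hε2 hsqν, one_mul])
        (twist_trivial hMR hμ2 _ hθ hθ2 ιT (fun s => rfl) ε hεM)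
        (fun s => by
          simp only [MonoidHom.mul_apply]
          rw [mul_mul_mul_comm, hsqν, MonoidHom.comp_apply, hε2 hsqν, one_mul])
        (twist_trivial hMR hν _ rfl hθ2 ιT (fun s => rfl) ε hεM)
        hψk hψr hψo hψrel hψrel'
      refine hc2.trans ⟨(k : G), fun s => ?_⟩
      obtain ⟨t, ht, hνt⟩ := hk s
      refine ⟨t, congrArg Subtype.val ht, ?_⟩
      simp only [MonoidHom.mul_apply, MonoidHom.comp_apply] at hνt
      have h5 : ε (ιT t) = ε (ιT s) := by
        rw [ht, map_mul, map_mul, map_inv, mul_inv_cancel_comm]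
      rw [h5] at hνt
      exact mul_right_cancel hνt
  · -- odd order
    have hMo : Odd (Nat.card M) := by
      have h1 : IsPGroup r M := fun m => ⟨1, Subtype.ext (by simpa using! hMe m m.2)⟩
      obtain ⟨k, hk⟩ := IsPGroup.iff_card.1 h1
      rw [hk]; exact hodd.pow
    have hkill : ∀ μ : S →* ℂˣ, Factors ι μ → ∀ s, ι s ∈ M → μ s = 1 := by
      intro μ hμ s hs
      refine hμ s ?_
      obtain ⟨k, hk⟩ := hι.two s
      have h1 : ι s ^ 2 ^ k = 1 := by rw [← map_pow, hk, map_one]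
      have h2 := Nat.dvd_gcd (orderOf_dvd_of_pow_eq_one h1) (orderOf_dvd_of_pow_eq_one (hMe _ hs))
      rw [Nat.Coprime.gcd_eq_one (Nat.Coprime.pow_left k (Nat.coprime_two_left.2 hodd))] at h2
      exact orderOf_eq_one_iff.1 (Nat.dvd_one.1 h2)
    have hIH : Uniq ((QuotientGroup.mk' M).comp ι) := by
      refine ih _ ?_ (G ⧸ M) S _ rfl (isSylowMap_quotient hι M)
      rw [Subgroup.card_eq_card_quotient_mul_card_subgroup M]
      exact lt_mul_of_one_lt_right Nat.card_pos hM1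
    refine ⟨fun μ hsq hμ χ χ' hr1 ho1 hr2 ho2 h1 h2 => ?_,
      fun μ ν hsq hμ hsqν hν χ hr1 ho1 h1 h2 => ?_⟩
    · exact Uniq.descend_left M hIH hsq (hkill μ hμ) (kernel_of_real_odd M hMc hMo ho1 hr1)
        (kernel_of_real_odd M hMc hMo ho2 hr2) hr1 ho1 hr2 ho2 h1 h2
    · exact Uniq.descend_right hι M hIH hsq (hkill μ hμ) hsqν (hkill ν hν)
        (kernel_of_real_odd M hMc hMo ho1 hr1) hr1 ho1 h1 h2

end Cfsg.Lib.Char.RealOdd
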