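import Cfsg.Agent.Lib.Char.RealOddDegree

/-!
# Real characters over a linear character of a normal subgroup
-/

set_option autoImplicit false
set_option linter.unusedSectionVars false
set_option linter.style.haveILetI false

namespace Cfsg.Lib.Char.RealOver

open Cfsg Cfsg.Lib Subgroup
open Cfsg.Lib.Char.RealOdd (IsReal)
open scoped ComplexConjugate

universe u

attribute [local instance 100] Fintype.ofFinite

variable {G : Type u} [Group G] [Finite G]

/-- Induction is invariant under an inner automorphism stabilizing the subgroup. -/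
theorem indFun_conj_stable (T : Subgroup G) (θ : T → ℂ) (c : G)
    (hc : ∀ y : G, c * y * c⁻¹ ∈ T ↔ y ∈ T) :
    indFun T (fun y : T => θ ⟨c * y * c⁻¹, (hc y).2 y.2⟩) = indFun T θ := by
  funext g
  simp only [indFun]
  congr 1
  refine Fintype.sum_equiv (Equiv.mulRight c⁻¹) _ _ fun x => ?_
  simp only [Equiv.coe_mulRight]
  have e : (x * c⁻¹)⁻¹ * g * (x * c⁻¹) = c * (x⁻¹ * g * x) * c⁻¹ := by group
  rw [e]
  by_cases hx : x⁻¹ * g * x ∈ T
  · rw [extendByZero_of_mem _ _ hx, extendByZero_of_mem _ _ ((hc _).2 hx)]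
  · rw [extendByZero_of_notMem _ _ hx, extendByZero_of_notMem _ _ fun h => hx ((hc _).1 h)]

/-- The elements acting on `l` like `t` or trivially. -/
theorem mem_inertia_linear {M : Subgroup G} [hM : M.Normal] (l : M →* ℂˣ) (g : G) :
    g ∈ inertia M (fun x : M => (l x : ℂ)) ↔
      ∀ n : M, l ⟨g * n * g⁻¹, hM.conj_mem n n.2 g⟩ = l n := by
  rw [mem_inertia_iff]
  exact forall_congr' fun n => Units.val_inj

theorem linear_conj_self {M : Subgroup G} (l : M →* ℂˣ) (a b : M) :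
    l (a * b * a⁻¹) = l b := by
  rw [map_mul, map_mul, map_inv, mul_inv_cancel_comm]

/-- With a complement, an element inverting a linear character gives a real irreducible character
of degree the index of the inertia group. -/
theorem exists_real_of_complement (M C : Subgroup G) [hM : M.Normal] (hdis : M ⊓ C = ⊥)
    (hsup : M ⊔ C = ⊤) (l : M →* ℂˣ) (t : G)
    (ht : ∀ n : M, l ⟨t * n * t⁻¹, hM.conj_mem n n.2 t⟩ = (l n)⁻¹) :
    ∃ χ : G → ℂ, IsIrrCharacter G χ ∧ IsReal χ ∧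
      χ 1 = ((inertia M (fun x : M => (l x : ℂ))).index : ℂ) ∧
      classInner (fun x : M => χ x) (fun x : M => (l x : ℂ)) ≠ 0 := by
  have hθ := isIrrCharacter_linear l
  set T := inertia M (fun x : M => (l x : ℂ)) with hT
  have hMT : M ≤ T := hT ▸ le_inertia M hθ.isClassFunction
  have hdec : ∀ x : G, ∃ n : M, ∃ c ∈ C, x = (n : G) * c := fun x => by
    obtain ⟨n, hn, c, hc, he⟩ :=
      Subgroup.mem_sup_of_normal_left.1 (hsup ▸ Subgroup.mem_top x : x ∈ M ⊔ C)
    exact ⟨⟨n, hn⟩, c, hc, he.symm⟩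
  choose π κ hκ hx using hdec
  have huniq : ∀ (x : G) (n : M) (c : G), c ∈ C → x = (n : G) * c → π x = n ∧ κ x = c := by
    intro x n c hc he
    have h1 : (n : G) * c = (π x : G) * κ x := he.symm.trans (hx x)
    have h2 : (π x : G)⁻¹ * n = κ x * c⁻¹ := by
      rw [eq_mul_inv_iff_mul_eq, mul_assoc, h1, inv_mul_cancel_left]
    have h3 : (π x : G)⁻¹ * n ∈ M ⊓ C :=
      ⟨M.mul_mem (M.inv_mem (π x).2) n.2, h2 ▸ C.mul_mem (hκ x) (C.inv_mem hc)⟩
    rw [hdis, Subgroup.mem_bot, inv_mul_eq_one] at h3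
    refine ⟨Subtype.ext h3, ?_⟩
    rw [← h3] at h1
    exact (mul_left_cancel h1).symm
  have hκT : ∀ x ∈ T, κ x ∈ T := fun x hxT => by
    have : κ x = (π x : G)⁻¹ * x := eq_inv_mul_of_mul_eq (hx x).symm
    rw [this]
    exact T.mul_mem (T.inv_mem (hMT (π x).2)) hxT
  have hκl : ∀ x ∈ T, ∀ n : M, l ⟨κ x * n * (κ x)⁻¹, hM.conj_mem n n.2 _⟩ = l n :=
    fun x hxT => (mem_inertia_linear l _).1 (hκT x hxT)
  let ε : T →* ℂˣ := MonoidHom.mk' (fun x => l (π x)) fun x y => by
    have he := huniq ((x : G) * y) (π x * ⟨κ x * π y * (κ x)⁻¹, hM.conj_mem _ (π y).2 _⟩)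
      (κ x * κ y) (C.mul_mem (hκ _) (hκ _)) (by
        rw [Subgroup.coe_mul]
        nth_rw 1 [hx x, hx y]
        group)
    show l (π ((x : G) * y)) = _
    rw [he.1, map_mul, hκl x x.2]
  have hεM : ∀ n : M, ε ⟨n, hMT n.2⟩ = l n := fun n => by
    show l (π (n : G)) = l n
    rw [(huniq (n : G) n 1 C.one_mem (mul_one _).symm).1]
  have hε := isIrrCharacter_linear ε
  have hres : (fun h : M => (ε ⟨h, hMT h.2⟩ : ℂ)) = fun x : M => (l x : ℂ) :=
    funext fun n => by rw [hεM]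
  have hc1 : classInner (fun h : M => (fun y : T => (ε y : ℂ)) ⟨h, hMT h.2⟩)
      (fun x : M => (l x : ℂ)) = 1 := by
    show classInner (fun h : M => (ε ⟨h, hMT h.2⟩ : ℂ)) _ = 1
    rw [hres, classInner_irr_self hθ]
  obtain ⟨hirr, hmult⟩ := clifford_induce M hθ hMT hT (ψ := fun y : T => (ε y : ℂ)) hε
    (by rw [hc1]; exact one_ne_zero)
  refine ⟨indFun T (fun y : T => (ε y : ℂ)), hirr, ?_, ?_, fun h0 => one_ne_zero (hc1.symm.trans (hmult.symm.trans h0))⟩
  · -- real
    set c := κ t with hcdef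
    have hcl : ∀ n : M, l ⟨c * n * c⁻¹, hM.conj_mem n n.2 c⟩ = (l n)⁻¹ := fun n => by
      rw [← ht n, ← linear_conj_self l (π t) ⟨c * n * c⁻¹, hM.conj_mem n n.2 c⟩]
      congr 1
      refine Subtype.ext ?_
      show (π t : G) * (c * n * c⁻¹) * (π t : G)⁻¹ = t * n * t⁻¹
      conv_rhs => rw [hx t]
      rw [hcdef]
      group
    have hcinv : ∀ n : M, l ⟨c⁻¹ * n * c⁻¹⁻¹, hM.conj_mem n n.2 c⁻¹⟩ = (l n)⁻¹ := fun n => by
      have h := hcl ⟨c⁻¹ * n * c⁻¹⁻¹, hM.conj_mem n n.2 c⁻¹⟩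
      rw [← inv_inv (l ⟨c⁻¹ * n * c⁻¹⁻¹, _⟩), ← h]
      congr 2
      exact Subtype.ext (by simp [mul_assoc])
    have hstab : ∀ y : G, c * y * c⁻¹ ∈ T ↔ y ∈ T := by
      have key : ∀ (d : G), (∀ n : M, l ⟨d * n * d⁻¹, hM.conj_mem n n.2 d⟩ = (l n)⁻¹) →
          (∀ n : M, l ⟨d⁻¹ * n * d⁻¹⁻¹, hM.conj_mem n n.2 d⁻¹⟩ = (l n)⁻¹) →
          ∀ y ∈ T, d * y * d⁻¹ ∈ T := by
        intro d hd hdi y hy
        refine (mem_inertia_linear l _).2 fun n => ?_
        have h1 := hd ⟨y * (d⁻¹ * n * d⁻¹⁻¹) * y⁻¹, hM.conj_mem _ (hM.conj_mem n n.2 d⁻¹) y⟩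
        rw [(mem_inertia_linear l y).1 hy ⟨d⁻¹ * n * d⁻¹⁻¹, hM.conj_mem n n.2 d⁻¹⟩, hdi, inv_inv (l n)]
          at h1
        rw [← h1]
        congr 1
        exact Subtype.ext (by simp [mul_assoc])
      intro y
      refine ⟨fun h => ?_, key c hcl hcinv y⟩
      have := key c⁻¹ hcinv (fun n => by
        rw [← hcl n]; congr 1; exact Subtype.ext (by simp)) _ h
      simpa [mul_assoc] using this
    intro g
    rw [← congrFun (RealOdd.indFun_conjFn T (fun y : T => (ε y : ℂ))) g,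
      ← congrFun (indFun_conj_stable T (fun y : T => (ε y : ℂ)) c hstab) g]
    congr 1
    funext y
    show conj (ε y : ℂ) = (ε ⟨c * y * c⁻¹, _⟩ : ℂ)
    rw [RealOdd.conj_linear]
    congr 1
    show (l (π (y : G)))⁻¹ = l (π (c * y * c⁻¹))
    rw [(huniq (c * y * c⁻¹) ⟨c * π y * c⁻¹, hM.conj_mem _ (π y).2 c⟩ (c * κ y * c⁻¹)
      (C.mul_mem (C.mul_mem (hκ t) (hκ _)) (C.inv_mem (hκ t))) (by
        show _ = c * (π (y : G) : G) * c⁻¹ * (c * κ y * c⁻¹)
        conv_lhs => rw [hx y]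
        group)).1, hcl]
  · rw [indFun_apply_one]
    simp

/-- An element inverting a nontrivial linear character of a normal subgroup of odd order gives a
real irreducible character over it. -/
theorem exists_real_over (M : Subgroup G) [hM : M.Normal] (hodd : Odd (Nat.card M)) (l : M →* ℂˣ)
    (hl : l ≠ 1) (t : G)
    (ht : ∀ n : M, l ⟨t * n * t⁻¹, hM.conj_mem n n.2 t⟩ = (l n)⁻¹) :
    ∃ χ : IrrCharacter G, IsReal (χ : G → ℂ) ∧
      classInner (fun x : M => (χ : G → ℂ) x) (fun x : M => (l x : ℂ)) ≠ 0 := by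
  haveI : Fact (Nat.Prime 2) := ⟨Nat.prime_two⟩
  have hθ := isIrrCharacter_linear l
  set θ : M → ℂ := fun x : M => (l x : ℂ) with hθdef
  set T := inertia M θ with hT
  have hMT : M ≤ T := hT ▸ le_inertia M hθ.isClassFunction
  -- the extended inertia group
  let T' : Subgroup G :=
    { carrier := {g | (∀ n : M, l ⟨g * n * g⁻¹, hM.conj_mem n n.2 g⟩ = l n) ∨
        ∀ n : M, l ⟨g * n * g⁻¹, hM.conj_mem n n.2 g⟩ = (l n)⁻¹}
      one_mem' := Or.inl fun n => congrArg l (Subtype.ext (by simp))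
      mul_mem' := fun {a b} ha hb => by
        have e : ∀ n : M, l ⟨a * b * n * (a * b)⁻¹, hM.conj_mem n n.2 _⟩ =
            l ⟨a * (b * n * b⁻¹) * a⁻¹, hM.conj_mem _ (hM.conj_mem n n.2 b) a⟩ :=
          fun n => congrArg l (Subtype.ext (by simp [mul_assoc]))
        rcases ha with ha | ha <;> rcases hb with hb | hb
        · exact Or.inl fun n => by rw [e, ha ⟨_, hM.conj_mem n n.2 b⟩, hb]
        · exact Or.inr fun n => by rw [e, ha ⟨_, hM.conj_mem n n.2 b⟩, hb]
        · exact Or.inr fun n => by rw [e, ha ⟨_, hM.conj_mem n n.2 b⟩, hb]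
        · exact Or.inl fun n => by rw [e, ha ⟨_, hM.conj_mem n n.2 b⟩, hb, inv_inv]
      inv_mem' := fun {a} ha => by
        have e : ∀ n : M, l ⟨a * (a⁻¹ * n * a⁻¹⁻¹) * a⁻¹, hM.conj_mem _ (hM.conj_mem n n.2 _) a⟩ =
            l n := fun n => congrArg l (Subtype.ext (by simp [mul_assoc]))
        rcases ha with ha | ha
        · exact Or.inl fun n => (ha ⟨_, hM.conj_mem n n.2 a⁻¹⟩).symm.trans (e n)
        · exact Or.inr fun n => by
            have h := (ha ⟨_, hM.conj_mem n n.2 a⁻¹⟩).symm.trans (e n)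
            exact inv_eq_iff_eq_inv.1 h }
  have hTT' : T ≤ T' := fun g hg => Or.inl ((mem_inertia_linear l g).1 hg)
  have htT' : t ∈ T' := Or.inr ht
  have hsq : ∀ n : M, l n = (l n)⁻¹ → l n = 1 := fun n h => by
    have h1 : l n ^ Nat.card M = 1 := by rw [← map_pow, pow_card_eq_one', map_one]
    have h2 : l n ^ 2 = 1 := by rw [pow_two]; exact mul_eq_one_iff_eq_inv.2 h
    obtain ⟨k, hk⟩ := hodd
    rw [hk, pow_succ, pow_mul, h2, one_pow, one_mul] at h1
    exact h1
  have htT : t ∉ T := fun h => hl (MonoidHom.ext fun n =>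
    hsq n (((mem_inertia_linear l t).1 h n).symm.trans (ht n)))
  have hrel : T.relIndex T' = 2 := by
    refine Subgroup.index_eq_two_iff.2 ⟨⟨t, htT'⟩, fun b => ?_⟩
    rw [Subgroup.mem_subgroupOf, Subgroup.mem_subgroupOf, Subgroup.coe_mul]
    rcases b.2 with hb | hb
    · refine Or.inr ⟨(mem_inertia_linear l _).2 hb, fun h => htT ?_⟩
      have := T.mul_mem (T.inv_mem ((mem_inertia_linear l _).2 hb)) h
      simpa using this
    · refine Or.inl ⟨(mem_inertia_linear l _).2 fun n => ?_, fun h => hl (MonoidHom.ext fun n =>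
        hsq n (((mem_inertia_linear l _).1 h n).symm.trans (hb n)))⟩
      have e : l ⟨(b : G) * t * n * ((b : G) * t)⁻¹, hM.conj_mem n n.2 _⟩ =
          l ⟨(b : G) * (t * n * t⁻¹) * (b : G)⁻¹, hM.conj_mem _ (hM.conj_mem n n.2 t) _⟩ :=
        congrArg l (Subtype.ext (by simp [mul_assoc]))
      rw [e, hb ⟨_, hM.conj_mem n n.2 t⟩, ht, inv_inv]
  -- a Sylow 2-subgroup of it
  let S₀ : Sylow 2 T' := default
  set S : Subgroup G := (S₀ : Subgroup T').map T'.subtype with hS
  have hST' : S ≤ T' := Subgroup.map_subtype_le _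
  have hSodd : ¬ 2 ∣ S.relIndex T' := by
    have : S.relIndex T' = (S₀ : Subgroup T').index := by
      rw [Subgroup.relIndex, hS, Subgroup.subgroupOf, Subgroup.comap_map_eq_self_of_injective
        T'.subtype_injective]
    rw [this]
    exact S₀.not_dvd_index
  set L := M ⊔ S with hL
  have hML : M ≤ L := le_sup_left
  have hLT' : L ≤ T' := sup_le (hMT.trans hTT') hST'
  have hLodd : ¬ 2 ∣ L.relIndex T' := fun h => hSodd (h.trans (Subgroup.relIndex_dvd_of_le_left T' le_sup_right))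
  have hrelLT : (T.subgroupOf L).index = 2 := by
    have hLT : ¬ L ≤ T := fun h => hLodd (hrel ▸ Subgroup.relIndex_dvd_of_le_left T' h)
    obtain ⟨s, hsL, hsT⟩ := SetLike.not_le_iff_exists.1 hLT
    refine Subgroup.index_eq_two_iff.2 ⟨⟨s, hsL⟩, fun b => ?_⟩
    rw [Subgroup.mem_subgroupOf, Subgroup.mem_subgroupOf, Subgroup.coe_mul]
    have hs' : (⟨s, hLT' hsL⟩ : T') ∉ T.subgroupOf T' := hsT
    have h2 := Subgroup.mul_mem_iff_of_index_two (H := T.subgroupOf T') hrel
      (a := ⟨(b : G), hLT' b.2⟩) (b := ⟨s, hLT' hsL⟩)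
    simp only [Subgroup.mem_subgroupOf, Subgroup.coe_mul] at h2
    by_cases hb : (b : G) ∈ T
    · exact Or.inr ⟨hb, fun h => hsT ((h2.1 h).1 hb)⟩
    · exact Or.inl ⟨h2.2 ⟨fun h => absurd h hb, fun h => absurd h hsT⟩, hb⟩
  -- the real character of `L`
  haveI hML' : (M.subgroupOf L).Normal := hM.subgroupOf L
  let l' : M.subgroupOf L →* ℂˣ := l.comp (Subgroup.subgroupOfEquivOfLe hML).toMonoidHom
  have hS2 : IsPGroup 2 S := S₀.isPGroup'.map _
  have hdis : M ⊓ S = ⊥ := by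
    refine Subgroup.inf_eq_bot_of_coprime ?_
    obtain ⟨k, hk⟩ := IsPGroup.iff_card.1 hS2
    rw [hk]
    exact (Nat.coprime_two_right.2 hodd).pow_right k
  obtain ⟨s, hsL, hsT⟩ := SetLike.not_le_iff_exists.1 (show ¬ L ≤ T from fun h => by
    rw [Subgroup.subgroupOf_eq_top.2 h, Subgroup.index_top] at hrelLT
    exact absurd hrelLT (by decide))
  have hs : ∀ n : M, l ⟨s * n * s⁻¹, hM.conj_mem n n.2 s⟩ = (l n)⁻¹ :=
    (hLT' hsL).resolve_left fun h => hsT ((mem_inertia_linear l s).2 h)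
  obtain ⟨ψ, hψ, hψr, hψ1, hψM⟩ := exists_real_of_complement (G := L) (M.subgroupOf L)
    (S.subgroupOf L) (by
      rw [Subgroup.subgroupOf, Subgroup.subgroupOf, ← Subgroup.comap_inf, hdis]
      exact Subgroup.bot_subgroupOf L)
    (by
      rw [← Subgroup.subgroupOf_sup hML le_sup_right, Subgroup.subgroupOf_self])
    l' ⟨s, hsL⟩ (fun n => hs ⟨(n : G), n.2⟩)
  have hin : inertia (M.subgroupOf L) (fun x : M.subgroupOf L => (l' x : ℂ)) = T.subgroupOf L := by
    ext x
    refine (mem_inertia_linear l' x).trans ?_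
    rw [Subgroup.mem_subgroupOf, hT, mem_inertia_linear l (x : G)]
    exact ⟨fun h n => h ⟨⟨n, hML n.2⟩, n.2⟩, fun h n => h ⟨(n : G), n.2⟩⟩
  replace hψ1 : ψ 1 = ((2 : ℕ) : ℂ) := by
    rw [hψ1, ← hrelLT]
    exact congrArg (fun H : Subgroup L => (H.index : ℂ)) hin
  have hψM' : classInner (fun h : M => ψ ⟨h, hML h.2⟩) θ ≠ 0 := by
    rw [← classInner_resTo M θ hML]
    exact hψM
  -- induction to `G`
  have hΨ := isCharacter_indFun L hψ.isCharacter
  have hΨr : IsReal (indFun L ψ) := RealOdd.isReal_indFun L hψr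
  choose m hm using fun φ : IrrCharacter G => hΨ.exists_nat_classInner φ.2.isCharacter
  have hover : ∀ φ : IrrCharacter G, m φ ≠ 0 →
      classInner (fun x : M => (φ : G → ℂ) x) θ ≠ 0 := by
    intro φ hφ
    have h1 : classInner (fun y : L => (φ : G → ℂ) y) ψ ≠ 0 := by
      intro h0
      have h2 : classInner (indFun L ψ) (φ : G → ℂ) = 0 := by
        rw [classInner_indFun L ψ φ.2.isClassFunction, ← classInner_conj_symm, h0, map_zero]
      rw [hm φ] at h2
      exact hφ (by exact_mod_cast h2)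
    have hle := classInner_res_le M hML (φ.2.isCharacter.comp L.subtype) hψ h1 hθ
    obtain ⟨a, ha⟩ := (hψ.isCharacter.comp (Subgroup.inclusion hML)).exists_nat_classInner
      hθ.isCharacter
    have ha' : classInner (fun h : M => ψ ⟨h, hML h.2⟩) θ = (a : ℂ) := ha
    intro h0
    change _ ≤ (classInner (fun x : M => (φ : G → ℂ) x) θ).re at hle
    rw [ha', h0, Complex.natCast_re, Complex.zero_re] at hle
    exact hψM' (by rw [ha', show a = 0 by exact_mod_cast le_antisymm hle (Nat.cast_nonneg _),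
      Nat.cast_zero])
  have hdvd : ∀ φ : IrrCharacter G, m φ ≠ 0 → T.index ∣ charDegree (φ : G → ℂ) := by
    intro φ hφ
    obtain ⟨e, he⟩ := (φ.2.isCharacter.comp M.subtype).exists_nat_classInner hθ.isCharacter
    have he' : classInner (fun x : M => (φ : G → ℂ) x) θ = (e : ℂ) := he
    have h1 := clifford_degree M φ.2 hθ (hover φ hφ)
    rw [he', RealOdd.degree_eq, ← hT] at h1
    have h2 : charDegree (φ : G → ℂ) = e * T.index := by
      simpa [hθdef, ← Nat.cast_mul] using h1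
    exact h2 ▸ dvd_mul_left _ _
  obtain ⟨q, hqodd, hq⟩ : ∃ q, Odd q ∧ 2 * L.index = T.index * q := by
    refine ⟨L.relIndex T', Nat.odd_iff.2 (by omega), ?_⟩
    rw [← Subgroup.relIndex_mul_index hTT', hrel, ← Subgroup.relIndex_mul_index hLT']
    ring
  have hdeg : indFun L ψ 1 = ((2 * L.index : ℕ) : ℂ) := by
    rw [indFun_apply_one, hψ1]; push_cast; ring
  have hs := RealOdd.sum_mult_degree hΨ hdeg m hm
  have hTpos : 0 < T.index := Nat.pos_of_ne_zero Subgroup.index_ne_zero_of_finite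
  have hsum : ∑ φ : IrrCharacter G, m φ * (charDegree (φ : G → ℂ) / T.index) = q := by
    refine Nat.eq_of_mul_eq_mul_left hTpos ?_
    rw [Finset.mul_sum, ← hq, ← hs]
    refine Finset.sum_congr rfl fun φ _ => ?_
    by_cases hφ : m φ = 0
    · rw [hφ]; simp
    · rw [mul_left_comm, Nat.mul_div_cancel' (hdvd φ hφ)]
  by_contra hcon
  set f : IrrCharacter G → ZMod 2 :=
    fun φ => ((m φ * (charDegree (φ : G → ℂ) / T.index) : ℕ) : ZMod 2) with hf
  have hbar : ∀ φ, f (RealOdd.bar φ) = f φ := by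
    intro φ
    have h1 : charDegree ((RealOdd.bar φ : IrrCharacter G) : G → ℂ) = charDegree (φ : G → ℂ) := by
      simp [charDegree, RealOdd.bar]
    have h2 : (m (RealOdd.bar φ) : ℂ) = m φ := by
      rw [← hm, ← hm]
      have h3 : (fun g => conj (indFun L ψ g)) = indFun L ψ := funext hΨr
      calc classInner (indFun L ψ) ((RealOdd.bar φ : IrrCharacter G) : G → ℂ)
          = classInner (fun g => conj (indFun L ψ g)) (fun g => conj ((φ : G → ℂ) g)) := by
            rw [h3]; rfl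
        _ = conj (classInner (indFun L ψ) (φ : G → ℂ)) := by
            rw [classInner_conjFn, classInner_conj_symm]
        _ = classInner (indFun L ψ) (φ : G → ℂ) := by rw [hm φ]; simp
    simp only [hf, h1, show m (RealOdd.bar φ) = m φ by exact_mod_cast h2]
  have h0 : ∑ φ : IrrCharacter G, f φ = 0 := by
    refine Finset.sum_involution (fun φ _ => RealOdd.bar φ) (fun φ _ => ?_) (fun φ _ hne he => ?_)
      (fun φ _ => Finset.mem_univ _) (fun φ _ => RealOdd.bar_bar φ)
    · rw [hbar]; exact CharTwo.add_self_eq_zero _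
    · refine hne ((ZMod.natCast_eq_zero_iff_even).2 ?_)
      by_cases hφ : m φ = 0
      · simp [hφ]
      · exact absurd ⟨φ, RealOdd.isReal_of_bar he, hover φ hφ⟩ hcon
  rw [← Nat.cast_sum, hsum, ZMod.natCast_eq_zero_iff_even] at h0
  exact (Nat.not_even_iff_odd.2 hqodd) h0

end Cfsg.Lib.Char.RealOver
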