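import Cfsg.Agent.Lib.Char.ElementaryPart
import Cfsg.Agent.Lib.Solv.Frobenius
import Cfsg.Agent.Lib.Char.Central

/-!
# Extending the characters of a Hall subgroup which controls its fusion (Brauer–Suzuki)
-/

set_option autoImplicit false
set_option linter.unusedSectionVars false
set_option linter.style.haveILetI false

namespace Cfsg.Lib.Char

open Cfsg
open scoped ComplexConjugate

universe u

variable {G : Type u} [Group G]

/-- Brauer–Suzuki: a Hall subgroup controlling its fusion, into which every elementary subgroup of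
suitable order can be conjugated, has a normal complement. -/
theorem exists_normal_complement_of_elementary [Finite G] (H : Subgroup G)
    (hHall : Nat.Coprime (Nat.card H) H.index)
    (hfus : ∀ x ∈ H, ∀ y ∈ H, IsConj x y → ∃ h ∈ H, h * x * h⁻¹ = y)
    (helem : ∀ (E : Subgroup G) (p : ℕ), p.Prime → IsElementary p E → Nat.card E ∣ Nat.card H →
      ∃ g : G, E.map (MulAut.conj g).toMonoidHom ≤ H) :
    ∃ K : Subgroup G, K.Normal ∧ K ⊔ H = ⊤ ∧ K ⊓ H = ⊥ := by
  classical
  haveI := Fintype.ofFinite G
  haveI := Fintype.ofFinite H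
  set m := Nat.card H with hm
  set n := H.index with hn
  have hmn : m * n = Nat.card G := H.card_mul_index
  obtain ⟨k, k', hk, hk', hkk⟩ := exists_part_exponents hHall
  have hG : Nat.card G ∣ m * n := hmn ▸ dvd_rfl
  have hpow : ∀ {a b : ℕ}, a ≡ b [MOD m * n] → ∀ x : G, x ^ a = x ^ b := fun h =>
    pow_eq_pow_of_card_dvd hG h
  have hHk : ∀ h : H, (h : G) ^ k = h := fun h => by
    have := pow_eq_pow_of_card_dvd (G := H) dvd_rfl hk.1 h
    simpa using congrArg Subtype.val this
  -- every part is conjugate into `H`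
  have hex : ∀ x : G, ∃ h : H, IsConj (x ^ k) (h : G) := by
    intro x
    obtain ⟨q, hq, hqp⟩ := Nat.exists_infinite_primes (Nat.card G + 1)
    set z : Subgroup.zpowers (x ^ k) := ⟨x ^ k, Subgroup.mem_zpowers _⟩ with hz
    have hE : IsElementary q (Subgroup.zpowers (x ^ k)) := by
      refine ⟨z, Subgroup.mem_center_iff.mpr fun y =>
        (inferInstance : IsMulCommutative (Subgroup.zpowers (x ^ k))).is_comm.comm y z, ?_, 0, ?_⟩
      · rw [hz, Subgroup.orderOf_mk, Nat.coprime_comm, hqp.coprime_iff_not_dvd]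
        intro hd
        have h1 := Nat.le_of_dvd (orderOf_pos (x ^ k)) hd
        have h2 : orderOf (x ^ k) ≤ Nat.card G :=
          Nat.le_of_dvd Nat.card_pos (orderOf_dvd_natCard _)
        omega
      · rw [pow_zero, Subgroup.index_eq_one, eq_top_iff]
        rintro ⟨y, j, rfl⟩ -
        exact ⟨j, Subtype.ext (by simp [hz])⟩
    have hd : Nat.card (Subgroup.zpowers (x ^ k)) ∣ m := by
      rw [Nat.card_zpowers]
      refine orderOf_dvd_of_pow_eq_one ?_
      rw [← pow_mul, ← pow_zero x]
      refine hpow ?_ x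
      rw [mul_comm k m]
      simpa using hk.2.mul_left' m
    obtain ⟨g, hg⟩ := helem _ q hqp hE hd
    exact ⟨⟨g * x ^ k * g⁻¹, hg ⟨x ^ k, Subgroup.mem_zpowers _, by simp⟩⟩, isConj_iff.mpr ⟨g, rfl⟩⟩
  choose rep hrep using hex
  have hrepH : ∀ {x : G} {h : H}, IsConj (x ^ k) (h : G) → IsConj (rep x) h := by
    intro x h hx
    obtain ⟨c, hc, e⟩ := hfus _ (rep x).2 _ h.2 ((hrep x).symm.trans hx)
    exact isConj_iff.mpr ⟨⟨c, hc⟩, Subtype.ext e⟩
  let lift : (H → ℂ) → G → ℂ := fun θ x => θ (rep x)
  have hlift : ∀ {θ : H → ℂ}, IsClassFunction H θ → ∀ {x : G} {h : H},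
      IsConj (x ^ k) (h : G) → lift θ x = θ h := by
    intro θ hθ x h hx
    obtain ⟨c, hc⟩ := isConj_iff.mp (hrepH hx)
    show θ (rep x) = θ h
    rw [← hc, hθ]
  have hclass : ∀ {θ : H → ℂ}, IsClassFunction H θ → IsClassFunction G (lift θ) := by
    intro θ hθ x y
    refine hlift hθ ?_
    rw [conj_pow]
    exact (isConj_iff.mpr ⟨y, rfl⟩ : IsConj (x ^ k) (y * x ^ k * y⁻¹)).symm.trans (hrep x)
  -- lifts of characters are generalized characters
  have hgen : ∀ {θ : H → ℂ}, IsCharacter H θ → IsGeneralizedCharacter G (lift θ) := by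
    intro θ hθ
    refine isGeneralizedCharacter_of_elementary (hclass hθ.isClassFunction) fun E p hp hE => ?_
    have hEd : Nat.card E ∣ m * n := E.card_subgroup_dvd_card.trans hG
    set φ := partHom hp hE hHall hEd hk
    have hU : IsElementary p φ.range :=
      IsElementary.of_surjective' hp hE φ.rangeRestrict φ.rangeRestrict_surjective
    let ι : φ.range ≃* ↥(φ.range.map E.subtype) :=
      φ.range.equivMapOfInjective E.subtype E.subtype_injective
    obtain ⟨g, hg⟩ := helem (φ.range.map E.subtype) p hp (isElementary_of_mulEquiv ι hU)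
      (by
        rw [Subgroup.card_map_of_injective E.subtype_injective]
        exact card_range_partHom_dvd hp hE hHall hEd hk)
    let f : E →* H :=
      ((MulAut.conj g).toMonoidHom.comp (E.subtype.comp φ)).codRestrict H fun e =>
        hg ⟨(φ e : G), ⟨φ e, ⟨e, rfl⟩, rfl⟩, rfl⟩
    have e : (fun e : E => lift θ e) = fun e => θ (f e) := by
      funext e
      exact hlift hθ.isClassFunction (isConj_iff.mpr ⟨g, rfl⟩)
    rw [e]
    exact (hθ.comp f).isGeneralized
  -- counting the sections
  let T : H → ℂ := fun h => (Nat.card G : ℂ)⁻¹ *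
    ∑ x : G, if IsConj h (rep x) then (Nat.card (Subgroup.centralizer ({h} : Set H)) : ℂ) else 0
  have hTcol : ∀ h, T h = ∑ θ : IrrCharacter H, (θ : H → ℂ) h * conj (classInner
      (lift θ) (fun _ : G => (1 : ℂ))) := by
    intro h
    simp only [T, classInner, ← column_orthogonality, map_one, mul_one, map_mul, map_inv₀,
      Complex.conj_natCast, map_sum, Finset.mul_sum]
    rw [Finset.sum_comm]
    exact Finset.sum_congr rfl fun θ _ => Finset.sum_congr rfl fun x _ => by ring
  have hone : ∀ h : H, IsConj h (rep (h : G)) := fun h =>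
    (hrepH (x := (h : G)) (h := h) (by rw [hHk])).symm
  have hTge : ∀ h, ∃ c : ℕ, 1 ≤ c ∧ T h = c := by
    intro h
    have hrat : ∃ r : ℚ, T h = (r : ℂ) := by
      refine ⟨(Nat.card G : ℚ)⁻¹ * ∑ x : G, if IsConj h (rep x) then
        (Nat.card (Subgroup.centralizer ({h} : Set H)) : ℚ) else 0, ?_⟩
      simp only [T]
      push_cast [apply_ite]
      rfl
    have hint : IsIntegral ℤ (T h) := by
      rw [hTcol]
      refine IsIntegral.sum _ fun θ _ => (θ.2.isCharacter.isIntegral h).mul ?_
      obtain ⟨j, hj⟩ := (hgen θ.2.isCharacter).exists_int_classInner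
        (isCharacter_one (G := G)).isGeneralized
      rw [hj, map_intCast]
      exact isIntegral_intCast_complex j
    obtain ⟨r, hr⟩ := hrat
    rw [hr] at hint
    obtain ⟨c, hc⟩ := exists_int_of_isIntegral_rat hint
    have hpos : 0 < r := by
      have h0 : (0 : ℝ) < (T h).re := by
        have e : T h = (((Nat.card G : ℝ)⁻¹ * ∑ x : G, if IsConj h (rep x) then
            (Nat.card (Subgroup.centralizer ({h} : Set H)) : ℝ) else 0 : ℝ) : ℂ) := by
          simp only [T]
          push_cast [apply_ite]
          rfl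
        rw [e, Complex.ofReal_re]
        refine mul_pos (inv_pos.mpr (Nat.cast_pos.mpr Nat.card_pos)) ?_
        refine Finset.sum_pos' (fun x _ => ?_) ⟨(h : G), Finset.mem_univ _, ?_⟩
        · split_ifs
          · exact Nat.cast_nonneg _
          · exact le_rfl
        · rw [if_pos (hone h)]
          exact Nat.cast_pos.mpr Nat.card_pos
      rw [hr] at h0
      simpa using h0
    rw [hc] at hpos
    have hcpos : (0 : ℤ) < c := by exact_mod_cast hpos
    lift c to ℕ using hcpos.le
    exact ⟨c, by exact_mod_cast hcpos, by rw [hr, hc]; simp⟩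
  choose c hc1 hcT using hTge
  have hcol : ∀ y : H, ∑ h : H, (if IsConj h y then
      (Nat.card (Subgroup.centralizer ({h} : Set H)) : ℂ) else 0) = m := by
    intro y
    simp only [← column_orthogonality]
    rw [Finset.sum_comm, Finset.sum_eq_single ⟨fun _ => 1, isIrrCharacter_one⟩]
    · simp [hm, Nat.card_eq_fintype_card]
    · intro θ _ hθ
      have h1 := classInner_irr_ne θ.2 isIrrCharacter_one (fun e => hθ (Subtype.ext e))
      simp only [classInner, map_one, mul_one] at h1
      rw [← Finset.sum_mul, (mul_eq_zero.mp h1).resolve_left (inv_ne_zero card_cast_ne_zero),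
        zero_mul]
    · simp
  have hsumT : ∑ h, T h = m := by
    simp only [T]
    rw [← Finset.mul_sum, Finset.sum_comm]
    simp only [hcol, Finset.sum_const, Finset.card_univ, nsmul_eq_mul, ← Nat.card_eq_fintype_card]
    rw [inv_mul_cancel_left₀ card_cast_ne_zero]
  have hT1 : ∀ h, T h = 1 := by
    have hc : ∑ h, c h = m := by
      have : ((∑ h, c h : ℕ) : ℂ) = m := by
        rw [Nat.cast_sum]; simp only [← hcT]; exact hsumT
      exact_mod_cast this
    have hall : ∀ h, c h = 1 := by
      intro h
      have h1 : ∑ h : H, 1 = ∑ h, c h := by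
        rw [hc]; simp [hm, Nat.card_eq_fintype_card]
      exact ((Finset.sum_eq_sum_iff_of_le (fun i _ => hc1 i)).mp h1 h (Finset.mem_univ _)).symm
    intro h
    rw [hcT, hall, Nat.cast_one]
  have hmean : ∀ {F : H → ℂ}, IsClassFunction H F →
      (Nat.card G : ℂ)⁻¹ * ∑ x : G, F (rep x) = (m : ℂ)⁻¹ * ∑ h : H, F h := by
    intro F hF
    have e : ∀ x : G, F (rep x) = (m : ℂ)⁻¹ * ∑ h : H, (if IsConj h (rep x) then
        (Nat.card (Subgroup.centralizer ({h} : Set H)) : ℂ) else 0) * F h := by
      intro x
      have : ∑ h : H, (if IsConj h (rep x) then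
          (Nat.card (Subgroup.centralizer ({h} : Set H)) : ℂ) else 0) * F h =
          F (rep x) * m := by
        rw [← hcol (rep x), Finset.mul_sum]
        refine Finset.sum_congr rfl fun h _ => ?_
        split_ifs with hh
        · obtain ⟨d, hd⟩ := isConj_iff.mp hh
          rw [← hd, hF, mul_comm]
        · simp
      rw [this, mul_comm (F (rep x)), inv_mul_cancel_left₀ (Nat.cast_ne_zero.mpr Nat.card_pos.ne')]
    simp only [e]
    rw [← Finset.mul_sum, mul_left_comm]
    congr 1
    rw [Finset.sum_comm, Finset.mul_sum]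
    refine Finset.sum_congr rfl fun h _ => ?_
    rw [← Finset.sum_mul, ← mul_assoc]
    show T h * F h = F h
    rw [hT1, one_mul]
  -- the lifts of irreducible characters are characters
  have hchar : ∀ θ : IrrCharacter H, IsCharacter G (lift θ) := by
    intro θ
    obtain ⟨d, hd0, hd⟩ := θ.2.exists_degree
    refine Solv.isCharacter_of_norm_one (hgen θ.2.isCharacter) ?_ (d := d) ?_ hd0
    · rw [classInner, show (∑ x : G, lift θ x * conj (lift θ x)) =
          ∑ x : G, (fun h : H => (θ : H → ℂ) h * conj ((θ : H → ℂ) h)) (rep x) from rfl,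
        hmean (F := fun h : H => (θ : H → ℂ) h * conj ((θ : H → ℂ) h))
          (fun h d => by beta_reduce; rw [θ.2.isClassFunction])]
      exact classInner_irr_self θ.2
    · rw [hlift θ.2.isClassFunction (h := 1) (by simp), hd]
  set Φ : G → ℂ := ∑ θ : IrrCharacter H, (fun x : G => (θ : H → ℂ) 1 * lift θ x) with hΦdef
  have hΦ : IsCharacter G Φ := by
    refine IsCharacter.sum _ _ fun θ _ => ?_
    obtain ⟨d, -, hd⟩ := θ.2.exists_degree
    have := (hchar θ).natCast_smul d
    rwa [← hd] at this
  have hΦv : ∀ x, Φ x = if rep x = 1 then (m : ℂ) else 0 := by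
    intro x
    have h1 := sum_degree_mul (G := H) (rep x)
    rw [hΦdef]
    simpa [lift, hm] using h1
  refine ⟨charKer hΦ, charKer_normal hΦ, ?_⟩
  have hmem : ∀ x, x ∈ charKer hΦ ↔ x ^ k = 1 := by
    intro x
    have hm0 : (m : ℂ) ≠ 0 := Nat.cast_ne_zero.mpr Nat.card_pos.ne'
    have hr1 : ∀ y : G, rep y = 1 ↔ y ^ k = 1 := by
      intro y
      constructor
      · intro h
        have := hrep y
        rw [h, OneMemClass.coe_one] at this
        exact isConj_one_left.mp this
      · intro h
        have : IsConj (rep y) 1 := hrepH (by rw [h]; exact IsConj.refl _)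
        exact isConj_one_left.mp this
    rw [mem_charKer, hΦv, hΦv, if_pos ((hr1 1).mpr (one_pow k)), ← hr1 x]
    split_ifs with h
    · simp [h]
    · simp [h, hm0.symm]
  have hdisj : charKer hΦ ⊓ H = ⊥ := by
    rw [eq_bot_iff]
    rintro x ⟨hx, hxH⟩
    rw [Subgroup.mem_bot]
    exact (hHk ⟨x, hxH⟩).symm.trans ((hmem x).mp hx)
  refine ⟨?_, hdisj⟩
  have hcard : Nat.card (charKer hΦ) * m = Nat.card G := by
    have h1 := hT1 1
    have e : T 1 = (Nat.card G : ℂ)⁻¹ * ((Nat.card (charKer hΦ) : ℂ) * m) := by
      simp only [T]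
      congr 1
      have h2 : ∀ x : G, IsConj (1 : H) (rep x) ↔ x ∈ charKer hΦ := by
        intro x
        rw [hmem, isConj_one_right]
        constructor
        · intro h
          have := hrep x
          rw [h, OneMemClass.coe_one] at this
          exact isConj_one_left.mp this
        · intro h
          have : IsConj (rep x) 1 := hrepH (by rw [h]; exact IsConj.refl _)
          exact isConj_one_left.mp this
      have h3 : Subgroup.centralizer ({(1 : H)} : Set H) = ⊤ := by
        ext y; simp [Subgroup.mem_centralizer_iff]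
      simp only [h2, h3, Subgroup.card_top, ← Finset.sum_filter, Finset.sum_const, nsmul_eq_mul]
      congr 2
      rw [← Fintype.card_subtype, Nat.card_eq_fintype_card]
    rw [e, inv_mul_eq_one₀ card_cast_ne_zero] at h1
    exact_mod_cast h1.symm
  exact (Subgroup.isComplement'_of_card_mul_and_disjoint hcard
    (disjoint_iff.mpr hdisj)).sup_eq_top
where
  isIntegral_intCast_complex (j : ℤ) : IsIntegral ℤ (j : ℂ) := by
    simpa using isIntegral_algebraMap (R := ℤ) (A := ℂ) (x := j)

end Cfsg.Lib.Char
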