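import Mathlib.GroupTheory.FiniteAbelian.Duality
import Mathlib.RingTheory.RootsOfUnity.EnoughRootsOfUnity
import Cfsg.Prelude.Def_Transfer
import Cfsg.Agent.Lib.Core.Cores
import Cfsg.Agent.Lib.Core.Layer
import Cfsg.Agent.Lib.Core.PSolvable
import Cfsg.Agent.Lib.Char.Clifford2
import Cfsg.Agent.Lib.Char.Induced
import Cfsg.Agent.Lib.Char.Quotient
import Cfsg.Agent.Lib.Char.Linear
import Cfsg.Agent.Lib.Solv.FixedPointFree
import Cfsg.Agent.Lib.PGroup.Basic

/-!
# Zeros of characters at `p`-singular elements of solvable groups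
-/

set_option autoImplicit false
set_option linter.unusedSectionVars false
set_option linter.style.haveILetI false

namespace Cfsg.Lib.Char.SingularVanishing

open Cfsg Subgroup

universe u v

/-- An abelian group acting coprimely on an abelian group has a vector whose stabiliser is the
kernel of the action. -/
theorem exists_regular {E : Type u} [Group E] [Finite E] (hE : ∀ a b : E, a * b = b * a)
    {V : Type v} [CommGroup V] [Finite V] (φ : E →* MulAut V)
    (hcop : (Nat.card E).Coprime (Nat.card V)) :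
    ∃ v : V, ∀ a : E, φ a v = v → ∀ w : V, φ a w = w := by
  suffices key : ∀ (n : ℕ) (W : Subgroup V), Nat.card W = n → (∀ a : E, ∀ w ∈ W, φ a w ∈ W) →
      ∃ v ∈ W, ∀ a : E, φ a v = v → ∀ w ∈ W, φ a w = w by
    obtain ⟨v, -, h⟩ := key _ ⊤ rfl fun a w _ => mem_top _
    exact ⟨v, fun a ha w => h a ha w (mem_top w)⟩
  intro n
  induction n using Nat.strong_induction_on with
  | _ n ih =>
    intro W hW hinv
    by_cases hfpf : ∀ a : E, (∃ w ∈ W, w ≠ 1 ∧ φ a w = w) → ∀ w ∈ W, φ a w = w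
    · rcases W.bot_or_exists_ne_one with h | ⟨v, hv, hv1⟩
      · refine ⟨1, W.one_mem, fun a _ w hw => ?_⟩
        rw [h, mem_bot] at hw
        rw [hw, map_one]
      · exact ⟨v, hv, fun a ha => hfpf a ⟨v, hv, hv1, ha⟩⟩
    push Not at hfpf
    obtain ⟨a, ⟨w₀, hw₀, hw₀1, haw₀⟩, w₁, hw₁, haw₁⟩ := hfpf
    set m := orderOf a with hm
    let ν : V →* V :=
      { toFun := fun x => ∏ i ∈ Finset.range m, φ (a ^ i) x
        map_one' := Finset.prod_eq_one fun i _ => map_one _
        map_mul' := fun x y => by simp only [map_mul, Finset.prod_mul_distrib] }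
    have hνa : ∀ x, φ a (ν x) = ν x := by
      intro x
      show φ a (∏ i ∈ Finset.range m, φ (a ^ i) x) = ∏ i ∈ Finset.range m, φ (a ^ i) x
      rw [map_prod]
      have h : ∀ i, φ a (φ (a ^ i) x) = φ (a ^ (i + 1)) x := fun i => by
        rw [pow_succ', map_mul]; rfl
      simp only [h]
      have h1 := Finset.prod_range_succ' (fun i => φ (a ^ i) x) m
      have h2 := Finset.prod_range_succ (fun i => φ (a ^ i) x) m
      rw [h1, hm, pow_orderOf_eq_one, pow_zero] at h2
      exact mul_right_cancel h2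
    have hνfix : ∀ x, φ a x = x → ν x = x ^ m := by
      intro x hx
      show ∏ i ∈ Finset.range m, φ (a ^ i) x = x ^ m
      rw [Finset.prod_eq_pow_card (b := x), Finset.card_range]
      intro i hi
      clear hi
      induction i with
      | zero => rw [pow_zero, map_one]; rfl
      | succ i ih' =>
        rw [pow_succ, map_mul, MulAut.mul_apply, hx]
        exact ih'
    have hcopx : ∀ x : V, m.Coprime (orderOf x) := fun x =>
      Nat.Coprime.coprime_dvd_left (orderOf_dvd_natCard a) (hcop.coprime_dvd_right (orderOf_dvd_natCard x))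
    have hroot : ∀ x : V, x ^ m = 1 → x = 1 := fun x hx => by
      obtain ⟨j, hj⟩ := exists_pow_eq_self_of_coprime (hcopx x)
      rw [← hj, hx, one_pow]
    have hbν : ∀ b : E, ∀ x, ν (φ b x) = φ b (ν x) := by
      intro b x
      show ∏ i ∈ Finset.range m, φ (a ^ i) (φ b x) = φ b (∏ i ∈ Finset.range m, φ (a ^ i) x)
      rw [map_prod]
      refine Finset.prod_congr rfl fun i _ => ?_
      rw [← MulAut.mul_apply, ← map_mul, hE, map_mul, MulAut.mul_apply]
    set C := W ⊓ MonoidHom.eqLocus (φ a).toMonoidHom (MonoidHom.id V) with hC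
    set D := W ⊓ ν.ker with hD
    have hCmem : ∀ x, x ∈ C ↔ x ∈ W ∧ φ a x = x := fun x => mem_inf
    have hDmem : ∀ x, x ∈ D ↔ x ∈ W ∧ ν x = 1 := fun x => mem_inf
    have hCinv : ∀ b : E, ∀ x ∈ C, φ b x ∈ C := by
      intro b x hx
      rw [hCmem] at hx ⊢
      refine ⟨hinv b x hx.1, ?_⟩
      rw [← MulAut.mul_apply, ← map_mul, hE, map_mul, MulAut.mul_apply, hx.2]
    have hDinv : ∀ b : E, ∀ x ∈ D, φ b x ∈ D := by
      intro b x hx
      rw [hDmem] at hx ⊢
      exact ⟨hinv b x hx.1, by rw [hbν, hx.2, map_one]⟩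
    have hCW : Nat.card C < n := by
      rw [← hW]
      refine lt_of_le_of_ne (card_le_of_le inf_le_left) fun h => haw₁ ?_
      have heq : C = W := eq_of_le_of_card_ge inf_le_left h.ge
      exact ((hCmem w₁).1 (heq.symm ▸ hw₁)).2
    have hDW : Nat.card D < n := by
      rw [← hW]
      refine lt_of_le_of_ne (card_le_of_le inf_le_left) fun h => hw₀1 ?_
      have heq : D = W := eq_of_le_of_card_ge inf_le_left h.ge
      exact hroot w₀ (by rw [← hνfix w₀ haw₀]; exact ((hDmem w₀).1 (heq.symm ▸ hw₀)).2)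
    obtain ⟨c, hc, hcs⟩ := ih _ hCW C rfl hCinv
    obtain ⟨d, hd, hds⟩ := ih _ hDW D rfl hDinv
    refine ⟨c * d, W.mul_mem hc.1 hd.1, fun b hb w hw => ?_⟩
    have hCD : ∀ x, x ∈ C → x ∈ D → x = 1 := fun x h1 h2 =>
      hroot x (by rw [← hνfix x ((hCmem x).1 h1).2]; exact ((hDmem x).1 h2).2)
    rw [map_mul] at hb
    have hx : c⁻¹ * φ b c = d * (φ b d)⁻¹ := by
      rw [inv_mul_eq_iff_eq_mul, ← mul_assoc, eq_mul_inv_iff_mul_eq]
      exact hb
    have hx1 := hCD _ (C.mul_mem (C.inv_mem hc) (hCinv b c hc))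
      (hx ▸ D.mul_mem hd (D.inv_mem (hDinv b d hd)))
    have hbc : φ b c = c := (inv_mul_eq_one.1 hx1).symm
    have hbd : φ b d = d := by
      rw [hbc] at hb
      exact mul_left_cancel hb
    have hwm : φ b (w ^ m) = w ^ m := by
      have hν : ν w ∈ C := (hCmem _).2 ⟨show ∏ i ∈ Finset.range m, φ (a ^ i) w ∈ W from
        Subgroup.prod_mem W fun i _ => hinv _ w hw, hνa w⟩
      have hd' : w ^ m * (ν w)⁻¹ ∈ D := (hDmem _).2
        ⟨W.mul_mem (pow_mem hw m) (W.inv_mem hν.1), by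
          rw [map_mul, map_inv, map_pow, hνfix _ (hνa w), mul_inv_cancel]⟩
      calc φ b (w ^ m) = φ b (w ^ m * (ν w)⁻¹ * ν w) := by rw [inv_mul_cancel_right]
        _ = w ^ m * (ν w)⁻¹ * ν w := by rw [map_mul, hcs b hbc _ hν, hds b hbd _ hd']
        _ = w ^ m := by rw [inv_mul_cancel_right]
    obtain ⟨j, hj⟩ := exists_pow_eq_self_of_coprime (hcopx w)
    rw [← hj, map_pow, hwm]

variable {G : Type u} [Group G] [Finite G]

/-- A linear character of a normal abelian subgroup fixed by no element of an abelian coprime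
group acting nontrivially. -/
theorem exists_lam [Fintype G] (M : Subgroup G) [M.Normal] (hM : ∀ a ∈ M, ∀ b ∈ M, a * b = b * a)
    (E : Subgroup G) (hE : ∀ a ∈ E, ∀ b ∈ E, a * b = b * a)
    (hcop : (Nat.card E).Coprime (Nat.card M)) :
    ∃ θ : M → ℂ, IsIrrCharacter M θ ∧
      ∀ a ∈ E, a ∈ inertia M θ → ∀ x ∈ M, a * x = x * a := by
  letI : CommGroup M :=
    { (inferInstance : Group M) with mul_comm := fun a b => Subtype.ext (hM a a.2 b b.2) }
  haveI : Finite (M →* ℂˣ) := Nat.finite_of_card_ne_zero (by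
    rw [card_monoidHom_units]; exact Nat.card_pos.ne')
  let c : G → (M →* M) := fun g =>
    MonoidHom.mk' (fun x : M => ⟨g * (x : G) * g⁻¹, (inferInstance : M.Normal).conj_mem x x.2 g⟩)
      (fun x y => Subtype.ext (show g * ((x : G) * y) * g⁻¹ = g * x * g⁻¹ * (g * y * g⁻¹) by group))
  have hcinv : ∀ g, ∀ x : M, c g (c g⁻¹ x) = x := fun g x => Subtype.ext (by
    show g * (g⁻¹ * (x : G) * g⁻¹⁻¹) * g⁻¹ = x; group)
  let φ : E →* MulAut (M →* ℂˣ) := MonoidHom.mk' (fun a =>
    { toFun := fun l => l.comp (c (a : G)⁻¹)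
      invFun := fun l => l.comp (c (a : G))
      left_inv := fun l => MonoidHom.ext fun x => by
        show l (c (a : G)⁻¹ (c (a : G) x)) = l x
        conv_lhs => rw [show c (a : G) = c ((a : G)⁻¹)⁻¹ by rw [inv_inv], hcinv]
      right_inv := fun l => MonoidHom.ext fun x => by
        show l (c (a : G) (c (a : G)⁻¹ x)) = l x
        rw [hcinv]
      map_mul' := fun l l' => rfl }) (fun a b => MulEquiv.ext fun l => MonoidHom.ext fun x =>
        congrArg l (Subtype.ext (show ((a * b : E) : G)⁻¹ * (x : G) * (((a * b : E) : G)⁻¹)⁻¹ =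
          (b : G)⁻¹ * ((a : G)⁻¹ * x * ((a : G)⁻¹)⁻¹) * ((b : G)⁻¹)⁻¹ by push_cast; group)))
  obtain ⟨l, hl⟩ := exists_regular (E := ↥E) (fun a b => Subtype.ext (hE a a.2 b b.2)) φ
    (by rw [card_monoidHom_units (M : Subgroup G)]; exact hcop)
  refine ⟨fun x => (l x : ℂ), isIrrCharacter_linear l, fun a ha hi x hx => ?_⟩
  rw [mem_inertia_iff] at hi
  have hfix : φ ⟨a, ha⟩ l = l := by
    refine MonoidHom.ext fun y => ?_
    have h := hi (c a⁻¹ y)
    have h2 : c a (c a⁻¹ y) = y := hcinv a y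
    show l (c a⁻¹ y) = l y
    refine Units.ext ?_
    rw [← h]
    exact congrArg (fun z : M => (l z : ℂ)) h2
  have hall := hl ⟨a, ha⟩ hfix
  have hc : c a⁻¹ ⟨x, hx⟩ = ⟨x, hx⟩ := by
    by_contra hne
    obtain ⟨m, hm⟩ := CommGroup.exists_apply_ne_one_of_hasEnoughRootsOfUnity M ℂ
      (a := c a⁻¹ ⟨x, hx⟩ / ⟨x, hx⟩) (by rwa [ne_eq, div_eq_one])
    refine hm ?_
    rw [map_div, div_eq_one]
    exact congrArg (fun f : M →* ℂˣ => f ⟨x, hx⟩) (hall m)
  have h3 : a⁻¹ * x * a⁻¹⁻¹ = x := congrArg Subtype.val hc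
  rw [inv_inv, mul_assoc, inv_mul_eq_iff_eq_mul] at h3
  exact h3.symm

/-- An element with a power in a nontrivially acting abelian `p`-subgroup, normal modulo a
solvable normal `p'`-subgroup, is a zero of some irreducible character. -/
theorem exists_zero {p : ℕ} [hp : Fact p.Prime] [Group.IsSolvable G] (K : Subgroup G) [K.Normal]
    (hK : (Nat.card K).Coprime p) (E : Subgroup G) (hEp : IsPGroup p E)
    (hE : ∀ a ∈ E, ∀ b ∈ E, a * b = b * a) (hKE : (K ⊔ E).Normal) {g : G} {j : ℕ}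
    (hg : g ^ j ∈ E) (hne : ∃ k ∈ K, k * g ^ j ≠ g ^ j * k) :
    ∃ χ : IrrCharacter G, (χ : G → ℂ) g = 0 := by
  classical
  haveI := Fintype.ofFinite G
  obtain ⟨N, ⟨hNn, hNK, hNe⟩, hNmax⟩ := Set.Finite.exists_maximal
    (s := {N : Subgroup G | N.Normal ∧ N ≤ K ∧ ∃ k ∈ K, k * g ^ j * k⁻¹ * (g ^ j)⁻¹ ∉ N})
    (Set.toFinite _) ⟨⊥, inferInstance, bot_le, by
      obtain ⟨k, hk, hk'⟩ := hne
      refine ⟨k, hk, fun h => hk' ?_⟩
      rw [mem_bot, mul_inv_eq_one, mul_inv_eq_iff_eq_mul] at h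
      exact h⟩
  haveI := hNn
  set π := QuotientGroup.mk' N with hπ
  have hπs : Function.Surjective π := QuotientGroup.mk'_surjective N
  haveI : Group.IsSolvable (G ⧸ N) := Group.isSolvable_of_surjective hπs
  haveI hK'n : (K.map π).Normal := Normal.map inferInstance π hπs
  set e := π (g ^ j) with he
  have hKne : K.map π ≠ ⊥ := by
    obtain ⟨k, hk, hk'⟩ := hNe
    intro h
    have hk1 : π k = 1 := mem_bot.1 (h ▸ mem_map_of_mem π hk)
    refine hk' ((QuotientGroup.eq_one_iff _).1 ?_)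
    show π (k * g ^ j * k⁻¹ * (g ^ j)⁻¹) = 1
    rw [map_mul, map_mul, map_mul, hk1, map_inv, map_inv, hk1]
    group
  obtain ⟨M, hM, hMK⟩ := Lib.Core.exists_isMinNormal hK'n hKne
  haveI := hM.1
  obtain ⟨hMc, -⟩ := Lib.Core.minimal_solvable_elementary hM inferInstance
  have hcomm : ∀ y ∈ K.map π, y * e * y⁻¹ * e⁻¹ ∈ M := by
    rintro _ ⟨k, hk, rfl⟩
    by_contra h
    have hle : N ≤ M.comap π := fun x hx => by
      rw [mem_comap, hπ, QuotientGroup.mk'_apply, (QuotientGroup.eq_one_iff x).2 hx]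
      exact M.one_mem
    have hle' : M.comap π ≤ K := by
      refine (comap_mono hMK).trans (le_of_eq ?_)
      rw [comap_map_eq, hπ, QuotientGroup.ker_mk', sup_eq_left]
      exact hNK
    have hle2 := hNmax (⟨hM.1.comap π, hle', k, hk, fun h' => h (by
      rw [mem_comap, map_mul, map_mul, map_mul, map_inv, map_inv] at h'
      exact h')⟩ : M.comap π ∈ {N : Subgroup G | N.Normal ∧ N ≤ K ∧
        ∃ k ∈ K, k * g ^ j * k⁻¹ * (g ^ j)⁻¹ ∉ N}) hle
    refine hM.2.1 ?_
    rw [← map_comap_eq_self_of_surjective hπs M, eq_bot_iff]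
    rintro _ ⟨x, hx, rfl⟩
    rw [mem_bot, hπ, QuotientGroup.mk'_apply, QuotientGroup.eq_one_iff]
    exact hle2 hx
  haveI := Fintype.ofFinite (G ⧸ N)
  set F := E.map π with hF
  have heF : e ∈ F := mem_map_of_mem π hg
  have hFc : ∀ a ∈ F, ∀ b ∈ F, a * b = b * a := by
    rintro _ ⟨a, ha, rfl⟩ _ ⟨b, hb, rfl⟩
    rw [← map_mul, hE a ha b hb, map_mul]
  have hcopKE : ∀ {A B : Subgroup (G ⧸ N)}, A ≤ F → B ≤ K.map π →
      (Nat.card A).Coprime (Nat.card B) := by
    intro A B hA hB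
    obtain ⟨i, hi⟩ := IsPGroup.iff_card.1 ((hEp.map π).to_le hA)
    rw [hi]
    refine Nat.Coprime.pow_left _ ?_
    exact (hK.coprime_dvd_left ((card_dvd_of_le hB).trans (card_map_dvd K π))).symm
  obtain ⟨θ, hθ, hstab⟩ := exists_lam M (fun a ha b hb =>
    congrArg Subtype.val (hMc.is_comm.comm ⟨a, ha⟩ ⟨b, hb⟩)) F hFc (hcopKE le_rfl hMK)
  have hemove : ¬ ∀ x ∈ M, e * x = x * e := by
    intro hcen
    obtain ⟨k, hk, hk'⟩ := hNe
    apply hk'
    rw [← QuotientGroup.eq_one_iff]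
    show π (k * g ^ j * k⁻¹ * (g ^ j)⁻¹) = 1
    simp only [map_mul, map_inv]
    set c := π k * e * (π k)⁻¹ * e⁻¹ with hcdef
    have hc : c ∈ M := hcomm _ (mem_map_of_mem π hk)
    have h1 : π k * e * (π k)⁻¹ = c * e := by rw [hcdef]; group
    have h3 : (c * e) ^ orderOf e = 1 := by
      rw [← h1, conj_pow, pow_orderOf_eq_one, mul_one, mul_inv_cancel]
    rw [(show Commute c e from (hcen c hc).symm).mul_pow, pow_orderOf_eq_one, mul_one] at h3
    have hord : (orderOf e).Coprime (orderOf c) := by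
      rw [← Nat.card_zpowers, ← Nat.card_zpowers]
      exact hcopKE (zpowers_le.2 heF) ((zpowers_le.2 hc).trans hMK)
    rw [← orderOf_eq_one_iff]
    exact Nat.eq_one_of_dvd_coprimes hord (orderOf_dvd_of_pow_eq_one h3) dvd_rfl
  -- conjugates of `e` avoid the inertia group
  have hnot : ∀ x : G ⧸ N, x * e * x⁻¹ ∉ inertia M θ := by
    intro x hx
    set a := x * e * x⁻¹ with ha
    have hcomma : ∀ y ∈ K.map π, y * a * y⁻¹ * a⁻¹ ∈ M := by
      intro y hy
      have h1 := hcomm (x⁻¹ * y * x) (by simpa using hK'n.conj_mem y hy x⁻¹)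
      have h2 := (inferInstance : M.Normal).conj_mem _ h1 x
      rw [show x * (x⁻¹ * y * x * e * (x⁻¹ * y * x)⁻¹ * e⁻¹) * x⁻¹ = y * a * y⁻¹ * a⁻¹ by
        rw [ha]; group] at h2
      exact h2
    obtain ⟨y, hy⟩ := hπs x
    have hmem : y * g ^ j * y⁻¹ ∈ K ⊔ E := hKE.conj_mem _ (mem_sup_right hg) y
    obtain ⟨k, hk, a', ha', hka⟩ := mem_sup_of_normal_left.1 hmem
    have hπk : π k * π a' = a := by rw [← map_mul, hka, map_mul, map_mul, map_inv, hy]
    -- replace the `K`-part by an element of `M`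
    have hkM : π k ∈ M := by
      have hq : ∀ y ∈ K.map π, (QuotientGroup.mk' M) (y * a * y⁻¹ * a⁻¹) = 1 := fun y hy =>
        (QuotientGroup.eq_one_iff _).2 (hcomma y hy)
      set ψ := QuotientGroup.mk' M with hψ
      have hca : Commute (ψ (π k)) (ψ a) := by
        have h := hq _ (mem_map_of_mem π hk)
        rw [map_mul, map_mul, map_mul, map_inv, map_inv, mul_inv_eq_one, mul_inv_eq_iff_eq_mul] at h
        exact h
      have hψa : ψ (π a') = (ψ (π k))⁻¹ * ψ a := by rw [← hπk, map_mul, inv_mul_cancel_left]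
      have hpa : ∃ i, ψ a ^ p ^ i = 1 := by
        obtain ⟨i, hi⟩ := hEp ⟨g ^ j, hg⟩
        have hi' : (g ^ j) ^ p ^ i = 1 := congrArg Subtype.val hi
        refine ⟨i, ?_⟩
        rw [← map_pow, ha, conj_pow, he, ← map_pow, hi', map_one, mul_one, mul_inv_cancel, map_one]
      obtain ⟨i, hi⟩ := hpa
      obtain ⟨i', hi'⟩ := hEp ⟨a', ha'⟩
      have hi'' : a' ^ p ^ i' = 1 := congrArg Subtype.val hi'
      have h4 : ψ (π a') ^ p ^ (i + i') = 1 := by
        rw [← map_pow, ← map_pow, pow_add, mul_comm, pow_mul, hi'', one_pow, map_one, map_one]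
      rw [hψa, (hca.inv_left).mul_pow, pow_add, pow_mul (ψ a), hi, one_pow, mul_one, inv_pow,
        inv_eq_one, ← pow_add] at h4
      rw [← QuotientGroup.eq_one_iff, ← orderOf_eq_one_iff]
      refine Nat.eq_one_of_dvd_coprimes ?_ (orderOf_dvd_of_pow_eq_one h4) dvd_rfl
      refine Nat.Coprime.pow_left _ (Nat.Coprime.coprime_dvd_right ?_ hK.symm)
      exact (orderOf_map_dvd ψ _).trans ((orderOf_map_dvd π k).trans
        (by rw [← orderOf_mk k hk]; exact orderOf_dvd_natCard _))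
    have ha'T : π a' ∈ inertia M θ := by
      have h := (inertia M θ).mul_mem
        ((inertia M θ).inv_mem (le_inertia M hθ.isClassFunction hkM)) hx
      rwa [← hπk, inv_mul_cancel_left] at h
    have hcenM := hstab (π a') (mem_map_of_mem π ha') ha'T
    refine hemove fun z hz => ?_
    have h1 := hcenM (x * z * x⁻¹) ((inferInstance : M.Normal).conj_mem z hz x)
    have h2 : π k * (x * z * x⁻¹) = (x * z * x⁻¹) * π k := congrArg Subtype.val
      (hMc.is_comm.comm ⟨_, hkM⟩ ⟨_, (inferInstance : M.Normal).conj_mem z hz x⟩)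
    have h3 : a * (x * z * x⁻¹) = (x * z * x⁻¹) * a := by
      rw [← hπk, mul_assoc, h1, ← mul_assoc, h2, mul_assoc]
    calc e * z = x⁻¹ * (a * (x * z * x⁻¹)) * x := by rw [ha]; group
      _ = x⁻¹ * ((x * z * x⁻¹) * a) * x := by rw [h3]
      _ = z * e := by rw [ha]; group
  set T := inertia M θ with hT
  have hMT : M ≤ T := le_inertia M hθ.isClassFunction
  obtain ⟨χ, hχ⟩ := exists_constituent (isCharacter_indFun M hθ.isCharacter) (by
    rw [indFun_apply_one]
    exact mul_ne_zero (Nat.cast_ne_zero.mpr Subgroup.index_ne_zero_of_finite) hθ.apply_one_ne_zero)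
  have hres : classInner (fun x : M => (χ : G ⧸ N → ℂ) x) θ ≠ 0 := by
    rw [classInner_indFun M θ χ.2.isClassFunction, ← classInner_conj_symm] at hχ
    exact fun h => hχ (by rw [h, map_zero])
  obtain ⟨ψ, -, -, hind, -⟩ := clifford_exists M hθ hMT hT χ.2 hres
  refine ⟨⟨_, isIrrCharacter_inflate N χ.2⟩, ?_⟩
  show (χ : G ⧸ N → ℂ) (π g) = 0
  rw [← hind]
  unfold indFun
  rw [Finset.sum_eq_zero, mul_zero]
  intro x _
  refine extendByZero_of_notMem _ _ fun h => hnot x⁻¹ ?_
  have h' := pow_mem h j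
  have hconj : (x⁻¹ * π g * x⁻¹⁻¹) ^ j = x⁻¹ * π g ^ j * x⁻¹⁻¹ := conj_pow
  rw [inv_inv] at hconj
  rw [inv_inv, he, map_pow, ← hconj]
  exact h'

/-- An irreducible character not containing a normal subgroup in its kernel has zero sum on each
coset. -/
theorem sum_coset_eq_zero (N : Subgroup G) [N.Normal] [Fintype N] (χ : IrrCharacter G)
    (hN : ∃ n ∈ N, (χ : G → ℂ) n ≠ (χ : G → ℂ) 1) (g : G) :
    ∑ n : N, (χ : G → ℂ) (g * n) = 0 := by
  obtain ⟨d, ρ, hirr, hρ⟩ := χ.2
  set A : Module.End ℂ (Fin d → ℂ) := ∑ n : N, ρ (n : G) with hA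
  have hNA : ∀ n ∈ N, ρ n * A = A := fun n hn => by
    rw [hA, Finset.mul_sum]
    refine Fintype.sum_equiv (Equiv.mulLeft ⟨n, hn⟩) _ _ fun m => ?_
    rw [← map_mul]; rfl
  have hA0 : A = 0 := by
    let W : Submodule ℂ (Fin d → ℂ) :=
      { carrier := {v | ∀ n ∈ N, ρ n v = v}
        add_mem' := fun {a b} ha hb n hn => by rw [map_add, ha n hn, hb n hn]
        zero_mem' := fun n _ => map_zero _
        smul_mem' := fun c a ha n hn => by rw [map_smul, ha n hn] }
    rcases ((Char.isIrreducible_iff_submodule ρ).1 hirr).2 W (fun x v hv n hn => by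
      have h1 := hv (x⁻¹ * n * x) (by simpa using (inferInstance : N.Normal).conj_mem n hn x⁻¹)
      calc ρ n (ρ x v) = ρ x (ρ (x⁻¹ * n * x) v) := by
            rw [← Module.End.mul_apply, ← Module.End.mul_apply, ← map_mul, ← map_mul]
            congr 2; group
        _ = ρ x v := by rw [h1]) with h | h
    · refine LinearMap.ext fun v => ?_
      exact (Submodule.eq_bot_iff _).1 h (A v) fun n hn => by
        rw [← Module.End.mul_apply, hNA n hn]
    · exfalso
      obtain ⟨n, hn, hne⟩ := hN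
      refine hne ?_
      have h1 : ρ n = 1 := LinearMap.ext fun v => (h ▸ Submodule.mem_top : v ∈ W) n hn
      have h2 : ρ.character n = ρ.character 1 := by
        simp only [Representation.character, h1, map_one]
      rw [← hρ]; exact h2
  rw [← hρ]
  simp only [Representation.character, map_mul, ← map_sum, ← Finset.mul_sum]
  rw [← hA, hA0, mul_zero, map_zero]

/-- If the `p`-singular zeros have one `p'`-order and no zero is a `p`-th power of a zero, then
with trivial `p`-core a Sylow `p`-subgroup has order at most `p`. -/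
theorem sylow_card_dvd {p : ℕ} [hp : Fact p.Prime] [Group.IsSolvable G]
    (hcore : pCore p G = ⊥)
    (hsame : ∀ g h : G, p ∣ orderOf g → p ∣ orderOf h →
      (∃ χ : IrrCharacter G, (χ : G → ℂ) g = 0) → (∃ χ : IrrCharacter G, (χ : G → ℂ) h = 0) →
      ordCompl[p] (orderOf g) = ordCompl[p] (orderOf h))
    (hpow : ∀ g : G, p ∣ orderOf (g ^ p) → (∃ χ : IrrCharacter G, (χ : G → ℂ) g = 0) →
      ¬ ∃ χ : IrrCharacter G, (χ : G → ℂ) (g ^ p) = 0)
    (S : Sylow p G) : Nat.card S ∣ p := by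
  classical
  haveI := Fintype.ofFinite G
  by_cases hpG : p ∣ Nat.card G
  swap
  · rw [S.card_eq_multiplicity, Nat.factorization_eq_zero_of_not_dvd hpG, pow_zero]
    exact one_dvd p
  set K := pPrimeCore p G with hKdef
  have hKcop := Lib.Core.pPrimeCore_coprime p G
  have hSK : ∀ s ∈ (S : Subgroup G), s ∈ K → s = 1 := by
    intro s hs hsK
    obtain ⟨i, hi⟩ := IsPGroup.iff_card.1 S.2
    rw [← orderOf_eq_one_iff]
    refine Nat.eq_one_of_dvd_coprimes (k := orderOf s) ((hKcop.pow_right i).symm) ?_ ?_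
    · rw [← hi, ← orderOf_mk s hs]; exact orderOf_dvd_natCard _
    · rw [← orderOf_mk s hsK]; exact orderOf_dvd_natCard _
  have hCK : centralizer (K : Set G) ≤ K := by
    have hF : fittingSubgroup G ≤ K := by
      rw [Lib.Core.fittingSubgroup_eq_iSup_pCore]
      refine iSup_le fun q => ?_
      by_cases hqp : (q : ℕ) = p
      · rw [hqp, hcore]; exact bot_le
      · refine Lib.Core.le_pPrimeCore ?_
        haveI := Fact.mk q.2
        obtain ⟨i, hi⟩ := IsPGroup.iff_card.1 (Lib.Core.pCore_isPGroup (q : ℕ) G)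
        rw [hi]
        exact ((Nat.coprime_primes q.2 hp.out).2 hqp).pow_left i
    exact (centralizer_le hF).trans ((Lib.Core.centralizer_fitting_le_of_isSolvable).trans hF)
  set π := QuotientGroup.mk' K with hπ
  have hπs : Function.Surjective π := QuotientGroup.mk'_surjective K
  have hπinj : ∀ a ∈ (S : Subgroup G), ∀ b ∈ (S : Subgroup G), π a = π b → a = b := by
    intro a ha b hb h
    rw [hπ, QuotientGroup.mk'_eq_mk'] at h
    obtain ⟨z, hz, hab⟩ := h
    have h1 : z = a⁻¹ * b := by rw [← hab, inv_mul_cancel_left]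
    have h2 := hSK _ (mul_mem (inv_mem ha) hb) (h1 ▸ hz)
    exact (inv_mul_eq_one.1 h2)
  haveI : Group.IsSolvable (G ⧸ K) := Group.isSolvable_of_surjective hπs
  haveI : Nontrivial (G ⧸ K) := by
    rw [← not_subsingleton_iff_nontrivial, QuotientGroup.subsingleton_iff]
    intro h
    have hc : (Nat.card K).Coprime p := hKcop
    rw [h, card_top] at hc
    exact hp.out.not_dvd_one (hc ▸ Nat.dvd_gcd hpG dvd_rfl)
  set T := pCore p (G ⧸ K) with hTdef
  have hTne : T ≠ ⊥ := Lib.Core.pCore_ne_bot_of_isPSolvable Lib.Core.isPSolvable_of_isSolvable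
    Lib.Core.pPrimeCore_quotient_eq_bot
  let Sb : Sylow p (G ⧸ K) := S.mapSurjective hπs
  have hTS : ∀ t ∈ T, ∃ s ∈ (S : Subgroup G), π s = t := fun t ht => Lib.Core.pCore_le_sylow Sb ht
  let Eq : Subgroup (G ⧸ K) :=
    { carrier := {x | x ∈ T ∧ (∀ t ∈ T, t * x = x * t) ∧ x ^ p = 1}
      one_mem' := ⟨T.one_mem, fun t _ => by rw [mul_one, one_mul], one_pow p⟩
      mul_mem' := fun {a b} ha hb => ⟨T.mul_mem ha.1 hb.1,
        fun t ht => by rw [← mul_assoc, ha.2.1 t ht, mul_assoc, hb.2.1 t ht, mul_assoc], by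
        rw [(show Commute a b from hb.2.1 a ha.1).mul_pow, ha.2.2, hb.2.2, one_mul]⟩
      inv_mem' := fun {a} ha => ⟨T.inv_mem ha.1,
        fun t ht => (show Commute t a from ha.2.1 t ht).inv_right.eq,
        by rw [inv_pow, ha.2.2, inv_one]⟩ }
  have hTn : T.Normal := inferInstance
  haveI hEqn : Eq.Normal := ⟨fun x hx g => ⟨hTn.conj_mem x hx.1 g, fun t ht => by
      have h0 := hTn.conj_mem t ht g⁻¹
      rw [inv_inv] at h0
      have h1 := hx.2.1 (g⁻¹ * t * g) h0
      calc t * (g * x * g⁻¹) = g * ((g⁻¹ * t * g) * x) * g⁻¹ := by group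
        _ = g * (x * (g⁻¹ * t * g)) * g⁻¹ := by rw [h1]
        _ = g * x * g⁻¹ * t := by group,
    by rw [conj_pow, hx.2.2, mul_one, mul_inv_cancel]⟩⟩
  set E := (S : Subgroup G) ⊓ Eq.comap π with hEdef
  have hEmem : ∀ x, x ∈ E ↔ x ∈ (S : Subgroup G) ∧ π x ∈ Eq := fun x => mem_inf
  have hEpow : ∀ x ∈ E, x ^ p = 1 := fun x hx => hπinj _ (pow_mem hx.1 p) 1 (one_mem _)
    (by rw [map_pow, map_one]; exact ((hEmem x).1 hx).2.2.2)
  have hEc : ∀ a ∈ E, ∀ b ∈ E, a * b = b * a := fun a ha b hb =>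
    hπinj _ (mul_mem ha.1 hb.1) _ (mul_mem hb.1 ha.1)
      (by rw [map_mul, map_mul]; exact ((hEmem b).1 hb).2.2.1 _ ((hEmem a).1 ha).2.1)
  have hKE : (K ⊔ E).Normal := by
    have heq : K ⊔ E = Eq.comap π := by
      refine le_antisymm (sup_le (fun k hk => ?_) inf_le_right) fun x hx => ?_
      · rw [mem_comap, hπ, QuotientGroup.mk'_apply, (QuotientGroup.eq_one_iff k).2 hk]
        exact Eq.one_mem
      · obtain ⟨s, hs, hsx⟩ := hTS _ (show π x ∈ T from (mem_comap.1 hx).1)
        have hxs : x * s⁻¹ ∈ K := by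
          rw [← QuotientGroup.eq_one_iff]
          show π (x * s⁻¹) = 1
          rw [map_mul, map_inv, hsx, mul_inv_cancel]
        have h1 := mul_mem (mem_sup_left hxs : x * s⁻¹ ∈ K ⊔ E)
          (mem_sup_right ((hEmem s).2 ⟨hs, hsx ▸ mem_comap.1 hx⟩) : s ∈ K ⊔ E)
        rwa [inv_mul_cancel_right] at h1
    rw [heq]; exact hEqn.comap π
  have hEp : IsPGroup p E := S.2.to_le inf_le_left
  have hzero : ∀ (g : G) (j : ℕ), g ^ j ∈ E → g ^ j ≠ 1 →
      p ∣ orderOf g ∧ ∃ χ : IrrCharacter G, (χ : G → ℂ) g = 0 := by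
    intro g j hj hj1
    refine ⟨?_, exists_zero K hKcop E hEp hEc hKE hj ?_⟩
    · rw [← orderOf_eq_prime (hEpow _ hj) hj1]; exact orderOf_pow_dvd j
    · by_contra h
      push Not at h
      exact hj1 (hSK _ hj.1 (hCK (mem_centralizer_iff.2 fun k hk => h k hk)))
  obtain ⟨e, he, he1⟩ : ∃ e ∈ E, e ≠ 1 := by
    have hTp : IsPGroup p T := Lib.Core.pCore_isPGroup p _
    haveI : Nontrivial T := (nontrivial_iff_ne_bot _).2 hTne
    obtain ⟨z, -, hzc, hzo⟩ :=
      Lib.PGroup.exists_mem_center_orderOf_eq hTp (N := (⊤ : Subgroup T)) top_ne_bot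
    have hzE : (z : G ⧸ K) ∈ Eq := ⟨z.2, fun t ht =>
      congrArg Subtype.val (mem_center_iff.1 hzc ⟨t, ht⟩), by
      have h5 := pow_orderOf_eq_one (z : G ⧸ K)
      rwa [orderOf_coe, hzo] at h5⟩
    obtain ⟨s, hs, hsz⟩ := hTS _ z.2
    refine ⟨s, (hEmem s).2 ⟨hs, hsz ▸ hzE⟩, fun h => hp.out.ne_one ?_⟩
    rw [← hzo, ← orderOf_coe, ← hsz, h, map_one, orderOf_one]
  -- zeros have `p`-power order
  have hpord : ∀ g : G, p ∣ orderOf g → (∃ χ : IrrCharacter G, (χ : G → ℂ) g = 0) →
      ordCompl[p] (orderOf g) = 1 := by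
    intro g hg hχ
    obtain ⟨h1, h2⟩ := hzero e 1 (by rwa [pow_one]) (by rwa [pow_one])
    rw [hsame g e hg h1 hχ h2, orderOf_eq_prime (hEpow e he) he1, hp.out.factorization_self,
      pow_one, Nat.div_self hp.out.pos]
  have hmix : ∀ a s : G, a * s = s * a → orderOf a = p → (orderOf s).Coprime p →
      (∃ χ : IrrCharacter G, (χ : G → ℂ) (a * s) = 0) → s = 1 := by
    intro a s hc ha hs hχ
    have hord : orderOf (a * s) = p * orderOf s := by
      rw [(show Commute a s from hc).orderOf_mul_eq_mul_orderOf_of_coprime (by rw [ha]; exact hs.symm), ha]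
    have h1 := hpord (a * s) (hord ▸ dvd_mul_right p _) hχ
    rw [hord, Nat.factorization_mul hp.out.ne_zero (orderOf_pos s).ne'] at h1
    simp only [Finsupp.coe_add, Pi.add_apply, hp.out.factorization_self,
      Nat.factorization_eq_zero_of_not_dvd (hp.out.coprime_iff_not_dvd.1 hs.symm), add_zero,
      pow_one, Nat.mul_div_cancel_left _ hp.out.pos] at h1
    exact orderOf_eq_one_iff.1 h1
  have hcentp : ∀ a ∈ E, a ≠ 1 → ∀ x : G, a * x = x * a → ∃ i, x ^ p ^ i = 1 := by
    intro a ha ha1 x hx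
    obtain ⟨i, m, hm, hord⟩ := Nat.exists_eq_pow_mul_and_not_dvd (orderOf_pos x).ne' p hp.out.ne_one
    refine ⟨i, ?_⟩
    have hsord : orderOf (x ^ p ^ i) = m := by
      rw [orderOf_pow, hord, Nat.gcd_eq_right (dvd_mul_right _ _),
        Nat.mul_div_cancel_left _ (pow_pos hp.out.pos i)]
    have hcs : a * x ^ p ^ i = x ^ p ^ i * a := (show Commute a x from hx).pow_right _
    have hcop : (orderOf (x ^ p ^ i)).Coprime p := by
      rw [hsord]; exact (hp.out.coprime_iff_not_dvd.2 hm).symm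
    refine hmix a _ hcs (orderOf_eq_prime (hEpow a ha) ha1) hcop ?_
    refine (hzero (a * x ^ p ^ i) m ?_ ?_).2
    · rw [(show Commute a _ from hcs).mul_pow, ← hsord, pow_orderOf_eq_one, mul_one]
      exact pow_mem ha _
    · rw [(show Commute a _ from hcs).mul_pow, ← hsord, pow_orderOf_eq_one, mul_one, hsord]
      intro h
      exact hm ((orderOf_eq_prime (hEpow a ha) ha1) ▸ orderOf_dvd_of_pow_eq_one h)
  -- a minimal normal subgroup in `K`
  have hKne : K ≠ ⊥ := by
    intro h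
    refine he1 (hSK _ he.1 (hCK (mem_centralizer_iff.2 fun k hk => ?_)))
    rw [h, SetLike.mem_coe, mem_bot] at hk
    rw [hk, one_mul, mul_one]
  obtain ⟨V, hV, hVK⟩ := Lib.Core.exists_isMinNormal (inferInstance : K.Normal) hKne
  haveI := hV.1
  obtain ⟨hVc, -⟩ := Lib.Core.minimal_solvable_elementary hV inferInstance
  haveI := hVc
  have hVord : ∀ y ∈ V, (orderOf y).Coprime p := fun y hy => by
    rw [← orderOf_mk y (hVK hy)]
    exact hKcop.coprime_dvd_left (orderOf_dvd_natCard _)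
  have hnormV : ∀ B : Subgroup G, B ≤ normalizer (V : Set G) := fun B => by
    rw [normalizer_eq_top_iff.2 hV.1]; exact le_top
  have hfpf : ∀ a ∈ E, a ≠ 1 → V ⊓ centralizer ({a} : Set G) = ⊥ := by
    intro a ha ha1
    refine eq_bot_iff.2 fun y hy => ?_
    obtain ⟨i, hi⟩ := hcentp a ha ha1 y
      (mem_centralizer_singleton_iff.1 hy.2).symm
    rw [mem_bot, ← orderOf_eq_one_iff]
    exact Nat.eq_one_of_dvd_coprimes ((hVord y hy.1).pow_right i) dvd_rfl (orderOf_dvd_of_pow_eq_one hi)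
  haveI : IsMulCommutative E := ⟨⟨fun a b => Subtype.ext (hEc a a.2 b b.2)⟩⟩
  have hEcard : Nat.card E = p := by
    haveI := Lib.Solv.isCyclic_of_fpf_abelian hV.2.1 (hnormV E) hfpf
    obtain ⟨z, hz⟩ := IsCyclic.exists_generator (α := E)
    have hz' : orderOf z ∣ p := orderOf_dvd_of_pow_eq_one (Subtype.ext (hEpow z z.2))
    rw [orderOf_eq_card_of_forall_mem_zpowers hz] at hz'
    rcases (Nat.dvd_prime hp.out).1 hz' with h | h
    · exfalso
      haveI := (Nat.card_eq_one_iff_unique.1 h).1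
      exact he1 (congrArg Subtype.val (Subsingleton.elim (⟨e, he⟩ : E) 1))
    · exact h
  have hEz : ∀ a ∈ E, a ∈ zpowers e := fun a ha => by
    have : zpowers e = E := eq_of_le_of_card_ge (zpowers_le.2 he)
      (by rw [hEcard, Nat.card_zpowers, orderOf_eq_prime (hEpow e he) he1])
    rw [this]; exact ha
  -- `E` is central in `S`
  have hEnS : (E.subgroupOf (S : Subgroup G)).Normal := ⟨fun x hx s => by
    rw [mem_subgroupOf, hEmem] at hx ⊢
    refine ⟨((s * x * s⁻¹ : (S : Subgroup G))).2, ?_⟩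
    simpa using hEqn.conj_mem _ hx.2 (π (s : G))⟩
  have hEcen : ∀ s ∈ (S : Subgroup G), ∀ a ∈ E, a * s = s * a := by
    haveI := hEnS
    have hne : E.subgroupOf (S : Subgroup G) ≠ ⊥ := fun h => he1 (by
      have h1 : (⟨e, he.1⟩ : (S : Subgroup G)) ∈ E.subgroupOf (S : Subgroup G) := mem_subgroupOf.2 he
      rw [h, mem_bot] at h1
      exact congrArg Subtype.val h1)
    obtain ⟨z, hzE, hzc, hzo⟩ := Lib.PGroup.exists_mem_center_orderOf_eq S.2 hne
    rw [mem_subgroupOf] at hzE
    have hzz : zpowers (z : G) = E := eq_of_le_of_card_ge (zpowers_le.2 hzE)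
      (by rw [hEcard, Nat.card_zpowers, orderOf_coe, hzo])
    intro s hs a ha
    rw [← hzz] at ha
    obtain ⟨i, rfl⟩ := mem_zpowers_iff.1 ha
    exact (Commute.zpow_left (show Commute (z : G) s from
      (congrArg Subtype.val (mem_center_iff.1 hzc ⟨s, hs⟩)).symm) i).eq
  -- the Sylow subgroup is the core modulo `K`
  set C := centralizer (Eq : Set (G ⧸ K)) with hCdef
  have hCp : IsPGroup p C := by
    rintro ⟨x', hx'⟩
    obtain ⟨x, rfl⟩ := hπs x'
    have hxe : π x * π e = π e * π x := ((mem_centralizer_iff.1 hx') _ ((hEmem e).1 he).2).symm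
    -- `x` can be corrected by an element of `K` to centralise `e`
    set R := K ⊔ zpowers e with hR
    have hxR : x * e * x⁻¹ ∈ R := by
      have h1 : x * e * x⁻¹ * e⁻¹ ∈ K := by
        rw [← QuotientGroup.eq_one_iff]
        show π (x * e * x⁻¹ * e⁻¹) = 1
        simp only [map_mul, map_inv]
        rw [hxe]
        group
      have h2 := mul_mem (mem_sup_left h1 : _ ∈ R)
        (mem_sup_right (mem_zpowers e) : e ∈ R)
      rwa [inv_mul_cancel_right] at h2
    have he' : e ∈ R := mem_sup_right (mem_zpowers e)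
    have hcardR : (Nat.card R).factorization p ≤ 1 := by
      have hd : Nat.card R ∣ Nat.card K * p := by
        rw [← orderOf_eq_prime (hEpow e he) he1, ← Nat.card_zpowers, hR]
        have h5 := card_mul_index (K.subgroupOf (K ⊔ zpowers e))
        rw [Nat.card_congr (subgroupOfEquivOfLe (le_sup_left : K ≤ K ⊔ zpowers e)).toEquiv] at h5
        rw [← h5]
        refine mul_dvd_mul_left _ ?_
        show K.relIndex (K ⊔ zpowers e) ∣ _
        rw [sup_comm, relIndex_sup_right]
        exact relIndex_dvd_card K (zpowers e)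
      have h := (Nat.factorization_le_iff_dvd Nat.card_pos.ne'
        (mul_ne_zero Nat.card_pos.ne' hp.out.ne_zero)).2 hd p
      rw [Nat.factorization_mul Nat.card_pos.ne' hp.out.ne_zero] at h
      simp only [Finsupp.coe_add, Pi.add_apply, hp.out.factorization_self,
        Nat.factorization_eq_zero_of_not_dvd (hp.out.coprime_iff_not_dvd.1
          (show p.Coprime (Nat.card K) from hKcop.symm)), zero_add] at h
      exact h
    have hord : ∀ w : R, orderOf w = p → ∀ P : Sylow p R, w ∈ (P : Subgroup R) →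
        (P : Subgroup R) = zpowers w := fun w hw P hwP => by
      refine (eq_of_le_of_card_ge (zpowers_le.2 hwP) ?_).symm
      rw [Nat.card_zpowers, hw, P.card_eq_multiplicity]
      exact le_trans (Nat.pow_le_pow_right hp.out.pos hcardR) (by rw [pow_one])
    let w1 : R := ⟨e, he'⟩
    let w2 : R := ⟨x * e * x⁻¹, hxR⟩
    have hw1 : orderOf w1 = p := by rw [orderOf_mk, orderOf_eq_prime (hEpow e he) he1]
    have hw2 : orderOf w2 = p := by
      rw [orderOf_mk, ← orderOf_eq_prime (hEpow e he) he1]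
      exact (MulAut.conj x).orderOf_eq e
    obtain ⟨P1, hP1⟩ := (IsPGroup.of_card (n := 1) (by rw [Nat.card_zpowers, hw1, pow_one]) :
      IsPGroup p (zpowers w1)).exists_le_sylow
    obtain ⟨P2, hP2⟩ := (IsPGroup.of_card (n := 1) (by rw [Nat.card_zpowers, hw2, pow_one]) :
      IsPGroup p (zpowers w2)).exists_le_sylow
    obtain ⟨r, hr⟩ := MulAction.exists_smul_eq R P1 P2
    have h1 := hord w1 hw1 P1 (hP1 (mem_zpowers _))
    have h2 := hord w2 hw2 P2 (hP2 (mem_zpowers _))
    have hmem : r * w1 * r⁻¹ ∈ zpowers w2 := by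
      rw [← h2, ← hr, Sylow.coe_subgroup_smul, h1]
      exact ⟨w1, mem_zpowers _, rfl⟩
    obtain ⟨i, hi⟩ := mem_zpowers_iff.1 hmem
    have hi' : (x * e * x⁻¹) ^ i = (r : G) * e * (r : G)⁻¹ := by
      have := congrArg Subtype.val hi
      simpa [w1, w2] using this
    obtain ⟨k, hk, y, hy, hky⟩ := mem_sup_of_normal_left.1 r.2
    have hye : y * e * y⁻¹ = e := by
      obtain ⟨l, rfl⟩ := mem_zpowers_iff.1 hy
      rw [((Commute.refl e).zpow_left l).eq, mul_inv_cancel_right]
    have hre : (r : G) * e * (r : G)⁻¹ = k * e * k⁻¹ := by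
      rw [← hky, show k * y * e * (k * y)⁻¹ = k * (y * e * y⁻¹) * k⁻¹ by group, hye]
    rw [hre, conj_zpow] at hi'
    have hei : e ^ i = e := by
      refine hπinj _ (zpow_mem (K := (S : Subgroup G)) he.1 i) _ he.1 ?_
      have h3 := congrArg π hi'
      rw [map_mul, map_mul, map_mul, map_mul, show π k = 1 from (QuotientGroup.eq_one_iff k).2 hk,
        map_inv, map_inv, show π k = 1 from (QuotientGroup.eq_one_iff k).2 hk] at h3
      rw [inv_one, one_mul, mul_one] at h3
      have hxi : π x * π (e ^ i) = π (e ^ i) * π x := by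
        rw [map_zpow]; exact (Commute.zpow_right hxe i).eq
      rwa [hxi, mul_inv_cancel_right] at h3
    rw [hei] at hi'
    obtain ⟨i', hi''⟩ := hcentp e he he1 (k⁻¹ * x) (by
      calc e * (k⁻¹ * x) = k⁻¹ * (k * e * k⁻¹) * x := by group
        _ = k⁻¹ * (x * e * x⁻¹) * x := by rw [hi']
        _ = k⁻¹ * x * e := by group)
    refine ⟨i', Subtype.ext ?_⟩
    have h3 : π (k⁻¹ * x) = π x := by
      rw [map_mul, map_inv, show π k = 1 from (QuotientGroup.eq_one_iff k).2 hk, inv_one, one_mul]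
    show π x ^ p ^ i' = 1
    rw [← h3, ← map_pow, hi'', map_one]
  have hCT : C ≤ T := Lib.Core.le_pCore hCp
  have hST : ∀ s ∈ (S : Subgroup G), π s ∈ T := fun s hs => hCT (mem_centralizer_iff.2 fun z hz => by
    obtain ⟨a, ha, rfl⟩ := hTS z (show z ∈ T from (hz : z ∈ Eq).1)
    rw [← map_mul, hEcen s hs a ((hEmem a).2 ⟨ha, hz⟩), map_mul])
  have hcenE : ∀ z ∈ (S : Subgroup G), (∀ s ∈ (S : Subgroup G), s * z = z * s) → z ^ p = 1 →
      z ∈ E := by
    intro z hz hc hzp
    refine (hEmem z).2 ⟨hz, hST z hz, fun t ht => ?_, by rw [← map_pow, hzp, map_one]⟩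
    obtain ⟨s, hs, rfl⟩ := hTS t ht
    rw [← map_mul, hc s hs, map_mul]
  have hord2 : ∀ y : G, orderOf y = p ^ 2 → y ^ p ∈ E → False := by
    intro y hy hyE
    have hyp : orderOf (y ^ p) = p := by
      rw [orderOf_pow, hy, Nat.gcd_eq_right (dvd_pow_self p two_ne_zero), pow_two,
        Nat.mul_div_cancel_left _ hp.out.pos]
    have hne : y ^ p ≠ 1 := fun h => hp.out.ne_one (by rw [← hyp, h, orderOf_one])
    have h1 := hzero y p hyE hne
    have h2 := hzero (y ^ p) 1 (by rwa [pow_one]) (by rwa [pow_one])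
    exact hpow y h2.1 h1.2 h2.2
  have hZE : ∀ z ∈ (S : Subgroup G), (∀ s ∈ (S : Subgroup G), s * z = z * s) → z ∈ E := by
    intro z hz hc
    obtain ⟨i, hi⟩ := IsPGroup.iff_orderOf.1 S.2 ⟨z, hz⟩
    rw [orderOf_mk] at hi
    rcases Nat.lt_or_ge i 2 with hlt | hge
    · refine hcenE z hz hc (orderOf_dvd_iff_pow_eq_one.1 ?_)
      rw [hi]
      exact (pow_dvd_pow p (show i ≤ 1 by omega)).trans (by rw [pow_one])
    · exfalso
      obtain ⟨l, rfl⟩ : ∃ l, i = l + 2 := ⟨i - 2, by omega⟩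
      set y := z ^ p ^ l with hy
      have hyo : orderOf y = p ^ 2 := by
        rw [hy, orderOf_pow, hi, pow_add, Nat.gcd_eq_right (dvd_mul_right _ _),
          Nat.mul_div_cancel_left _ (pow_pos hp.out.pos l)]
      refine hord2 y hyo (hcenE _ (pow_mem (pow_mem hz _) _) (fun s hs => ?_) ?_)
      · exact (Commute.pow_right (Commute.pow_right (show Commute s z from hc s hs) _) _).eq
      · rw [← pow_mul, ← pow_two, ← hyo, pow_orderOf_eq_one]
  have hSE : ∀ s ∈ (S : Subgroup G), s ∈ E := by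
    by_contra hSE
    push Not at hSE
    obtain ⟨s₀, hs₀, hs₀E⟩ := hSE
    set E' := E.subgroupOf (S : Subgroup G) with hE'
    haveI := hEnS
    haveI : Nontrivial ((S : Subgroup G) ⧸ E') := by
      rw [← not_subsingleton_iff_nontrivial, QuotientGroup.subsingleton_iff]
      intro h
      exact hs₀E (mem_subgroupOf.1 (h ▸ mem_top (⟨s₀, hs₀⟩ : (S : Subgroup G))))
    haveI := (S.2.to_quotient E').center_nontrivial
    obtain ⟨⟨yb, hyb⟩, hy1⟩ := exists_ne (1 : center ((S : Subgroup G) ⧸ E'))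
    obtain ⟨⟨y, hyS⟩, rfl⟩ := QuotientGroup.mk_surjective yb
    have hyE : y ∉ E := fun h => hy1 (Subtype.ext ((QuotientGroup.eq_one_iff _).2 (mem_subgroupOf.2 h)))
    have hcomm : ∀ w ∈ (S : Subgroup G), w * y * w⁻¹ * y⁻¹ ∈ E := by
      intro w hw
      have h := mem_center_iff.1 hyb (QuotientGroup.mk ⟨w, hw⟩)
      have h' : (QuotientGroup.mk (⟨w, hw⟩ * ⟨y, hyS⟩ * ⟨w, hw⟩⁻¹ * ⟨y, hyS⟩⁻¹) :
          (S : Subgroup G) ⧸ E') = 1 := by
        simp only [QuotientGroup.mk_mul, QuotientGroup.mk_inv]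
        rw [h]
        group
      have h'' := mem_subgroupOf.1 ((QuotientGroup.eq_one_iff _).1 h')
      simpa using h''
    have hyp : y ^ p ∈ E := by
      refine hZE _ (pow_mem hyS p) fun w hw => ?_
      set c := w * y * w⁻¹ * y⁻¹ with hc
      have hcy : w * y * w⁻¹ = c * y := by rw [hc]; group
      have h1 : w * y ^ p * w⁻¹ = y ^ p := by
        rw [← conj_pow, hcy, (show Commute c y from hEcen y hyS c (hcomm w hw)).mul_pow,
          hEpow c (hcomm w hw), one_mul]
      exact mul_inv_eq_iff_eq_mul.1 h1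
    have hyp1 : y ^ p = 1 := by
      by_contra hne
      refine hord2 y ?_ hyp
      refine orderOf_eq_prime_pow (n := 1) (by rwa [pow_one]) ?_
      rw [show p ^ (1 + 1) = p * p by ring, pow_mul, hEpow _ hyp]
    set A := E ⊔ zpowers y with hA
    have hAc : IsMulCommutative A := by
      rw [hA, sup_eq_closure]
      refine isMulCommutative_closure fun a ha b hb => ?_
      rcases ha with ha | ha <;> rcases hb with hb | hb
      · exact hEc a ha b hb
      · obtain ⟨i, rfl⟩ := mem_zpowers_iff.1 hb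
        exact hEcen _ (zpow_mem hyS i) a ha
      · obtain ⟨i, rfl⟩ := mem_zpowers_iff.1 ha
        exact (hEcen _ (zpow_mem hyS i) b hb).symm
      · obtain ⟨i, rfl⟩ := mem_zpowers_iff.1 ha
        obtain ⟨l, rfl⟩ := mem_zpowers_iff.1 hb
        exact ((Commute.refl y).zpow_zpow i l).eq
    haveI := hAc
    have hyA : ∀ t ∈ A, t ^ p = 1 := by
      intro t ht
      rw [hA, sup_eq_closure] at ht
      have hsub : closure ((E : Set G) ∪ (zpowers y : Set G)) = A := by rw [hA, sup_eq_closure]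
      induction ht using closure_induction with
      | mem x hx =>
        rcases hx with hx | hx
        · exact hEpow x hx
        · obtain ⟨i, rfl⟩ := mem_zpowers_iff.1 hx
          rw [← zpow_natCast, ← zpow_mul, mul_comm, zpow_mul, zpow_natCast, hyp1, one_zpow]
      | one => exact one_pow p
      | mul s t hs ht ihs iht =>
        rw [(show Commute s t from congrArg Subtype.val
          (hAc.is_comm.comm ⟨s, hsub ▸ hs⟩ ⟨t, hsub ▸ ht⟩)).mul_pow, ihs, iht, one_mul]
      | inv s _ ihs => rw [inv_pow, ihs, inv_one]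
    have hAnc : ¬ ∀ a ∈ A, a ≠ 1 → V ⊓ centralizer ({a} : Set G) = ⊥ := by
      intro h
      haveI := Lib.Solv.isCyclic_of_fpf_abelian hV.2.1 (hnormV A) h
      obtain ⟨z, hz⟩ := IsCyclic.exists_generator (α := A)
      have hzp : (z : G) ^ p = 1 := hyA z z.2
      have hcard : Nat.card A ≤ p := by
        rw [← orderOf_eq_card_of_forall_mem_zpowers hz]
        exact Nat.le_of_dvd hp.out.pos (orderOf_dvd_of_pow_eq_one (Subtype.ext hzp))
      have heq : E = A := eq_of_le_of_card_ge le_sup_left (by rw [hEcard]; exact hcard)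
      exact hyE (heq ▸ mem_sup_right (mem_zpowers y))
    push Not at hAnc
    obtain ⟨a, haA, ha1, hne⟩ := hAnc
    have haE : a ∉ E := fun h => hne (hfpf a h ha1)
    have haS : a ∈ (S : Subgroup G) := (sup_le inf_le_left (zpowers_le.2 hyS) : A ≤ _) haA
    have hacomm : ∀ w ∈ (S : Subgroup G), w * a * w⁻¹ * a⁻¹ ∈ E := by
      intro w hw
      let Z : Subgroup ((S : Subgroup G) ⧸ E') := center _
      have hle : A ≤ ((Z.comap (QuotientGroup.mk' E')).map (S : Subgroup G).subtype) := by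
        refine sup_le (fun t ht => ⟨⟨t, ht.1⟩, ?_, rfl⟩) (zpowers_le.2 ⟨⟨y, hyS⟩, hyb, rfl⟩)
        rw [SetLike.mem_coe, mem_comap, QuotientGroup.mk'_apply,
          (QuotientGroup.eq_one_iff _).2 (mem_subgroupOf.2 ht)]
        exact Z.one_mem
      obtain ⟨⟨a', ha'S⟩, haZ, haa⟩ := hle haA
      obtain rfl : a' = a := haa
      have h := mem_center_iff.1 (show _ ∈ Z from mem_comap.1 haZ) (QuotientGroup.mk ⟨w, hw⟩)
      have h' : (QuotientGroup.mk (⟨w, hw⟩ * ⟨a', ha'S⟩ * ⟨w, hw⟩⁻¹ * ⟨a', ha'S⟩⁻¹) :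
          (S : Subgroup G) ⧸ E') = 1 := by
        simp only [QuotientGroup.mk'_apply] at h
        simp only [QuotientGroup.mk_mul, QuotientGroup.mk_inv]
        rw [h]
        group
      simpa using mem_subgroupOf.1 ((QuotientGroup.eq_one_iff _).1 h')
    obtain ⟨u, hu, hu1⟩ : ∃ u ∈ (S : Subgroup G), u * a * u⁻¹ * a⁻¹ ≠ 1 := by
      by_contra h
      push Not at h
      refine haE (hZE a haS fun w hw => ?_)
      have h1 := h w hw
      rw [mul_inv_eq_one, mul_inv_eq_iff_eq_mul] at h1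
      exact h1
    have hao : orderOf a = p := orderOf_eq_prime (hyA a haA) ha1
    obtain ⟨v, hv, hv1⟩ := (V ⊓ centralizer ({a} : Set G)).bot_or_exists_ne_one.resolve_left hne
    have hav : a * v = v * a := (mem_centralizer_singleton_iff.1 hv.2).symm
    refine hv1 (hmix a v hav hao (hVord v hv.1) ?_)
    -- a character of `G / K` vanishing at `a`
    set c := u * a * u⁻¹ * a⁻¹ with hcdef
    have hcE : c ∈ E := hacomm u hu
    obtain ⟨β, hβ⟩ : ∃ β : IrrCharacter (G ⧸ K), (β : G ⧸ K → ℂ) (π c) ≠ (β : G ⧸ K → ℂ) 1 := by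
      by_contra h
      push Not at h
      refine hu1 (hπinj c hcE.1 1 (one_mem _) ?_)
      haveI := Fintype.ofFinite (G ⧸ K)
      rw [map_one]
      exact isConj_one_left.1 (((isConj_iff_forall_irr _ _).2 fun β => h β))
    refine ⟨⟨_, isIrrCharacter_inflate K β.2⟩, ?_⟩
    show (β : G ⧸ K → ℂ) (π (a * v)) = 0
    rw [map_mul, show π v = 1 from (QuotientGroup.eq_one_iff v).2 (hVK hv.1), mul_one]
    have hstep : ∀ i : ℕ, (β : G ⧸ K → ℂ) (π a * π c ^ i) = (β : G ⧸ K → ℂ) (π a) := by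
      have hu2 : ∀ i : ℕ, u ^ i * a * (u ^ i)⁻¹ = a * c ^ i := by
        intro i
        induction i with
        | zero => simp
        | succ i ihi =>
          calc u ^ (i + 1) * a * (u ^ (i + 1))⁻¹ = u * (u ^ i * a * (u ^ i)⁻¹) * u⁻¹ := by
                rw [pow_succ']; group
            _ = (u * a * u⁻¹) * (u * c ^ i * u⁻¹) := by rw [ihi]; group
            _ = (c * a) * c ^ i := by
                rw [(show Commute (c ^ i) u from hEcen u hu _ (pow_mem hcE i)).eq.symm,
                  mul_inv_cancel_right, hcdef]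
                group
            _ = a * c ^ (i + 1) := by
                rw [hEcen a haS c hcE, mul_assoc, ← pow_succ']
      intro i
      rw [← map_pow, ← map_mul, ← hu2 i, map_mul, map_mul, map_inv]
      exact β.2.isClassFunction (π a) (π (u ^ i))
    haveI : Fintype Eq := Fintype.ofFinite Eq
    have hsum := sum_coset_eq_zero Eq β ⟨π c, ((hEmem c).1 hcE).2, hβ⟩ (π a)
    have hall : ∀ z : Eq, (β : G ⧸ K → ℂ) (π a * (z : G ⧸ K)) = (β : G ⧸ K → ℂ) (π a) := by
      rintro ⟨z, hz⟩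
      obtain ⟨t, ht, rfl⟩ := hTS z hz.1
      have htE : t ∈ E := (hEmem t).2 ⟨ht, hz⟩
      have hzc : zpowers c = E := eq_of_le_of_card_ge (zpowers_le.2 hcE)
        (by rw [hEcard, Nat.card_zpowers, orderOf_eq_prime (hEpow c hcE) hu1])
      rw [← hzc] at htE
      obtain ⟨i, hi⟩ := mem_powers_iff_mem_zpowers.2 htE
      simp only at hi
      subst hi
      show (β : G ⧸ K → ℂ) (π a * π (c ^ i)) = _
      rw [map_pow]
      exact hstep i
    simp only [hall, Finset.sum_const, Finset.card_univ, nsmul_eq_mul, mul_eq_zero,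
      Nat.cast_eq_zero] at hsum
    exact hsum.resolve_left Fintype.card_ne_zero
  exact (card_dvd_of_le (show (S : Subgroup G) ≤ E from hSE)).trans (hEcard ▸ dvd_rfl)

/-- The criterion for a group with all `p`-singular zeros of one order. -/
theorem sylow_image_dvd {p : ℕ} [hp : Fact p.Prime] [Group.IsSolvable G]
    (hord : ∀ g h : G, p ∣ orderOf g → p ∣ orderOf h →
      (∃ χ : IrrCharacter G, (χ : G → ℂ) g = 0) → (∃ χ : IrrCharacter G, (χ : G → ℂ) h = 0) →
      orderOf g = orderOf h)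
    (P : Sylow p G) :
    Nat.card ((P : Subgroup G).map (QuotientGroup.mk' (pCore p G))) ∣ p := by
  set π := QuotientGroup.mk' (pCore p G) with hπ
  have hπs : Function.Surjective π := QuotientGroup.mk'_surjective _
  haveI : Group.IsSolvable (G ⧸ pCore p G) := Group.isSolvable_of_surjective hπs
  have hcompl : ∀ g : G, ordCompl[p] (orderOf (π g)) = ordCompl[p] (orderOf g) := by
    intro g
    have hd : orderOf (π g) ∣ orderOf g := orderOf_map_dvd π g
    have hmem : g ^ orderOf (π g) ∈ pCore p G := by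
      rw [← QuotientGroup.eq_one_iff]
      show π (g ^ orderOf (π g)) = 1
      rw [map_pow, pow_orderOf_eq_one]
    obtain ⟨i, hi⟩ := Lib.Core.pCore_isPGroup p G ⟨_, hmem⟩
    have hi' : g ^ (orderOf (π g) * p ^ i) = 1 := by
      rw [pow_mul]; exact congrArg Subtype.val hi
    refine Nat.dvd_antisymm (Nat.ordCompl_dvd_ordCompl_of_dvd hd p) ?_
    have h := Nat.ordCompl_dvd_ordCompl_of_dvd (orderOf_dvd_of_pow_eq_one hi') p
    rwa [Nat.ordCompl_mul, show ordCompl[p] (p ^ i) = 1 by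
      rw [hp.out.factorization_pow, Finsupp.single_eq_same, Nat.div_self (pow_pos hp.out.pos i)],
      mul_one] at h
  have hlift : ∀ g : G, p ∣ orderOf (π g) →
      (∃ χ : IrrCharacter (G ⧸ pCore p G), (χ : G ⧸ pCore p G → ℂ) (π g) = 0) →
      p ∣ orderOf g ∧ ∃ χ : IrrCharacter G, (χ : G → ℂ) g = 0 := by
    rintro g hg ⟨χ, hχ⟩
    exact ⟨hg.trans (orderOf_map_dvd π g), ⟨_, isIrrCharacter_inflate (pCore p G) χ.2⟩, hχ⟩
  refine sylow_card_dvd (G := G ⧸ pCore p G) Lib.Core.pCore_quotient_pCore_eq_bot ?_ ?_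
    (P.mapSurjective hπs)
  · intro g h hg hh hg0 hh0
    obtain ⟨g, rfl⟩ := hπs g
    obtain ⟨h, rfl⟩ := hπs h
    obtain ⟨a1, a2⟩ := hlift g hg hg0
    obtain ⟨b1, b2⟩ := hlift h hh hh0
    rw [hcompl, hcompl, hord g h a1 b1 a2 b2]
  · intro g hgp hg0 hgp0
    obtain ⟨g, rfl⟩ := hπs g
    rw [← map_pow] at hgp hgp0
    obtain ⟨b1, b2⟩ := hlift (g ^ p) hgp hgp0
    have hg : p ∣ orderOf (π g) := hgp.trans (by rw [map_pow]; exact orderOf_pow_dvd p)
    obtain ⟨a1, a2⟩ := hlift g hg hg0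
    have heq := hord g (g ^ p) a1 b1 a2 b2
    rw [orderOf_pow, Nat.gcd_eq_right a1] at heq
    exact absurd heq.symm (Nat.div_lt_self (orderOf_pos g) hp.out.one_lt).ne

end Cfsg.Lib.Char.SingularVanishing
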