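import Cfsg.Agent.Lib.Char.Central
import Cfsg.Agent.Lib.Char.Linear
import Cfsg.Agent.Lib.Char.Quotient
import Cfsg.Agent.S0898
import Mathlib.Analysis.SpecialFunctions.Complex.CircleAddChar
import Mathlib.NumberTheory.LegendreSymbol.AddCharacter

/-!
# Characters of degree below `p - 1` and elements of order a power of `p` acting on `p'`-groups
-/

set_option autoImplicit false
set_option linter.style.haveILetI false

namespace Cfsg.Lib.Char

open Cfsg
open scoped ComplexConjugate Pointwise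

universe u

variable {E : Type u} [Group E] [Fintype E]

/-- If `E = L⟨σ⟩` with `L` a normal `p'`-subgroup and `σ ^ p = 1`, then `σ` is a scalar in every
irreducible representation of degree less than `p - 1`. -/
theorem small_degree_eigen (L : Subgroup E) [L.Normal] {p : ℕ} [Fact p.Prime]
    (hL : ¬ p ∣ Nat.card L) {σ : E} (hσ : σ ^ p = 1)
    (hgen : ∀ g : E, ∃ l ∈ L, ∃ k : ℕ, g = l * σ ^ k) {χ : E → ℂ} (hχ : IsIrrCharacter E χ)
    {d : ℕ} (hd : χ 1 = (d : ℂ)) (hdp : d + 1 < p) : ‖χ σ‖ = (d : ℝ) := by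
  classical
  have hp := Fact.out (p := p.Prime)
  by_cases h1 : σ = 1
  · rw [h1, hd, Complex.norm_natCast]
  have hord : orderOf σ = p := orderOf_eq_prime hσ h1
  have hσL : ∀ i : ZMod p, σ ^ i.val ∈ L → i = 0 := by
    intro i hi
    by_contra hne
    refine hL ?_
    have h2 : orderOf (σ ^ i.val) = p := by
      rw [orderOf_pow' _ (fun e => hne ((ZMod.val_eq_zero i).mp e)), hord,
        Nat.Coprime.gcd_eq_one ((hp.coprime_iff_not_dvd).mpr fun hdvd =>
          hne ((ZMod.val_eq_zero i).mp (Nat.eq_zero_of_dvd_of_lt hdvd (ZMod.val_lt i)))), Nat.div_one]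
    exact h2 ▸ Subgroup.orderOf_dvd_natCard L hi
  have hpowadd : ∀ i j : ZMod p, σ ^ (i + j).val = σ ^ i.val * σ ^ j.val := by
    intro i j
    rw [← pow_add, ZMod.val_add, pow_eq_pow_mod (i.val + j.val) hσ]
  let C : Subgroup E := L ⊓ Subgroup.centralizer ({σ} : Set E)
  have hCσ : ∀ c : C, Commute (c : E) σ := fun c => Subgroup.mem_centralizer_singleton_iff.mp c.2.2
  let e : AddChar (ZMod p) ℂ := ZMod.stdAddChar
  have heconj : ∀ x, conj (e x) = e (-x) := by
    intro x
    show conj (ZMod.stdAddChar x) = ZMod.stdAddChar (-x)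
    rw [ZMod.stdAddChar_apply, ZMod.stdAddChar_apply, AddChar.map_neg_eq_inv, Circle.coe_inv_eq_conj]
  have horth : ∀ b : ZMod p, ∑ k : ZMod p, e (k * b) = if b = 0 then (p : ℂ) else 0 := by
    intro b
    rw [AddChar.sum_mulShift b (ZMod.isPrimitive_stdAddChar p), ZMod.card]
    split_ifs <;> simp
  -- the eigen-decomposition over the centralizer
  let ψ : ZMod p → C → ℂ := fun j c =>
    (p : ℂ)⁻¹ * ∑ k : ZMod p, conj (e (j * k)) * χ ((c : E) * σ ^ k.val)
  have hp0 : (p : ℂ) ≠ 0 := Nat.cast_ne_zero.mpr hp.ne_zero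
  have hrec : ∀ (c : C) (k : ZMod p), ∑ j : ZMod p, e (j * k) * ψ j c = χ ((c : E) * σ ^ k.val) := by
    intro c k
    simp only [ψ, Finset.mul_sum]
    rw [Finset.sum_comm, Finset.sum_eq_single k]
    · rw [Finset.sum_congr rfl (g := fun _ => (p : ℂ)⁻¹ * χ ((c : E) * σ ^ k.val)) fun j _ => by
        rw [heconj, ← mul_assoc, mul_comm (e _) (p : ℂ)⁻¹, mul_assoc, ← mul_assoc (e (j * k)),
          ← AddChar.map_add_eq_mul, add_neg_cancel, AddChar.map_zero_eq_one, one_mul],
        Finset.sum_const, Finset.card_univ, ZMod.card, nsmul_eq_mul, ← mul_assoc,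
        mul_inv_cancel₀ hp0, one_mul]
    · intro i _ hi
      have h3 := horth (k - i)
      rw [if_neg (sub_ne_zero.mpr (Ne.symm hi))] at h3
      rw [Finset.sum_congr rfl (g := fun j => e (j * (k - i)) * ((p : ℂ)⁻¹ * χ ((c : E) * σ ^ i.val)))
        fun j _ => ?_, ← Finset.sum_mul, h3, zero_mul]
      rw [heconj, mul_sub, sub_eq_add_neg, AddChar.map_add_eq_mul]
      ring
    · exact fun h => absurd (Finset.mem_univ _) h
  have hψchar : ∀ j, IsCharacter C (ψ j) := by
    intro j
    rw [isCharacter_iff]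
    refine ⟨fun c x => ?_, fun β hβ => ?_⟩
    · simp only [ψ]
      congr 1
      refine Finset.sum_congr rfl fun k _ => ?_
      congr 1
      have h2 : ((x * c * x⁻¹ : C) : E) * σ ^ k.val = (x : E) * ((c : E) * σ ^ k.val) * (x : E)⁻¹ := by
        push_cast
        rw [mul_assoc ((x : E) * c), (((hCσ x).pow_right k.val).inv_left).eq]
        group
      rw [h2, hχ.isClassFunction]
    · let F : C × Multiplicative (ZMod p) →* E :=
        { toFun := fun q => (q.1 : E) * σ ^ (Multiplicative.toAdd q.2).val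
          map_one' := by simp
          map_mul' := fun a b => by
            simp only [Prod.fst_mul, Prod.snd_mul, toAdd_mul, Subgroup.coe_mul, hpowadd]
            rw [mul_assoc, ← mul_assoc (b.1 : E), ((hCσ b.1).pow_right _).eq]
            group }
      let lam : Multiplicative (ZMod p) →* ℂˣ := MonoidHom.toHomUnits
        { toFun := fun k => e (j * Multiplicative.toAdd k)
          map_one' := by simp
          map_mul' := fun a b => by rw [toAdd_mul, mul_add, AddChar.map_add_eq_mul] }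
      have hprod : IsCharacter (C × Multiplicative (ZMod p))
          (fun q => β q.1 * e (j * Multiplicative.toAdd q.2)) :=
        (hβ.isCharacter.comp (MonoidHom.fst C (Multiplicative (ZMod p)))).mul
          ((isIrrCharacter_linear lam).isCharacter.comp (MonoidHom.snd C (Multiplicative (ZMod p))))
      obtain ⟨n, hn⟩ := (hχ.isCharacter.comp F).exists_nat_classInner hprod
      refine ⟨n, Eq.trans ?_ hn⟩
      simp only [classInner, ψ, Nat.card_prod, Nat.card_eq_fintype_card (α := Multiplicative (ZMod p)),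
        Fintype.card_multiplicative, ZMod.card, Nat.cast_mul, Fintype.sum_prod_type, map_mul,
        Finset.mul_sum, Finset.sum_mul]
      refine Finset.sum_congr rfl fun c _ => ?_
      refine Fintype.sum_equiv Multiplicative.ofAdd _ _ fun k => ?_
      simp only [toAdd_ofAdd, F, MonoidHom.coe_mk, OneHom.coe_mk]
      ring
  have hχC : ∀ c : C, χ (c : E) = ∑ j : ZMod p, ψ j c := fun c => by
    have := hrec c 0
    simp only [mul_zero, AddChar.map_zero_eq_one, one_mul, ZMod.val_zero, pow_zero, mul_one] at this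
    exact this.symm
  let N2 : (C → ℂ) → ℝ := fun f => ∑ c, Complex.normSq (f c)
  -- Parseval in `k`
  have hpars : ∀ c : C, ∑ k : ZMod p, Complex.normSq (χ ((c : E) * σ ^ k.val)) =
      p * ∑ j : ZMod p, Complex.normSq (ψ j c) := by
    intro c
    apply Complex.ofReal_injective
    push_cast
    simp only [← Complex.mul_conj, ← hrec c, map_sum, map_mul, Finset.sum_mul, Finset.mul_sum]
    rw [Finset.sum_comm]
    refine Finset.sum_congr rfl fun i _ => ?_
    rw [Finset.sum_comm, Finset.sum_eq_single i]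
    · rw [Finset.sum_congr rfl (g := fun _ => ψ i c * conj (ψ i c)) fun k _ => ?_, Finset.sum_const,
        Finset.card_univ, ZMod.card, nsmul_eq_mul]
      rw [heconj, mul_mul_mul_comm, ← AddChar.map_add_eq_mul, add_neg_cancel, AddChar.map_zero_eq_one,
        one_mul]
    · intro j _ hj
      have h3 := horth (j - i)
      rw [if_neg (sub_ne_zero.mpr hj)] at h3
      rw [Finset.sum_congr rfl (g := fun k => e (k * (j - i)) * (ψ j c * conj (ψ i c))) fun k _ => ?_,
        ← Finset.sum_mul, h3, zero_mul]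
      rw [heconj, mul_sub, sub_eq_add_neg, AddChar.map_add_eq_mul, mul_comm k i, mul_comm k j]
      ring
    · exact fun h => absurd (Finset.mem_univ _) h
  -- the nontrivial cosets of `L`
  have hcard : Nat.card E ≤ p * Nat.card L := by
    rw [← ZMod.card p, Nat.card_eq_fintype_card, Nat.card_eq_fintype_card, mul_comm, ← Fintype.card_prod]
    refine Fintype.card_le_of_surjective (fun q : L × ZMod p => (q.1 : E) * σ ^ q.2.val) fun g => ?_
    obtain ⟨l, hl, k, rfl⟩ := hgen g
    exact ⟨(⟨l, hl⟩, (k : ZMod p)), by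
      show l * σ ^ (k : ZMod p).val = l * σ ^ k
      rw [ZMod.val_natCast, ← pow_eq_pow_mod k hσ]⟩
  have htot : ∑ g : E, Complex.normSq (χ g) = (Nat.card E : ℝ) := by
    have h2 := classInner_irr_self hχ
    rw [classInner, inv_mul_eq_iff_eq_mul₀ card_cast_ne_zero, mul_one] at h2
    simp only [Complex.mul_conj] at h2
    exact_mod_cast h2
  have hLlow : (Nat.card L : ℝ) ≤ ∑ g ∈ Finset.univ.filter (fun g : E => g ∈ L), Complex.normSq (χ g) := by
    obtain ⟨n, hn⟩ := (hχ.isCharacter.comp L.subtype).exists_nat_classInner (hχ.isCharacter.comp L.subtype)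
    have hn0 : n ≠ 0 := by
      rintro rfl
      rw [Nat.cast_zero] at hn
      have := congrFun (eq_zero_of_classInner_self hn) 1
      exact hχ.apply_one_ne_zero (by simpa using this)
    rw [classInner, inv_mul_eq_iff_eq_mul₀ card_cast_ne_zero] at hn
    simp only [Complex.mul_conj] at hn
    rw [Finset.sum_subtype (Finset.univ.filter fun g : E => g ∈ L) (p := fun g => g ∈ L) (by simp)]
    have h3 : ∑ l : L, Complex.normSq (χ l) = (Nat.card L : ℝ) * n := by
      refine Complex.ofReal_injective ?_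
      push_cast
      exact hn
    rw [h3]
    exact le_mul_of_one_le_right (Nat.cast_nonneg _) (by exact_mod_cast Nat.one_le_iff_ne_zero.mpr hn0)
  have hcoset : ∀ k : ZMod p, k ≠ 0 → (Nat.card L : ℝ) * ∑ c : C, Complex.normSq (χ ((c : E) * σ ^ k.val)) ≤
      (Nat.card C : ℝ) * ∑ l : L, Complex.normSq (χ ((l : E) * σ ^ k.val)) := by
    intro k hk
    let T : L × C → L := fun q => ⟨(q.1 : E) * ((q.2 : E) * σ ^ k.val) * (q.1 : E)⁻¹ * (σ ^ k.val)⁻¹, by
      have e2 : (q.1 : E) * ((q.2 : E) * σ ^ k.val) * (q.1 : E)⁻¹ * (σ ^ k.val)⁻¹ =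
          (q.1 : E) * (q.2 : E) * (σ ^ k.val * (q.1 : E)⁻¹ * (σ ^ k.val)⁻¹) := by group
      rw [e2]
      exact L.mul_mem (L.mul_mem q.1.2 q.2.2.1) (Subgroup.Normal.conj_mem inferInstance _ (L.inv_mem q.1.2) _)⟩
    have hTval : ∀ q : L × C, χ (((T q : L) : E) * σ ^ k.val) = χ ((q.2 : E) * σ ^ k.val) := by
      intro q
      show χ ((q.1 : E) * ((q.2 : E) * σ ^ k.val) * (q.1 : E)⁻¹ * (σ ^ k.val)⁻¹ * σ ^ k.val) = _
      rw [inv_mul_cancel_right, hχ.isClassFunction]
    have hfib : ∀ y : L, (Finset.univ.filter fun q : L × C => T q = y).card ≤ Nat.card C := by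
      intro y
      rcases (Finset.univ.filter fun q : L × C => T q = y).eq_empty_or_nonempty with h0 | ⟨⟨l₀, c₀⟩, h0⟩
      · rw [h0, Finset.card_empty]; exact Nat.zero_le _
      have hmem : ∀ q ∈ (Finset.univ.filter fun q : L × C => T q = y), (l₀ : E)⁻¹ * (q.1 : E) ∈ C ∧
          ((l₀ : E)⁻¹ * (q.1 : E)) * ((q.2 : E) * σ ^ k.val) * ((l₀ : E)⁻¹ * (q.1 : E))⁻¹ = (c₀ : E) * σ ^ k.val := by
        rintro ⟨l, c⟩ hq
        have h2 : (l : E) * ((c : E) * σ ^ k.val) * (l : E)⁻¹ * (σ ^ k.val)⁻¹ =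
            (l₀ : E) * ((c₀ : E) * σ ^ k.val) * (l₀ : E)⁻¹ * (σ ^ k.val)⁻¹ :=
          congrArg Subtype.val ((Finset.mem_filter.mp hq).2.trans (Finset.mem_filter.mp h0).2.symm)
        rw [mul_left_inj] at h2
        have h3 : ((l₀ : E)⁻¹ * (l : E)) * ((c : E) * σ ^ k.val) * ((l₀ : E)⁻¹ * (l : E))⁻¹ = (c₀ : E) * σ ^ k.val := by
          calc _ = (l₀ : E)⁻¹ * ((l : E) * ((c : E) * σ ^ k.val) * (l : E)⁻¹) * (l₀ : E) := by group
            _ = _ := by rw [h2]; group
        refine ⟨⟨L.mul_mem (L.inv_mem l₀.2) l.2, ?_⟩, h3⟩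
        -- raise to the power `|L|`
        have hpw : ∀ c : C, ((c : E) * σ ^ k.val) ^ Nat.card L = σ ^ (k.val * Nat.card L) := fun c => by
          rw [((hCσ c).pow_right _).mul_pow, ← pow_mul,
            show (c : E) ^ Nat.card L = 1 from congrArg Subtype.val (pow_card_eq_one' (x := (⟨(c : E), c.2.1⟩ : L))),
            one_mul]
        have h4 := congrArg (fun z : E => z ^ Nat.card L) h3
        simp only [conj_pow, hpw] at h4
        have h5 : orderOf (σ ^ (k.val * Nat.card L)) = p := by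
          have hnd : ¬ p ∣ k.val * Nat.card L := fun hdvd => (hp.dvd_mul.mp hdvd).elim
            (fun hk' => hk ((ZMod.val_eq_zero k).mp (Nat.eq_zero_of_dvd_of_lt hk' (ZMod.val_lt k)))) hL
          rw [orderOf_pow' _ (fun h => hnd (by rw [h]; exact dvd_zero p)), hord,
            Nat.Coprime.gcd_eq_one ((hp.coprime_iff_not_dvd).mpr hnd), Nat.div_one]
        have h6 : σ ∈ Subgroup.zpowers (σ ^ (k.val * Nat.card L)) := by
          rw [show Subgroup.zpowers (σ ^ (k.val * Nat.card L)) = Subgroup.zpowers σ from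
            Subgroup.eq_of_le_of_card_ge (Subgroup.zpowers_le.mpr (pow_mem (Subgroup.mem_zpowers σ) _))
              (by rw [Nat.card_zpowers, Nat.card_zpowers, h5, hord])]
          exact Subgroup.mem_zpowers σ
        obtain ⟨i, hi⟩ := Subgroup.mem_zpowers_iff.mp h6
        show (l₀ : E)⁻¹ * (l : E) ∈ Subgroup.centralizer ({σ} : Set E)
        rw [Subgroup.mem_centralizer_singleton_iff]
        have h7 : Commute ((l₀ : E)⁻¹ * (l : E)) (σ ^ (k.val * Nat.card L)) := mul_inv_eq_iff_eq_mul.mp h4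
        rw [← hi]
        exact (h7.zpow_right i).eq
      rw [Nat.card_eq_fintype_card, ← Finset.card_univ]
      refine Finset.card_le_card_of_injOn
        (fun q => if h : (l₀ : E)⁻¹ * (q.1 : E) ∈ C then (⟨_, h⟩ : C) else 1) (fun _ _ => Finset.mem_univ _) ?_
      intro q hq q' hq' hqq
      obtain ⟨hq1, hq2⟩ := hmem q hq
      obtain ⟨hq1', hq2'⟩ := hmem q' hq'
      simp only [dif_pos hq1, dif_pos hq1', Subtype.mk.injEq] at hqq
      rw [← hqq, ← hq2] at hq2'
      simp only [mul_left_inj, mul_right_inj] at hq2'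
      exact Prod.ext (Subtype.ext (mul_left_cancel hqq)) (Subtype.ext hq2'.symm)
    calc (Nat.card L : ℝ) * ∑ c : C, Complex.normSq (χ ((c : E) * σ ^ k.val))
        = ∑ q : L × C, Complex.normSq (χ (((T q : L) : E) * σ ^ k.val)) := by
          simp only [hTval, Fintype.sum_prod_type, Finset.sum_const, Finset.card_univ, nsmul_eq_mul,
            ← Nat.card_eq_fintype_card]
      _ = ∑ y : L, ((Finset.univ.filter fun q : L × C => T q = y).card : ℝ) *
            Complex.normSq (χ ((y : E) * σ ^ k.val)) := by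
          rw [← Finset.sum_fiberwise_of_maps_to (g := T) (fun q _ => Finset.mem_univ (T q))]
          refine Finset.sum_congr rfl fun y _ => ?_
          rw [Finset.sum_congr rfl (g := fun _ => Complex.normSq (χ ((y : E) * σ ^ k.val))) fun q hq => by
            rw [(Finset.mem_filter.mp hq).2], Finset.sum_const, nsmul_eq_mul]
      _ ≤ _ := by
          rw [Finset.mul_sum]
          exact Finset.sum_le_sum fun y _ =>
            mul_le_mul_of_nonneg_right (Nat.cast_le.mpr (hfib y)) (Complex.normSq_nonneg _)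
  have hout : ∑ k ∈ Finset.univ.erase (0 : ZMod p), ∑ l : L, Complex.normSq (χ ((l : E) * σ ^ k.val)) ≤
      ((p : ℝ) - 1) * Nat.card L := by
    rw [← Finset.sum_product']
    refine le_trans (le_of_eq (Finset.sum_image (s := (Finset.univ.erase (0 : ZMod p)) ×ˢ (Finset.univ : Finset L))
      (g := fun q => (q.2 : E) * σ ^ q.1.val) (f := fun g => Complex.normSq (χ g)) ?_).symm) ?_
    · rintro ⟨i, l⟩ - ⟨j, m⟩ - h
      simp only at h
      have h2 : σ ^ (i - j).val ∈ L := by
        have h3 : σ ^ (i - j).val = (σ ^ i.val) * (σ ^ j.val)⁻¹ := by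
          rw [eq_mul_inv_iff_mul_eq, ← hpowadd, sub_add_cancel]
        have h4 : σ ^ i.val * (σ ^ j.val)⁻¹ = (l : E)⁻¹ * m := by
          rw [show σ ^ i.val = (l : E)⁻¹ * ((l : E) * σ ^ i.val) by group, h]; group
        rw [h3, h4]
        exact L.mul_mem (L.inv_mem l.2) m.2
      have hij : i = j := sub_eq_zero.mp (hσL _ h2)
      subst hij
      exact Prod.ext rfl (Subtype.ext (mul_right_cancel h))
    · refine le_trans (Finset.sum_le_sum_of_subset_of_nonneg (t := Finset.univ.filter fun g : E => g ∉ L)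
        (fun g hg => ?_) fun _ _ _ => Complex.normSq_nonneg _) ?_
      · obtain ⟨⟨i, l⟩, hq, rfl⟩ := Finset.mem_image.mp hg
        refine Finset.mem_filter.mpr ⟨Finset.mem_univ _, fun hmem => ?_⟩
        refine (Finset.ne_of_mem_erase (Finset.mem_product.mp hq).1) (hσL i ?_)
        simpa using L.mul_mem (L.inv_mem l.2) hmem
      · have h2 := Finset.sum_filter_add_sum_filter_not Finset.univ (fun g : E => g ∈ L) fun g => Complex.normSq (χ g)
        rw [htot] at h2
        have h3 : (Nat.card E : ℝ) ≤ (p : ℝ) * Nat.card L := by exact_mod_cast hcard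
        linarith
  -- the norms
  have hLpos : (0 : ℝ) < Nat.card L := by exact_mod_cast Nat.card_pos
  have hkey : ∑ k ∈ Finset.univ.erase (0 : ZMod p), ∑ c : C, Complex.normSq (χ ((c : E) * σ ^ k.val)) ≤
      ((p : ℝ) - 1) * Nat.card C := by
    refine le_of_mul_le_mul_left ?_ hLpos
    rw [Finset.mul_sum]
    refine (Finset.sum_le_sum fun k hk => hcoset k (Finset.ne_of_mem_erase hk)).trans ?_
    rw [← Finset.mul_sum]
    calc (Nat.card C : ℝ) * _ ≤ (Nat.card C : ℝ) * (((p : ℝ) - 1) * Nat.card L) :=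
          mul_le_mul_of_nonneg_left hout (Nat.cast_nonneg _)
      _ = _ := by ring
  have hall : (p : ℝ) * ∑ j : ZMod p, N2 (ψ j) - N2 (∑ j : ZMod p, ψ j) ≤ ((p : ℝ) - 1) * Nat.card C := by
    refine le_of_eq_of_le ?_ hkey
    have h2 : (p : ℝ) * ∑ j : ZMod p, N2 (ψ j) = ∑ k : ZMod p, ∑ c : C, Complex.normSq (χ ((c : E) * σ ^ k.val)) := by
      show (p : ℝ) * ∑ j : ZMod p, ∑ c : C, Complex.normSq (ψ j c) = _
      rw [Finset.sum_comm, Finset.mul_sum, Finset.sum_comm (γ := ZMod p)]
      exact Finset.sum_congr rfl fun c _ => (hpars c).symm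
    have h3 : N2 (∑ j : ZMod p, ψ j) = ∑ c : C, Complex.normSq (χ ((c : E) * σ ^ (0 : ZMod p).val)) := by
      show ∑ c : C, Complex.normSq ((∑ j : ZMod p, ψ j) c) = _
      exact Finset.sum_congr rfl fun c _ => by
        rw [Finset.sum_apply, ← hχC, ZMod.val_zero, pow_zero, mul_one]
    rw [h2, h3, ← Finset.add_sum_erase _ _ (Finset.mem_univ (0 : ZMod p))]
    ring
  have hvar : ∑ i : ZMod p, ∑ j : ZMod p, N2 (ψ i - ψ j) =
      2 * ((p : ℝ) * ∑ j : ZMod p, N2 (ψ j) - N2 (∑ j : ZMod p, ψ j)) := by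
    have h2 : ∀ i j, N2 (ψ i - ψ j) = N2 (ψ i) + N2 (ψ j) - 2 * ∑ c : C, (ψ i c * conj (ψ j c)).re := by
      intro i j
      simp only [N2, Pi.sub_apply, Finset.mul_sum, ← Finset.sum_add_distrib, ← Finset.sum_sub_distrib]
      exact Finset.sum_congr rfl fun c _ => Complex.normSq_sub _ _
    have h3 : N2 (∑ j : ZMod p, ψ j) = ∑ i : ZMod p, ∑ j : ZMod p, ∑ c : C, (ψ i c * conj (ψ j c)).re := by
      simp only [N2]
      rw [Finset.sum_congr rfl fun i _ => Finset.sum_comm, Finset.sum_comm]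
      refine Finset.sum_congr rfl fun c _ => ?_
      simp only [← Complex.re_sum]
      rw [Finset.sum_apply, ← Finset.sum_mul_sum, ← map_sum, Complex.mul_conj, Complex.ofReal_re]
    simp only [h2, Finset.sum_sub_distrib, Finset.sum_add_distrib, Finset.sum_const, Finset.card_univ,
      ZMod.card, nsmul_eq_mul, ← Finset.mul_sum, h3]
    ring
  -- nonzero constituents
  let R : Finset (ZMod p) := Finset.univ.filter fun j => ψ j ≠ 0
  have hdeg : ∀ j ∈ R, ∃ m : ℕ, 1 ≤ m ∧ ψ j 1 = (m : ℂ) ∧ (Nat.card C : ℝ) ≤ N2 (ψ j) := by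
    intro j hj
    obtain ⟨n, hn⟩ := (hψchar j).exists_nat_classInner (hψchar j)
    have hne : ψ j ≠ 0 := (Finset.mem_filter.mp hj).2
    have hn0 : n ≠ 0 := by
      rintro rfl
      rw [Nat.cast_zero] at hn
      exact hne (eq_zero_of_classInner_self hn)
    obtain ⟨m, hm⟩ := (hψchar j).exists_degree
    refine ⟨m, Nat.one_le_iff_ne_zero.mpr fun hm0 => hne (funext fun c => ?_), hm, ?_⟩
    · have := (hψchar j).norm_le c
      rw [hm, hm0, Nat.cast_zero] at this
      simpa using this
    · rw [classInner, inv_mul_eq_iff_eq_mul₀ card_cast_ne_zero] at hn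
      simp only [Complex.mul_conj] at hn
      have h3 : N2 (ψ j) = (Nat.card C : ℝ) * n := by
        refine Complex.ofReal_injective ?_
        simp only [N2]
        push_cast
        exact hn
      rw [h3]
      exact le_mul_of_one_le_right (Nat.cast_nonneg _) (by exact_mod_cast Nat.one_le_iff_ne_zero.mpr hn0)
  have hsum1 : (d : ℂ) = ∑ j ∈ R, ψ j 1 := by
    rw [Finset.sum_subset (Finset.subset_univ R) fun j _ hj => by
      rw [show ψ j = 0 by simpa [R] using hj]; rfl, ← hχC, Subgroup.coe_one, hd]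
  choose! m hm1 hm hmN using hdeg
  have hRd : R.card ≤ d := by
    have h3 : (d : ℂ) = ((∑ j ∈ R, m j : ℕ) : ℂ) := by
      rw [hsum1]; push_cast; exact Finset.sum_congr rfl hm
    calc R.card = ∑ _j ∈ R, 1 := by simp
      _ ≤ ∑ j ∈ R, m j := Finset.sum_le_sum hm1
      _ = d := (Nat.cast_injective h3).symm
  have hR0 : R.Nonempty := by
    by_contra h0
    rw [Finset.not_nonempty_iff_eq_empty.mp h0, Finset.sum_empty] at hsum1
    exact hχ.apply_one_ne_zero (hd.trans hsum1)
  have hlow : 2 * ((R.card : ℝ) * ((p : ℝ) - R.card)) * Nat.card C ≤ ∑ i : ZMod p, ∑ j : ZMod p, N2 (ψ i - ψ j) := by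
    have hN0 : ∀ f, 0 ≤ N2 f := fun f => Finset.sum_nonneg fun _ _ => Complex.normSq_nonneg _
    have hcompl : ((Rᶜ).card : ℝ) = (p : ℝ) - R.card := by
      rw [Finset.card_compl, ZMod.card, Nat.cast_sub (hRd.trans (by omega))]
    have hout' : ∀ j ∈ Rᶜ, ψ j = 0 := fun j hj => by simpa [R] using hj
    have hneg : ∀ f : C → ℂ, N2 (-f) = N2 f := fun f => by simp [N2]
    calc 2 * ((R.card : ℝ) * ((p : ℝ) - R.card)) * Nat.card C
        = ∑ _i ∈ R, ∑ _j ∈ Rᶜ, (Nat.card C : ℝ) + ∑ _i ∈ Rᶜ, ∑ _j ∈ R, (Nat.card C : ℝ) := by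
          simp only [Finset.sum_const, nsmul_eq_mul, hcompl]; ring
      _ ≤ ∑ i ∈ R, ∑ j ∈ Rᶜ, N2 (ψ i - ψ j) + ∑ i ∈ Rᶜ, ∑ j ∈ R, N2 (ψ i - ψ j) := by
          refine add_le_add (Finset.sum_le_sum fun i hi => Finset.sum_le_sum fun j hj => ?_)
            (Finset.sum_le_sum fun i hi => Finset.sum_le_sum fun j hj => ?_)
          · rw [hout' j hj, sub_zero]; exact hmN i hi
          · rw [hout' i hi, zero_sub, hneg]; exact hmN j hj
      _ ≤ _ := by
          rw [← Finset.sum_add_sum_compl R fun i => ∑ j : ZMod p, N2 (ψ i - ψ j)]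
          exact add_le_add
            (Finset.sum_le_sum fun i _ => Finset.sum_le_sum_of_subset_of_nonneg (Finset.subset_univ _) fun _ _ _ => hN0 _)
            (Finset.sum_le_sum fun i _ => Finset.sum_le_sum_of_subset_of_nonneg (Finset.subset_univ _) fun _ _ _ => hN0 _)
  have hcC : (0 : ℝ) < Nat.card C := by exact_mod_cast Nat.card_pos
  have hR1 : R.card = 1 := by
    have h2 : (R.card : ℝ) * ((p : ℝ) - R.card) ≤ (p : ℝ) - 1 := by
      refine le_of_mul_le_mul_right ?_ hcC
      linarith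
    by_contra hne
    have h3 : 2 ≤ R.card := by have := hR0.card_pos; omega
    have h4 : (2 : ℝ) ≤ R.card := by exact_mod_cast h3
    have h5 : (R.card : ℝ) + 2 ≤ p := by exact_mod_cast (by omega : R.card + 2 ≤ p)
    nlinarith
  obtain ⟨j₀, hj₀⟩ := Finset.card_eq_one.mp hR1
  have hrec1 := hrec 1 1
  rw [Subgroup.coe_one, one_mul, ZMod.val_one, pow_one] at hrec1
  rw [← hrec1, ← Finset.sum_subset (Finset.subset_univ R) fun j _ hj => by
      rw [show ψ j = 0 by simpa [R] using hj]; simp]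
  rw [hj₀, Finset.sum_singleton] at hsum1 ⊢
  have he1 : ‖e (j₀ * 1)‖ = 1 := by
    show ‖ZMod.stdAddChar (j₀ * 1)‖ = 1
    rw [ZMod.stdAddChar_apply, Circle.norm_coe]
  rw [norm_mul, he1, one_mul, ← hsum1, Complex.norm_natCast]

/-- In a linear group of degree less than `p - 1` a `p`-element centralizes every `p'`-subgroup
normalized by it. -/
theorem small_degree_comm {G : Type u} [Group G] [Fintype G] {χ : G → ℂ} (hχ : IsCharacter G χ)
    (hfaith : ∀ g : G, χ g = χ 1 → g = 1) {n : ℕ} (hn : χ 1 = (n : ℂ)) {p : ℕ} [Fact p.Prime]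
    (hnp : n + 1 < p) (L : Subgroup G) [L.Normal] (hL : ¬ p ∣ Nat.card L) :
    ∀ (k : ℕ) (x : G), x ^ p ^ k = 1 → ∀ l ∈ L, x * l = l * x := by
  classical
  have hp := Fact.out (p := p.Prime)
  intro k
  induction k with
  | zero => intro x hx l _; rw [pow_zero, pow_one] at hx; simp [hx]
  | succ k ih =>
    intro x hx l₁ hl₁
    have hz : ∀ l ∈ L, x ^ p * l = l * x ^ p := ih (x ^ p) (by rw [← pow_mul, ← pow_succ']; exact hx)
    by_cases hx1 : x = 1
    · simp [hx1]
    let E : Subgroup G := L ⊔ Subgroup.zpowers x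
    have hxE : x ∈ E := le_sup_right (α := Subgroup G) (Subgroup.mem_zpowers x)
    let x' : E := ⟨x, hxE⟩
    let L' : Subgroup E := L.subgroupOf E
    haveI : L'.Normal := inferInstanceAs (L.subgroupOf E).Normal
    haveI := Fintype.ofFinite E
    have hgenE : ∀ g : E, ∃ l ∈ L', ∃ i : ℕ, g = l * x' ^ i := by
      intro g
      have hg : (g : G) ∈ ((L : Set G) * (Subgroup.zpowers x : Set G)) := by
        rw [← Subgroup.normal_mul]; exact g.2
      obtain ⟨l, hl, w, hw, hlw⟩ := hg
      obtain ⟨i, rfl⟩ := (mem_zpowers_iff_mem_range_orderOf.mp hw : w ∈ (Finset.range (orderOf x)).image (x ^ ·)) |> Finset.mem_image.mp |>.imp fun i h => h.2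
      exact ⟨⟨l, le_sup_left (α := Subgroup G) hl⟩, Subgroup.mem_subgroupOf.mpr hl, i, Subtype.ext (by simpa using hlw.symm)⟩
    -- the quotient by `L`
    have hord : ∀ i : ℕ, x' ^ i ∈ L' → orderOf x ∣ i := by
      intro i hi
      rw [orderOf_dvd_iff_pow_eq_one]
      have hiL : x ^ i ∈ L := Subgroup.mem_subgroupOf.mp hi
      have hd1 : orderOf (x ^ i) ∣ p ^ (k + 1) := (orderOf_pow_dvd i).trans (orderOf_dvd_of_pow_eq_one hx)
      obtain ⟨j, -, hj⟩ := (Nat.dvd_prime_pow hp).mp hd1
      rcases j.eq_zero_or_pos with rfl | hj0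
      · rwa [pow_zero, orderOf_eq_one_iff] at hj
      · exact absurd (((dvd_pow_self p hj0.ne').trans hj.symm.dvd).trans (Subgroup.orderOf_dvd_natCard L hiL)) hL
    have hzc : x' ^ p ∈ Subgroup.center E := by
      rw [Subgroup.mem_center_iff]
      intro g
      obtain ⟨l, hl, i, rfl⟩ := hgenE g
      have h1 : l * x' ^ p = x' ^ p * l := Subtype.ext (hz l (Subgroup.mem_subgroupOf.mp hl)).symm
      calc l * x' ^ i * x' ^ p = l * x' ^ p * x' ^ i := by rw [mul_assoc, mul_assoc, ← pow_add, ← pow_add, add_comm]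
        _ = x' ^ p * (l * x' ^ i) := by rw [h1, mul_assoc]
    -- every constituent is a scalar at `x`
    have hcon : ∀ τ : IrrCharacter E, classInner (fun g : E => χ g) (τ : E → ℂ) ≠ 0 →
        (τ : E → ℂ) (x' * ⟨l₁, le_sup_left (α := Subgroup G) hl₁⟩ * x'⁻¹ * (⟨l₁, le_sup_left (α := Subgroup G) hl₁⟩ : E)⁻¹) = (τ : E → ℂ) 1 := by
      intro τ hτ
      obtain ⟨d, hd0, hd⟩ := τ.2.exists_degree
      have hdn : d ≤ n := by
        have hχE : IsCharacter E (fun g : E => χ g) := hχ.comp E.subtype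
        choose m hm using fun ψ : IrrCharacter E => hχE.exists_nat_classInner ψ.2.isCharacter
        choose e he0 he using fun ψ : IrrCharacter E => ψ.2.exists_degree
        have h1 := congrFun (eq_sum_classInner hχE.isClassFunction) 1
        simp only [Finset.sum_apply, Pi.smul_apply, smul_eq_mul, hm, he, Subgroup.coe_one, hn] at h1
        have h2 : n = ∑ ψ : IrrCharacter E, m ψ * e ψ := by exact_mod_cast h1
        have hde : d = e τ := by exact_mod_cast hd.symm.trans (he τ)
        have hm0 : m τ ≠ 0 := fun h => hτ (by rw [hm, h, Nat.cast_zero])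
        rw [h2, hde]
        refine le_trans ?_ (Finset.single_le_sum (fun ψ _ => Nat.zero_le _) (Finset.mem_univ τ))
        exact Nat.le_mul_of_pos_left _ (Nat.pos_of_ne_zero hm0)
      obtain ⟨w, hw, hwz⟩ := Cfsg.Agent.S0898.central_scalar τ.2 hzc
      obtain ⟨μ, hμ⟩ := IsAlgClosed.exists_pow_nat_eq w⁻¹ hp.pos
      have hw0 : w ≠ 0 := norm_ne_zero_iff.mp (hw ▸ one_ne_zero)
      have hμx : μ ^ orderOf x = 1 := by
        obtain ⟨j, -, hj⟩ := (Nat.dvd_prime_pow hp).mp (orderOf_dvd_of_pow_eq_one hx)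
        obtain ⟨j', rfl⟩ : ∃ j', j = j' + 1 := ⟨j - 1, by
          rcases j with _ | j
          · rw [pow_zero, orderOf_eq_one_iff] at hj; exact absurd hj hx1
          · omega⟩
        rw [hj, pow_succ', pow_mul, hμ, inv_pow, inv_eq_one]
        have hpow : ∀ i : ℕ, (τ : E → ℂ) ((x' ^ p) ^ i) = w ^ i * (τ : E → ℂ) 1 := by
          intro i
          induction i with
          | zero => simp
          | succ i ih' => rw [pow_succ', hwz, ih', pow_succ']; ring
        have h1 := hpow (p ^ j')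
        rw [← pow_mul, ← pow_succ', show x' ^ p ^ (j' + 1) = 1 from Subtype.ext (by
          show x ^ p ^ (j' + 1) = 1
          rw [← hj, pow_orderOf_eq_one])] at h1
        exact (mul_right_cancel₀ τ.2.apply_one_ne_zero (h1.symm.trans (one_mul _).symm))
      have hμ0 : μ ≠ 0 := fun h => by
        rw [h, zero_pow hp.ne_zero] at hμ
        exact inv_ne_zero hw0 hμ.symm
      have hgQ : ∀ q : E ⧸ L', q ∈ Subgroup.zpowers (QuotientGroup.mk' L' x') := by
        intro q
        obtain ⟨g, rfl⟩ := QuotientGroup.mk'_surjective L' q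
        obtain ⟨l, hl, i, rfl⟩ := hgenE g
        rw [map_mul, show QuotientGroup.mk' L' l = 1 from (QuotientGroup.eq_one_iff _).mpr hl, one_mul, map_pow]
        exact Subgroup.npow_mem_zpowers _ _
      have hoμ : orderOf (Units.mk0 μ hμ0) ∣ orderOf (QuotientGroup.mk' L' x') := by
        refine orderOf_dvd_of_pow_eq_one (Units.ext ?_)
        rw [Units.val_pow_eq_pow_val, Units.val_mk0, Units.val_one]
        obtain ⟨c, hc⟩ := hord _ ((QuotientGroup.eq_one_iff _).mp (by
          show QuotientGroup.mk' L' (x' ^ orderOf (QuotientGroup.mk' L' x')) = 1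
          rw [map_pow, pow_orderOf_eq_one]))
        rw [hc, pow_mul, hμx, one_pow]
      let lam : E →* ℂˣ := (monoidHomOfForallMemZpowers hgQ hoμ).comp (QuotientGroup.mk' L')
      have hlamx : lam x' = Units.mk0 μ hμ0 := monoidHomOfForallMemZpowers_apply_gen hgQ hoμ
      have hlaml : ∀ l ∈ L', lam l = 1 := fun l hl => by
        show monoidHomOfForallMemZpowers hgQ hoμ (QuotientGroup.mk' L' l) = 1
        rw [show QuotientGroup.mk' L' l = 1 from (QuotientGroup.eq_one_iff _).mpr hl, map_one]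
      -- the twisted character is trivial on `x ^ p`
      have hirr := isIrrCharacter_mul_linear τ.2 lam
      haveI hZn : (Subgroup.zpowers (x' ^ p)).Normal := ⟨fun a ha g => by
        have hac : a ∈ Subgroup.center E := (Subgroup.zpowers_le.mpr hzc) ha
        rwa [Subgroup.mem_center_iff.mp hac g, mul_inv_cancel_right]⟩
      have hkerz : ∀ z ∈ Subgroup.zpowers (x' ^ p), ((τ : E → ℂ) * fun g => (lam g : ℂ)) z =
          ((τ : E → ℂ) * fun g => (lam g : ℂ)) 1 := by
        refine fun z hz => (Subgroup.zpowers_le.mpr (?_ : x' ^ p ∈ charKer hirr.isCharacter)) hz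
        rw [mem_charKer, Pi.mul_apply, Pi.mul_apply, map_one, Units.val_one, mul_one, map_pow, hlamx,
          Units.val_pow_eq_pow_val, Units.val_mk0, hμ]
        have := hwz 1
        rw [mul_one] at this
        rw [this, mul_right_comm, mul_inv_cancel₀ hw0, one_mul]
      obtain ⟨ψ, hψ, hψe⟩ := exists_deflate_irr (Subgroup.zpowers (x' ^ p)) hirr hkerz
      haveI := Fintype.ofFinite (E ⧸ Subgroup.zpowers (x' ^ p))
      haveI : (L'.map (QuotientGroup.mk' (Subgroup.zpowers (x' ^ p)))).Normal :=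
        Subgroup.Normal.map inferInstance _ (QuotientGroup.mk'_surjective _)
      have hLd : ¬ p ∣ Nat.card (L'.map (QuotientGroup.mk' (Subgroup.zpowers (x' ^ p)))) := fun h => hL (by
        have h1 := h.trans (Subgroup.card_map_dvd L' _)
        rwa [Nat.card_congr (Subgroup.subgroupOfEquivOfLe (le_sup_left : L ≤ E)).toEquiv] at h1)
      have heig := small_degree_eigen (L'.map (QuotientGroup.mk' (Subgroup.zpowers (x' ^ p)))) hLd
        (σ := QuotientGroup.mk' _ x') (by rw [← map_pow]; exact (QuotientGroup.eq_one_iff _).mpr (Subgroup.mem_zpowers _))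
        (fun q => by
          obtain ⟨g, rfl⟩ := QuotientGroup.mk'_surjective _ q
          obtain ⟨l, hl, i, rfl⟩ := hgenE g
          exact ⟨_, Subgroup.mem_map_of_mem _ hl, i, by rw [map_mul, map_pow]⟩)
        hψ (d := d) (by
          have := hψe 1
          rw [show ((1 : E) : E ⧸ Subgroup.zpowers (x' ^ p)) = 1 from rfl] at this
          rw [this, Pi.mul_apply, map_one, Units.val_one, mul_one, hd])
        (by omega)
      have hnx : ‖(τ : E → ℂ) x'‖ = (d : ℝ) := by
        rw [show QuotientGroup.mk' (Subgroup.zpowers (x' ^ p)) x' = ((x' : E) : E ⧸ Subgroup.zpowers (x' ^ p)) from rfl,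
          hψe, Pi.mul_apply, hlamx, norm_mul, Units.val_mk0,
          Complex.norm_eq_one_of_pow_eq_one hμx (orderOf_pos x).ne', mul_one] at heig
        exact heig
      obtain ⟨D, ρ, hρ, hρe⟩ := τ.2
      have hD : d = D := by
        have := congrFun hρe 1
        rw [Representation.char_one, hd, Module.finrank_fin_fun] at this
        exact_mod_cast this.symm
      obtain ⟨c, hc⟩ := (norm_character_eq_iff ρ x').mp (by rw [hρe, hnx, hD, Module.finrank_fin_fun])
      set l' : E := ⟨l₁, le_sup_left (α := Subgroup G) hl₁⟩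
      have h1 : ρ (x' * l' * x'⁻¹ * l'⁻¹) = ρ 1 := by
        have hcomm : ρ x' * ρ l' = ρ l' * ρ x' := by
          rw [hc, ← Module.End.one_eq_id, smul_one_mul, mul_smul_one]
        rw [map_mul, map_mul, map_mul, hcomm, mul_assoc (ρ l'), ← map_mul, mul_inv_cancel, map_one, mul_one,
          ← map_mul, mul_inv_cancel, map_one]
      rw [← hρe]
      exact congrArg (LinearMap.trace ℂ _) h1
    -- conclude by faithfulness
    have hχE : IsCharacter E (fun g : E => χ g) := hχ.comp E.subtype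
    have hexp := eq_sum_classInner hχE.isClassFunction
    have h2 := hfaith (x * l₁ * x⁻¹ * l₁⁻¹) ?_
    · rwa [mul_inv_eq_one, mul_inv_eq_iff_eq_mul] at h2
    have e1 := congrFun hexp (x' * ⟨l₁, le_sup_left (α := Subgroup G) hl₁⟩ * x'⁻¹ * (⟨l₁, le_sup_left (α := Subgroup G) hl₁⟩ : E)⁻¹)
    have e2 := congrFun hexp 1
    simp only [Finset.sum_apply, Pi.smul_apply, smul_eq_mul] at e1 e2
    push_cast at e1 e2
    refine e1.trans (Eq.trans (Finset.sum_congr rfl fun τ _ => ?_) e2.symm)
    by_cases hτ : classInner (fun g : E => χ g) (τ : E → ℂ) = 0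
    · rw [hτ, zero_mul, zero_mul]
    · rw [hcon τ hτ]

end Cfsg.Lib.Char
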