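import Cfsg.Agent.Lib.Char.RelDegree
import Cfsg.Agent.Lib.Core.Layer
import Cfsg.Agent.Lib.Fusion.Parts
import Cfsg.Agent.Lib.PGroup.Elements
import Mathlib.GroupTheory.Nilpotent

/-!
# Solvable groups with squarefree degrees

A normal `q`-subgroup of `G / F` acting on the linear characters of the `q'`-part of the Fitting
subgroup `F` has an orbit of size divisible by `q ^ 2` unless it has order at most `q`. Hence
`(G / F)'' = 1`, and `F'' = 1` as its degrees are squarefree.
-/

set_option autoImplicit false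
set_option linter.unusedSectionVars false
set_option linter.style.haveILetI false

namespace Cfsg.Lib.Char.SquarefreeDeg

open Cfsg Cfsg.Lib Cfsg.Lib.Char Subgroup
open scoped commutatorElement

universe u v

attribute [local instance 100] Fintype.ofFinite

variable {G : Type u} [Group G] [Finite G]

/-- A normal subgroup of order divisible by `q ^ j` contributes to an index. -/
theorem relIndex_dvd_index (I S : Subgroup G) [S.Normal] : I.relIndex S ∣ I.index := by
  have h1 : I.relIndex S = I.relIndex (I ⊔ S) := by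
    have e2 := card_mul_index (I.subgroupOf (I ⊔ S))
    have e3 := card_mul_index (S.subgroupOf (I ⊔ S))
    have e4 := card_mul_index (I.subgroupOf S)
    have e5 := card_mul_index (S.subgroupOf I)
    rw [Nat.card_congr (subgroupOfEquivOfLe (le_sup_left : I ≤ I ⊔ S)).toEquiv] at e2
    rw [Nat.card_congr (subgroupOfEquivOfLe (le_sup_right : S ≤ I ⊔ S)).toEquiv] at e3
    have e6 : Nat.card (I.subgroupOf S) = Nat.card (S.subgroupOf I) := by
      rw [← inf_subgroupOf_right, ← inf_subgroupOf_right S I,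
        Nat.card_congr (subgroupOfEquivOfLe inf_le_right).toEquiv,
        Nat.card_congr (subgroupOfEquivOfLe inf_le_right).toEquiv, inf_comm]
    have e7 : S.relIndex (I ⊔ S) = S.relIndex I := relIndex_sup_right I S
    rw [relIndex, relIndex] at e7
    rw [e7] at e3
    rw [relIndex, relIndex]
    refine Nat.eq_of_mul_eq_mul_left (Nat.card_pos (α := I)) ?_
    rw [e2, ← e3, ← e5, ← e4, e6]
    ring
  rw [h1]
  exact relIndex_dvd_index_of_le le_sup_left

/-- A faithful `q`-group of order at least `q ^ 2` on an abelian group without elements of order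
`q` has an orbit of size at least `q ^ 2`. -/
theorem exists_sq_dvd_relIndex {H : Type u} {X : Type v} [Group H] [Finite H] [CommGroup X]
    [MulDistribMulAction H X] {q : ℕ} [hq : Fact q.Prime] (U : Subgroup H) (hU : IsPGroup q U)
    (hU2 : q ^ 2 ∣ Nat.card U)
    (hfaith : ∀ h ∈ U, (∀ x : X, h • x = x) → h = 1) (hX : ∀ x : X, x ^ q = 1 → x = 1) :
    ∃ x : X, q ^ 2 ∣ (MulAction.stabilizer H x).relIndex U := by
  obtain ⟨B₀, hB₀⟩ := Sylow.exists_subgroup_card_pow_prime q hU2
  set B : Subgroup H := B₀.map U.subtype with hBdef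
  have hBU : B ≤ U := map_subtype_le _
  have hBc : Nat.card B = q ^ 2 := by rw [hBdef, Subgroup.card_subtype, hB₀]
  have hcomm : ∀ a ∈ B, ∀ b ∈ B, a * b = b * a := fun a ha b hb => by
    have h := (IsPGroup.isMulCommutative_of_card_eq_prime_sq hBc).is_comm.comm ⟨a, ha⟩ ⟨b, hb⟩
    exact congrArg Subtype.val h
  suffices ∃ x : X, MulAction.stabilizer H x ⊓ B = ⊥ by
    obtain ⟨x, hx⟩ := this
    refine ⟨x, ?_⟩
    have h1 : (MulAction.stabilizer H x).relIndex B = q ^ 2 := by
      rw [← inf_relIndex_right, hx, relIndex_bot_left, hBc]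
    have h2 := relIndex_le_of_le_right (H := MulAction.stabilizer H x) hBU
      (fun h0 => Subgroup.index_ne_zero_of_finite (H := (MulAction.stabilizer H x).subgroupOf U) h0)
    rw [h1] at h2
    obtain ⟨n, hn⟩ := IsPGroup.iff_card.1 hU
    obtain ⟨j, -, hj⟩ := (Nat.dvd_prime_pow hq.out).1
      (hn ▸ relIndex_dvd_card (H := MulAction.stabilizer H x) (K := U))
    rw [hj] at h2 ⊢
    exact pow_dvd_pow q ((Nat.pow_le_pow_iff_right hq.out.one_lt).1 h2)
  by_contra hcon
  push Not at hcon
  have hord : ∀ x : X, (∃ b ∈ B, b • x ≠ x) →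
      Nat.card (MulAction.stabilizer H x ⊓ B : Subgroup H) = q := by
    rintro x ⟨b, hb, hbx⟩
    have hdvd := card_dvd_of_le (inf_le_right : MulAction.stabilizer H x ⊓ B ≤ B)
    rw [hBc] at hdvd
    obtain ⟨j, hj2, hj⟩ := (Nat.dvd_prime_pow hq.out).1 hdvd
    interval_cases j
    · exact absurd (card_eq_one.1 hj) (hcon x)
    · rw [hj, pow_one]
    · have he := eq_of_le_of_card_ge (inf_le_right : MulAction.stabilizer H x ⊓ B ≤ B)
        (by rw [hj, hBc])
      rw [← he] at hb
      exact absurd (MulAction.mem_stabilizer_iff.1 hb.1) hbx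
  have hnontriv : ∀ b ∈ B, b ≠ 1 → ∃ x : X, b • x ≠ x := fun b hb hne => by
    by_contra hall
    push Not at hall
    exact hne (hfaith b (hBU hb) hall)
  haveI : Nontrivial B := Finite.one_lt_card_iff_nontrivial.1
    (by rw [hBc]; exact Nat.one_lt_pow two_ne_zero hq.out.one_lt)
  obtain ⟨⟨b₀, hb₀⟩, hne₀⟩ := exists_ne (1 : B)
  obtain ⟨x₁, hx₁⟩ := hnontriv b₀ hb₀ fun h => hne₀ (Subtype.ext h)
  set B₁ := MulAction.stabilizer H x₁ ⊓ B with hB₁
  have hB₁c : Nat.card B₁ = q := hord x₁ ⟨b₀, hb₀, hx₁⟩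
  obtain ⟨c₁, hc₁, hc₁1⟩ : ∃ c ∈ B₁, c ≠ 1 :=
    (bot_or_exists_ne_one B₁).resolve_left fun h => by
      rw [h, card_bot] at hB₁c
      exact hq.out.ne_one hB₁c.symm
  obtain ⟨x₂, hx₂⟩ := hnontriv c₁ hc₁.2 hc₁1
  set B₂ := MulAction.stabilizer H x₂ ⊓ B with hB₂
  have hB₂c : Nat.card B₂ = q := hord x₂ ⟨c₁, hc₁.2, hx₂⟩
  have hdisj : B₁ ⊓ B₂ = ⊥ := by
    have hd := card_dvd_of_le (inf_le_left : B₁ ⊓ B₂ ≤ B₁)
    rw [hB₁c] at hd
    rcases hq.out.eq_one_or_self_of_dvd _ hd with h | h
    · exact card_eq_one.1 h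
    · have he := eq_of_le_of_card_ge (inf_le_left : B₁ ⊓ B₂ ≤ B₁) (by rw [h, hB₁c])
      exact absurd (MulAction.mem_stabilizer_iff.1
        (mem_inf.1 (mem_inf.1 (he.ge hc₁)).2).1) hx₂
  have hprod : ∀ a ∈ B, ∃ s ∈ B₁, ∃ t ∈ B₂, a = s * t := by
    intro a ha
    have hinj : Function.Injective (fun st : B₁ × B₂ =>
        (⟨(st.1 : H) * st.2, mul_mem st.1.2.2 st.2.2.2⟩ : B)) := by
      rintro ⟨s, t⟩ ⟨s', t'⟩ h
      have h' : (s : H) * t = s' * t' := congrArg Subtype.val h
      have h1 : (s' : H)⁻¹ * s ∈ B₁ ⊓ B₂ := mem_inf.2 ⟨B₁.mul_mem (B₁.inv_mem s'.2) s.2, by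
        have : (s' : H)⁻¹ * s = t' * (t : H)⁻¹ := by
          rw [eq_mul_inv_iff_mul_eq, mul_assoc, h', inv_mul_cancel_left]
        rw [this]
        exact B₂.mul_mem t'.2 (B₂.inv_mem t.2)⟩
      rw [hdisj, mem_bot] at h1
      have hs : (s : H) = s' := (inv_mul_eq_one.1 h1).symm
      rw [hs, mul_left_cancel_iff] at h'
      exact Prod.ext (Subtype.ext hs) (Subtype.ext h')
    obtain ⟨⟨s, t⟩, hst⟩ := ((Nat.bijective_iff_injective_and_card _).2 ⟨hinj, by
      rw [Nat.card_prod, hB₁c, hB₂c, hBc, pow_two]⟩).2 ⟨a, ha⟩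
    exact ⟨s, s.2, t, t.2, (congrArg Subtype.val hst).symm⟩
  refine hcon (x₁ * x₂) (eq_bot_iff.2 fun a ha => ?_)
  obtain ⟨hax, haB⟩ := mem_inf.1 ha
  rw [MulAction.mem_stabilizer_iff, smul_mul'] at hax
  set y := (a • x₁) * x₁⁻¹ with hy
  have hy2 : y = x₂ * (a • x₂)⁻¹ := by
    rw [hy, eq_mul_inv_iff_mul_eq, mul_comm (a • x₁) x₁⁻¹, mul_assoc, hax, inv_mul_cancel_left]
  have hyfix : a • y = y := by
    obtain ⟨s, hs, t, ht, rfl⟩ := hprod a haB
    have h1 : s • y = y := by
      rw [hy, smul_mul', smul_inv', ← mul_smul, hcomm s hs.2 _ haB, mul_smul,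
        MulAction.mem_stabilizer_iff.1 hs.1]
    have h2 : t • y = y := by
      rw [hy2, smul_mul', smul_inv', ← mul_smul, hcomm t ht.2 _ haB, mul_smul,
        MulAction.mem_stabilizer_iff.1 ht.1]
    rw [mul_smul, h2, h1]
  have haq : a ^ q = 1 := by
    obtain ⟨s, hs, t, ht, rfl⟩ := hprod a haB
    have hpow : ∀ (C : Subgroup H), Nat.card C = q → ∀ z ∈ C, z ^ q = 1 := fun C hC z hz => by
      rw [← hC]
      exact congrArg Subtype.val (pow_card_eq_one' (x := (⟨z, hz⟩ : C)))
    rw [(show Commute s t from hcomm s hs.2 t ht.2).mul_pow, hpow B₁ hB₁c s hs,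
      hpow B₂ hB₂c t ht, one_mul]
  have hiter : ∀ n : ℕ, (a ^ n) • x₁ = x₁ * y ^ n := by
    intro n
    induction n with
    | zero => simp
    | succ n ih =>
      rw [pow_succ', mul_smul, ih, smul_mul', smul_pow', hyfix, pow_succ' y n, ← mul_assoc x₁,
        mul_comm x₁ y, hy, inv_mul_cancel_right]
  have hy1 : y = 1 := hX y (by
    have h := hiter q
    rw [haq, one_smul] at h
    exact mul_left_cancel ((mul_one x₁).trans h).symm)
  rw [← hdisj]
  refine ⟨⟨MulAction.mem_stabilizer_iff.2 (mul_inv_eq_one.1 hy1), haB⟩,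
    MulAction.mem_stabilizer_iff.2 ?_, haB⟩
  exact (mul_inv_eq_one.1 (hy2 ▸ hy1)).symm

/-- Squarefree degrees pass to normal subgroups. -/
theorem squarefree_normal (h : ∀ χ : IrrCharacter G, Squarefree (charDegree (χ : G → ℂ)))
    (N : Subgroup G) [N.Normal] (θ : IrrCharacter N) :
    Squarefree (charDegree (θ : N → ℂ)) := by
  obtain ⟨η, hη⟩ := RelDeg.exists_over N θ.2
  obtain ⟨e, -, hdeg, -⟩ := RelDeg.over_data N θ.2 (Block.apply_one_eq_charDegree θ) hη
  exact (h η).squarefree_of_dvd (hdeg ▸ dvd_mul_left _ _)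

/-- A `p`-group with squarefree degrees is metabelian. -/
theorem derived_two_pgroup {p : ℕ} [hp : Fact p.Prime] (hG : IsPGroup p G)
    (h : ∀ χ : IrrCharacter G, Squarefree (charDegree (χ : G → ℂ))) : derivedSeries G 2 = ⊥ := by
  classical
  haveI := hG.isNilpotent
  have hcd : ∀ χ : IrrCharacter G, (χ : G → ℂ) 1 = 1 ∨ (χ : G → ℂ) 1 = (p : ℂ) := by
    intro χ
    obtain ⟨n, hn⟩ := IsPGroup.iff_card.1 hG
    have hd := degree_dvd_card χ.2 (Block.apply_one_eq_charDegree χ)
    rw [hn] at hd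
    obtain ⟨j, -, hj⟩ := (Nat.dvd_prime_pow hp.out).1 hd
    have hj1 : j ≤ 1 := by
      by_contra hgt
      have h2 := (h χ).squarefree_of_dvd (hj ▸ pow_dvd_pow p (Nat.lt_of_not_le hgt) : p ^ 2 ∣ _)
      exact hp.out.ne_one (Nat.isUnit_iff.1 (h2 p (by rw [pow_two])))
    rw [Block.apply_one_eq_charDegree, hj]
    interval_cases j <;> simp
  show ⁅derivedSeries G 1, derivedSeries G 1⁆ = ⊥
  rw [derivedSeries_one, eq_bot_iff]
  refine commutator_le.2 fun a ha b hb => mem_bot.2 ?_
  exact commutatorElement_eq_one_iff_mul_comm.2 (metabelian_of_nilpotent hcd ha hb)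

/-- A nilpotent group with squarefree degrees is metabelian. -/
theorem derived_two_nilpotent [hn : Group.IsNilpotent G]
    (h : ∀ χ : IrrCharacter G, Squarefree (charDegree (χ : G → ℂ))) : derivedSeries G 2 = ⊥ := by
  classical
  have hnor : ∀ (p : ℕ) (_ : Fact p.Prime) (P : Sylow p G), (P : Subgroup G).Normal :=
    (Group.isNilpotent_of_finite_tfae.out 0 3 rfl rfl).1 hn
  obtain ⟨e⟩ : Nonempty
      ((∀ p : (Nat.card G).primeFactors, ∀ P : Sylow p G, (↑P : Subgroup G)) ≃* G) :=
    (Group.isNilpotent_of_finite_tfae.out 0 4 rfl rfl).1 hn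
  rw [eq_bot_iff]
  intro x hx
  rw [mem_bot, ← e.apply_symm_apply x]
  suffices e.symm x = 1 by rw [this, map_one]
  funext p P
  haveI : Fact (p : ℕ).Prime := ⟨Nat.prime_of_mem_primeFactors p.2⟩
  haveI := hnor p inferInstance P
  have h1 : derivedSeries (P : Subgroup G) 2 = ⊥ :=
    derived_two_pgroup P.2 (squarefree_normal h (P : Subgroup G))
  let f : G →* (P : Subgroup G) :=
    { toFun := fun y => e.symm y p P
      map_one' := by rw [map_one]; rfl
      map_mul' := fun a b => by rw [map_mul]; rfl }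
  have h2 := map_derivedSeries_le_derivedSeries f 2 ⟨x, hx, rfl⟩
  rw [h1, mem_bot] at h2
  exact h2

/-- A coprime automorphism trivial modulo the derived subgroup of a nilpotent group is trivial. -/
theorem commute_of_trivial_mod_commutator {q : ℕ} [hq : Fact q.Prime] (N : Subgroup G) [N.Normal]
    (hNn : Group.IsNilpotent N) (hNq : ¬ q ∣ Nat.card N) {u : G} {k : ℕ} (hu : u ^ q ^ k = 1)
    (h : ∀ n : N, (MulAut.conjNormal u n : N) * n⁻¹ ∈ commutator N) :
    ∀ n ∈ N, u * n = n * u := by
  classical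
  set σ : MulAut N := MulAut.conjNormal u
  let C : Subgroup N := σ.toMonoidHom.eqLocus (MonoidHom.id N)
  suffices hC : C = ⊤ by
    intro n hn
    have h1 : σ ⟨n, hn⟩ = ⟨n, hn⟩ := (hC.ge (mem_top (⟨n, hn⟩ : N)) :)
    have h2 := congrArg Subtype.val h1
    rw [MulAut.conjNormal_apply] at h2
    exact mul_inv_eq_iff_eq_mul.1 h2
  by_contra hne
  obtain ⟨M, hM, hCM⟩ := (eq_top_or_exists_le_coatom C).resolve_left hne
  haveI := hNn
  haveI hMn : M.Normal := ((Group.isNilpotent_of_finite_tfae (G := N)).out 0 2 rfl rfl).1 hNn M hM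
  have hNM : commutator N ≤ M := by
    obtain ⟨g, -, hg⟩ := SetLike.exists_of_lt hM.lt_top
    exact Subgroup.Normal.commutator_le_of_self_sup_commutative_eq_top
      (hM.2 _ (left_lt_sup.2 fun hle => hg (hle (mem_zpowers g)))) inferInstance
  refine hM.1 (top_unique fun n _ => ?_)
  -- a fixed point in the coset of `n`
  let A : Subgroup (MulAut N) := zpowers σ
  have hA : IsPGroup q A := by
    rintro ⟨_, i, rfl⟩
    refine ⟨k, Subtype.ext ?_⟩
    show (σ ^ i) ^ q ^ k = 1
    rw [← zpow_natCast (σ ^ i), ← zpow_mul, mul_comm, zpow_mul, zpow_natCast, ← map_pow, hu,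
      map_one, one_zpow]
  have hσ : ∀ a ∈ A, ∀ m : N, a m * m⁻¹ ∈ commutator N := by
    intro a ha
    let T : Subgroup (MulAut N) :=
      { carrier := {a | ∀ m : N, a m * m⁻¹ ∈ commutator N}
        one_mem' := fun m => by simp
        mul_mem' := fun {a b} ha hb m => by
          have := mul_mem (ha (b m)) (hb m)
          simpa [mul_assoc] using this
        inv_mem' := fun {a} ha m => by
          have := inv_mem (ha (a⁻¹ m))
          simpa [MulAut.apply_inv_self] using this }
    exact (zpowers_le.2 (show σ ∈ T from h)) ha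
  let X := {x : N // x * n⁻¹ ∈ commutator N}
  letI act : MulAction A X :=
    { smul := fun a x => ⟨(a : MulAut N) x, by
        have := mul_mem (hσ a a.2 x) x.2
        simpa [mul_assoc] using this⟩
      one_smul := fun x => rfl
      mul_smul := fun a b x => rfl }
  have hcard : Nat.card X = Nat.card (commutator N) := Nat.card_congr
    { toFun := fun x => ⟨x * n⁻¹, x.2⟩
      invFun := fun m => ⟨m * n, by simp⟩
      left_inv := fun x => by ext; simp
      right_inv := fun m => by ext; simp }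
  obtain ⟨x, hx⟩ := hA.nonempty_fixed_point_of_prime_not_dvd_card X
    fun hd => hNq (hd.trans (hcard ▸ card_subgroup_dvd_card _))
  have hxC : (x : N) ∈ C := congrArg Subtype.val (hx ⟨σ, mem_zpowers σ⟩)
  have := mul_mem (inv_mem (hNM x.2)) (hCM hxC)
  simpa using this

/-- A solvable group whose cores `O_q` have order at most `q` is metabelian. -/
theorem derived_two_of_small_cores [Group.IsSolvable G]
    (h : ∀ q : ℕ, q.Prime → Nat.card (pCore q G) ∣ q) : derivedSeries G 2 = ⊥ := by
  classical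
  set F := fittingSubgroup G
  have key : ∀ c ∈ commutator G, ∀ z ∈ F, c * z = z * c := by
    intro c hc z hz
    suffices h1 : z ∈ centralizer ({c} : Set G) from (mem_centralizer_singleton_iff.1 h1).symm
    refine PGroup.mem_of_ordCompl_pow_mem fun r hr hrd => ?_
    haveI : Fact r.Prime := ⟨hr⟩
    set z' := z ^ (orderOf z / r ^ (orderOf z).factorization r)
    have hz' : z' ∈ pCore r G := by
      refine Cfsg.Lib.Fusion.mem_pCore_of_mem_fitting (pow_mem hz _) ?_
      refine ⟨(orderOf z).factorization r, ?_⟩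
      rw [orderOf_pow_of_dvd (Nat.div_ne_zero_iff_of_dvd (Nat.ordProj_dvd _ _) |>.2
        ⟨(orderOf_pos z).ne', pow_ne_zero _ hr.ne_zero⟩) (Nat.div_dvd_of_dvd (Nat.ordProj_dvd _ _)),
        Nat.div_div_self (Nat.ordProj_dvd _ _) (orderOf_pos z).ne']
    haveI : (pCore r G).Normal := sSup_normal _ fun _ hN => hN.1
    haveI : IsCyclic (pCore r G) := by
      rcases (Nat.dvd_prime hr).1 (h r hr) with h1 | h1
      · exact isCyclic_of_card_dvd_prime (p := r) (by rw [h1]; exact one_dvd r)
      · exact isCyclic_of_prime_card h1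
    have hk : commutator G ≤ (MulAut.conjNormal (H := pCore r G)).ker := by
      rw [commutator_def, commutator_le]
      intro a _ b _
      rw [MonoidHom.mem_ker, map_commutatorElement, commutatorElement_eq_one_iff_mul_comm]
      obtain ⟨m, hm⟩ := MonoidHom.map_cyclic
        ((MulAut.conjNormal a : MulAut (pCore r G)).toMonoidHom)
      obtain ⟨l, hl⟩ := MonoidHom.map_cyclic
        ((MulAut.conjNormal b : MulAut (pCore r G)).toMonoidHom)
      refine MulEquiv.ext fun x => ?_
      simp only [MulEquiv.coe_toMonoidHom] at hm hl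
      rw [MulAut.mul_apply, MulAut.mul_apply, hl x, hm (x ^ l), hm x, hl (x ^ m), ← zpow_mul,
        ← zpow_mul, mul_comm]
    have h2 := congrArg Subtype.val (DFunLike.congr_fun (MonoidHom.mem_ker.1 (hk hc)) ⟨z', hz'⟩)
    rw [MulAut.conjNormal_apply] at h2
    exact mem_centralizer_singleton_iff.2 (mul_inv_eq_iff_eq_mul.1 h2).symm
  show ⁅derivedSeries G 1, derivedSeries G 1⁆ = ⊥
  rw [derivedSeries_one, eq_bot_iff]
  refine commutator_le.2 fun a ha b hb => mem_bot.2 (commutatorElement_eq_one_iff_mul_comm.2 ?_)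
  exact key a ha b (Core.centralizer_fitting_le_of_isSolvable
    (mem_centralizer_iff.2 fun z hz => (key b hb z hz).symm))

/-- The cores of `G / F` are small. -/
theorem card_pCore_quotient (h : ∀ χ : IrrCharacter G, Squarefree (charDegree (χ : G → ℂ)))
    (F : Subgroup G) [F.Normal] (hF : F = fittingSubgroup G) (q : ℕ) (hq : q.Prime) :
    Nat.card (pCore q (G ⧸ F)) ∣ q := by
  classical
  haveI : Fact q.Prime := ⟨hq⟩
  set K := pCore q (G ⧸ F)
  have hKp : IsPGroup q K := Core.pCore_isPGroup q (G ⧸ F)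
  haveI : K.Normal := sSup_normal _ fun _ hN => hN.1
  obtain ⟨n, hn⟩ := IsPGroup.iff_card.1 hKp
  by_contra hnd
  have h2 : 2 ≤ n := by
    by_contra hlt
    exact hnd (hn ▸ (pow_dvd_pow q (by omega : n ≤ 1)).trans (pow_one q).dvd)
  set U := K.comap (QuotientGroup.mk' F) with hUdef
  haveI : U.Normal := inferInstanceAs (K.comap _).Normal
  haveI : (pPrimeCore q G).Normal := sSup_normal _ fun _ hN => hN.1
  set N : Subgroup G := pPrimeCore q G ⊓ F
  haveI hNn : N.Normal := inferInstanceAs (pPrimeCore q G ⊓ F).Normal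
  have hFnil : Group.IsNilpotent F := hF ▸ Core.fittingSubgroup_isNilpotent G
  have hNnil : Group.IsNilpotent N := Core.isNilpotent_of_le inf_le_right hFnil
  have hNq : ¬ q ∣ Nat.card N := fun hd =>
    Core.pPrimeCore_not_dvd q G (hd.trans (card_dvd_of_le inf_le_left))
  haveI : Finite (N →* ℂˣ) := Nat.finite_of_card_ne_zero (by
    rw [card_linear_eq_index]; exact Subgroup.index_ne_zero_of_finite)
  haveI : Finite (MulAut (N →* ℂˣ)) :=
    Finite.of_injective (fun e : MulAut (N →* ℂˣ) => (e : (N →* ℂˣ) → (N →* ℂˣ)))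
      DFunLike.coe_injective
  let ρ : G →* MulAut (N →* ℂˣ) :=
    { toFun := fun g =>
        { toFun := fun L => RelDeg.twHom N L g⁻¹
          invFun := fun L => RelDeg.twHom N L g
          left_inv := fun L => MonoidHom.ext fun x => congrArg L (Subtype.ext (by simp [mul_assoc]))
          right_inv := fun L => MonoidHom.ext fun x => congrArg L (Subtype.ext (by simp [mul_assoc]))
          map_mul' := fun L L' => rfl }
      map_one' := MulEquiv.ext fun L => MonoidHom.ext fun x =>
        congrArg L (Subtype.ext (by simp))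
      map_mul' := fun a b => MulEquiv.ext fun L => MonoidHom.ext fun x =>
        congrArg L (Subtype.ext (by simp [mul_assoc])) }
  -- the kernel in `U` is `F`
  have hFk : F ≤ ρ.ker := by
    intro f hf
    refine PGroup.mem_of_ordCompl_pow_mem fun r hr hrd => ?_
    haveI : Fact r.Prime := ⟨hr⟩
    set f' := f ^ (orderOf f / r ^ (orderOf f).factorization r)
    have hf' : f' ∈ pCore r G := by
      refine Cfsg.Lib.Fusion.mem_pCore_of_mem_fitting (hF ▸ pow_mem hf _) ?_
      refine ⟨(orderOf f).factorization r, ?_⟩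
      rw [orderOf_pow_of_dvd (Nat.div_ne_zero_iff_of_dvd (Nat.ordProj_dvd _ _) |>.2
        ⟨(orderOf_pos f).ne', pow_ne_zero _ hr.ne_zero⟩) (Nat.div_dvd_of_dvd (Nat.ordProj_dvd _ _)),
        Nat.div_div_self (Nat.ordProj_dvd _ _) (orderOf_pos f).ne']
    refine MulEquiv.ext fun L => MonoidHom.ext fun x => ?_
    show L (MulAut.conjNormal f'⁻¹ x) = L x
    haveI : (pCore r G).Normal := sSup_normal _ fun _ hN => hN.1
    by_cases hrq : r = q
    · subst hrq
      refine congrArg L (Subtype.ext ?_)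
      have hd : Disjoint (pCore r G) N := by
        refine disjoint_of_coprime_natCard ?_
        obtain ⟨j, hj⟩ := IsPGroup.iff_card.1 (Core.pCore_isPGroup r G)
        rw [hj]
        exact Nat.Coprime.pow_left j (hr.coprime_iff_not_dvd.2 hNq)
      rw [MulAut.conjNormal_apply, (commute_of_normal_of_disjoint _ _ inferInstance hNn hd
        f'⁻¹ x (inv_mem hf') x.2).eq, mul_inv_cancel_right]
    · have hmem : f' ∈ N := by
        refine ⟨Core.le_pPrimeCore ?_ hf', pow_mem hf _⟩
        obtain ⟨j, hj⟩ := IsPGroup.iff_card.1 (Core.pCore_isPGroup r G)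
        rw [hj]
        exact Nat.Coprime.pow_left j ((Nat.coprime_primes hr hq).2 hrq)
      have he : (MulAut.conjNormal f'⁻¹ x : N) = ⟨f', hmem⟩⁻¹ * x * ⟨f', hmem⟩ :=
        Subtype.ext (by simp [mul_assoc])
      rw [he, map_mul, map_mul, map_inv, mul_comm (L ⟨f', hmem⟩)⁻¹, inv_mul_cancel_right]
  have hqU : ∀ x ∈ U, ∀ r : ℕ, r.Prime → r ≠ q → (∃ i, orderOf x = r ^ i) → x ∈ F := by
    intro x hx r hr hrq ⟨i, hi⟩
    rw [← QuotientGroup.eq_one_iff (N := F)]
    obtain ⟨j, hj⟩ := hKp ⟨QuotientGroup.mk' F x, hx⟩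
    refine orderOf_eq_one_iff.1 (Nat.eq_one_of_dvd_coprimes
      (((Nat.coprime_primes hr hq).2 hrq).pow i j)
      (hi ▸ orderOf_map_dvd (QuotientGroup.mk' F) x)
      (orderOf_dvd_of_pow_eq_one (congrArg Subtype.val hj)))
  have hker : U ⊓ ρ.ker ≤ F := by
    set Y := U ⊓ ρ.ker
    haveI : Y.Normal := inferInstanceAs (U ⊓ ρ.ker).Normal
    have hcent : ∀ u ∈ Y, (∃ i, orderOf u = q ^ i) → ∀ m ∈ N, u * m = m * u := by
      intro u hu ⟨i, hi⟩
      refine commute_of_trivial_mod_commutator N hNnil hNq (k := i)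
        (hi ▸ pow_orderOf_eq_one u) fun m => ?_
      rw [← Abelianization.ker_of, MonoidHom.mem_ker]
      by_contra hne
      obtain ⟨μ, hμ⟩ := CommGroup.exists_apply_ne_one_of_hasEnoughRootsOfUnity
        (Abelianization N) ℂ hne
      refine hμ ?_
      set L : N →* ℂˣ := μ.comp Abelianization.of
      have h1 : ρ u⁻¹ L = L := by
        rw [MonoidHom.mem_ker.1 (inv_mem hu.2)]; rfl
      have h2 := DFunLike.congr_fun h1 m
      change L (MulAut.conjNormal u⁻¹⁻¹ m) = L m at h2
      rw [inv_inv] at h2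
      show L ((MulAut.conjNormal u m : N) * m⁻¹) = 1
      rw [map_mul, map_inv, h2, mul_inv_cancel]
    refine hF ▸ Core.le_fittingSubgroup (N := Y)
      (Core.isNilpotent_of_isPGroup_sylow fun r hr P => ?_)
    by_cases hrq : r = q
    · subst hrq
      refine Core.le_pCore' ?_ P.2
      have hord : ∀ y : P, ∃ i, orderOf ((y : Y) : G) = r ^ i := fun y => by
        obtain ⟨i, hi⟩ := IsPGroup.iff_orderOf.1 P.2 y
        exact ⟨i, by rw [← hi, Subgroup.orderOf_coe, Subgroup.orderOf_coe]⟩
      refine normalizer_eq_top_iff.1 (Subgroup.index_eq_one.1 ?_)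
      by_contra hne
      obtain ⟨s, hs, hsd⟩ := Nat.exists_prime_and_dvd hne
      haveI : Fact s.Prime := ⟨hs⟩
      by_cases hsr : s = r
      · subst hsr
        exact P.not_dvd_index (hsd.trans (index_dvd_of_le le_normalizer))
      · obtain ⟨S⟩ : Nonempty (Sylow s Y) := inferInstance
        refine S.not_dvd_index (hsd.trans (index_dvd_of_le fun y' hy'S => ?_))
        obtain ⟨i, hi⟩ := IsPGroup.iff_orderOf.1 S.2 ⟨y', hy'S⟩
        have hy' : orderOf y' = s ^ i := by rw [← hi]; exact (Subgroup.orderOf_mk y' hy'S).symm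
        have hy'F : (y' : G) ∈ F :=
          hqU _ y'.2.1 s hs hsr ⟨_, (Subgroup.orderOf_coe y').trans hy'⟩
        have hy's : (y' : G) ∈ pCore s G :=
          Cfsg.Lib.Fusion.mem_pCore_of_mem_fitting (hF ▸ hy'F)
            ⟨_, (Subgroup.orderOf_coe y').trans hy'⟩
        have hy'N : (y' : G) ∈ N := by
          refine ⟨Core.le_pPrimeCore ?_ hy's, hy'F⟩
          obtain ⟨j, hj⟩ := IsPGroup.iff_card.1 (Core.pCore_isPGroup s G)
          rw [hj]
          exact Nat.Coprime.pow_left j ((Nat.coprime_primes hs hq).2 hsr)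
        refine mem_normalizer_iff.2 fun z => ?_
        have hc : ∀ w ∈ (P : Subgroup Y), y' * w = w * y' := fun w hw =>
          Subtype.ext (hcent w w.2 (hord ⟨w, hw⟩) _ hy'N).symm
        constructor
        · intro hz
          rw [hc z hz, mul_inv_cancel_right]; exact hz
        · intro hz
          have h3 := hc _ hz
          rw [inv_mul_cancel_right] at h3
          have h4 : z = y' * z * y'⁻¹ := (mul_left_cancel h3).symm
          rw [h4]; exact hz
    · intro y hy
      haveI : Fact r.Prime := hr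
      obtain ⟨i, hi⟩ := IsPGroup.iff_orderOf.1 P.2 ⟨y, hy⟩
      rw [← Subgroup.orderOf_coe] at hi
      have hyF : (y : G) ∈ F :=
        hqU _ y.2.1 r hr.out hrq ⟨i, (Subgroup.orderOf_coe y).trans hi⟩
      have hyr : (y : G) ∈ pCore r G :=
        Cfsg.Lib.Fusion.mem_pCore_of_mem_fitting (hF ▸ hyF)
          ⟨i, (Subgroup.orderOf_coe y).trans hi⟩
      haveI : (pCore r G).Normal := sSup_normal _ fun _ hN => hN.1
      exact Core.le_pCore' (N := (pCore r G).subgroupOf Y) inferInstance
        (Core.pCore_isPGroup r G).comap_subtype hyr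
  -- the image of `U`
  haveI : Finite ρ.range := inferInstance
  set V : Subgroup ρ.range := U.map ρ.rangeRestrict
  haveI : V.Normal := (inferInstance : U.Normal).map _ ρ.rangeRestrict_surjective
  have hFU : F ≤ U := fun f hf => by
    show QuotientGroup.mk' F f ∈ K
    rw [show QuotientGroup.mk' F f = 1 from (QuotientGroup.eq_one_iff f).2 hf]
    exact one_mem _
  have hVc : Nat.card V = Nat.card K := by
    have h1 := Subgroup.relIndex_ker U ρ.rangeRestrict
    rw [MonoidHom.ker_rangeRestrict, ← inf_relIndex_right, inf_comm,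
      le_antisymm hker (le_inf hFU hFk)] at h1
    have h3 : U.map (QuotientGroup.mk' F) = K :=
      map_comap_eq_self_of_surjective (QuotientGroup.mk'_surjective F) K
    have h4 := Subgroup.relIndex_ker U (QuotientGroup.mk' F)
    rw [QuotientGroup.ker_mk', h3] at h4
    rw [← h1, h4]
  have hVp : IsPGroup q V := IsPGroup.iff_card.2 ⟨n, hVc.trans hn⟩
  letI : MulDistribMulAction ρ.range (N →* ℂˣ) :=
    { smul := fun g L => (g : MulAut (N →* ℂˣ)) L
      one_smul := fun L => rfl
      mul_smul := fun a b L => rfl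
      smul_one := fun g => map_one (g : MulAut (N →* ℂˣ))
      smul_mul := fun g L L' => map_mul (g : MulAut (N →* ℂˣ)) L L' }
  obtain ⟨L, hL⟩ := exists_sq_dvd_relIndex (X := (N →* ℂˣ)) V hVp
    (by rw [hVc, hn]; exact pow_dvd_pow q h2)
    (fun g _ hg => Subtype.ext (MulEquiv.ext fun L => hg L))
    (fun L hL => by
      refine MonoidHom.ext fun x => ?_
      refine RelDeg.eq_one_of_pow_coprime (M := ℂˣ) (a := q) (b := Nat.card N) ?_ ?_
        (hq.coprime_iff_not_dvd.2 hNq)
      · rw [← MonoidHom.pow_apply, hL, MonoidHom.one_apply]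
      · rw [← map_pow, pow_card_eq_one', map_one])
  set St := MulAction.stabilizer ρ.range L
  have h5 : q ^ 2 ∣ (St.comap ρ.rangeRestrict).index := by
    rw [index_comap_of_surjective _ ρ.rangeRestrict_surjective]
    exact hL.trans (relIndex_dvd_index St V)
  have h6 : inertia N (RelDeg.lin L) = St.comap ρ.rangeRestrict := by
    ext g
    rw [RelDeg.mem_inertia_lin, mem_comap, MulAction.mem_stabilizer_iff]
    constructor
    · intro hg
      exact (MulEquiv.symm_apply_eq (ρ g)).1 hg |>.symm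
    · intro hg
      exact (MulEquiv.symm_apply_eq (ρ g)).2 hg.symm
  rw [← h6] at h5
  obtain ⟨η, hη⟩ := RelDeg.exists_over N (RelDeg.isIrr_lin N L)
  obtain ⟨e, -, hdeg, -⟩ := RelDeg.over_data N (RelDeg.isIrr_lin N L) (f := 1)
    (by simp [RelDeg.lin]) hη
  have h7 := (h η).squarefree_of_dvd (h5.trans (hdeg ▸ by simp : _ ∣ charDegree (η : G → ℂ)))
  exact hq.ne_one (Nat.isUnit_iff.1 (h7 q (by rw [pow_two])))

/-- Solvable groups with squarefree degrees have derived length at most four. -/
theorem derived_four [Group.IsSolvable G]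
    (h : ∀ χ : IrrCharacter G, Squarefree (charDegree (χ : G → ℂ))) : derivedSeries G 4 = ⊥ := by
  set F := fittingSubgroup G with hF
  haveI : F.Normal := Core.fittingSubgroup_normal' G
  haveI : Group.IsNilpotent F := Core.fittingSubgroup_isNilpotent G
  have h1 : derivedSeries (G ⧸ F) 2 = ⊥ :=
    derived_two_of_small_cores (card_pCore_quotient h F hF)
  have h2 : derivedSeries F 2 = ⊥ := derived_two_nilpotent (squarefree_normal h F)
  have h3 : derivedSeries G 2 ≤ F := by
    have := map_derivedSeries_le_derivedSeries (QuotientGroup.mk' F) 2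
    rw [h1, le_bot_iff, Subgroup.map_eq_bot_iff, QuotientGroup.ker_mk'] at this
    exact this
  have h4 : derivedSeries G 2 ≤ (derivedSeries F 0).map F.subtype := by
    rw [derivedSeries_zero, ← MonoidHom.range_eq_map, range_subtype]; exact h3
  have h5 : derivedSeries G 3 ≤ (derivedSeries F 1).map F.subtype := by
    show ⁅derivedSeries G 2, derivedSeries G 2⁆ ≤ (⁅derivedSeries F 0, derivedSeries F 0⁆).map _
    rw [map_commutator]
    exact commutator_mono h4 h4
  have h6 : derivedSeries G 4 ≤ (derivedSeries F 2).map F.subtype := by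
    show ⁅derivedSeries G 3, derivedSeries G 3⁆ ≤ (⁅derivedSeries F 1, derivedSeries F 1⁆).map _
    rw [map_commutator]
    exact commutator_mono h5 h5
  rwa [h2, Subgroup.map_bot, le_bot_iff] at h6

end Cfsg.Lib.Char.SquarefreeDeg
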