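import Cfsg.Agent.Lib.Char.Quotient
import Cfsg.Agent.Lib.Char.Ito
import Cfsg.Agent.Lib.Fusion.Tate
import Cfsg.Agent.Lib.Fusion.Abelian
import Cfsg.Agent.Lib.Block.Basic

/-!
# Extending the characters of a Sylow normalizer

Every character of degree prime to `p` of a Sylow normalizer is a restriction exactly when the
normalizer has a normal complement.
-/

set_option autoImplicit false
set_option linter.unusedSectionVars false
set_option linter.style.haveILetI false
set_option maxHeartbeats 800000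

namespace Cfsg.Lib.Char

open Cfsg
open scoped commutatorElement Pointwise

universe u

variable {G : Type u} [Group G]

/-- The characters with `R` in the kernel cut out `R`. -/
theorem mem_of_forall_kernel [Finite G] (R : Subgroup G) [R.Normal] {n : G}
    (h : ∀ θ : IrrCharacter G, (∀ r ∈ R, (θ : G → ℂ) r = (θ : G → ℂ) 1) →
      (θ : G → ℂ) n = (θ : G → ℂ) 1) : n ∈ R := by
  classical
  haveI := Fintype.ofFinite (G ⧸ R)
  by_contra hn
  have hne : (n : G ⧸ R) ≠ 1 := fun h => hn ((QuotientGroup.eq_one_iff n).1 h)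
  have hs := sum_degree_mul (n : G ⧸ R)
  have hs1 := sum_degree_mul (1 : G ⧸ R)
  rw [if_neg hne] at hs
  rw [if_pos rfl] at hs1
  refine Nat.card_pos.ne' (α := ℕ) (Nat.cast_eq_zero.1 (hs1.symm.trans ?_) : Nat.card (G ⧸ R) = 0)
  rw [← hs]
  refine Finset.sum_congr rfl fun φ _ => ?_
  have := h (irrQuotientEquiv R φ).1 (irrQuotientEquiv R φ).2
  change (φ : G ⧸ R → ℂ) n = (φ : G ⧸ R → ℂ) ((1 : G) : G ⧸ R) at this
  rw [QuotientGroup.mk_one] at this
  rw [this]

/-- Characters with the derived group of a normal Sylow subgroup in the kernel have degree prime to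
`p`. -/
theorem not_dvd_degree_of_commutator_kernel [Finite G] {p : ℕ} [hp : Fact p.Prime] (S : Sylow p G)
    [hSn : (S : Subgroup G).Normal] {θ : IrrCharacter G}
    (h : ∀ r ∈ ⁅(S : Subgroup G), (S : Subgroup G)⁆, (θ : G → ℂ) r = (θ : G → ℂ) 1) :
    ¬ p ∣ charDegree (θ : G → ℂ) := by
  classical
  set R : Subgroup G := ⁅(S : Subgroup G), (S : Subgroup G)⁆ with hR
  haveI : R.Normal := inferInstance
  obtain ⟨φ, hφ, he⟩ := exists_deflate_irr R θ.2 h
  obtain ⟨d, hd⟩ := θ.2.isCharacter.exists_degree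
  haveI := Fintype.ofFinite (G ⧸ R)
  haveI : ((S : Subgroup G).map (QuotientGroup.mk' R)).Normal :=
    hSn.map _ (QuotientGroup.mk'_surjective R)
  have hdvd := degree_dvd_index_of_comm ((S : Subgroup G).map (QuotientGroup.mk' R))
    (by
      rintro _ ⟨a, ha, rfl⟩ _ ⟨b, hb, rfl⟩
      rw [← commutatorElement_eq_one_iff_mul_comm, ← map_commutatorElement]
      exact (QuotientGroup.eq_one_iff _).2 (Subgroup.commutator_mem_commutator ha hb))
    hφ (d := d) (by rw [← QuotientGroup.mk_one, he, hd])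
  intro hdd
  rw [Block.charDegree_eq_of_apply_one hd] at hdd
  refine S.not_dvd_index (hdd.trans (hdvd.trans ?_))
  exact Subgroup.index_map_dvd _ (QuotientGroup.mk'_surjective R)

/-- If the characters of degree prime to `p` of a Sylow normalizer extend, then the normalizer has
a normal complement. -/
theorem exists_complement_of_extend [Finite G] {p : ℕ} [hp : Fact p.Prime] (P : Sylow p G)
    (hext : ∀ θ : IrrCharacter ↥(Subgroup.normalizer ((P : Subgroup G) : Set G)),
      ¬ p ∣ charDegree (θ : ↥(Subgroup.normalizer ((P : Subgroup G) : Set G)) → ℂ) →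
        ∃ χ : IrrCharacter G, ∀ x : ↥(Subgroup.normalizer ((P : Subgroup G) : Set G)),
          (χ : G → ℂ) x = (θ : ↥(Subgroup.normalizer ((P : Subgroup G) : Set G)) → ℂ) x) :
    ∃ K : Subgroup G, K.Normal ∧ K ⊔ Subgroup.normalizer ((P : Subgroup G) : Set G) = ⊤ ∧
      K ⊓ Subgroup.normalizer ((P : Subgroup G) : Set G) = ⊥ := by
  classical
  set N : Subgroup G := Subgroup.normalizer ((P : Subgroup G) : Set G) with hN
  have hPN : (P : Subgroup G) ≤ N := Subgroup.le_normalizer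
  set S : Sylow p N := P.subtype hPN with hS
  have hSsub : (S : Subgroup N) = (P : Subgroup G).subgroupOf N := rfl
  haveI hSn : (S : Subgroup N).Normal := by
    rw [hSsub]; exact Subgroup.normal_in_normalizer
  set R : Subgroup N := ⁅(S : Subgroup N), (S : Subgroup N)⁆ with hR
  have hRS : R ≤ S := Subgroup.commutator_le_left _ _
  have hdeg : ∀ θ : {θ : IrrCharacter N // ∀ r ∈ R, (θ : N → ℂ) r = (θ : N → ℂ) 1},
      ∃ χ : IrrCharacter G, ∀ x : N, (χ : G → ℂ) x = (θ.1 : N → ℂ) x := fun θ =>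
    hext θ.1 (not_dvd_degree_of_commutator_kernel S θ.2)
  choose χ hχ using hdeg
  -- the kernels
  set K₀ : Subgroup G := ⨅ θ, charKer (χ θ).2.isCharacter with hK₀
  set L : Subgroup G := ⨅ θ : {θ : {θ : IrrCharacter N // ∀ r ∈ R, (θ : N → ℂ) r = (θ : N → ℂ) 1} //
    ∀ s ∈ (S : Subgroup N), (θ.1 : N → ℂ) s = (θ.1 : N → ℂ) 1}, charKer (χ θ.1).2.isCharacter
    with hL
  haveI hK₀n : K₀.Normal := Subgroup.normal_iInf_normal fun _ => charKer_normal _
  haveI hLn : L.Normal := Subgroup.normal_iInf_normal fun _ => charKer_normal _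
  have hmem : ∀ (n : N) θ, (n : G) ∈ charKer (χ θ).2.isCharacter ↔
      (θ.1 : N → ℂ) n = (θ.1 : N → ℂ) 1 := fun n θ => by
    rw [mem_charKer, hχ θ n, show (1 : G) = ((1 : N) : G) from rfl, hχ θ 1]
  have hK₀N : ∀ n : N, (n : G) ∈ K₀ → n ∈ R := fun n hn => mem_of_forall_kernel R fun θ hθ =>
    (hmem n ⟨θ, hθ⟩).1 ((Subgroup.mem_iInf.1 hn) ⟨θ, hθ⟩)
  have hRK₀ : ∀ n : N, n ∈ R → (n : G) ∈ K₀ := fun n hn =>
    Subgroup.mem_iInf.2 fun θ => (hmem n θ).2 (θ.2 n hn)
  have hLN : ∀ n : N, (n : G) ∈ L → n ∈ (S : Subgroup N) := fun n hn =>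
    mem_of_forall_kernel (S : Subgroup N) fun θ hθ =>
      (hmem n ⟨θ, fun r hr => hθ r (hRS hr)⟩).1
        ((Subgroup.mem_iInf.1 hn) ⟨⟨θ, fun r hr => hθ r (hRS hr)⟩, hθ⟩)
  have hPL : (P : Subgroup G) ≤ L := fun x hx =>
    Subgroup.mem_iInf.2 fun θ => (hmem ⟨x, hPN hx⟩ θ.1).2 (θ.2 _ hx)
  have hK₀L : K₀ ≤ L := fun x hx => Subgroup.mem_iInf.2 fun θ => Subgroup.mem_iInf.1 hx θ.1
  -- inside `L`
  set T : Sylow p L := P.subtype hPL with hT
  set K₁ : Subgroup L := K₀.subgroupOf L with hK₁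
  haveI : K₁.Normal := hK₀n.subgroupOf L
  set π := QuotientGroup.mk' K₁ with hπ
  have hTc : ∀ a ∈ (T : Subgroup L), ∀ b ∈ (T : Subgroup L), π a * π b = π b * π a := by
    intro a ha b hb
    rw [← commutatorElement_eq_one_iff_mul_comm, ← map_commutatorElement]
    refine (QuotientGroup.eq_one_iff _).2 (Subgroup.mem_subgroupOf.2 ?_)
    have h := hRK₀ ⁅(⟨a, hPN ha⟩ : N), ⟨b, hPN hb⟩⁆
      (Subgroup.commutator_mem_commutator ha hb)
    exact h
  obtain ⟨Tb, hTb⟩ : ∃ Tb : Sylow p (L ⧸ K₁), (Tb : Subgroup (L ⧸ K₁)) = (T : Subgroup L).map π :=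
    ⟨T.mapSurjective (QuotientGroup.mk'_surjective K₁), Sylow.coe_mapSurjective _ _⟩
  have hself : Subgroup.normalizer ((Tb : Subgroup (L ⧸ K₁)) : Set (L ⧸ K₁)) ≤
      Subgroup.centralizer ((Tb : Subgroup (L ⧸ K₁)) : Set (L ⧸ K₁)) := by
    intro y hy
    obtain ⟨x, rfl⟩ := QuotientGroup.mk'_surjective K₁ y
    -- `x` normalizes `T ⊔ K₁`, so it lies in `(T ⊔ K₁) N_L(T)`
    set W : Subgroup L := (T : Subgroup L) ⊔ K₁ with hW
    have hWc : W = Subgroup.comap π ((T : Subgroup L).map π) := by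
      rw [Subgroup.comap_map_eq, hπ, QuotientGroup.ker_mk']
    have hx : x ∈ Subgroup.normalizer (W : Set L) := by
      rw [Subgroup.mem_normalizer_iff]
      intro w
      rw [hWc, Subgroup.mem_comap, Subgroup.mem_comap, ← hTb, map_mul, map_mul, map_inv]
      exact (Subgroup.mem_normalizer_iff.1 hy) (π w)
    have hTW : (T : Subgroup L) ≤ W := le_sup_left
    have hconj : ∀ w ∈ (MulAut.conj x • (T : Subgroup L) : Subgroup L), w ∈ W := by
      intro w hw
      obtain ⟨t, ht, rfl⟩ := hw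
      exact (Subgroup.mem_normalizer_iff.1 hx t).1 (hTW ht)
    obtain ⟨w, hw⟩ := MulAction.exists_smul_eq W ((x • T).subtype (by
      rw [Sylow.coe_subgroup_smul]; exact hconj)) (T.subtype hTW)
    have hw' : MulAut.conj ((w : L) * x) • (T : Subgroup L) = T := by
      have h := congrArg (fun Q : Sylow p W => (Q : Subgroup W).map W.subtype) hw
      simp only [Sylow.coe_subgroup_smul, Sylow.coe_subtype] at h
      rw [Subgroup.map_subgroupOf_eq_of_le hTW] at h
      rw [map_mul, mul_smul]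
      conv_rhs => rw [← h]
      ext z
      constructor
      · rintro ⟨y, hy', rfl⟩
        exact ⟨⟨(w : L) * y * (w : L)⁻¹, W.mul_mem (W.mul_mem w.2 (hconj y hy')) (W.inv_mem w.2)⟩,
          ⟨⟨y, hconj y hy'⟩, hy', rfl⟩, rfl⟩
      · rintro ⟨_, ⟨y, hy', rfl⟩, rfl⟩
        exact ⟨(y : L), hy', rfl⟩
    have hnorm : (((w : L) * x : L) : G) ∈ N := by
      refine Subgroup.mem_normalizer_iff.2 fun z => ?_
      have hz : ∀ z : L, z ∈ (T : Subgroup L) ↔
          (w : L) * x * z * ((w : L) * x)⁻¹ ∈ (T : Subgroup L) := fun z => by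
        conv_lhs => rw [← Subgroup.smul_mem_pointwise_smul_iff (a := MulAut.conj ((w : L) * x)), hw']
        rfl
      constructor
      · intro hzP
        exact (hz ⟨z, hPL hzP⟩).1 hzP
      · intro hzP
        have hzL : z ∈ L := by
          have := hLn.conj_mem _ (hPL hzP) ((((w : L) * x : L) : G))⁻¹
          simpa [mul_assoc] using this
        exact (hz ⟨z, hzL⟩).2 hzP
    have hwxT : (w : L) * x ∈ (T : Subgroup L) := hLN ⟨_, hnorm⟩ ((w : L) * x).2
    have hxW : x ∈ W := by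
      have := mul_mem (inv_mem w.2) (hTW hwxT)
      rwa [inv_mul_cancel_left] at this
    rw [hWc, Subgroup.mem_comap] at hxW
    obtain ⟨t, ht, he⟩ := hxW
    refine Subgroup.mem_centralizer_iff.2 fun z hz => ?_
    rw [SetLike.mem_coe, hTb] at hz
    obtain ⟨s, hs, rfl⟩ := hz
    rw [← he]
    exact hTc s hs t ht
  have hQ := Fusion.hasNormalPComplement_of_normalizer_le_centralizer Tb hself
  have hcompl := Fusion.isComplement'_pResidual hQ Tb
  haveI := Fusion.pResidual_normal p (L ⧸ K₁)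
  have hcR : commutator (L ⧸ K₁) ≤ pResidual p (L ⧸ K₁) := by
    refine Subgroup.Normal.quotient_commutative_iff_commutator_le.mp ⟨⟨?_⟩⟩
    intro a b
    have hsurj : ∀ q : (L ⧸ K₁) ⧸ pResidual p (L ⧸ K₁), ∃ t ∈ (T : Subgroup L),
        q = QuotientGroup.mk (π t) := fun q => by
      obtain ⟨y, rfl⟩ := QuotientGroup.mk_surjective q
      obtain ⟨⟨⟨r, hr⟩, ⟨z, hz⟩⟩, rfl⟩ := hcompl.2 y
      rw [SetLike.mem_coe, hTb] at hz
      obtain ⟨t, ht, rfl⟩ := hz
      refine ⟨t, ht, ?_⟩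
      show ((r * π t : L ⧸ K₁) : (L ⧸ K₁) ⧸ pResidual p (L ⧸ K₁)) = _
      rw [QuotientGroup.mk_mul, (QuotientGroup.eq_one_iff r).2 hr, one_mul]
    obtain ⟨s, hs, rfl⟩ := hsurj a
    obtain ⟨t, ht, rfl⟩ := hsurj b
    rw [← QuotientGroup.mk_mul, ← QuotientGroup.mk_mul, hTc s hs t ht]
  have hcomm : commutator L ⊓ (T : Subgroup L) = ⁅(T : Subgroup L), (T : Subgroup L)⁆ ⊓ T := by
    refine le_antisymm (fun x hx => ⟨?_, hx.2⟩)
      (inf_le_inf_right _ (Subgroup.commutator_mono le_top le_top))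
    have h1 : π x ∈ commutator (L ⧸ K₁) := by
      have : π x ∈ (commutator L).map π := Subgroup.mem_map_of_mem π hx.1
      rw [commutator_def, Subgroup.map_commutator,
        Subgroup.map_top_of_surjective _ (QuotientGroup.mk'_surjective K₁)] at this
      exact this
    have h2 : π x ∈ (Tb : Subgroup (L ⧸ K₁)) := hTb ▸ Subgroup.mem_map_of_mem π hx.2
    have h3 : π x = 1 := Subgroup.mem_bot.1 (hcompl.disjoint.le_bot ⟨hcR h1, h2⟩)
    have hxK : ((x : L) : G) ∈ K₀ := Subgroup.mem_subgroupOf.1 ((QuotientGroup.eq_one_iff x).1 h3)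
    have hxR := hK₀N ⟨(x : G), hPN hx.2⟩ hxK
    -- transport the derived group
    let e : (S : Subgroup N) →* L := (N.subtype.comp (S : Subgroup N).subtype).codRestrict L
      fun s => hPL s.2
    have hR' : (Subgroup.map e (⁅(⊤ : Subgroup (S : Subgroup N)), ⊤⁆ : Subgroup (S : Subgroup N))) ≤
        ⁅(T : Subgroup L), (T : Subgroup L)⁆ := by
      rw [Subgroup.map_commutator]
      exact Subgroup.commutator_mono (fun y ⟨s, _, hy⟩ => hy ▸ s.2) fun y ⟨s, _, hy⟩ => hy ▸ s.2
    rw [hR, ← Subgroup.map_subtype_commutator] at hxR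
    obtain ⟨s, hs, he⟩ := hxR
    refine hR' ⟨s, hs, Subtype.ext ?_⟩
    show (((s : N)) : G) = (x : G)
    exact congrArg Subtype.val he
  have htate := Fusion.tate_of_commutator T (T : Subgroup L) le_rfl hcomm
  have hbot : pResidual p (T : Subgroup L) = ⊥ := by
    rw [eq_bot_iff]
    refine Fusion.pResidual_le_of_isPGroup_quotient ⊥ (T.isPGroup'.to_quotient _)
  rw [hbot, Subgroup.map_bot, bot_inf_eq] at htate
  have hLc : HasNormalPComplement p L := (Fusion.hasNormalPComplement_iff_inf T).2 htate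
  haveI := Fusion.pResidual_normal p L
  set K : Subgroup G := (pResidual p L).map L.subtype with hK
  refine ⟨K, ⟨?_⟩, ?_, ?_⟩
  · rintro _ ⟨k, hk, rfl⟩ g
    have h := (Fusion.map_pResidual_equiv (p := p) (MulAut.conjNormal (H := L) g)).le
      (Subgroup.mem_map_of_mem _ hk)
    exact ⟨_, h, MulAut.conjNormal_apply g k⟩
  · rw [eq_top_iff, ← Sylow.normalizer_sup_eq_top T]
    have hcomplL := Fusion.isComplement'_pResidual hLc T
    refine sup_le ?_ fun l hl => ?_
    · have hmap : (T : Subgroup L).map L.subtype = (P : Subgroup G) :=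
        Subgroup.map_subgroupOf_eq_of_le hPL
      rw [hmap]
      exact le_sup_right
    · obtain ⟨⟨⟨r, hr⟩, ⟨t, ht⟩⟩, he⟩ := hcomplL.2 ⟨l, hl⟩
      have : l = (r : G) * (t : G) := (congrArg Subtype.val he).symm
      rw [this]
      exact Subgroup.mul_mem_sup ⟨r, hr, rfl⟩ (hPN ht)
  · rw [eq_bot_iff]
    rintro _ ⟨⟨k, hk, rfl⟩, hkN⟩
    have hkT : k ∈ (T : Subgroup L) := hLN ⟨_, hkN⟩ k.2
    exact Subgroup.mem_bot.2 (congrArg Subtype.val
      (Subgroup.mem_bot.1 ((Fusion.isComplement'_pResidual hLc T).disjoint.le_bot ⟨hk, hkT⟩)))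

/-- Characters of a subgroup with a normal complement extend. -/
theorem extend_of_complement [Finite G] {N K : Subgroup G} [K.Normal] (hsup : K ⊔ N = ⊤)
    (hinf : K ⊓ N = ⊥) (θ : IrrCharacter N) :
    ∃ χ : IrrCharacter G, ∀ x : N, (χ : G → ℂ) x = (θ : N → ℂ) x := by
  set f := (QuotientGroup.mk' K).comp N.subtype with hf
  have hinj : Function.Injective f := (injective_iff_map_eq_one f).2 fun x hx => by
    have hxK : (x : G) ∈ K := (QuotientGroup.eq_one_iff (x : G)).1 hx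
    have : (x : G) ∈ K ⊓ N := ⟨hxK, x.2⟩
    rw [hinf, Subgroup.mem_bot] at this
    exact Subtype.ext this
  have hsurj : Function.Surjective f := fun q => by
    obtain ⟨g, rfl⟩ := QuotientGroup.mk_surjective q
    have hg : g ∈ K ⊔ N := hsup ▸ Subgroup.mem_top g
    obtain ⟨k, hk, n, hn, rfl⟩ := Subgroup.mem_sup_of_normal_left.1 hg
    refine ⟨⟨n, hn⟩, ?_⟩
    show ((n : G) : G ⧸ K) = _
    rw [QuotientGroup.mk_mul, (QuotientGroup.eq_one_iff k).2 hk, one_mul]
  set e : N ≃* G ⧸ K := MulEquiv.ofBijective f ⟨hinj, hsurj⟩ with he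
  refine ⟨⟨_, θ.2.comp_surjective (e.symm.toMonoidHom.comp (QuotientGroup.mk' K))
    (e.symm.surjective.comp (QuotientGroup.mk'_surjective K))⟩, fun x => ?_⟩
  show (θ : N → ℂ) (e.symm (e x)) = _
  rw [e.symm_apply_apply]

end Cfsg.Lib.Char
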