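import Cfsg.Agent.Lib.Char.AltSquare

/-!
# The symmetric square of a character
-/

set_option autoImplicit false
set_option linter.unusedSectionVars false

namespace Cfsg.Lib.Char

open Cfsg Module Matrix

universe u

variable {G : Type u} [Group G]

/-- The symmetric square of a character is a character. -/
theorem isCharacter_symSquare {χ : G → ℂ} (hχ : IsCharacter G χ) :
    IsCharacter G (fun g => (χ g * χ g + χ (g * g)) / 2) := by
  classical
  obtain ⟨n, ρ, rfl⟩ := hχ
  set T : Matrix (Fin n) (Fin n) ℂ →ₗ[ℂ] Matrix (Fin n) (Fin n) ℂ :=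
    (Matrix.transposeLinearEquiv (Fin n) (Fin n) ℂ ℂ).toLinearMap with hT
  let W : Submodule ℂ (Matrix (Fin n) (Fin n) ℂ) := LinearMap.ker (LinearMap.id - T)
  have hTapp : ∀ A, T A = Aᵀ := fun A => rfl
  have hWmem : ∀ A, A ∈ W ↔ A - Aᵀ = 0 := fun A => Iff.rfl
  let S : Subrepresentation (congrRep ρ) :=
    { toSubmodule := W
      apply_mem_toSubmodule := fun g A hA => by
        rw [hWmem] at hA ⊢
        rw [← congrRep_transpose, ← map_sub, hA, map_zero] }
  let P0 : Matrix (Fin n) (Fin n) ℂ →ₗ[ℂ] Matrix (Fin n) (Fin n) ℂ :=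
    (2 : ℂ)⁻¹ • (LinearMap.id + T)
  have hP0 : ∀ A, P0 A = (2 : ℂ)⁻¹ • (A + Aᵀ) := fun A => rfl
  let P : Matrix (Fin n) (Fin n) ℂ →ₗ[ℂ] W := LinearMap.codRestrict W P0 fun A => by
    rw [hWmem, hP0, Matrix.transpose_smul, Matrix.transpose_add, Matrix.transpose_transpose,
      ← smul_sub]
    simp [add_comm]
  have h := isCharacter_character S.toRepresentation
  suffices hfun : S.toRepresentation.character =
      fun g => (ρ.character g * ρ.character g + ρ.character (g * g)) / 2 by
    rw [← hfun]; exact h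
  funext g
  show LinearMap.trace ℂ W (S.toRepresentation g) = _
  have h1 : S.toRepresentation g = P ∘ₗ (congrRep ρ g ∘ₗ W.subtype) := by
    refine LinearMap.ext fun A => Subtype.ext ?_
    show congrRep ρ g A.1 = P0 (congrRep ρ g A.1)
    have hA : congrRep ρ g A.1 - (congrRep ρ g A.1)ᵀ = 0 := by
      rw [← congrRep_transpose, ← map_sub, (hWmem _).mp A.2, map_zero]
    rw [hP0, ← sub_eq_zero.mp hA, ← two_smul ℂ (congrRep ρ g A.1),
      smul_smul]
    norm_num
  have h2 : (congrRep ρ g ∘ₗ W.subtype) ∘ₗ P = congrRep ρ g ∘ₗ P0 := rfl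
  rw [h1, LinearMap.trace_comp_comm', h2]
  have hch : ∀ x, ρ.character x = (LinearMap.toMatrix' (ρ x)).trace := fun x => by
    rw [Representation.character, LinearMap.trace_eq_matrix_trace ℂ (Pi.basisFun ℂ (Fin n))]
    rfl
  have hmul : LinearMap.toMatrix' (ρ (g * g)) =
      LinearMap.toMatrix' (ρ g) * LinearMap.toMatrix' (ρ g) := by
    rw [map_mul]; exact LinearMap.toMatrix'_mul _ _
  rw [hch g, hch (g * g), hmul, LinearMap.trace_eq_matrix_trace ℂ (Matrix.stdBasis ℂ (Fin n) (Fin n))]
  set M := LinearMap.toMatrix' (ρ g) with hM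
  have hentry : ∀ i j : Fin n, (congrRep ρ g ∘ₗ P0) (Matrix.single i j (1 : ℂ)) i j =
      (M i i * M j j + M i j * M j i) / 2 := by
    intro i j
    rw [LinearMap.comp_apply, hP0, congrRep_apply, ← hM, Matrix.transpose_single]
    simp [Matrix.mul_apply, Matrix.single_apply, ite_and, Finset.sum_ite_eq,
      mul_comm, mul_left_comm, mul_add, Finset.sum_add_distrib]
    ring
  simp only [Matrix.trace, Matrix.diag, LinearMap.toMatrix_apply, Fintype.sum_prod_type,
    Matrix.stdBasis_eq_single, Matrix.mul_apply]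
  rw [Finset.sum_mul_sum, ← Finset.sum_add_distrib, Finset.sum_div]
  refine Finset.sum_congr rfl fun i _ => ?_
  rw [← Finset.sum_add_distrib, Finset.sum_div]
  refine Finset.sum_congr rfl fun j _ => ?_
  rw [← hentry i j]
  rfl

end Cfsg.Lib.Char
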