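import Cfsg.Agent.Lib.Char.Burnside
import Cfsg.Agent.Lib.Small.Gap.DegreeTools

/-!
# A nonsolvable group has three primes dividing its degrees

In a simple group whose nonprincipal degrees are all divisible by `p` or by `q`, a central element
of a Sylow `p`-subgroup kills the characters of `p`-power degree, and column orthogonality then
makes one divisible by `q`.
-/

set_option autoImplicit false
set_option linter.unusedSectionVars false
set_option linter.style.haveILetI false

namespace Cfsg.Lib.Char.ThreePrimes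

open Cfsg Cfsg.Lib Cfsg.Lib.Char Module
open scoped Classical

universe u

variable {G : Type u} [Group G] [Fintype G]

/-- Burnside's vanishing in a nonabelian simple group. -/
theorem eq_zero_of_coprime [IsSimpleGroup G] (hna : ¬ ∀ a b : G, a * b = b * a) {g : G} (hg : g ≠ 1)
    {χ : IrrCharacter G} (hχ : (χ : G → ℂ) ≠ fun _ => 1)
    (hcop : Nat.Coprime (charDegree (χ : G → ℂ)) (classFinset g).card) : (χ : G → ℂ) g = 0 := by
  obtain ⟨χ, hirr⟩ := χ
  obtain ⟨n, ρ, hρ, rfl⟩ := hirr
  by_contra h0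
  simp only at hχ hcop h0
  have hdeg : charDegree ρ.character = finrank ℂ (Fin n → ℂ) := by
    have h := Block.apply_one_eq_charDegree (⟨ρ.character, ⟨n, ρ, hρ, rfl⟩⟩ : IrrCharacter G)
    change ρ.character 1 = _ at h
    rw [ρ.char_one] at h
    exact (Nat.cast_injective h).symm
  rw [hdeg] at hcop
  haveI := hρ
  have hs : g ∈ scalarSubgroup ρ :=
    (norm_character_eq_iff ρ g).mp ((character_zero_or_norm ρ g hcop).resolve_left h0)
  have htop : scalarSubgroup ρ = ⊤ :=
    (Subgroup.Normal.eq_bot_or_eq_top (scalarSubgroup_normal ρ)).resolve_left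
      fun h => hg (by rw [h, Subgroup.mem_bot] at hs; exact hs)
  have hker : MonoidHom.ker ρ = ⊥ :=
    (Subgroup.Normal.eq_bot_or_eq_top (inferInstance : (MonoidHom.ker ρ).Normal)).resolve_right
      fun h => by
        have htriv : ∀ x, ρ x = 1 := fun x => MonoidHom.mem_ker.mp (h ▸ Subgroup.mem_top x)
        apply hχ
        have hirr := classInner_irreducible_self ρ
        have hc : ρ.character = fun _ => (finrank ℂ (Fin n → ℂ) : ℂ) := funext fun x => by
          simp [Representation.character, htriv]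
        rw [hc] at hirr
        simp [classInner, ← Nat.card_eq_fintype_card] at hirr
        rw [inv_mul_cancel_left₀ card_cast_ne_zero, Nat.card_fin] at hirr
        have hn : n = 1 := by
          have h' : ((n * n : ℕ) : ℂ) = ((1 : ℕ) : ℂ) := by push_cast; exact hirr
          exact (mul_eq_one.mp (Nat.cast_inj.mp h')).1
        subst hn
        exact hc.trans (funext fun _ => by simp)
  refine hna fun a b => ?_
  apply (MonoidHom.ker_eq_bot_iff (f := ρ)).mp hker
  obtain ⟨c, hc⟩ : a ∈ scalarSubgroup ρ := htop ▸ Subgroup.mem_top a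
  rw [map_mul, map_mul, hc]
  ext x
  simp

/-- One is not a multiple of a prime among algebraic integers. -/
theorem false_of_all_dvd {g : G} (hg : g ≠ 1) {q : ℕ} (hq : q.Prime)
    (h : ∀ χ : IrrCharacter G, (χ : G → ℂ) ≠ (fun _ => 1) →
      (χ : G → ℂ) g = 0 ∨ q ∣ charDegree (χ : G → ℂ)) : False := by
  refine not_isIntegral_one_div_prime hq ?_
  have hsum := sum_degree_mul (G := G) g
  rw [if_neg hg] at hsum
  let e : IrrCharacter G := ⟨fun _ => 1, isIrrCharacter_one⟩
  rw [← Finset.sum_erase_add _ _ (Finset.mem_univ e)] at hsum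
  have hone : (e : G → ℂ) 1 * (e : G → ℂ) g = 1 := one_mul _
  rw [hone] at hsum
  have h2 : IsIntegral ℤ ((∑ χ ∈ Finset.univ.erase e, (χ : G → ℂ) 1 * (χ : G → ℂ) g) / q) := by
    rw [Finset.sum_div]
    refine IsIntegral.sum _ fun χ hχ => ?_
    rcases h χ (fun he => (Finset.mem_erase.mp hχ).1 (Subtype.ext he)) with h0 | ⟨m, hm⟩
    · simp [h0, isIntegral_zero]
    · rw [Block.apply_one_eq_charDegree, hm]
      push_cast
      rw [mul_assoc, mul_div_cancel_left₀ _ (Nat.cast_ne_zero.mpr hq.ne_zero)]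
      exact isIntegral_algebraMap.mul (χ.2.isCharacter.isIntegral g)
  rw [eq_neg_of_add_eq_zero_left hsum, neg_div] at h2
  simpa using h2.neg

/-- Two primes cannot cover the degrees of a nonabelian simple group. -/
theorem simple_not_two [IsSimpleGroup G] (hna : ¬ ∀ a b : G, a * b = b * a) (p q : ℕ)
    (h : ∀ r ∈ degreePrimes G, r = p ∨ r = q) : False := by
  have hnc : ¬ IsCyclic G := fun hc => hna fun a b => by
    letI := IsCyclic.commGroup (α := G)
    exact mul_comm a b
  have hnont : ∀ χ : IrrCharacter G, (χ : G → ℂ) ≠ (fun _ => 1) →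
      charDegree (χ : G → ℂ) ≠ 1 := fun χ hχ h1 => by
    have := Small.two_le_charDegree hnc (χ := χ) (fun e => hχ (by rw [e]; rfl))
    omega
  have hprime : ∀ {χ : IrrCharacter G} {r : ℕ}, r.Prime → r ∣ charDegree (χ : G → ℂ) → r = p ∨ r = q :=
    fun {χ r} hr hd => h r ⟨hr, _, ⟨χ, rfl⟩, hd⟩
  obtain ⟨g, hg⟩ := exists_ne (1 : G)
  by_cases hpq : ∀ χ : IrrCharacter G, (χ : G → ℂ) ≠ (fun _ => 1) →
      ∀ r : ℕ, r.Prime → r ∣ charDegree (χ : G → ℂ) → r = q
  · obtain ⟨χ, hχ⟩ : ∃ χ : IrrCharacter G, (χ : G → ℂ) ≠ fun _ => 1 := by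
      by_contra hcon
      push Not at hcon
      exact false_of_all_dvd hg Nat.prime_two fun χ hχ => absurd (hcon χ) hχ
    have hq : q.Prime := hpq χ hχ _ (Nat.minFac_prime (hnont χ hχ)) (Nat.minFac_dvd _) ▸
      Nat.minFac_prime (hnont χ hχ)
    exact false_of_all_dvd hg hq fun χ hχ => Or.inr
      (hpq χ hχ _ (Nat.minFac_prime (hnont χ hχ)) (Nat.minFac_dvd _) ▸ Nat.minFac_dvd _)
  push Not at hpq
  obtain ⟨χ₀, hχ₀, r, hr, hrd, hrq⟩ := hpq
  obtain rfl : r = p := (hprime hr hrd).resolve_right hrq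
  have hpG : r ∣ Nat.card G := Small.Gap.dvd_card_of_mem_degreePrimes ⟨hr, _, ⟨χ₀, rfl⟩, hrd⟩
  haveI : Fact r.Prime := ⟨hr⟩
  obtain ⟨P⟩ : Nonempty (Sylow r G) := inferInstance
  haveI : Nontrivial (P : Subgroup G) :=
    (P : Subgroup G).nontrivial_iff_ne_bot.2 fun hbot => by
      have := P.dvd_card_of_dvd_card hpG
      rw [hbot, Subgroup.card_bot] at this
      exact hr.one_lt.ne' (Nat.dvd_one.1 this)
  haveI := P.2.center_nontrivial
  obtain ⟨⟨z, hz⟩, hz1⟩ := exists_ne (1 : Subgroup.center (P : Subgroup G))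
  have hzg : (z : G) ≠ 1 := fun e => hz1 (Subtype.ext (Subtype.ext e))
  have hcl : ¬ r ∣ (classFinset (z : G)).card := by
    have hle : (P : Subgroup G) ≤ Subgroup.centralizer ({(z : G)} : Set G) := fun x hx =>
      Subgroup.mem_centralizer_singleton_iff.2
        (congrArg Subtype.val (Subgroup.mem_center_iff.1 hz ⟨x, hx⟩))
    rw [card_classFinset]
    exact fun hd => P.not_dvd_index (hd.trans (Subgroup.index_dvd_of_le hle))
  by_cases hq : q.Prime
  · refine false_of_all_dvd hzg hq fun χ hχ => ?_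
    by_cases hqd : q ∣ charDegree (χ : G → ℂ)
    · exact Or.inr hqd
    refine Or.inl (eq_zero_of_coprime hna hzg hχ ?_)
    refine Nat.coprime_of_dvd fun s hs hsd hsc => ?_
    rcases hprime hs hsd with rfl | rfl
    · exact hcl hsc
    · exact hqd hsd
  · refine false_of_all_dvd hzg Nat.prime_two fun χ hχ => Or.inl ?_
    refine eq_zero_of_coprime hna hzg hχ (Nat.coprime_of_dvd fun s hs hsd hsc => ?_)
    rcases hprime hs hsd with rfl | rfl
    · exact hcl hsc
    · exact hq hs

/-- Two primes cannot cover the degrees of a nonsolvable group. -/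
theorem not_two (p q : ℕ) : ∀ (n : ℕ) (G : Type u) [Group G] [Finite G], Nat.card G ≤ n →
    ¬ Group.IsSolvable G → (∀ r ∈ degreePrimes G, r = p ∨ r = q) → False := by
  intro n
  induction n with
  | zero =>
    intro G _ _ hn
    have := Nat.card_pos (α := G)
    omega
  | succ n ih =>
    intro G _ _ hn hns h
    haveI := Fintype.ofFinite G
    by_cases hN : ∃ N : Subgroup G, N.Normal ∧ N ≠ ⊥ ∧ N ≠ ⊤
    · obtain ⟨N, hNn, hb, ht⟩ := hN
      haveI := hNn
      haveI := Fintype.ofFinite N
      have h1 := N.card_mul_index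
      have h2 : 1 < Nat.card N := (Subgroup.one_lt_card_iff_ne_bot _).2 hb
      have h3 : 1 < N.index := by
        have := Subgroup.index_ne_zero_of_finite (H := N)
        have : N.index ≠ 1 := fun e => ht (Subgroup.index_eq_one.1 e)
        omega
      by_cases hNs : Group.IsSolvable N
      · refine ih (G ⧸ N) ?_ (fun hQ => hns ?_) fun r hr => h r ?_
        · rw [← Subgroup.index_eq_card]; nlinarith
        · exact (Group.isSolvable_iff_subgroup_quotient N).2 ⟨hNs, hQ⟩
        · obtain ⟨hr1, d, hd, hrd⟩ := hr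
          exact ⟨hr1, d, Small.Gap.mem_charDegrees_of_surjective (QuotientGroup.mk'_surjective N) hd, hrd⟩
      · refine ih N (by nlinarith) hNs fun r hr => h r ?_
        obtain ⟨hr1, d, ⟨φ, rfl⟩, hrd⟩ := hr
        obtain ⟨η, hη⟩ := Small.Gap.exists_dvd_over N φ
        exact ⟨hr1, _, ⟨η, rfl⟩, hrd.trans hη⟩
    · push Not at hN
      haveI : Nontrivial G := by
        by_contra hcon
        rw [not_nontrivial_iff_subsingleton] at hcon
        exact hns inferInstance
      haveI : IsSimpleGroup G := ⟨fun N hn => or_iff_not_imp_left.2 fun hb => hN N hn hb⟩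
      refine simple_not_two (fun hc => hns ?_) p q h
      letI : CommGroup G := { ‹Group G› with mul_comm := hc }
      infer_instance

end Cfsg.Lib.Char.ThreePrimes
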