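import Mathlib.GroupTheory.Transfer
import Mathlib.GroupTheory.SpecificGroups.Quaternion
import Cfsg.Prelude.Def_Transfer
import Cfsg.Agent.Lib.Core.Cores
import Cfsg.Agent.Lib.Core.Layer
import Cfsg.Agent.Lib.Fusion.Basic
import Cfsg.Agent.Lib.Solv.FixedPointFree
import Cfsg.Agent.Lib.Local.CNSolvable

/-!
# Solvable linear groups transitive on nonzero vectors with `p`-group point stabilisers
-/

set_option autoImplicit false
set_option linter.unusedSectionVars false
set_option linter.style.haveILetI false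

namespace Cfsg.Lib.Char.TwoClassCore

open Cfsg Subgroup

universe u v

theorem mulAut_commute_of_isCyclic {Q : Type u} [Group Q] (hQ : IsCyclic Q) (f g : MulAut Q) :
    Commute f g := by
  obtain ⟨z, hz⟩ := hQ.exists_generator
  refine MulEquiv.ext fun y => ?_
  obtain ⟨i, rfl⟩ := mem_zpowers_iff.1 (hz y)
  obtain ⟨j, hj⟩ := mem_zpowers_iff.1 (hz (f z))
  obtain ⟨k, hk⟩ := mem_zpowers_iff.1 (hz (g z))
  simp only [MulAut.mul_apply, map_zpow]
  rw [← hk, map_zpow, ← hj, map_zpow, ← hk]
  simp only [← zpow_mul]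
  congr 1; ring

/-- An automorphism of coprime order fixing an index two cyclic `2`-subgroup is trivial. -/
theorem aut_eq_one {Q : Type u} [Group Q] [Finite Q] (σ : MulAut Q) {m : ℕ} (hm : Odd m)
    (hσm : σ ^ m = 1) {a : Q} {k : ℕ} (ha : orderOf a = 2 ^ k) (hidx : (zpowers a).index = 2)
    (hfix : σ a ∈ zpowers a) : σ = 1 := by
  have hcop : ∀ j, Nat.Coprime m (2 ^ j) := fun j =>
    Nat.Coprime.pow_right j (Nat.coprime_two_right.2 hm)
  have hiter : ∀ (y : Q), (σ ^ m) y = y := fun y => by rw [hσm, MulAut.one_apply]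
  obtain ⟨i, hi⟩ := mem_powers_iff_mem_zpowers.2 hfix
  simp only at hi
  have hpow : ∀ t : ℕ, (σ ^ t) a = a ^ i ^ t := by
    intro t
    induction t with
    | zero => simp
    | succ t ih => rw [pow_succ', MulAut.mul_apply, ih, map_pow, ← hi, ← pow_mul, pow_succ']
  have hσa : σ a = a := by
    have h1 : a ^ i ^ m = a ^ 1 := by rw [← hpow, hiter, pow_one]
    rw [pow_eq_pow_iff_modEq, ha, ← ZMod.natCast_eq_natCast_iff, Nat.cast_pow, Nat.cast_one] at h1
    obtain ⟨u, hu⟩ := IsUnit.of_pow_eq_one h1 (by rintro rfl; exact absurd hm (by decide))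
    have hu1 : u ^ m = 1 := Units.ext (by rw [Units.val_pow_eq_pow_val, hu, h1, Units.val_one])
    have hu2 : u = 1 := by
      rw [← orderOf_eq_one_iff]
      refine Nat.eq_one_of_dvd_coprimes (hcop k) (orderOf_dvd_of_pow_eq_one hu1) ?_
      haveI : NeZero (2 ^ k) := ⟨by positivity⟩
      refine (orderOf_dvd_card (x := u)).trans ?_
      rw [ZMod.card_units_eq_totient]
      rcases Nat.eq_zero_or_pos k with rfl | hk
      · simp
      · rw [Nat.totient_prime_pow Nat.prime_two hk, show 2 - 1 = 1 from rfl, mul_one]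
        exact pow_dvd_pow 2 (Nat.sub_le k 1)
    have h2 : (i : ZMod (2 ^ k)) = ((1 : ℕ) : ZMod (2 ^ k)) := by
      rw [← hu, hu2, Units.val_one, Nat.cast_one]
    rw [ZMod.natCast_eq_natCast_iff, ← ha, ← pow_eq_pow_iff_modEq] at h2
    rw [← hi, h2, pow_one]
  refine MulEquiv.ext fun y => ?_
  rw [MulAut.one_apply]
  by_cases hy : y ∈ zpowers a
  · obtain ⟨l, rfl⟩ := mem_zpowers_iff.1 hy
    rw [map_zpow, hσa]
  have hσy : σ y ∉ zpowers a := by
    intro h
    obtain ⟨l, hl⟩ := mem_zpowers_iff.1 h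
    apply hy
    have : y = a ^ l := σ.injective (by rw [map_zpow, hσa, hl])
    rw [this]; exact zpow_mem (mem_zpowers a) l
  have hd : y⁻¹ * σ y ∈ zpowers a := by
    rw [mul_mem_iff_of_index_two hidx, inv_mem_iff]
    exact iff_of_false hy hσy
  obtain ⟨j, hj⟩ := mem_powers_iff_mem_zpowers.2 hd
  simp only at hj
  have hy' : ∀ t : ℕ, (σ ^ t) y = y * a ^ (j * t) := by
    intro t
    induction t with
    | zero => simp
    | succ t ih =>
      rw [pow_succ', MulAut.mul_apply, ih, map_mul, map_pow, hσa,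
        show σ y = y * a ^ j by rw [hj, mul_inv_cancel_left], mul_assoc, ← pow_add]
      congr 2
      ring
  have h1 : y * a ^ (j * m) = y := by rw [← hy', hiter]
  rw [mul_eq_left, ← orderOf_dvd_iff_pow_eq_one, ha] at h1
  have h2 : a ^ j = 1 := by
    rw [← orderOf_dvd_iff_pow_eq_one, ha]
    exact ((hcop k).symm).dvd_of_dvd_mul_right h1
  rw [hj] at h2
  exact (inv_mul_eq_one.1 h2).symm

theorem quaternion_two_cases : ∀ y : QuaternionGroup 2,
    ∃ i : Fin 4, y = QuaternionGroup.a 1 ^ (i : ℕ) ∨ y = QuaternionGroup.xa 0 ^ (i : ℕ) ∨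
      y = QuaternionGroup.xa 1 ^ (i : ℕ) := by
  decide

/-- An odd `p`-power order automorphism of a quaternion group is trivial, unless `p = 3` and the
group has order eight. -/
theorem quaternion_aut {Q : Type u} [Group Q] [Finite Q] {n : ℕ} (hn : 1 ≤ n)
    (e : Q ≃* QuaternionGroup (2 ^ n)) {p : ℕ} [hp : Fact p.Prime] (hp2 : p ≠ 2) (σ : MulAut Q)
    {j : ℕ} (hσ : σ ^ p ^ j = 1) : σ = 1 ∨ (p = 3 ∧ n = 1) := by
  by_cases hbad : p = 3 ∧ n = 1
  · exact Or.inr hbad
  left
  haveI : NeZero (2 ^ n) := ⟨by positivity⟩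
  set a := e.symm (QuaternionGroup.a 1) with hadef
  have ha : orderOf a = 2 ^ (n + 1) := by
    rw [hadef, MulEquiv.orderOf_eq, QuaternionGroup.orderOf_a_one, pow_succ']
  have hcard : Nat.card Q = 4 * 2 ^ n := by
    rw [Nat.card_congr e.toEquiv, Nat.card_eq_fintype_card, QuaternionGroup.card]
  have hidx : (zpowers a).index = 2 := by
    have h1 := (zpowers a).card_mul_index
    rw [Nat.card_zpowers, ha, hcard] at h1
    refine Nat.eq_of_mul_eq_mul_left (show 0 < 2 ^ (n + 1) by positivity) ?_
    rw [h1]; ring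
  have hm : Odd (p ^ j) := (hp.out.odd_of_ne_two hp2).pow
  refine aut_eq_one σ hm hσ ha hidx ?_
  rcases Nat.lt_or_ge n 2 with h2 | h2
  · obtain rfl : n = 1 := by omega
    have hp5 : 3 < p := by
      have := hp.out.two_le
      rcases lt_trichotomy p 3 with h | h | h
      · omega
      · exact absurd ⟨h, rfl⟩ hbad
      · exact h
    let T := {K : Subgroup Q // ∃ y : Q, orderOf y = 4 ∧ K = zpowers y}
    let f : MulAut Q →* Equiv.Perm T :=
      { toFun := fun τ =>
          { toFun := fun K => ⟨K.1.map τ.toMonoidHom, by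
              obtain ⟨y, hy, hK⟩ := K.2
              exact ⟨τ y, by rw [MulEquiv.orderOf_eq, hy], by rw [hK, MonoidHom.map_zpowers]; rfl⟩⟩
            invFun := fun K => ⟨K.1.map (τ⁻¹).toMonoidHom, by
              obtain ⟨y, hy, hK⟩ := K.2
              exact ⟨τ⁻¹ y, by rw [MulEquiv.orderOf_eq, hy],
                by rw [hK, MonoidHom.map_zpowers]; rfl⟩⟩
            left_inv := fun K => Subtype.ext (by
              show (K.1.map τ.toMonoidHom).map (τ⁻¹).toMonoidHom = K.1
              rw [map_map]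
              convert K.1.map_id using 2
              ext y; exact τ.symm_apply_apply y)
            right_inv := fun K => Subtype.ext (by
              show (K.1.map (τ⁻¹).toMonoidHom).map τ.toMonoidHom = K.1
              rw [map_map]
              convert K.1.map_id using 2
              ext y; exact τ.apply_symm_apply y) }
        map_one' := Equiv.ext fun K => Subtype.ext (by
          show K.1.map (1 : MulAut Q).toMonoidHom = K.1
          exact K.1.map_id)
        map_mul' := fun s t => Equiv.ext fun K => Subtype.ext (by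
          show K.1.map (s * t).toMonoidHom = (K.1.map t.toMonoidHom).map s.toMonoidHom
          rw [map_map]; rfl) }
    let g : Fin 3 → Subgroup Q :=
      ![zpowers a, zpowers (e.symm (QuaternionGroup.xa 0)), zpowers (e.symm (QuaternionGroup.xa 1))]
    have hT : Nat.card T ≤ 3 := by
      have hex : ∀ K : T, ∃ i : Fin 3, g i = K.1 := by
        rintro ⟨K, y, hy, rfl⟩
        have key : ∀ t : Q, orderOf t = 4 → ∀ i : ℕ, y = t ^ i → zpowers t = zpowers y := by
          intro t ht i hyt
          refine (eq_of_le_of_card_ge (zpowers_le.2 (hyt ▸ npow_mem_zpowers t i)) ?_).symm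
          rw [Nat.card_zpowers, Nat.card_zpowers, ht, hy]
        obtain ⟨i, hc | hc | hc⟩ := quaternion_two_cases (e y)
        · refine ⟨0, key a (by rw [ha]; norm_num) i ?_⟩
          rw [hadef, ← map_pow, ← hc, MulEquiv.symm_apply_apply]
        · refine ⟨1, key _ (by rw [MulEquiv.orderOf_eq, QuaternionGroup.orderOf_xa]) i ?_⟩
          rw [← map_pow, ← hc, MulEquiv.symm_apply_apply]
        · refine ⟨2, key _ (by rw [MulEquiv.orderOf_eq, QuaternionGroup.orderOf_xa]) i ?_⟩
          rw [← map_pow, ← hc, MulEquiv.symm_apply_apply]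
      choose h hh using hex
      have := Nat.card_le_card_of_injective h fun x y hxy =>
        Subtype.ext (by rw [← hh x, ← hh y, hxy])
      simpa using this
    have h1 : f σ = 1 := Cfsg.Lib.PGroup.OrderType.map_eq_one_of_small f hp.out
      (lt_of_le_of_lt hT hp5) (k := j) (orderOf_dvd_of_pow_eq_one hσ)
    have h3 := congrArg (fun π : Equiv.Perm T =>
      (π ⟨zpowers a, a, by rw [ha]; norm_num, rfl⟩).1) h1
    change (zpowers a).map σ.toMonoidHom = zpowers a at h3
    rw [← h3]
    exact ⟨a, mem_zpowers a, rfl⟩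
  · have hall : ∀ y : Q, orderOf y = 2 ^ (n + 1) → y ∈ zpowers a := by
      intro y hy
      rcases hey : e y with i | i
      · rw [← e.symm_apply_apply y, hey, ← ZMod.natCast_zmod_val i, ← QuaternionGroup.a_one_pow,
          map_pow]
        exact npow_mem_zpowers a _
      · exfalso
        rw [← MulEquiv.orderOf_eq e, hey, QuaternionGroup.orderOf_xa] at hy
        have h8 : 2 ^ 3 ≤ 2 ^ (n + 1) := Nat.pow_le_pow_right (by norm_num) (by omega)
        omega
    exact hall _ (by rw [MulEquiv.orderOf_eq, ha])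

section Action

variable {A : Type u} [Group A] [Finite A] {V : Type v} [CommGroup V] [Finite V] {p : ℕ}
  [hp : Fact p.Prime]

/-- The case of a normal quaternion subgroup of order eight in characteristic three. -/
theorem card_eq_nine (φ : A →* MulAut V) (hexp : ∀ v : V, v ^ 3 = 1) [Nontrivial V]
    (htrans : ∀ v w : V, v ≠ 1 → w ≠ 1 → ∃ g : A, φ g v = w) (Q : Subgroup A) [Q.Normal]
    (hfpf : ∀ g ∈ Q, g ≠ 1 → ∀ v : V, φ g v = v → v = 1) (e : Q ≃* QuaternionGroup 2) :
    Nat.card V = 9 := by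
  set qa : Q := e.symm (QuaternionGroup.a 1) with hqa
  set qb : Q := e.symm (QuaternionGroup.xa 0) with hqb
  set qz : Q := e.symm (QuaternionGroup.a 2) with hqz
  have hrel1 : qa * qa = qz ∧ qb * qb = qz ∧ qa * qb = qz * (qb * qa) := by
    simp only [hqa, hqb, hqz, ← map_mul]
    refine ⟨congrArg _ ?_, congrArg _ ?_, congrArg _ ?_⟩ <;> decide
  have hz2 : qz * qz = 1 ∧ qz ≠ 1 := by
    refine ⟨?_, fun h => ?_⟩
    · rw [hqz, ← map_mul, show (QuaternionGroup.a 2 : QuaternionGroup 2) * QuaternionGroup.a 2 = 1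
        by decide, map_one]
    · rw [hqz, MulEquiv.map_eq_one_iff] at h
      exact absurd h (by decide)
  set α := φ (qa : A)
  set β := φ (qb : A)
  have hinv : ∀ v : V, φ (qz : A) v = v⁻¹ := fun v => by
    have h1 : φ (qz : A) (v * φ (qz : A) v) = v * φ (qz : A) v := by
      rw [map_mul, ← MulAut.mul_apply, ← map_mul, ← Subgroup.coe_mul, hz2.1, Subgroup.coe_one,
        map_one, MulAut.one_apply, mul_comm]
    have h2 := hfpf _ qz.2 (fun h => hz2.2 (Subtype.ext h)) _ h1
    exact eq_inv_of_mul_eq_one_right h2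
  have hαα : ∀ v, α (α v) = v⁻¹ := fun v => by
    rw [← hinv, ← MulAut.mul_apply, ← map_mul, ← Subgroup.coe_mul, hrel1.1]
  have hββ : ∀ v, β (β v) = v⁻¹ := fun v => by
    rw [← hinv, ← MulAut.mul_apply, ← map_mul, ← Subgroup.coe_mul, hrel1.2.1]
  have hab : ∀ v, α (β v) = (β (α v))⁻¹ := fun v => by
    rw [← hinv]
    simp only [α, β, ← MulAut.mul_apply, ← map_mul, ← Subgroup.coe_mul, hrel1.2.2, mul_assoc]
  have h3 : ∀ v : V, v⁻¹ = v * v := fun v => by
    refine inv_eq_of_mul_eq_one_left ?_
    rw [← hexp v, pow_succ, pow_two]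
  -- the involution and the map exchanging its eigenspaces
  let ev : V → V := fun v => α v * β v
  let c : V → V := fun v => α (β v)
  have hev_mul : ∀ v w, ev (v * w) = ev v * ev w := fun v w => by
    simp only [ev, map_mul]; exact mul_mul_mul_comm _ _ _ _
  have hev_inv : ∀ v, ev v⁻¹ = (ev v)⁻¹ := fun v => by
    simp only [ev, map_inv, mul_inv]
  have hee : ∀ v, ev (ev v) = v := fun v => by
    simp only [ev, map_mul, hαα, hββ, hab]
    rw [show v⁻¹ * (β (α v))⁻¹ * (β (α v) * v⁻¹) = v⁻¹ * v⁻¹ by group, ← h3, inv_inv]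
  have hec : ∀ v, ev v = v → ev (c v) = (c v)⁻¹ := by
    intro v hv
    have h1 : α (c v) = (β v)⁻¹ := hαα _
    have h2 : β (c v) = α v := by
      simp only [c]; rw [hab, map_inv, hββ, inv_inv]
    have h4 : c v = α (α v) * α (β v) * v := by
      rw [hαα]; simp only [c]; rw [mul_comm v⁻¹, inv_mul_cancel_right]
    calc ev (c v) = (β v)⁻¹ * α v := by simp only [ev, h1, h2]
      _ = (c v)⁻¹ := by
        rw [h4, ← map_mul, show α v * β v = v from hv]
        have hβ : β v = (α v)⁻¹ * v := by
          rw [eq_inv_mul_iff_mul_eq]; exact hv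
        rw [hβ, mul_inv, inv_inv, mul_inv, h3 (α v)]
        simp [mul_comm, mul_left_comm]
  have hc2 : ∀ v, c (c v) = v⁻¹ := fun v => by
    simp only [c]; rw [hab (α (β v)), hαα, map_inv, hββ, inv_inv]
  have hcinj : ∀ v, c v = 1 → v = 1 := fun v h => by
    have h5 := hc2 v
    rw [h, show c 1 = 1 by simp [c]] at h5
    exact inv_eq_one.1 h5.symm
  obtain ⟨v, hv1, hvev⟩ : ∃ v : V, v ≠ 1 ∧ ev v = v := by
    obtain ⟨w, hw⟩ := exists_ne (1 : V)
    by_cases h : w * ev w = 1
    · have h5 : ev w⁻¹ = w⁻¹⁻¹ := by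
        rw [hev_inv, inv_inv]
        exact inv_eq_of_mul_eq_one_left h
      have h6 : ev (c w) = c w := by
        simp only [ev, c]
        rw [hαα, show β (α (β w)) = α w from by rw [hab, map_inv, hββ, inv_inv]]
        have h7 : α w * β w = w⁻¹ := eq_inv_of_mul_eq_one_right h
        have h8 := congrArg α h7
        rw [map_mul, hαα, map_inv] at h8
        have h9 : α (β w) = (α w)⁻¹ * w := by
          rw [← h8, mul_comm w⁻¹, mul_assoc, inv_mul_cancel, mul_one]
        rw [h9, show β w = (α w)⁻¹ * w⁻¹ by rw [← h7, inv_mul_cancel_left]]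
        rw [mul_inv, inv_inv, inv_inv, h3 (α w)]
        simp [mul_comm, mul_left_comm]
      exact ⟨c w, fun h' => hw (hcinj w h'), h6⟩
    · refine ⟨w * ev w, h, ?_⟩
      rw [hev_mul, hee, mul_comm]
  -- the nine element subgroup of `v`
  set W := closure ({v, c v} : Set V) with hW
  have hvW : v ∈ W := subset_closure (Or.inl rfl)
  have hcW : c v ∈ W := subset_closure (Or.inr rfl)
  have hβv : β v = (α v)⁻¹ * v := by rw [eq_inv_mul_iff_mul_eq]; exact hvev
  have hαv : α v ∈ W := by
    have h8 := congrArg α hvev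
    simp only [ev, map_mul, hαα] at h8
    -- `α v = v⁻¹ * c v`
    rw [← h8]
    exact W.mul_mem (W.inv_mem hvW) hcW
  have hβv' : β v ∈ W := hβv ▸ W.mul_mem (W.inv_mem hαv) hvW
  have hQW : ∀ g ∈ Q, ∀ y ∈ W, φ g y ∈ W := by
    have hA : ∀ y ∈ W, α y ∈ W ∧ β y ∈ W := by
      intro y hy
      induction hy using closure_induction with
      | mem x hx =>
        rcases hx with rfl | rfl
        · exact ⟨hαv, hβv'⟩
        · simp only [c]
          rw [hαα, hab, map_inv, hββ, inv_inv]
          exact ⟨W.inv_mem hβv', hαv⟩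
      | one => simp [W.one_mem]
      | mul x y _ _ hx hy => exact ⟨by rw [map_mul]; exact W.mul_mem hx.1 hy.1,
          by rw [map_mul]; exact W.mul_mem hx.2 hy.2⟩
      | inv x _ hx => exact ⟨by rw [map_inv]; exact W.inv_mem hx.1,
          by rw [map_inv]; exact W.inv_mem hx.2⟩
    intro g hg y hy
    have hgen : ∀ x : QuaternionGroup 2, ∃ i j : Fin 4,
        x = QuaternionGroup.a 1 ^ (i : ℕ) * QuaternionGroup.xa 0 ^ (j : ℕ) := by decide
    obtain ⟨i, j, hij⟩ := hgen (e ⟨g, hg⟩)
    have hg' : (⟨g, hg⟩ : Q) = qa ^ (i : ℕ) * qb ^ (j : ℕ) := by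
      rw [hqa, hqb, ← map_pow, ← map_pow, ← map_mul, ← hij, MulEquiv.symm_apply_apply]
    have hg'' : g = (qa : A) ^ (i : ℕ) * (qb : A) ^ (j : ℕ) := by
      have := congrArg Subtype.val hg'
      simpa using this
    have hpowα : ∀ t : ℕ, ∀ x ∈ W, (α ^ t) x ∈ W := by
      intro t
      induction t with
      | zero => simp
      | succ t ih => intro x hx; rw [pow_succ, MulAut.mul_apply]; exact ih _ (hA x hx).1
    have hpowβ : ∀ t : ℕ, ∀ x ∈ W, (β ^ t) x ∈ W := by
      intro t
      induction t with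
      | zero => simp
      | succ t ih => intro x hx; rw [pow_succ, MulAut.mul_apply]; exact ih _ (hA x hx).2
    rw [hg'', map_mul, map_pow, map_pow, MulAut.mul_apply]
    exact hpowα _ _ (hpowβ _ y hy)
  -- the orbit subgroup of a vector
  let L : V → Subgroup V := fun u => closure (Set.range fun g : Q => φ (g : A) u)
  have hLle : Nat.card (L v) ≤ Nat.card W := by
    refine card_le_of_le ((closure_le _).2 ?_)
    rintro _ ⟨g, rfl⟩
    exact hQW g g.2 v hvW
  have hWle : W ≤ closure (Set.range fun i : Fin 9 => v ^ ((i : ℕ) / 3) * c v ^ ((i : ℕ) % 3)) := by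
    refine (closure_le _).2 ?_
    rintro _ (rfl | rfl)
    · exact subset_closure ⟨3, by simp⟩
    · exact subset_closure ⟨1, by simp⟩
  let ψ : Fin 3 × Fin 3 → V := fun x => v ^ (x.1 : ℕ) * c v ^ (x.2 : ℕ)
  have hW9 : Nat.card W ≤ 9 := by
    have hmem : ∀ y ∈ W, ∃ x, ψ x = y := by
      intro y hy
      rw [hW, Set.pair_eq_pair_iff.2 (Or.inl ⟨rfl, rfl⟩), mem_closure_pair] at hy
      obtain ⟨i, j, rfl⟩ := hy
      refine ⟨(⟨(i % 3).toNat, by omega⟩, ⟨(j % 3).toNat, by omega⟩), ?_⟩
      have hz : ∀ (t : V) (i : ℤ), t ^ ((i % 3).toNat) = t ^ i := fun t i => by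
        rw [← zpow_natCast, Int.toNat_of_nonneg (Int.emod_nonneg _ (by norm_num)),
          Int.emod_def, zpow_sub, zpow_mul, zpow_ofNat, hexp, one_zpow, inv_one, mul_one]
      simp only [ψ, hz]
    choose f hf using hmem
    refine (Nat.card_le_card_of_injective (fun y : W => f y y.2) fun y z hyz => ?_).trans ?_
    · exact Subtype.ext (by rw [← hf y y.2, ← hf z z.2]; exact congrArg ψ hyz)
    · simp
  have hL9 : ∀ u : V, u ≠ 1 → Nat.card (L u) ≤ 9 := by
    intro u hu
    obtain ⟨g, rfl⟩ := htrans v u hv1 hu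
    have heq : L (φ g v) = (L v).map (φ g).toMonoidHom := by
      simp only [L, MonoidHom.map_closure]
      congr 1
      ext y
      constructor
      · rintro ⟨q, rfl⟩
        refine ⟨φ (g⁻¹ * q * g) v, ⟨⟨g⁻¹ * q * g, ?_⟩, rfl⟩, ?_⟩
        · simpa using (inferInstance : Q.Normal).conj_mem q q.2 g⁻¹
        · show φ g (φ (g⁻¹ * q * g) v) = φ (q : A) (φ g v)
          rw [← MulAut.mul_apply, ← map_mul, ← MulAut.mul_apply, ← map_mul]
          congr 2; group
      · rintro ⟨_, ⟨q, rfl⟩, rfl⟩
        refine ⟨⟨g * q * g⁻¹, (inferInstance : Q.Normal).conj_mem q q.2 g⟩, ?_⟩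
        show φ (g * q * g⁻¹) (φ g v) = φ g (φ (q : A) v)
        rw [← MulAut.mul_apply, ← map_mul, ← MulAut.mul_apply, ← map_mul]
        congr 2; group
    rw [heq, card_map_of_injective (φ g).injective]
    exact hLle.trans hW9
  have hvcv : c v ∉ zpowers v := by
    intro h
    obtain ⟨i, hi⟩ := mem_zpowers_iff.1 h
    have h5 := hec v hvev
    rw [← hi] at h5
    have h6 : ev (v ^ i) = v ^ i := by
      have : ev (v ^ i) = (ev v) ^ i := map_zpow (MonoidHom.mk' ev hev_mul) v i
      rw [this, hvev]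
    rw [h6] at h5
    have h7 : (v ^ i) * (v ^ i) = 1 := by nth_rewrite 1 [h5]; exact inv_mul_cancel _
    rw [← h3, inv_eq_one, hi] at h7
    exact hv1 (hcinj v h7)
  have ho : ∀ t : V, t ≠ 1 → orderOf t = 3 := fun t ht => orderOf_eq_prime (hexp t) ht
  have hW9' : 9 ≤ Nat.card W := by
    have hlt : zpowers v < W := lt_of_le_of_ne (zpowers_le.2 hvW) fun h => hvcv (h ▸ hcW)
    have hd : Nat.card (zpowers v) ∣ Nat.card W := card_dvd_of_le hlt.le
    haveI : Fact (Nat.Prime 3) := ⟨Nat.prime_three⟩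
    have hWp : IsPGroup 3 W := fun x => ⟨1, Subtype.ext (by simpa using hexp x)⟩
    obtain ⟨k, hk⟩ := IsPGroup.iff_card.1 hWp
    rw [hk]
    refine le_trans (by norm_num) (Nat.pow_le_pow_right (by norm_num : 0 < 3) (?_ : 2 ≤ k))
    by_contra hk2
    have hle : Nat.card W ≤ Nat.card (zpowers v) := by
      rw [hk, Nat.card_zpowers, ho v hv1]
      calc 3 ^ k ≤ 3 ^ 1 := Nat.pow_le_pow_right (by norm_num) (by omega)
        _ = 3 := by norm_num
    exact hlt.ne (eq_of_le_of_card_ge hlt.le hle)
  have hplus : ∀ w : V, ev w = w → w ∈ W := by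
    intro w hw
    by_cases hw1 : v * c w = 1
    · exfalso
      have h5 := congrArg ev hw1
      rw [hev_mul, hvev, hec w hw, show ev 1 = 1 by simp [ev]] at h5
      have h6 : v * v = 1 := by
        calc v * v = (v * c w) * (v * (c w)⁻¹) := by rw [mul_mul_mul_comm, mul_inv_cancel, mul_one]
          _ = 1 := by rw [hw1, h5, mul_one]
      rw [← h3, inv_eq_one] at h6
      exact hv1 h6
    have hgL : ∀ q : Q, φ (q : A) (v * c w) ∈ L (v * c w) := fun q => subset_closure ⟨q, rfl⟩
    have hu : v * c w ∈ L (v * c w) := by simpa using hgL 1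
    have hinvQ : ∀ q : Q, ∀ y ∈ L (v * c w), φ (q : A) y ∈ L (v * c w) := by
      intro q y hy
      induction hy using closure_induction with
      | mem x hx =>
        obtain ⟨r, rfl⟩ := hx
        rw [← MulAut.mul_apply, ← map_mul, ← Subgroup.coe_mul]
        exact hgL (q * r)
      | one => simp
      | mul x y _ _ hx hy => rw [map_mul]; exact mul_mem hx hy
      | inv x _ hx => rw [map_inv]; exact inv_mem hx
    have heu : ev (v * c w) ∈ L (v * c w) := mul_mem (hgL qa) (hgL qb)
    rw [hev_mul, hvev, hec w hw] at heu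
    have hv' : v ∈ L (v * c w) := by
      have h5 := inv_mem (mul_mem hu heu)
      rw [mul_mul_mul_comm, mul_inv_cancel, mul_one, ← h3, inv_inv] at h5
      exact h5
    have hcw' : c w ∈ L (v * c w) := by
      have h5 := mul_mem (inv_mem hv') hu
      rwa [inv_mul_cancel_left] at h5
    have hcinv : ∀ y ∈ L (v * c w), c y ∈ L (v * c w) := fun y hy => hinvQ qa _ (hinvQ qb y hy)
    have hsub : W ≤ L (v * c w) := (closure_le _).2 (by
      rintro _ (rfl | rfl)
      exacts [hv', hcinv _ hv'])
    have heq : W = L (v * c w) := eq_of_le_of_card_ge hsub ((hL9 _ hw1).trans hW9')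
    rw [heq, ← inv_mem_iff, ← hc2]
    exact hcinv _ hcw'
  have htop : W = ⊤ := by
    refine eq_top_iff.2 fun y _ => ?_
    have h1 : y * ev y ∈ W := hplus _ (by rw [hev_mul, hee, mul_comm])
    have hcW' : ∀ t ∈ W, c t ∈ W := fun t ht => hQW qa qa.2 _ (hQW qb qb.2 t ht)
    have h2 : y * (ev y)⁻¹ ∈ W := by
      have h5 : ev (y * (ev y)⁻¹) = (y * (ev y)⁻¹)⁻¹ := by
        rw [hev_mul, hev_inv, hee, mul_inv, inv_inv, mul_comm]
      by_cases h6 : y * (ev y)⁻¹ = 1
      · rw [h6]; exact W.one_mem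
      have h7 : ev (c (y * (ev y)⁻¹)) = c (y * (ev y)⁻¹) := by
        generalize hz : y * (ev y)⁻¹ = z at h5
        simp only [ev, c]
        rw [hαα, show β (α (β z)) = α z from by rw [hab, map_inv, hββ, inv_inv]]
        have h7 : α z * β z = z⁻¹ := h5
        have h8 := congrArg α h7
        rw [map_mul, hαα, map_inv] at h8
        have h9 : α (β z) = (α z)⁻¹ * z := by
          rw [← h8, mul_comm z⁻¹, mul_assoc, inv_mul_cancel, mul_one]
        rw [h9, show β z = (α z)⁻¹ * z⁻¹ by rw [← h7, inv_mul_cancel_left]]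
        rw [mul_inv, inv_inv, inv_inv, h3 (α z)]
        simp [mul_comm, mul_left_comm]
      have h8 := hcW' _ (hplus _ h7)
      rw [hc2, inv_mem_iff] at h8
      exact h8
    have h4 := inv_mem (mul_mem h1 h2)
    rw [mul_mul_mul_comm, mul_inv_cancel, mul_one, ← h3, inv_inv] at h4
    exact h4
  rw [← Subgroup.card_top (G := V), ← htop]
  omega

/-- A solvable group acting faithfully and transitively on the nontrivial elements of an
elementary abelian `p`-group with `p`-group stabilisers. -/
theorem structure_theorem [Group.IsSolvable A] [Nontrivial V] (φ : A →* MulAut V)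
    (hinj : Function.Injective φ) (hexp : ∀ v : V, v ^ p = 1)
    (htrans : ∀ v w : V, v ≠ 1 → w ≠ 1 → ∃ g : A, φ g v = w)
    (hstab : ∀ v : V, v ≠ 1 → ∀ g : A, φ g v = v → ∃ k, orderOf g = p ^ k) :
    HasNormalPComplement p A ∧ ∀ P : Sylow p A, IsMulCommutative (P : Subgroup A) := by
  have hVp : IsPGroup p V := fun v => ⟨1, by rw [pow_one]; exact hexp v⟩
  obtain ⟨d, hd⟩ := IsPGroup.iff_card.1 hVp
  have hpV : p ∣ Nat.card V := by
    rw [hd]
    refine dvd_pow_self p fun h => ?_
    rw [h, pow_zero] at hd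
    exact absurd hd Finite.one_lt_card.ne'
  have hfixed : ∀ B : Subgroup A, IsPGroup p B → ∃ v : V, v ≠ 1 ∧ ∀ b ∈ B, φ b v = v := by
    intro B hB
    letI : MulAction B V := MulAction.compHom V (φ.comp B.subtype)
    obtain ⟨v, hv, hne⟩ := hB.exists_fixed_point_of_prime_dvd_card_of_fixed_point V hpV
      (a := (1 : V)) (fun b => map_one (φ (b : A)))
    exact ⟨v, fun h => hne h.symm, fun b hb => hv ⟨b, hb⟩⟩
  have hcore : pCore p A = ⊥ := by
    refine eq_bot_iff.2 fun g hg => ?_
    obtain ⟨v, hv, hfix⟩ := hfixed _ (Lib.Core.pCore_isPGroup p A)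
    rw [mem_bot]
    apply hinj
    rw [map_one]
    refine MulEquiv.ext fun w => ?_
    rw [MulAut.one_apply]
    by_cases hw : w = 1
    · rw [hw, map_one]
    obtain ⟨h, rfl⟩ := htrans v w hv hw
    have h1 := hfix (h⁻¹ * g * h) (by
      simpa using (inferInstance : (pCore p A).Normal).conj_mem g hg h⁻¹)
    rw [← MulAut.mul_apply, ← map_mul, show g * h = h * (h⁻¹ * g * h) by group, map_mul,
      MulAut.mul_apply, h1]
  have hfpf : ∀ q : ℕ, q.Prime → q ≠ p → ∀ g ∈ pCore q A, g ≠ 1 → ∀ v : V, φ g v = v → v = 1 := by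
    intro q hq hqp g hg hg1 v hv
    by_contra hv1
    obtain ⟨k, hk⟩ := hstab v hv1 g hv
    haveI := Fact.mk hq
    obtain ⟨i, hi⟩ := IsPGroup.iff_orderOf.1 (Lib.Core.pCore_isPGroup q A) ⟨g, hg⟩
    rw [orderOf_mk] at hi
    refine hg1 (orderOf_eq_one_iff.1 ?_)
    exact Nat.eq_one_of_dvd_coprimes (((Nat.coprime_primes hq hp.out).2 hqp).pow i k)
      hi.dvd hk.dvd
  by_cases hbad : p = 3 ∧ Nonempty (pCore 2 A ≃* QuaternionGroup 2)
  · obtain ⟨rfl, ⟨e⟩⟩ := hbad
    have h9 := card_eq_nine φ hexp htrans (pCore 2 A) (hfpf 2 Nat.prime_two (by norm_num)) e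
    have hQ : Nat.card (pCore 2 A) = 8 := by
      rw [Nat.card_congr e.toEquiv, Nat.card_eq_fintype_card, QuaternionGroup.card]
    obtain ⟨v, hv⟩ := exists_ne (1 : V)
    letI : MulAction A V := MulAction.compHom V φ
    have hstab' : IsPGroup 3 (MulAction.stabilizer A v) := fun g => by
      obtain ⟨k, hk⟩ := hstab v hv g g.2
      exact ⟨k, Subtype.ext (by rw [← hk]; simp [pow_orderOf_eq_one])⟩
    have horb : Nat.card (MulAction.orbit A v) = 8 := by
      have h1 : MulAction.orbit A v = {w : V | w ≠ 1} := by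
        ext w
        constructor
        · rintro ⟨g, rfl⟩ h
          exact hv ((MulEquiv.map_eq_one_iff (φ g)).1 h)
        · intro hw; exact htrans v w hv hw
      rw [h1, Nat.card_coe_set_eq]
      have h2 := Set.ncard_add_ncard_compl ({1} : Set V)
      rw [Set.ncard_singleton, h9] at h2
      have h3 : ({1} : Set V)ᶜ = {w : V | w ≠ 1} := rfl
      rw [h3] at h2
      omega
    obtain ⟨k, hk⟩ := IsPGroup.iff_card.1 hstab'
    have hcardA : Nat.card A = 8 * 3 ^ k := by
      rw [← (MulAction.stabilizer A v).card_mul_index, hk,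
        MulAction.index_stabilizer, ← Nat.card_coe_set_eq, horb, mul_comm]
    refine ⟨Lib.Fusion.hasNormalPComplement_of_normal (pCore 2 A) (by rw [hQ]; norm_num)
      (IsPGroup.of_card (n := k) ?_), fun P => ?_⟩
    · have h1 := (pCore 2 A).card_mul_index
      rw [hQ, hcardA] at h1
      exact Nat.eq_of_mul_eq_mul_left (by norm_num) h1
    · obtain ⟨x, hx, hfix⟩ := hfixed _ P.2
      obtain ⟨y, hy⟩ : ∃ y : V, y ∉ zpowers x := by
        by_contra h
        push Not at h
        have : zpowers x = ⊤ := eq_top_iff.2 fun t _ => h t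
        have h3 := congrArg (fun K : Subgroup V => Nat.card K) this
        simp only [Nat.card_zpowers, card_top, orderOf_eq_prime (hexp x) hx, h9] at h3
        omega
      let f : ↥(P : Subgroup A) → {t : V // t ∉ zpowers x} := fun g => ⟨φ (g : A) y, fun h => hy (by
        obtain ⟨i, hi⟩ := mem_zpowers_iff.1 h
        have : y = x ^ i := (φ (g : A)).injective (by rw [map_zpow, hfix g g.2, hi])
        exact this ▸ zpow_mem (mem_zpowers x) i)⟩
      have hf : Function.Injective f := by
        intro g g' hgg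
        have h1 : φ (g : A) y = φ (g' : A) y := congrArg Subtype.val hgg
        refine Subtype.ext (hinj (MulEquiv.ext fun t => ?_))
        let K : Subgroup V :=
          MonoidHom.eqLocus (φ (g : A)).toMonoidHom (φ (g' : A)).toMonoidHom
        have hK : K = ⊤ := by
          have hlt : zpowers x < K := lt_of_le_of_ne
            (zpowers_le.2 (show φ (g : A) x = φ (g' : A) x by rw [hfix g g.2, hfix g' g'.2]))
            fun h => hy (h ▸ h1)
          obtain ⟨i, hi⟩ := IsPGroup.iff_card.1 (hVp.to_subgroup K)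
          refine eq_top_of_le_card K ?_
          rw [h9, hi]
          have hlt' : Nat.card (zpowers x) < Nat.card K := lt_of_le_of_ne (card_le_of_le hlt.le)
            fun h => hlt.ne (eq_of_le_of_card_ge hlt.le h.ge)
          rw [Nat.card_zpowers, orderOf_eq_prime (hexp x) hx, hi] at hlt'
          have hi2 : 2 ≤ i := by
            by_contra hi2
            have : 3 ^ i ≤ 3 ^ 1 := Nat.pow_le_pow_right (by norm_num) (by omega)
            omega
          exact le_trans (by norm_num) (Nat.pow_le_pow_right (by norm_num : 0 < 3) hi2)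
        exact (hK ▸ mem_top t : t ∈ K)
      have hle := Nat.card_le_card_of_injective f hf
      obtain ⟨i, hi⟩ := IsPGroup.iff_card.1 P.2
      have h6 : Nat.card {t : V // t ∉ zpowers x} = 6 := by
        have h2 := Set.ncard_add_ncard_compl (zpowers x : Set V)
        rw [h9, ← Nat.card_coe_set_eq, ← Nat.card_coe_set_eq] at h2
        have h3 : Nat.card (zpowers x : Set V) = 3 := by
          rw [SetLike.coe_sort_coe, Nat.card_zpowers, orderOf_eq_prime (hexp x) hx]
        rw [h3] at h2
        show Nat.card ((zpowers x : Set V)ᶜ : Set V) = 6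
        omega
      rw [h6, hi] at hle
      have : IsCyclic (P : Subgroup A) := by
        rcases Nat.lt_or_ge i 1 with h | h
        · haveI : Subsingleton (P : Subgroup A) :=
            (Nat.card_eq_one_iff_unique.1 (by rw [hi, show i = 0 by omega, pow_zero])).1
          infer_instance
        · rcases eq_or_lt_of_le h with h | h
          · exact isCyclic_of_prime_card (p := 3) (by rw [hi, ← h, pow_one])
          · have : 3 ^ 2 ≤ 3 ^ i := Nat.pow_le_pow_right (by norm_num) h
            omega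
      exact IsCyclic.isMulCommutative
  -- the main case
  have hkey : ∀ x g : A, (∃ j, orderOf x = p ^ j) → ∀ q : ℕ, q.Prime →
      ∀ y ∈ pCore q A, (x * g * x⁻¹ * g⁻¹) * y = y * (x * g * x⁻¹ * g⁻¹) := by
    intro x g ⟨j, hj⟩ q hq y hy
    let Ψ : A →* MulAut (pCore q A) := MulAut.conjNormal
    suffices hcomm : Commute (Ψ x) (Ψ g) by
      have h1 : Ψ (x * g * x⁻¹ * g⁻¹) = 1 := by
        simp only [map_mul, map_inv, hcomm.eq, mul_inv_cancel_right, mul_inv_cancel]
      have h2 : (Ψ (x * g * x⁻¹ * g⁻¹) ⟨y, hy⟩ : A) = y := by rw [h1]; rfl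
      rw [MulAut.conjNormal_apply] at h2
      exact mul_inv_eq_iff_eq_mul.1 h2
    by_cases hqp : q = p
    · subst hqp
      have : Subsingleton (pCore q A) := by rw [hcore]; infer_instance
      exact MulEquiv.ext fun _ => Subsingleton.elim _ _
    haveI := Fact.mk hq
    have hAC : Lib.PGroup.OrderType.AbelianCyclic (pCore q A) := by
      intro B hB
      letI : CommGroup B := { (inferInstance : Group B) with mul_comm := hB.is_comm.comm }
      by_contra hnc
      obtain ⟨r, a, b, hr, ha1, ha, hb, hind⟩ :=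
        Lib.Coprime.exists_two_independent_of_not_isCyclic hnc
      let χ : B →* MulAut V := φ.comp ((pCore q A).subtype.comp B.subtype)
      have hχ : ∀ t : B, t ≠ 1 → ∀ v : V, χ t v = v → v = 1 := fun t ht v h =>
        hfpf q hq hqp _ (t : pCore q A).2 (fun h' => ht (Subtype.ext (Subtype.ext h'))) v h
      obtain ⟨v, hv⟩ := exists_ne (1 : V)
      have hvr := Lib.Solv.pow_eq_one_of_commuting_fpf χ hχ (Commute.all a b) hr ha hb
        (fun i l hi hl h => ?_) v
      · have hrB : r ∣ Nat.card B := by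
          haveI := Fact.mk hr
          exact (orderOf_eq_prime ha ha1) ▸ orderOf_dvd_natCard a
        have hd := Nat.dvd_gcd ((orderOf_dvd_of_pow_eq_one hvr).trans hrB) (orderOf_dvd_natCard v)
        rw [Lib.Solv.coprime_of_fpf_hom χ hχ, Nat.dvd_one, orderOf_eq_one_iff] at hd
        exact hv hd
      · haveI := Fact.mk hr
        have hl0 : l = 0 := by
          by_contra hl0
          apply hind
          have hbl : b ^ l ∈ zpowers a := by
            rw [eq_inv_of_mul_eq_one_right h]
            exact inv_mem (npow_mem_zpowers a i)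
          have hcop : l.Coprime (orderOf b) := ((hr.coprime_iff_not_dvd.2 fun hd' => absurd
            (Nat.le_of_dvd (Nat.pos_of_ne_zero hl0) hd') (by omega)).symm).coprime_dvd_right
            (orderOf_dvd_of_pow_eq_one hb)
          obtain ⟨m, hm⟩ := exists_pow_eq_self_of_coprime hcop
          rw [← hm]
          exact pow_mem hbl m
        refine ⟨?_, hl0⟩
        rw [hl0, pow_zero, mul_one] at h
        by_contra hi0
        have := Nat.le_of_dvd (Nat.pos_of_ne_zero hi0)
          ((orderOf_eq_prime ha ha1) ▸ orderOf_dvd_of_pow_eq_one h)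
        omega
    rcases Lib.Local.CN.isCyclic_or_quaternion_of_abelianCyclic hAC
      (Lib.Core.pCore_isPGroup q A) with hc | ⟨rfl, n, ⟨e⟩⟩
    · exact mulAut_commute_of_isCyclic hc _ _
    by_cases hn : n = 0
    · subst hn
      refine mulAut_commute_of_isCyclic ?_ _ _
      exact e.isCyclic.2 (QuaternionGroup.quaternionGroup_one_isCyclic)
    have hp2 : p ≠ 2 := Ne.symm hqp
    rcases quaternion_aut (Nat.pos_of_ne_zero hn) e hp2 (Ψ x) (j := j)
        (by rw [← map_pow, ← hj, pow_orderOf_eq_one, map_one]) with h | ⟨h3, h1⟩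
    · rw [h]; exact Commute.one_left _
    · subst h1
      exact absurd ⟨h3, ⟨e⟩⟩ hbad
  set R := pPrimeCore p A with hR
  have hFR : fittingSubgroup A ≤ R := by
    rw [Lib.Core.fittingSubgroup_eq_iSup_pCore]
    refine iSup_le fun q => ?_
    by_cases hqp : (q : ℕ) = p
    · rw [hqp, hcore]; exact bot_le
    · refine Lib.Core.le_pPrimeCore ?_
      haveI := Fact.mk q.2
      obtain ⟨i, hi⟩ := IsPGroup.iff_card.1 (Lib.Core.pCore_isPGroup (q : ℕ) A)
      rw [hi]
      exact ((Nat.coprime_primes q.2 hp.out).2 hqp).pow_left i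
  have hcom : ∀ x g : A, (∃ j, orderOf x = p ^ j) → x * g * x⁻¹ * g⁻¹ ∈ R := by
    intro x g hx
    refine hFR (Lib.Core.centralizer_fitting_le_of_isSolvable ?_)
    rw [mem_centralizer_iff]
    intro y hy
    have hle : fittingSubgroup A ≤ centralizer ({x * g * x⁻¹ * g⁻¹} : Set A) := by
      rw [Lib.Core.fittingSubgroup_eq_iSup_pCore]
      exact iSup_le fun q t ht => mem_centralizer_singleton_iff.2 (hkey x g hx q q.2 t ht).symm
    exact mem_centralizer_singleton_iff.1 (hle hy)
  have hordP : ∀ P : Sylow p A, ∀ x ∈ (P : Subgroup A), ∃ j, orderOf x = p ^ j := fun P x hx => by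
    obtain ⟨j, hj⟩ := IsPGroup.iff_orderOf.1 P.2 ⟨x, hx⟩
    exact ⟨j, by rwa [orderOf_mk] at hj⟩
  have hRcop := Lib.Core.pPrimeCore_coprime p A
  refine ⟨?_, fun P => ⟨⟨fun x y => ?_⟩⟩⟩
  · let P : Sylow p A := Classical.arbitrary _
    let Pb : Sylow p (A ⧸ R) := P.mapSurjective (QuotientGroup.mk'_surjective R)
    have hcentral : ∀ z ∈ (Pb : Subgroup (A ⧸ R)), ∀ t, t * z = z * t := by
      intro z hz t
      obtain ⟨x, hx, rfl⟩ := hz
      obtain ⟨g, rfl⟩ := QuotientGroup.mk'_surjective R t
      have h := (QuotientGroup.eq_one_iff _).2 (hcom x g (hordP P x hx))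
      simp only [QuotientGroup.mk_mul, QuotientGroup.mk_inv, mul_inv_eq_one] at h
      rw [QuotientGroup.mk'_apply, QuotientGroup.mk'_apply]
      exact (mul_inv_eq_iff_eq_mul.1 h).symm
    have hle : normalizer ((Pb : Subgroup (A ⧸ R)) : Set (A ⧸ R)) ≤
        centralizer ((Pb : Subgroup (A ⧸ R)) : Set (A ⧸ R)) := fun t _ =>
      mem_centralizer_iff.2 fun z hz => (hcentral z hz t).symm
    have hK := MonoidHom.ker_transferSylow_isComplement' Pb hle
    set K := (MonoidHom.transferSylow Pb hle).ker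
    haveI : K.Normal := MonoidHom.normal_ker _
    have hKc : (Nat.card K).Coprime p := by
      rw [← hK.index_eq_card, Nat.coprime_comm, hp.out.coprime_iff_not_dvd]
      exact Pb.not_dvd_index
    refine Lib.Fusion.hasNormalPComplement_of_normal (K.comap (QuotientGroup.mk' R)) ?_ ?_
    · rw [Lib.Core.card_comap_eq _ (QuotientGroup.mk'_surjective R), QuotientGroup.ker_mk']
      exact hRcop.mul_left hKc
    · obtain ⟨i, hi⟩ := IsPGroup.iff_card.1 Pb.2
      refine IsPGroup.of_card (n := i) ?_
      rw [← hi, ← hK.symm.index_eq_card]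
      exact index_comap_of_surjective K (QuotientGroup.mk'_surjective R)
  · apply Subtype.ext
    obtain ⟨i, hi⟩ := IsPGroup.iff_card.1 P.2
    have hbot : R ⊓ (P : Subgroup A) = ⊥ :=
      inf_eq_bot_of_coprime (by rw [hi]; exact hRcop.pow_right i)
    have h := mem_bot.1 (hbot ▸ mem_inf.2 ⟨hcom x y (hordP P x x.2),
      mul_mem (mul_mem (mul_mem x.2 y.2) (inv_mem x.2)) (inv_mem y.2)⟩)
    rw [mul_inv_eq_one, mul_inv_eq_iff_eq_mul] at h
    exact h

end Action

end Cfsg.Lib.Char.TwoClassCore
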