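import Cfsg.Agent.Lib.Char.InvariantSylowDegrees
import Cfsg.Agent.Lib.Char.TwoDegrees
import Cfsg.Agent.Lib.Char.Linear
import Mathlib.GroupTheory.SchurZassenhaus

/-!
# Characters of degree prime to `p` all of degree prime to `q`

In a group soluble for both primes this forces a Sylow `q`-subgroup into the `p'`-core.
-/

set_option autoImplicit false
set_option linter.unusedSectionVars false
set_option linter.style.haveILetI false

namespace Cfsg.Lib.Char

open Cfsg
open scoped ComplexConjugate commutatorElement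

universe u

theorem relIndex_dvd_index_of_normal_right {X : Type u} [Group X] [Finite X] (A B : Subgroup X)
    [B.Normal] : A.relIndex B ∣ A.index := by
  have e1 : B.relIndex A = B.relIndex (A ⊔ B) := (Subgroup.relIndex_sup_right (H := A) (K := B)).symm
  have e2 : Nat.card (A ⊓ B : Subgroup X) * A.relIndex B = Nat.card B := by
    rw [← Subgroup.inf_relIndex_right, ← Subgroup.relIndex_bot_left, ← Subgroup.relIndex_bot_left,
      Subgroup.relIndex_mul_relIndex ⊥ _ B bot_le inf_le_right]
  have e3 : Nat.card (A ⊓ B : Subgroup X) * B.relIndex (A ⊔ B) = Nat.card A := by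
    rw [← e1, ← Subgroup.inf_relIndex_left, ← Subgroup.relIndex_bot_left, ← Subgroup.relIndex_bot_left,
      Subgroup.relIndex_mul_relIndex ⊥ _ A bot_le inf_le_left]
  have e4 : Nat.card B * B.relIndex (A ⊔ B) = Nat.card (A ⊔ B : Subgroup X) := by
    rw [← Subgroup.relIndex_bot_left, ← Subgroup.relIndex_bot_left,
      Subgroup.relIndex_mul_relIndex ⊥ _ _ bot_le le_sup_right]
  have e5 : Nat.card A * A.relIndex (A ⊔ B) = Nat.card (A ⊔ B : Subgroup X) := by
    rw [← Subgroup.relIndex_bot_left, ← Subgroup.relIndex_bot_left,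
      Subgroup.relIndex_mul_relIndex ⊥ _ _ bot_le le_sup_left]
  suffices h : A.relIndex B = A.relIndex (A ⊔ B) by
    rw [h]
    exact Subgroup.relIndex_dvd_index_of_le le_sup_left
  refine Nat.eq_of_mul_eq_mul_left (Nat.card_pos (α := A)) ?_
  rw [e5, ← e4, ← e2, ← e3]
  ring

/-- The property passes to a normal `p'`-subgroup with a Sylow `p`-subgroup. -/
theorem DegProp.sup_sylow {p q : ℕ} [Fact p.Prime] {H : Type u} [Group H] [Finite H]
    (h : DegProp p q H) (R : Subgroup H) [R.Normal] (hR : ¬ p ∣ Nat.card R) (P : Sylow p H) :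
    DegProp p q (R ⊔ (P : Subgroup H) : Subgroup H) := by
  classical
  haveI := Fintype.ofFinite H
  set X := R ⊔ (P : Subgroup H) with hX
  intro χ hχp
  letI := Fintype.ofFinite X
  letI := Fintype.ofFinite R
  haveI := Fintype.ofFinite (R.subgroupOf X)
  have hRX : R ≤ X := le_sup_left
  obtain ⟨θ, hθ⟩ := exists_constituent (χ.2.isCharacter.comp (Subgroup.inclusion hRX))
    (by simpa using χ.2.apply_one_ne_zero)
  obtain ⟨h1, h2⟩ := degree_ratio_dvd_index (R.subgroupOf X) χ.2 (isIrrCharacter_resTo R θ.2 hRX)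
    (by rw [classInner_resTo R (θ : R → ℂ) hRX]; exact hθ) χ.2.apply_one_eq_charDegree
    (show resTo R (θ : R → ℂ) X 1 = (charDegree (θ : R → ℂ) : ℂ) from θ.2.apply_one_eq_charDegree)
  have hidx : (R.subgroupOf X).index ∣ Nat.card (P : Subgroup H) := by
    show R.relIndex X ∣ _
    rw [hX, sup_comm, Subgroup.relIndex_sup_right]
    exact Subgroup.relIndex_dvd_card _ _
  obtain ⟨k, hk⟩ := P.isPGroup'.exists_card_eq
  rw [hk] at hidx
  obtain ⟨j, -, hj⟩ := (Nat.dvd_prime_pow Fact.out).1 (h2.trans hidx)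
  have hj0 : j = 0 := by
    by_contra hj0
    refine hχp (((dvd_pow_self p hj0).trans (dvd_of_eq hj.symm)).trans ?_)
    exact Nat.div_dvd_of_dvd h1
  rw [hj0, pow_zero] at hj
  have heq := Nat.eq_of_dvd_of_div_eq_one h1 hj
  have hXp : ¬ p ∣ X.index := fun hd =>
    P.not_dvd_index (hd.trans (Subgroup.index_dvd_of_le le_sup_right))
  obtain ⟨η, hηc, hηp⟩ := Cfsg.Lib.Block.exists_pPrime_over (p := p) hXp χ.2.isCharacter
    χ.2.apply_one_eq_charDegree hχp
  have hle := classInner_res_le R hRX (η.2.isCharacter.comp X.subtype) χ.2 hηc θ.2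
  have hpos : (classInner (fun x : R => (η : H → ℂ) x) (θ : R → ℂ)) ≠ 0 := by
    intro h0
    change _ ≤ (classInner (fun x : R => (η : H → ℂ) x) (θ : R → ℂ)).re at hle
    rw [h0, Complex.zero_re] at hle
    obtain ⟨e, he⟩ := (χ.2.isCharacter.comp (Subgroup.inclusion hRX)).exists_nat_classInner
      θ.2.isCharacter
    rw [show classInner (fun x : R => (χ : X → ℂ) ⟨x, hRX x.2⟩) (θ : R → ℂ) = (e : ℂ) from he,
      Complex.natCast_re] at hle
    exact hθ (by rw [he, show e = 0 by exact_mod_cast le_antisymm hle (Nat.cast_nonneg _), Nat.cast_zero])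
  obtain ⟨h3, -⟩ := degree_ratio_dvd_index R η.2 θ.2 hpos η.2.apply_one_eq_charDegree
    θ.2.apply_one_eq_charDegree
  intro hq
  exact h η hηp ((heq ▸ hq : q ∣ charDegree (θ : R → ℂ)).trans h3)

theorem not_dvd_index_pPrimeCore {p q : ℕ} [Fact p.Prime] [Fact q.Prime] (hpq : p ≠ q) :
    ∀ (c : ℕ) (G : Type u) [Group G] [Finite G], Nat.card G = c → Cfsg.IsPSolvable p G →
      Cfsg.IsPSolvable q G → DegProp p q G → ¬ q ∣ (Cfsg.pPrimeCore p G).index := by
  intro c
  induction c using Nat.strong_induction_on with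
  | _ c ih =>
  intro G _ _ hc hps hqs hprop
  classical
  haveI := Fintype.ofFinite G
  have hp : p.Prime := Fact.out
  have hq : q.Prime := Fact.out
  by_cases hO : Cfsg.pPrimeCore p G = ⊥
  swap
  · haveI : (Cfsg.pPrimeCore p G).Normal := inferInstance
    have h1 := ih _ (by
        rw [← hc, Subgroup.card_eq_card_quotient_mul_card_subgroup (Cfsg.pPrimeCore p G)]
        exact lt_mul_right Nat.card_pos (Subgroup.one_lt_card_iff_ne_bot _ |>.2 hO))
      (G ⧸ Cfsg.pPrimeCore p G) rfl (Cfsg.Lib.Core.isPSolvable_quotient hps _)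
      (Cfsg.Lib.Core.isPSolvable_quotient hqs _) (hprop.quotient _)
    rwa [Cfsg.Lib.Core.pPrimeCore_quotient_eq_bot, Subgroup.index_bot, ← Subgroup.index_eq_card] at h1
  rw [hO, Subgroup.index_bot]
  rcases subsingleton_or_nontrivial G with hG | hG
  · rw [Nat.card_unique]; exact hq.not_dvd_one
  obtain ⟨M, hM⟩ := Cfsg.Lib.Core.exists_isMinNormal_univ (G := G)
  haveI := hM.1
  haveI := Fintype.ofFinite M
  have hMp : IsPGroup p M := (Cfsg.Lib.Core.minimal_normal_of_isPSolvable hps hM).resolve_right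
    fun h => hM.2.1 (le_bot_iff.1 (hO ▸ Cfsg.Lib.Core.le_pPrimeCore' hM.1 h))
  have hMab : IsMulCommutative M := by
    haveI := hMp.isNilpotent
    exact Cfsg.Lib.Core.isMulCommutative_of_minimal_solvable hM inferInstance
  have hMc : ∀ a ∈ M, ∀ b ∈ M, a * b = b * a := fun a ha b hb => setLike_mul_comm ha hb
  obtain ⟨kM, hkM⟩ := hMp.exists_card_eq
  have hqM : ¬ q ∣ Nat.card M := fun hd =>
    hpq ((Nat.prime_dvd_prime_iff_eq hq hp).1 (hq.dvd_of_dvd_pow (hkM ▸ hd))).symm
  -- the preimage of the core of the quotient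
  set π := QuotientGroup.mk' M with hπ
  have hπs : Function.Surjective π := QuotientGroup.mk'_surjective M
  have hW := ih _ (by
      rw [← hc, Subgroup.card_eq_card_quotient_mul_card_subgroup M]
      exact lt_mul_right Nat.card_pos (Subgroup.one_lt_card_iff_ne_bot _ |>.2 hM.2.1))
    (G ⧸ M) rfl (Cfsg.Lib.Core.isPSolvable_quotient hps M) (Cfsg.Lib.Core.isPSolvable_quotient hqs M)
    (hprop.quotient M)
  set R := (Cfsg.pPrimeCore p (G ⧸ M)).comap π with hR
  haveI : R.Normal := Subgroup.Normal.comap inferInstance π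
  have hMR : M ≤ R := QuotientGroup.le_comap_mk' M _
  have hRidx : ¬ q ∣ R.index := by rwa [hR, Subgroup.index_comap_of_surjective _ hπs]
  have hMRp : ¬ p ∣ M.relIndex R := by
    have h1 : M.relIndex R = Nat.card (R.map π) := by
      rw [← Subgroup.relIndex_ker, hπ, QuotientGroup.ker_mk']
    rw [h1, hR, Subgroup.map_comap_eq_self_of_surjective hπs]
    exact Cfsg.Lib.Core.pPrimeCore_not_dvd p _
  have hcardR : Nat.card M * M.relIndex R = Nat.card R := by
    rw [← Subgroup.relIndex_bot_left, ← Subgroup.relIndex_bot_left,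
      Subgroup.relIndex_mul_relIndex ⊥ M R bot_le hMR]
  -- a complement
  obtain ⟨K', hK'⟩ := Subgroup.exists_right_complement'_of_coprime (N := M.subgroupOf R) (by
    rw [Nat.card_congr (Subgroup.subgroupOfEquivOfLe hMR).toEquiv, hkM]
    exact Nat.Coprime.pow_left _ (hp.coprime_iff_not_dvd.2 hMRp))
  set R0 := K'.map R.subtype with hR0
  have hR0R : R0 ≤ R := Subgroup.map_subtype_le _
  have hR0card : Nat.card R0 = M.relIndex R := by
    rw [hR0, Subgroup.card_map_of_injective R.subtype_injective]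
    exact hK'.symm.index_eq_card.symm
  have hR0p : ¬ p ∣ Nat.card R0 := by rwa [hR0card]
  have hcop0 : (Nat.card R0).Coprime (Nat.card M) := by
    rw [hkM]
    exact (Nat.Coprime.pow_left _ (hp.coprime_iff_not_dvd.2 hR0p)).symm
  have hGq : ∀ (_ : ¬ q ∣ Nat.card R0), ¬ q ∣ Nat.card G := by
    intro h0 hd
    rw [← R.card_mul_index, ← hcardR, ← hR0card] at hd
    rcases hq.dvd_mul.1 hd with h1 | h1
    · exact (hq.dvd_mul.1 h1).elim hqM h0
    · exact hRidx h1
  have hnM : ∀ A : Subgroup G, A ≤ Subgroup.normalizer (M : Set G) := fun A => by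
    rw [Subgroup.normalizer_eq_top_iff.2 hM.1]; exact le_top
  have hMsol : Group.IsSolvable M := Group.isSolvable_of_comm fun a b => mul_comm' a b
  have hsupR : M ⊔ R0 = R := by
    refine Subgroup.eq_of_le_of_card_ge (sup_le hMR hR0R) ?_
    rw [Cfsg.Lib.Coprime.card_sup_of_disjoint (hnM R0)
      (Cfsg.Lib.Coprime.disjoint_of_coprime_card hcop0.symm), hR0card, hcardR]
  set Hn := Subgroup.normalizer (R0 : Set G) with hHn
  have hfr : M ⊔ Hn = ⊤ := by
    refine eq_top_iff.2 fun g _ => ?_
    have hle : R0.map (MulAut.conj g).toMonoidHom ≤ M ⊔ R0 := by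
      rw [hsupR]
      rintro _ ⟨x, hx, rfl⟩
      exact (inferInstance : R.Normal).conj_mem x (hR0R hx) g
    obtain ⟨n, hn, he⟩ := Cfsg.Lib.Coprime.exists_conj_of_coprime M R0 _ (hnM R0) hcop0 (Or.inr hMsol)
      hle (Subgroup.card_map_of_injective (MulEquiv.injective _))
    have hmem : n⁻¹ * g ∈ Hn := by
      rw [hHn, Subgroup.mem_normalizer_iff_map_conj_eq]
      have hcomp : (MulAut.conj (n⁻¹ * g) : G →* G) =
          ((MulAut.conj n⁻¹ : G →* G)).comp (MulAut.conj g : G →* G) := by
        ext x; simp [mul_assoc]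
      have hid : ((MulAut.conj n⁻¹ : G →* G)).comp (MulAut.conj n : G →* G) = MonoidHom.id G := by
        ext x; simp [mul_assoc]
      have he' : R0.map (MulAut.conj g : G →* G) = R0.map (MulAut.conj n : G →* G) := he
      rw [hcomp, ← Subgroup.map_map, he', Subgroup.map_map, hid, Subgroup.map_id]
    have := Subgroup.mul_mem_sup hn hmem
    rwa [mul_inv_cancel_left] at this
  -- the fixed points of the complement on `M`
  have hCn : (M ⊓ Subgroup.centralizer (R0 : Set G)).Normal := by
    rw [← Subgroup.normalizer_eq_top_iff, ← top_le_iff, ← hfr]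
    refine sup_le ?_ ?_
    · intro m hm
      rw [Subgroup.mem_normalizer_iff]
      intro x
      constructor
      · intro hx
        rwa [hMc m hm x hx.1, mul_inv_cancel_right]
      · intro hx
        have h1 : x ∈ M := by
          have := mul_mem (mul_mem (inv_mem hm) hx.1) hm
          simpa [mul_assoc] using this
        rwa [hMc m hm x h1, mul_inv_cancel_right] at hx
    · intro h hh
      rw [Subgroup.mem_normalizer_iff]
      intro x
      have hc : ∀ (h : G), h ∈ Hn → ∀ x ∈ M ⊓ Subgroup.centralizer (R0 : Set G),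
          h * x * h⁻¹ ∈ M ⊓ Subgroup.centralizer (R0 : Set G) := by
        intro h hh x hx
        refine Subgroup.mem_inf.2 ⟨hM.1.conj_mem x hx.1 h, Subgroup.mem_centralizer_iff.2 fun r hr => ?_⟩
        have hr' : h⁻¹ * r * h ∈ R0 := by
          have := (Subgroup.mem_normalizer_iff.1 (inv_mem hh) r).1 hr
          rwa [inv_inv] at this
        have e := Subgroup.mem_centralizer_iff.1 hx.2 _ hr'
        calc r * (h * x * h⁻¹) = h * ((h⁻¹ * r * h) * x) * h⁻¹ := by group
          _ = h * x * h⁻¹ * r := by rw [e]; group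
      refine ⟨hc h hh x, fun hx => ?_⟩
      have := hc h⁻¹ (inv_mem hh) _ hx
      simpa [mul_assoc] using this
  rcases hM.2.2 _ hCn inf_le_left with hC | hC
  swap
  · -- the complement is normal, hence trivial
    have hcen : M ≤ Subgroup.centralizer (R0 : Set G) := inf_eq_left.1 hC
    haveI : R0.Normal := by
      rw [← Subgroup.normalizer_eq_top_iff, ← top_le_iff, ← hfr]
      exact sup_le (hcen.trans (Subgroup.centralizer_le_normalizer _)) le_rfl
    have h0 : R0 = ⊥ := le_bot_iff.1 (hO ▸ Cfsg.Lib.Core.le_pPrimeCore' inferInstance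
      (hp.coprime_iff_not_dvd.2 hR0p).symm)
    exact hGq (by rw [h0, Subgroup.card_bot]; exact hq.not_dvd_one)
  have hinf : Hn ⊓ M = ⊥ := by
    rw [eq_bot_iff, ← hC]
    intro m hm
    refine Subgroup.mem_inf.2 ⟨hm.2, Subgroup.mem_centralizer_iff.2 fun r hr => ?_⟩
    have h1 : ⁅m, r⁆ ∈ R0 := by
      rw [commutatorElement_def]
      exact mul_mem ((Subgroup.mem_normalizer_iff.1 hm.1 r).1 hr) (inv_mem hr)
    have h2 : ⁅m, r⁆ ∈ M := by
      rw [commutatorElement_def, mul_assoc, mul_assoc, ← mul_assoc r]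
      exact mul_mem hm.2 (hM.1.conj_mem _ (inv_mem hm.2) r)
    have h3 := Subgroup.disjoint_def.1 (Cfsg.Lib.Coprime.disjoint_of_coprime_card hcop0) h1 h2
    exact (commutatorElement_eq_one_iff_mul_comm.1 h3).symm
  haveI : Fintype Hn := Fintype.ofFinite Hn
  obtain ⟨pr, hprs, hprid, hprM⟩ := exists_projection M Hn hinf (by rw [sup_comm]; exact hfr)
  have hpropH : DegProp p q Hn := fun χ hχ => by
    have e : charDegree (fun g : G => (χ : Hn → ℂ) (pr g)) = charDegree (χ : Hn → ℂ) := by
      simp [charDegree]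
    have := hprop ⟨_, χ.2.comp_surjective pr hprs⟩ (by rwa [e])
    rwa [e] at this
  set B := R0.subgroupOf Hn with hB
  haveI : B.Normal := by rw [hB, hHn]; exact Subgroup.normal_in_normalizer
  have hBcard : Nat.card B = Nat.card R0 :=
    Nat.card_congr (Subgroup.subgroupOfEquivOfLe Subgroup.le_normalizer).toEquiv
  have hBp : ¬ p ∣ Nat.card B := by rwa [hBcard]
  obtain ⟨P0⟩ : Nonempty (Sylow p Hn) := inferInstance
  set X := B ⊔ (P0 : Subgroup Hn) with hX
  have hpropX : DegProp p q X := hpropH.sup_sylow B hBp P0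
  have hPB : (P0 : Subgroup Hn) ≤ Subgroup.normalizer (B : Set Hn) := by
    rw [Subgroup.normalizer_eq_top_iff.2 inferInstance]; exact le_top
  have hcopPB : (Nat.card (P0 : Subgroup Hn)).Coprime (Nat.card B) := by
    rw [P0.card_eq_multiplicity]
    exact Nat.Coprime.pow_left _ (hp.coprime_iff_not_dvd.2 hBp)
  haveI := P0.isPGroup'.isNilpotent
  obtain ⟨Q₀, hQ₀⟩ := Cfsg.Lib.Coprime.exists_invariant_sylow hPB hcopPB (Or.inl inferInstance) q
  set Q := (Q₀ : Subgroup B).map B.subtype with hQdef
  have hQB : Q ≤ B := Subgroup.map_subtype_le _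
  have hQp : IsPGroup q Q := Q₀.2.map _
  have hQin : SylowIn q Q B := by
    refine ⟨hQB, hQp, fun hd => Sylow.not_dvd_index Q₀ ?_⟩
    have e : Q.subgroupOf B = (Q₀ : Subgroup B) :=
      Subgroup.comap_map_eq_self_of_injective B.subtype_injective _
    rwa [Subgroup.relIndex, e] at hd
  -- uniqueness
  have hunique : ∀ Q₁ : Subgroup Hn, SylowIn q Q₁ B →
      (P0 : Subgroup Hn) ≤ Subgroup.normalizer (Q₁ : Set Hn) → Q₁ = Q := by
    intro Q₁ h1 hn1
    have hmap : ∀ A : Subgroup Hn, A ≤ X → (A.subgroupOf X).map X.subtype = A := fun A hA =>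
      Subgroup.map_subgroupOf_eq_of_le hA
    have hBX : B ≤ X := le_sup_left
    have hPX : (P0 : Subgroup Hn) ≤ X := le_sup_right
    have hin : ∀ Q₁ : Subgroup Hn, SylowIn q Q₁ B → SylowIn q (Q₁.subgroupOf X) (B.subgroupOf X) := by
      intro Q₁ h1
      refine ⟨fun x hx => h1.1 hx, h1.2.1.comap_subtype, ?_⟩
      rw [Subgroup.relIndex_subgroupOf hBX]
      exact h1.2.2
    have hnorm : ∀ A : Subgroup Hn, A ≤ X → (P0 : Subgroup Hn) ≤ Subgroup.normalizer (A : Set Hn) →
        (P0 : Subgroup Hn).subgroupOf X ≤ Subgroup.normalizer ((A.subgroupOf X : Subgroup X) : Set X) := by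
      intro A _ hA x hx
      rw [Subgroup.mem_normalizer_iff]
      intro y
      exact Subgroup.mem_normalizer_iff.1 (hA hx) y
    have e := invariant_sylow_unique hpq _ X (B.subgroupOf X) ((P0 : Subgroup Hn).subgroupOf X) rfl
      inferInstance P0.isPGroup'.comap_subtype
      (by rwa [Nat.card_congr (Subgroup.subgroupOfEquivOfLe hBX).toEquiv])
      (by rw [← Subgroup.subgroupOf_sup hBX hPX, ← hX, Subgroup.subgroupOf_self])
      (Cfsg.Lib.Core.isPSolvable_subgroup (Cfsg.Lib.Core.isPSolvable_subgroup hqs Hn) X) hpropX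
      (Q₁.subgroupOf X) (Q.subgroupOf X) (hin Q₁ h1) (hin Q hQin)
      (hnorm Q₁ (h1.1.trans hBX) hn1) (hnorm Q (hQB.trans hBX) hQ₀)
    have e' := congrArg (Subgroup.map X.subtype) e
    rwa [hmap _ (h1.1.trans hBX), hmap _ (hQB.trans hBX)] at e'
  -- `Q` centralizes `M`
  set CQ : Subgroup M := (Subgroup.centralizer ((Q.map Hn.subtype : Subgroup G) : Set G)).subgroupOf M with hCQ
  have hQM : CQ = ⊤ := by
    by_contra hne
    let W : Subgroup (M →* ℂˣ) :=
      { carrier := {f | ∀ c ∈ CQ, f c = 1}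
        one_mem' := fun c _ => rfl
        mul_mem' := fun {f f'} hf hf' c hc => by
          rw [MonoidHom.mul_apply, hf c hc, hf' c hc, one_mul]
        inv_mem' := fun {f} hf c hc => by rw [MonoidHom.inv_apply, hf c hc, inv_one] }
    -- conjugation by an element normalizing `Q`
    let cj : ↥(P0 : Subgroup Hn) → (M →* M) := fun x =>
      (MulAut.conjNormal (((x : Hn) : G)⁻¹) : MulAut M).toMonoidHom
    have hcj : ∀ (x : (P0 : Subgroup Hn)) (c : M), c ∈ CQ → cj x c ∈ CQ := by
      intro x c hc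
      rw [hCQ, Subgroup.mem_subgroupOf, Subgroup.mem_centralizer_iff] at hc ⊢
      rintro _ ⟨y, hy, rfl⟩
      have hy' : ((x : Hn) * y * (x : Hn)⁻¹) ∈ Q := (Subgroup.mem_normalizer_iff.1 (hQ₀ x.2) y).1 hy
      have e := hc _ ⟨_, hy', rfl⟩
      simp only [Subgroup.coe_subtype, Subgroup.coe_mul, InvMemClass.coe_inv] at e
      simp only [cj, MulEquiv.coe_toMonoidHom, MulAut.conjNormal_apply, inv_inv, Subgroup.coe_subtype]
      calc ((y : Hn) : G) * (((x : Hn) : G)⁻¹ * c * ((x : Hn) : G))
          = ((x : Hn) : G)⁻¹ * ((((x : Hn) : G) * y * ((x : Hn) : G)⁻¹) * c) * ((x : Hn) : G) := by group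
        _ = ((x : Hn) : G)⁻¹ * c * ((x : Hn) : G) * y := by rw [e]; group
    letI : MulAction (P0 : Subgroup Hn) W :=
      { smul := fun x f => ⟨(f : M →* ℂˣ).comp (cj x), fun c hc => f.2 _ (hcj x c hc)⟩
        one_smul := fun f => Subtype.ext (MonoidHom.ext fun c => by
          show (f : M →* ℂˣ) (cj 1 c) = (f : M →* ℂˣ) c
          congr 1
          exact Subtype.ext (by simp [cj]))
        mul_smul := fun x y f => Subtype.ext (MonoidHom.ext fun c => by
          show (f : M →* ℂˣ) (cj (x * y) c) = (f : M →* ℂˣ) (cj y (cj x c))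
          congr 1
          exact Subtype.ext (by simp [cj, mul_assoc])) }
    have hWp : p ∣ Nat.card W := by
      letI : CommGroup M := { (inferInstance : Group M) with mul_comm := fun a b => mul_comm' a b }
      have h1 : Nat.card W ∣ p ^ kM := by
        rw [← hkM, ← card_monoidHom_units M]
        exact Subgroup.card_subgroup_dvd_card W
      haveI : CQ.Normal := ⟨fun a ha g => by rwa [mul_comm g a, mul_inv_cancel_right]⟩
      haveI : Fintype (M ⧸ CQ) := Fintype.ofFinite _
      obtain ⟨t, ht⟩ : ∃ t : M ⧸ CQ, t ≠ 1 := by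
        by_contra hall
        push Not at hall
        exact hne (eq_top_iff.2 fun c _ => (QuotientGroup.eq_one_iff c).1 (hall _))
      obtain ⟨f, hf⟩ : ∃ f : M ⧸ CQ →* ℂˣ, f t ≠ 1 := by
        by_contra hall
        push Not at hall
        exact ht (eq_one_of_forall_hom (fun a b => mul_comm a b) hall)
      obtain ⟨j, -, hj⟩ := (Nat.dvd_prime_pow hp).1 h1
      rw [hj]
      refine dvd_pow_self p fun hj0 => ?_
      rw [hj0, pow_zero] at hj
      haveI := (Nat.card_eq_one_iff_unique.1 hj).1
      obtain ⟨m, rfl⟩ := QuotientGroup.mk_surjective t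
      have e := Subsingleton.elim (⟨f.comp (QuotientGroup.mk' CQ), fun c hc => by
        rw [MonoidHom.comp_apply, QuotientGroup.mk'_apply, (QuotientGroup.eq_one_iff c).2 hc, map_one]⟩ : W) 1
      exact hf (DFunLike.congr_fun (congrArg Subtype.val e) m)
    obtain ⟨⟨f, hfW⟩, hffix, hf1⟩ := P0.isPGroup'.exists_fixed_point_of_prime_dvd_card_of_fixed_point W
      hWp (a := 1) (fun x => Subtype.ext (MonoidHom.ext fun c => rfl))
    set lam : M → ℂ := fun m => (f m : ℂ) with hlam
    have hlirr : IsIrrCharacter M lam := isIrrCharacter_linear f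
    set T := inertia M lam with hT
    have hMT : M ≤ T := le_inertia M hlirr.isClassFunction
    letI := Fintype.ofFinite T
    have hP0T : ∀ x ∈ (P0 : Subgroup Hn), (x : G) ∈ T := by
      intro x hx
      rw [hT, mem_inertia_iff]
      intro m
      have e := congrArg Subtype.val (hffix ⟨x, hx⟩⁻¹)
      have e2 := DFunLike.congr_fun e m
      rw [hlam]
      refine congrArg Units.val (Eq.trans ?_ e2)
      refine congrArg f (Subtype.ext ?_)
      simp [cj]
    -- extend and induce
    have hpr : ∀ t : T, (t : G) * ((pr (t : G) : Hn) : G)⁻¹ ∈ M := fun t => hprM t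
    have hprT : ∀ t : T, ((pr (t : G) : Hn) : G) ∈ T := by
      intro t
      have := mul_mem (inv_mem (hMT (hpr t))) t.2
      rwa [mul_inv_rev, inv_inv, inv_mul_cancel_right] at this
    let ext : T →* ℂˣ :=
      { toFun := fun t => f ⟨_, hpr t⟩
        map_one' := by
          rw [← map_one f]
          exact congrArg f (Subtype.ext (by simp))
        map_mul' := fun a b => by
          have hinv := (mem_inertia_iff M).1 (hprT a) ⟨_, hpr b⟩
          rw [hlam] at hinv
          have hinv' := Units.ext hinv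
          rw [← hinv', ← map_mul]
          exact congrArg f (Subtype.ext (by simp [mul_assoc])) }
    have hext : (fun m : M => (ext ⟨m, hMT m.2⟩ : ℂ)) = lam := by
      funext m
      refine congrArg Units.val (congrArg f (Subtype.ext ?_))
      have h1 : pr (m : G) = 1 := by
        have := hprM m
        have h2 := mul_mem (inv_mem this) m.2
        rw [mul_inv_rev, inv_inv, inv_mul_cancel_right] at h2
        refine Subtype.ext (Subgroup.mem_bot.1 (hinf ▸ Subgroup.mem_inf.2 ⟨(pr (m : G)).2, h2⟩))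
      simp [h1]
    obtain ⟨hirr, -⟩ := clifford_induce M hlirr hMT hT (isIrrCharacter_linear ext)
      (by rw [hext, classInner_irr_self hlirr]; exact one_ne_zero)
    have hTidx : (T.subgroupOf Hn).index = T.index := by
      have h1 : ∀ t : G, t ∈ T ↔ ((pr t : Hn) : G) ∈ T := fun t => by
        refine ⟨fun ht => hprT ⟨t, ht⟩, fun ht => ?_⟩
        have := mul_mem (hMT (hprM t)) ht
        rwa [inv_mul_cancel_right] at this
      have h2 : T = (T.subgroupOf Hn).comap pr := by
        ext t
        exact h1 t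
      conv_rhs => rw [h2, Subgroup.index_comap_of_surjective _ hprs]
    have hTp : ¬ p ∣ T.index := by
      rw [← hTidx]
      intro hd
      exact P0.not_dvd_index (hd.trans (Subgroup.index_dvd_of_le fun x hx => hP0T x hx))
    have hdeg : charDegree (indFun T fun t => (ext t : ℂ)) = T.index := by
      simp [charDegree, indFun_apply_one]
    have hTq : ¬ q ∣ T.index := by
      have := hprop ⟨_, hirr⟩ (by rwa [hdeg])
      rwa [hdeg] at this
    set S := T.subgroupOf Hn ⊓ B with hS
    have hP0S : (P0 : Subgroup Hn) ≤ Subgroup.normalizer (S : Set Hn) :=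
      le_trans (le_inf (le_trans (fun x hx => hP0T x hx : (P0 : Subgroup Hn) ≤ T.subgroupOf Hn)
        Subgroup.le_normalizer) hPB) Subgroup.inf_normalizer_le_normalizer_inf
    obtain ⟨Q₁, hQ₁⟩ := Cfsg.Lib.Coprime.exists_invariant_sylow hP0S
      (hcopPB.coprime_dvd_right (Subgroup.card_dvd_of_le inf_le_right)) (Or.inl inferInstance) q
    have hQ₁in : SylowIn q ((Q₁ : Subgroup S).map S.subtype) B := by
      refine ⟨(Subgroup.map_subtype_le _).trans inf_le_right, Q₁.2.map _, fun hd => ?_⟩
      rw [← Subgroup.relIndex_mul_relIndex _ S B (Subgroup.map_subtype_le _) inf_le_right] at hd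
      rcases hq.dvd_mul.1 hd with h1 | h1
      · refine Sylow.not_dvd_index Q₁ ?_
        have e : (((Q₁ : Subgroup S).map S.subtype).subgroupOf S) = (Q₁ : Subgroup S) :=
          Subgroup.comap_map_eq_self_of_injective S.subtype_injective _
        rwa [Subgroup.relIndex, e] at h1
      · refine hTq ?_
        rw [← hTidx]
        rw [hS, Subgroup.inf_relIndex_right] at h1
        exact h1.trans (relIndex_dvd_index_of_normal_right _ _)
    have hQT : ∀ y ∈ Q, (y : G) ∈ T := by
      rw [← hunique _ hQ₁in hQ₁]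
      rintro _ ⟨s, -, rfl⟩
      exact (Subgroup.mem_inf.1 s.2).1
    -- `f` is trivial on commutators with `Q`
    have hcopQM : (Nat.card (Q.map Hn.subtype : Subgroup G)).Coprime (Nat.card M) := by
      obtain ⟨k, hk⟩ := (hQp.map Hn.subtype).exists_card_eq
      rw [hk]
      exact Nat.Coprime.pow_left _ (hq.coprime_iff_not_dvd.2 hqM)
    have hsup := Cfsg.Lib.Coprime.commutator_sup_centralizer_eq (G := M) (A := Q.map Hn.subtype)
      (hnM _) hcopQM (Or.inr hMsol)
    refine hf1 (Subtype.ext (MonoidHom.ext fun m => ?_)).symm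
    have hker : M ≤ f.ker.map M.subtype := by
      conv_lhs => rw [← hsup]
      refine sup_le ?_ ?_
      · rw [Subgroup.commutator_le]
        rintro a ha _ ⟨y, hy, rfl⟩
        refine ⟨⟨a, ha⟩ * ⟨((y : Hn) : G) * a⁻¹ * ((y : Hn) : G)⁻¹, hM.1.conj_mem _ (inv_mem ha) _⟩, ?_, ?_⟩
        · have e := (mem_inertia_iff M).1 (hQT y hy) ⟨a⁻¹, inv_mem ha⟩
          rw [hlam] at e
          rw [SetLike.mem_coe, MonoidHom.mem_ker, map_mul, Units.ext e, ← map_mul]
          convert map_one f
          exact Subtype.ext (mul_inv_cancel a)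
        · simp [commutatorElement_def, mul_assoc]
      · intro c hc
        exact ⟨⟨c, hc.1⟩, hfW _ hc.2, rfl⟩
    obtain ⟨m', hm', e⟩ := hker m.2
    rw [show m = m' from Subtype.ext e.symm, MonoidHom.mem_ker.1 hm']
    rfl
  -- hence `Q` is trivial
  set D := B ⊓ (Subgroup.centralizer (M : Set G)).subgroupOf Hn with hD
  have hQD : Q ≤ D := by
    refine le_inf hQB fun y hy => ?_
    rw [Subgroup.mem_subgroupOf, Subgroup.mem_centralizer_iff]
    intro m hm
    have h1 : (⟨m, hm⟩ : M) ∈ CQ := hQM ▸ Subgroup.mem_top _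
    exact (Subgroup.mem_centralizer_iff.1 (Subgroup.mem_subgroupOf.1 h1) _ ⟨y, hy, rfl⟩).symm
  haveI : D.Normal := inferInstance
  haveI hDn : (D.map Hn.subtype).Normal := by
    rw [← Subgroup.normalizer_eq_top_iff, ← top_le_iff, ← hfr]
    refine sup_le (le_trans ?_ (Subgroup.centralizer_le_normalizer _)) ?_
    · intro m hm
      rw [Subgroup.mem_centralizer_iff]
      rintro _ ⟨d, hd, rfl⟩
      exact (Subgroup.mem_centralizer_iff.1 (Subgroup.mem_subgroupOf.1 hd.2) m hm).symm
    · have := Subgroup.le_normalizer_map (H := D) Hn.subtype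
      rw [Subgroup.normalizer_eq_top_iff.2 inferInstance, ← MonoidHom.range_eq_map,
        Subgroup.range_subtype] at this
      exact this
  have hD0 : D.map Hn.subtype = ⊥ := le_bot_iff.1 (hO ▸ Cfsg.Lib.Core.le_pPrimeCore' hDn (by
    rw [Subgroup.card_map_of_injective Hn.subtype_injective]
    exact (hp.coprime_iff_not_dvd.2 fun hd => hBp (hd.trans (Subgroup.card_dvd_of_le inf_le_left))).symm))
  rw [Subgroup.map_eq_bot_iff_of_injective _ Hn.subtype_injective] at hD0
  refine hGq fun hd => ?_
  rw [← hBcard] at hd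
  have h1 := hQin.card_eq
  rw [le_bot_iff.1 (hQD.trans hD0.le), Subgroup.card_bot] at h1
  have h2 := hq.factorization_pos_of_dvd (Nat.card_pos (α := B)).ne' hd
  exact absurd h1.symm (Nat.one_lt_pow h2.ne' hq.one_lt).ne'

end Cfsg.Lib.Char
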