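import Cfsg.Agent.Lib.Char.AltSquare
import Cfsg.Agent.Lib.Char.InvolutionSum
import Cfsg.Agent.Lib.Char.SignedIrr
import Cfsg.Agent.Lib.Char.Orthogonality

/-!
# Three characters of a highly transitive permutation group

The characters attached to the partitions `(n-1,1)`, `(n-2,2)` and `(n-2,1,1)`, written through
the number of fixed points and the number of points in cycles of length two.
-/

set_option autoImplicit false
set_option linter.unusedSectionVars false
set_option linter.style.haveILetI false

namespace Cfsg.Lib.Char.TwoRow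

open Cfsg Cfsg.Lib.Char
open scoped ComplexConjugate

universe u

variable {G : Type u} [Group G] {n : ℕ} (π : G →* Equiv.Perm (Fin n))

/-- The number of fixed points. -/
def fixNum (g : G) : ℕ := (Finset.univ.filter fun i => π g i = i).card

/-- The number of points in cycles of length two. -/
def swapNum (g : G) : ℕ := (Finset.univ.filter fun i => π g i ≠ i ∧ π g (π g i) = i).card

/-- The tuples of distinct points mapped to themselves with the places permuted. -/
noncomputable def twisted {k : ℕ} (ρ : Fin k → Fin k) (g : G) : Finset (Fin k ↪ Fin n) :=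
  Finset.univ.filter fun v => ∀ i, π g (v i) = v (ρ i)

variable {π}

theorem mem_twisted {k : ℕ} {ρ : Fin k → Fin k} {g : G} {v : Fin k ↪ Fin n} :
    v ∈ twisted π ρ g ↔ ∀ i, π g (v i) = v (ρ i) := by simp [twisted]

/-- Transitivity on tuples of distinct points makes every moment equal to one. -/
theorem sum_twisted [Fintype G] {k : ℕ} (hk : k ≤ n)
    (htr : ∀ x y : Fin k ↪ Fin n, ∃ g : G, ∀ i, π g (x i) = y i) {ρ : Fin k → Fin k}
    (hρ : Function.Injective ρ) : ∑ g : G, (twisted π ρ g).card = Fintype.card G := by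
  classical
  simp only [twisted, Finset.card_filter]
  rw [Finset.sum_comm]
  simp only [← Finset.card_filter]
  let v₀ : Fin k ↪ Fin n := ⟨Fin.castLE hk, Fin.castLE_injective hk⟩
  let N : ℕ := (Finset.univ.filter fun g : G => ∀ i, π g (v₀ i) = v₀ i).card
  have hfib : ∀ x y : Fin k ↪ Fin n,
      (Finset.univ.filter fun g : G => ∀ i, π g (x i) = y i).card = N := by
    intro x y
    obtain ⟨a, ha⟩ := htr v₀ x
    obtain ⟨b, hb⟩ := htr v₀ y
    refine Finset.card_nbij' (fun g => b⁻¹ * g * a) (fun g => b * g * a⁻¹) ?_ ?_ ?_ ?_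
    · intro g hg
      simp only [Finset.coe_filter, Finset.mem_univ, true_and, Set.mem_setOf_eq] at hg ⊢
      intro i
      rw [map_mul, map_mul, Equiv.Perm.mul_apply, Equiv.Perm.mul_apply, ha, hg, ← hb, map_inv,
        Equiv.Perm.inv_def, Equiv.symm_apply_apply]
    · intro g hg
      simp only [Finset.coe_filter, Finset.mem_univ, true_and, Set.mem_setOf_eq] at hg ⊢
      intro i
      rw [map_mul, map_mul, Equiv.Perm.mul_apply, Equiv.Perm.mul_apply, ← ha, map_inv,
        Equiv.Perm.inv_def, Equiv.symm_apply_apply, hg, hb]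
    · intro g _; simp only; group
    · intro g _; simp only; group
  have htotal : Fintype.card (Fin k ↪ Fin n) * N = Fintype.card G := by
    rw [← Finset.card_univ (α := G), Finset.card_eq_sum_card_fiberwise (t := Finset.univ)
      (f := fun g => v₀.trans (π g).toEmbedding) (fun g _ => Finset.mem_univ _),
      Finset.sum_congr rfl (g := fun _ => N) (fun y _ => ?_), Finset.sum_const, Finset.card_univ,
      smul_eq_mul]
    rw [← hfib v₀ y]
    congr 1
    ext g
    simp [Function.Embedding.ext_iff]
  refine ((Finset.sum_congr rfl fun v _ => ?_).trans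
    (Finset.sum_const (s := (Finset.univ : Finset (Fin k ↪ Fin n))) N)).trans ?_
  · exact hfib v ⟨fun i => v (ρ i), v.injective.comp hρ⟩
  · rw [Finset.card_univ, smul_eq_mul, htotal]

theorem twisted_id (k : ℕ) (g : G) :
    (twisted π (id : Fin k → Fin k) g).card = (fixNum π g).descFactorial k := by
  classical
  have h := Fintype.card_embedding_eq (α := Fin k) (β := {i : Fin n // π g i = i})
  rw [Fintype.card_fin, Fintype.card_subtype] at h
  rw [fixNum, ← h, ← Fintype.card_coe]
  refine Fintype.card_congr
    { toFun := fun v => ⟨fun i => ⟨v.1 i, mem_twisted.1 v.2 i⟩, fun i j e =>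
        v.1.injective (congrArg Subtype.val e)⟩
      invFun := fun v => ⟨v.trans (Function.Embedding.subtype _), mem_twisted.2 fun i => (v i).2⟩
      left_inv := fun v => rfl
      right_inv := fun v => rfl }

theorem twisted_swap (g : G) :
    (twisted π (![1, 0] : Fin 2 → Fin 2) g).card = swapNum π g := by
  classical
  refine Finset.card_bij (fun v _ => v 0) ?_ ?_ ?_
  · intro v hv
    have h := mem_twisted.1 hv
    have h0 := h 0
    have h1 := h 1
    simp at h0 h1
    simp [h0, h1]
  · intro v hv w hw e
    have h0 := mem_twisted.1 hv 0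
    have h1 := mem_twisted.1 hw 0
    simp at h0 h1
    exact Function.Embedding.ext fun i => by
      fin_cases i
      · exact e
      · show v 1 = w 1
        rw [← h0, ← h1, e]
  · intro a ha
    simp only [Finset.mem_filter, Finset.mem_univ, true_and] at ha
    refine ⟨⟨![a, π g a], fun i j e => ?_⟩, mem_twisted.2 fun i => ?_, rfl⟩
    · fin_cases i <;> fin_cases j <;> simp at e ⊢ <;> grind
    · show π g (![a, π g a] i) = ![a, π g a] ((![1, 0] : Fin 2 → Fin 2) i)
      fin_cases i <;> simp [ha.2]

theorem twisted_swap_fix (g : G) :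
    (twisted π (![1, 0, 2] : Fin 3 → Fin 3) g).card = swapNum π g * fixNum π g := by
  classical
  rw [swapNum, fixNum, ← Finset.card_product]
  refine Finset.card_bij (fun v _ => (v 0, v 2)) ?_ ?_ ?_
  · intro v hv
    have h := mem_twisted.1 hv
    have h0 := h 0
    have h1 := h 1
    have h2 := h 2
    simp at h0 h1 h2
    simp [h0, h1, h2]
  · intro v hv w hw e
    obtain ⟨e0, e2⟩ := Prod.mk.inj e
    have h0 := mem_twisted.1 hv 0
    have h1 := mem_twisted.1 hw 0
    simp at h0 h1
    exact Function.Embedding.ext fun i => by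
      fin_cases i
      · exact e0
      · show v 1 = w 1
        rw [← h0, ← h1, e0]
      · exact e2
  · rintro ⟨a, c⟩ hac
    simp only [Finset.mem_product, Finset.mem_filter, Finset.mem_univ, true_and] at hac
    obtain ⟨⟨ha, ha'⟩, hc⟩ := hac
    have h1 : a ≠ c := fun e => ha (e ▸ hc)
    have h2 : π g a ≠ c := fun e => h1 ((π g).injective (e.trans hc.symm))
    refine ⟨⟨![a, π g a, c], fun i j e => ?_⟩, mem_twisted.2 fun i => ?_, rfl⟩
    · fin_cases i <;> fin_cases j <;> simp at e ⊢ <;> grind
    · show π g (![a, π g a, c] i) = ![a, π g a, c] ((![1, 0, 2] : Fin 3 → Fin 3) i)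
      fin_cases i <;> simp [ha', hc]

theorem twisted_swap_pair (g : G) :
    (twisted π (![1, 0, 2, 3] : Fin 4 → Fin 4) g).card =
      swapNum π g * (fixNum π g * fixNum π g - fixNum π g) := by
  classical
  rw [swapNum, fixNum, ← Finset.offDiag_card, ← Finset.card_product]
  refine Finset.card_bij (fun v _ => (v 0, v 2, v 3)) ?_ ?_ ?_
  · intro v hv
    have h := mem_twisted.1 hv
    have h0 := h 0
    have h1 := h 1
    have h2 := h 2
    have h3 := h 3
    simp at h0 h1 h2 h3
    simp [h0, h1, h2, h3]
  · intro v hv w hw e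
    obtain ⟨e0, e'⟩ := Prod.mk.inj e
    obtain ⟨e2, e3⟩ := Prod.mk.inj e'
    have h0 := mem_twisted.1 hv 0
    have h1 := mem_twisted.1 hw 0
    simp at h0 h1
    exact Function.Embedding.ext fun i => by
      fin_cases i
      · exact e0
      · show v 1 = w 1
        rw [← h0, ← h1, e0]
      · exact e2
      · exact e3
  · rintro ⟨a, c, d⟩ hac
    simp only [Finset.mem_product, Finset.mem_offDiag, Finset.mem_filter, Finset.mem_univ,
      true_and] at hac
    obtain ⟨⟨ha, ha'⟩, hc, hd, hcd⟩ := hac
    have h1 : a ≠ c := fun e => ha (e ▸ hc)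
    have h2 : π g a ≠ c := fun e => h1 ((π g).injective (e.trans hc.symm))
    have h3 : a ≠ d := fun e => ha (e ▸ hd)
    have h4 : π g a ≠ d := fun e => h3 ((π g).injective (e.trans hd.symm))
    refine ⟨⟨![a, π g a, c, d], fun i j e => ?_⟩, mem_twisted.2 fun i => ?_, rfl⟩
    · fin_cases i <;> fin_cases j <;> simp at e ⊢ <;> grind
    · show π g (![a, π g a, c, d] i) = ![a, π g a, c, d] ((![1, 0, 2, 3] : Fin 4 → Fin 4) i)
      fin_cases i <;> simp [ha', hc, hd]

theorem twisted_swap_swap (g : G) :
    (twisted π (![1, 0, 3, 2] : Fin 4 → Fin 4) g).card =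
      swapNum π g * (swapNum π g - 2) := by
  classical
  set S := Finset.univ.filter fun i => π g i ≠ i ∧ π g (π g i) = i with hS
  have hfib : ∀ a ∈ S, (S \ {a, π g a}).card = swapNum π g - 2 := by
    intro a ha
    have ha' := (Finset.mem_filter.1 ha).2
    rw [Finset.card_sdiff_of_subset, swapNum, ← hS, Finset.card_pair (Ne.symm ha'.1)]
    intro x hx
    rcases Finset.mem_insert.1 hx with rfl | hx
    · exact ha
    · rw [Finset.mem_singleton.1 hx, hS, Finset.mem_filter]
      exact ⟨Finset.mem_univ _, fun e => ha'.1 ((π g).injective e), congrArg (π g) ha'.2⟩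
  have hsum : swapNum π g * (swapNum π g - 2) = (S.sigma fun a => S \ {a, π g a}).card := by
    rw [Finset.card_sigma, Finset.sum_congr rfl hfib, Finset.sum_const, smul_eq_mul]
    rfl
  rw [hsum]
  refine Finset.card_bij (fun v _ => ⟨v 0, v 2⟩) ?_ ?_ ?_
  · intro v hv
    have h := mem_twisted.1 hv
    have h0 := h 0
    have h1 := h 1
    have h2 := h 2
    have h3 := h 3
    simp at h0 h1 h2 h3
    simp [hS, h0, h1, h2, h3]
  · intro v hv w hw e
    simp only [Sigma.mk.inj_iff, heq_eq_eq] at e
    have h0 := mem_twisted.1 hv 0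
    have h1 := mem_twisted.1 hw 0
    have h2 := mem_twisted.1 hv 2
    have h3 := mem_twisted.1 hw 2
    simp at h0 h1 h2 h3
    exact Function.Embedding.ext fun i => by
      fin_cases i
      · exact e.1
      · show v 1 = w 1
        rw [← h0, ← h1, e.1]
      · exact e.2
      · show v 3 = w 3
        rw [← h2, ← h3, e.2]
  · rintro ⟨a, c⟩ hac
    simp only [Finset.mem_sigma, hS, Finset.mem_sdiff, Finset.mem_filter, Finset.mem_univ,
      true_and, Finset.mem_insert, Finset.mem_singleton, not_or] at hac
    obtain ⟨⟨ha, ha'⟩, ⟨hc, hc'⟩, h1, h2⟩ := hac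
    have h3 : a ≠ π g c := fun e => h2 ((π g).injective (e.symm.trans ha'.symm))
    have h4 : π g a ≠ π g c := fun e => h1 ((π g).injective e).symm
    refine ⟨⟨![a, π g a, c, π g c], fun i j e => ?_⟩, mem_twisted.2 fun i => ?_, rfl⟩
    · fin_cases i <;> fin_cases j <;> simp at e ⊢ <;> grind
    · show π g (![a, π g a, c, π g c] i) = ![a, π g a, c, π g c] ((![1, 0, 3, 2] : Fin 4 → Fin 4) i)
      fin_cases i <;> simp [ha', hc']

theorem two_le_swapNum {g : G} (h : swapNum π g ≠ 0) : 2 ≤ swapNum π g := by
  classical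
  obtain ⟨a, ha⟩ := Finset.card_ne_zero.1 h
  have ha' := (Finset.mem_filter.1 ha).2
  rw [swapNum, ← Finset.card_pair (Ne.symm ha'.1)]
  refine Finset.card_le_card fun x hx => ?_
  rcases Finset.mem_insert.1 hx with rfl | hx
  · exact ha
  · rw [Finset.mem_singleton.1 hx, Finset.mem_filter]
    exact ⟨Finset.mem_univ _, fun e => ha'.1 ((π g).injective e), congrArg (π g) ha'.2⟩

theorem fixNum_sq (g : G) : fixNum π (g * g) = fixNum π g + swapNum π g := by
  classical
  rw [fixNum, fixNum, swapNum, ← Finset.card_union_of_disjoint (Finset.disjoint_filter.2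
    fun x _ h1 h2 => h2.1 h1)]
  congr 1
  ext i
  simp only [map_mul, Equiv.Perm.mul_apply, Finset.mem_filter, Finset.mem_univ, true_and,
    Finset.mem_union]
  constructor
  · intro h
    by_cases hi : π g i = i
    · exact Or.inl hi
    · exact Or.inr ⟨hi, h⟩
  · rintro (h | ⟨-, h⟩)
    · rw [h, h]
    · exact h

variable (π)

/-- Fixed points as a function. -/
noncomputable def F (g : G) : ℂ := (fixNum π g : ℂ)

/-- Points in two-cycles as a function. -/
noncomputable def S (g : G) : ℂ := (swapNum π g : ℂ)

/-- The character of `(n-1,1)`. -/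
noncomputable def std (g : G) : ℂ := F π g - 1

/-- The character of `(n-2,2)`. -/
noncomputable def pairs (g : G) : ℂ := (F π g * F π g - 3 * F π g + S π g) / 2

/-- The character of `(n-2,1,1)`. -/
noncomputable def hook (g : G) : ℂ := (F π g * F π g - 3 * F π g + 2 - S π g) / 2

theorem isCharacter_F : IsCharacter G (F π) := by
  classical
  convert isCharacter_fixedCount π using 1
  funext g
  simp [F, fixNum]

theorem isGeneralized_std : IsGeneralizedCharacter G (std π) :=
  ⟨F π, fun _ => 1, isCharacter_F π, isIrrCharacter_one.isCharacter, rfl⟩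

theorem isGeneralized_alt :
    IsGeneralizedCharacter G (fun g => (F π g * F π g - F π g - S π g) / 2) := by
  convert (isCharacter_altSquare (isCharacter_F π)).isGeneralized using 1
  funext g
  simp only [F, S, fixNum_sq, Nat.cast_add]
  ring

theorem isGeneralized_pairs : IsGeneralizedCharacter G (pairs π) := by
  have hF := (isCharacter_F π).isGeneralized
  have h := ((hF.mul hF).sub (isGeneralized_alt π)).sub (hF.add hF)
  convert h using 1
  funext g
  simp only [pairs, Pi.sub_apply, Pi.add_apply, Pi.mul_apply]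
  ring

theorem isGeneralized_hook : IsGeneralizedCharacter G (hook π) := by
  have hF := (isCharacter_F π).isGeneralized
  have h := ((isGeneralized_alt π).sub hF).add
    (isIrrCharacter_one (G := G)).isCharacter.isGeneralized
  convert h using 1
  funext g
  simp only [hook, Pi.sub_apply, Pi.add_apply]
  ring

theorem irr_of_norm [Fintype G] {c : G → ℂ} (hc : IsGeneralizedCharacter G c)
    (h1 : classInner c c = 1) (hpos : 0 < (c 1).re) : IsIrrCharacter G c := by
  obtain ⟨ε, χ, rfl | rfl, h⟩ := exists_signed_irr_of_norm_one hc h1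
  · rw [h, Int.cast_one, one_smul]
    exact χ.2
  · exfalso
    have hd := χ.2.isCharacter.degree_re_nonneg
    rw [h] at hpos
    simp at hpos
    linarith

variable {π} [Fintype G]

theorem classInner_self_of_real {c : G → ℂ} (hreal : ∀ g, conj (c g) = c g) :
    classInner c c = (Fintype.card G : ℂ)⁻¹ * ∑ g, c g * c g := by
  simp only [classInner, hreal, Nat.card_eq_fintype_card]

/-- The hypothesis of transitivity on quadruples and fewer. -/
def Transitive4 (π : G →* Equiv.Perm (Fin n)) : Prop :=
  ∀ k ≤ 4, ∀ x y : Fin k ↪ Fin n, ∃ g : G, ∀ i, π g (x i) = y i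

variable (hn : 4 ≤ n) (htr : Transitive4 π)

include hn htr

theorem moment {k : ℕ} (hk : k ≤ 4) {ρ : Fin k → Fin k} (hρ : Function.Injective ρ) :
    ∑ g : G, ((twisted π ρ g).card : ℂ) = (Fintype.card G : ℂ) := by
  rw [← Nat.cast_sum, sum_twisted (hk.trans hn) (htr k hk) hρ]

theorem moments :
    (∑ g : G, F π g = (Fintype.card G : ℂ)) ∧
    (∑ g : G, (F π g * F π g - F π g) = (Fintype.card G : ℂ)) ∧
    (∑ g : G, F π g * (F π g - 1) * (F π g - 2) * (F π g - 3) = (Fintype.card G : ℂ)) ∧
    (∑ g : G, S π g = (Fintype.card G : ℂ)) ∧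
    (∑ g : G, S π g * F π g = (Fintype.card G : ℂ)) ∧
    (∑ g : G, S π g * (F π g * F π g - F π g) = (Fintype.card G : ℂ)) ∧
    (∑ g : G, S π g * (S π g - 2) = (Fintype.card G : ℂ)) := by
  refine ⟨?_, ?_, ?_, ?_, ?_, ?_, ?_⟩
  · rw [← moment hn htr (k := 1) (by norm_num) (ρ := id) Function.injective_id]
    simp [twisted_id, F]
  · rw [← moment hn htr (k := 2) (by norm_num) (ρ := id) Function.injective_id]
    refine Finset.sum_congr rfl fun g _ => ?_
    rw [twisted_id, F, Nat.cast_descFactorial_two]
    ring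
  · rw [← moment hn htr (k := 4) le_rfl (ρ := id) Function.injective_id]
    refine Finset.sum_congr rfl fun g _ => ?_
    rw [twisted_id, F, ← descPochhammer_eval_eq_descFactorial]
    simp [descPochhammer_succ_eval]
  · rw [← moment hn htr (k := 2) (by norm_num) (ρ := ![1, 0]) (by decide)]
    simp [twisted_swap, S]
  · rw [← moment hn htr (k := 3) (by norm_num) (ρ := ![1, 0, 2]) (by decide)]
    simp [twisted_swap_fix, S, F]
  · rw [← moment hn htr (k := 4) le_rfl (ρ := ![1, 0, 2, 3]) (by decide)]
    refine Finset.sum_congr rfl fun g _ => ?_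
    rw [twisted_swap_pair, S, F, Nat.cast_mul, Nat.cast_sub (Nat.le_mul_self _), Nat.cast_mul]
  · rw [← moment hn htr (k := 4) le_rfl (ρ := ![1, 0, 3, 2]) (by decide)]
    refine Finset.sum_congr rfl fun g _ => ?_
    rw [twisted_swap_swap, S, Nat.cast_mul]
    by_cases h : swapNum π g = 0
    · simp [h]
    · rw [Nat.cast_sub (two_le_swapNum h)]
      norm_num

theorem isIrr_std : IsIrrCharacter G (std π) := by
  obtain ⟨m1, m2, -, -, -, -, -⟩ := moments hn htr
  refine irr_of_norm (isGeneralized_std π) ?_ ?_
  · rw [classInner_self_of_real (fun g => by simp [std, F])]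
    have e : ∑ g : G, std π g * std π g =
        ∑ g : G, (F π g * F π g - F π g) - ∑ g : G, F π g + ∑ _g : G, (1 : ℂ) := by
      rw [← Finset.sum_sub_distrib, ← Finset.sum_add_distrib]
      exact Finset.sum_congr rfl fun g _ => by simp only [std]; ring
    rw [e, m1, m2, Finset.sum_const, Finset.card_univ, nsmul_eq_mul, mul_one, sub_self, zero_add,
      inv_mul_cancel₀ (Nat.cast_ne_zero.2 Fintype.card_ne_zero)]
  · simp only [std, F, fixNum, map_one, Equiv.Perm.one_apply, Finset.filter_true, Finset.card_univ,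
      Fintype.card_fin, Complex.sub_re, Complex.natCast_re, Complex.one_re]
    have : (4 : ℝ) ≤ n := by exact_mod_cast hn
    linarith

theorem isIrr_pairs : IsIrrCharacter G (pairs π) := by
  obtain ⟨m1, m2, m4, mS, mSF, mSFF, mSS⟩ := moments hn htr
  refine irr_of_norm (isGeneralized_pairs π) ?_ ?_
  · rw [classInner_self_of_real (fun g => by simp [pairs, F, S, map_ofNat])]
    have e : ∑ g : G, pairs π g * pairs π g =
        (∑ g : G, F π g * (F π g - 1) * (F π g - 2) * (F π g - 3) -
          2 * ∑ g : G, (F π g * F π g - F π g) + 4 * ∑ g : G, F π g +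
          2 * ∑ g : G, S π g * (F π g * F π g - F π g) - 4 * ∑ g : G, S π g * F π g +
          ∑ g : G, S π g * (S π g - 2) + 2 * ∑ g : G, S π g) / 4 := by
      simp only [Finset.mul_sum, ← Finset.sum_sub_distrib, ← Finset.sum_add_distrib,
        Finset.sum_div]
      exact Finset.sum_congr rfl fun g _ => by simp only [pairs]; ring
    rw [e, m1, m2, m4, mS, mSF, mSFF, mSS]
    have hne : (Fintype.card G : ℂ) ≠ 0 := Nat.cast_ne_zero.2 Fintype.card_ne_zero
    field_simp
    ring
  · have h : pairs π 1 = (((n : ℝ) * n - 3 * n) / 2 : ℝ) := by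
      simp [pairs, F, S, fixNum, swapNum]
    rw [h, Complex.ofReal_re]
    have : (4 : ℝ) ≤ n := by exact_mod_cast hn
    nlinarith

theorem isIrr_hook : IsIrrCharacter G (hook π) := by
  obtain ⟨m1, m2, m4, mS, mSF, mSFF, mSS⟩ := moments hn htr
  refine irr_of_norm (isGeneralized_hook π) ?_ ?_
  · rw [classInner_self_of_real (fun g => by simp [hook, F, S, map_ofNat])]
    have e : ∑ g : G, hook π g * hook π g =
        (∑ g : G, F π g * (F π g - 1) * (F π g - 2) * (F π g - 3) +
          2 * ∑ g : G, (F π g * F π g - F π g) - 4 * ∑ g : G, F π g + ∑ _g : G, (4 : ℂ) -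
          2 * ∑ g : G, S π g * (F π g * F π g - F π g) + 4 * ∑ g : G, S π g * F π g +
          ∑ g : G, S π g * (S π g - 2) - 2 * ∑ g : G, S π g) / 4 := by
      simp only [Finset.mul_sum, ← Finset.sum_sub_distrib, ← Finset.sum_add_distrib,
        Finset.sum_div]
      exact Finset.sum_congr rfl fun g _ => by simp only [hook]; ring
    rw [e, m1, m2, m4, mS, mSF, mSFF, mSS, Finset.sum_const, Finset.card_univ, nsmul_eq_mul]
    have hne : (Fintype.card G : ℂ) ≠ 0 := Nat.cast_ne_zero.2 Fintype.card_ne_zero
    field_simp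
    ring
  · have h : hook π 1 = (((n : ℝ) * n - 3 * n + 2) / 2 : ℝ) := by
      simp [hook, F, S, fixNum, swapNum]
    rw [h, Complex.ofReal_re]
    have : (4 : ℝ) ≤ n := by exact_mod_cast hn
    nlinarith

end Cfsg.Lib.Char.TwoRow
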