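import Cfsg.Agent.Lib.Char.TwoRowHooks
import Mathlib.GroupTheory.Perm.Cycle.Type
import Mathlib.GroupTheory.Perm.Cycle.PossibleTypes
import Mathlib.GroupTheory.GroupAction.MultipleTransitivity

/-!
# Elements at which the small characters of the alternating group vanish
-/

set_option autoImplicit false
set_option linter.unusedSectionVars false
set_option linter.style.haveILetI false

namespace Cfsg.Lib.Char.TwoRow

open Cfsg Equiv

variable {n : ℕ}

theorem transitive_alt (hn : 7 ≤ n) : Transitive4 (alternatingGroup (Fin n)).subtype := by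
  intro k hk x y
  haveI := alternatingGroup.isMultiplyPretransitive (Fin n)
  haveI := MulAction.isMultiplyPretransitive_of_le (G := alternatingGroup (Fin n)) (α := Fin n)
    (m := k) (n := Nat.card (Fin n) - 2) (by simp; omega) (by simp)
  obtain ⟨g, hg⟩ := MulAction.exists_smul_eq (alternatingGroup (Fin n)) x y
  exact ⟨g, fun i => by rw [← hg]; rfl⟩

theorem transitive_perm (hn : 7 ≤ n) : Transitive4 (MonoidHom.id (Equiv.Perm (Fin n))) := by
  intro k hk x y
  obtain ⟨g, hg⟩ := transitive_alt hn k hk x y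
  exact ⟨g, hg⟩

/-- An even permutation of a given type, its fixed points and its cycles of length two. -/
theorem exists_of_type (m : Multiset ℕ) (hsum : m.sum ≤ n) (h2 : ∀ a ∈ m, 2 ≤ a)
    (heven : Even (m.sum + Multiset.card m)) :
    ∃ g : alternatingGroup (Fin n), orderOf g = m.lcm ∧
      fixNum (alternatingGroup (Fin n)).subtype g = n - m.sum ∧
      ((∀ a ∈ m, a ≠ 2) → swapNum (alternatingGroup (Fin n)).subtype g = 0) := by
  classical
  obtain ⟨p, hp⟩ := (Equiv.Perm.exists_with_cycleType_iff (Fin n)).2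
    ⟨by simpa using hsum, h2⟩
  subst hp
  refine ⟨⟨p, ?_⟩, ?_, ?_, ?_⟩
  · rw [Equiv.Perm.mem_alternatingGroup, Equiv.Perm.sign_of_cycleType, heven.neg_one_pow]
  · rw [Equiv.Perm.lcm_cycleType, Subgroup.orderOf_mk]
  · simp only [Equiv.Perm.sum_cycleType]
    refine (congrArg Finset.card (?_ : _ = p.supportᶜ)).trans
      (by rw [Finset.card_compl, Fintype.card_fin])
    refine Finset.ext fun i => (Finset.mem_filter.trans ?_)
    simp
  · intro hno
    rw [swapNum, Finset.card_eq_zero, Finset.filter_eq_empty_iff]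
    rintro i - ⟨hi, hi'⟩
    simp only [Subgroup.coe_subtype] at hi hi'
    have hc : (p.cycleOf i).IsCycle := Equiv.Perm.isCycle_cycleOf p hi
    have hsq : p.cycleOf i ^ 2 = 1 := by
      rw [hc.pow_eq_one_iff' (x := i) (by rwa [Equiv.Perm.cycleOf_apply_self]),
        Equiv.Perm.cycleOf_pow_apply_self, pow_two, Equiv.Perm.mul_apply, hi']
    have hcard := hc.orderOf
    have hdvd := orderOf_dvd_of_pow_eq_one hsq
    rw [hcard] at hdvd
    have hle := hc.two_le_card_support
    have hmem : (p.cycleOf i).support.card ∈ p.cycleType := by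
      rw [Equiv.Perm.cycleType_def]
      exact Multiset.mem_map.2 ⟨p.cycleOf i,
        Finset.mem_def.1
        (Equiv.Perm.cycleOf_mem_cycleFactorsFinset_iff.2 (Equiv.Perm.mem_support.2 hi)), rfl⟩
    exact hno _ hmem (le_antisymm (Nat.le_of_dvd two_pos hdvd) hle)

theorem lcm_eight {m : Multiset ℕ} (h : ∀ a ∈ m, a ∣ 8) : ∃ j : ℕ, m.lcm = 2 ^ j := by
  obtain ⟨j, -, hj⟩ := (Nat.dvd_prime_pow Nat.prime_two).1
    (show m.lcm ∣ 2 ^ 3 from Multiset.lcm_dvd.2 h)
  exact ⟨j, hj⟩

theorem restrict_std (g : alternatingGroup (Fin n)) :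
    std (MonoidHom.id (Equiv.Perm (Fin n))) g = std (alternatingGroup (Fin n)).subtype g := rfl

theorem restrict_pairs (g : alternatingGroup (Fin n)) :
    pairs (MonoidHom.id (Equiv.Perm (Fin n))) g = pairs (alternatingGroup (Fin n)).subtype g := rfl

theorem restrict_hook (g : alternatingGroup (Fin n)) :
    hook (MonoidHom.id (Equiv.Perm (Fin n))) g = hook (alternatingGroup (Fin n)).subtype g := rfl

/-- Extendible characters of the alternating group. -/
def Good (n : ℕ) (χ : IrrCharacter (alternatingGroup (Fin n))) : Prop :=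
  ∃ ψ : IrrCharacter (Equiv.Perm (Fin n)), ∀ x : alternatingGroup (Fin n),
    (ψ : Equiv.Perm (Fin n) → ℂ) x = (χ : alternatingGroup (Fin n) → ℂ) x

theorem good_std (hn : 7 ≤ n) :
    Good n ⟨_, isIrr_std (by omega) (transitive_alt hn)⟩ :=
  ⟨⟨_, isIrr_std (by omega) (transitive_perm hn)⟩, fun x => restrict_std x⟩

theorem good_pairs (hn : 7 ≤ n) :
    Good n ⟨_, isIrr_pairs (by omega) (transitive_alt hn)⟩ :=
  ⟨⟨_, isIrr_pairs (by omega) (transitive_perm hn)⟩, fun x => restrict_pairs x⟩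

theorem good_hook (hn : 7 ≤ n) :
    Good n ⟨_, isIrr_hook (by omega) (transitive_alt hn)⟩ :=
  ⟨⟨_, isIrr_hook (by omega) (transitive_perm hn)⟩, fun x => restrict_hook x⟩

/-- One of the characters vanishes when there are at most three fixed points and no two-cycle. -/
theorem exists_vanish (hn : 7 ≤ n) (g : alternatingGroup (Fin n))
    (hs : swapNum (alternatingGroup (Fin n)).subtype g = 0)
    (hf : fixNum (alternatingGroup (Fin n)).subtype g ≤ 3) :
    ∃ χ, Good n χ ∧ (χ : alternatingGroup (Fin n) → ℂ) g = 0 := by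
  obtain ⟨f, hf0⟩ : ∃ f, fixNum (alternatingGroup (Fin n)).subtype g = f := ⟨_, rfl⟩
  rw [hf0] at hf
  by_cases h : f = 1 ∨ f = 2
  · refine ⟨_, good_hook hn, ?_⟩
    show hook _ g = 0
    rcases h with rfl | rfl <;> simp [hook, F, S, hs, hf0] <;> norm_num
  · refine ⟨_, good_pairs hn, ?_⟩
    show pairs _ g = 0
    have h' : f = 0 ∨ f = 3 := by omega
    rcases h' with rfl | rfl <;> simp [pairs, F, S, hs, hf0]

theorem exists_two_element (hn : 7 ≤ n) :
    ∃ χ : IrrCharacter (alternatingGroup (Fin n)),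
      Good n χ ∧ ∃ x : alternatingGroup (Fin n), (∃ j, orderOf x = 2 ^ j) ∧
        (χ : alternatingGroup (Fin n) → ℂ) x = 0 := by
  rcases Nat.even_or_odd n with he | ho
  · obtain ⟨k, hk⟩ : ∃ k, n = 4 * k ∨ n = 4 * k + 2 :=
      ⟨n / 4, by obtain ⟨i, hi⟩ := he; omega⟩
    obtain ⟨m, hm, hsum, hd, hev⟩ : ∃ m : Multiset ℕ, (∀ a ∈ m, 2 ≤ a ∧ a ≠ 2) ∧ m.sum = 4 * k ∧
        (∀ a ∈ m, a ∣ 8) ∧ Even (m.sum + Multiset.card m) := by
      rcases Nat.even_or_odd k with ⟨i, hi⟩ | ⟨i, hi⟩
      · refine ⟨Multiset.replicate k 4, fun a ha => ?_, ?_, fun a ha => ?_, ?_⟩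
        · rw [Multiset.eq_of_mem_replicate ha]; norm_num
        · simp [mul_comm]
        · rw [Multiset.eq_of_mem_replicate ha]; norm_num
        · simp; exact ⟨2 * k + i, by omega⟩
      · refine ⟨8 ::ₘ Multiset.replicate (k - 2) 4, fun a ha => ?_, ?_, fun a ha => ?_, ?_⟩
        · rcases Multiset.mem_cons.1 ha with rfl | ha
          · norm_num
          · rw [Multiset.eq_of_mem_replicate ha]; norm_num
        · simp; omega
        · rcases Multiset.mem_cons.1 ha with rfl | ha
          · norm_num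
          · rw [Multiset.eq_of_mem_replicate ha]; norm_num
        · simp; exact ⟨4 + 2 * (k - 2) + (k - 2 + 1) / 2, by omega⟩
    obtain ⟨g, hord, hf, hs⟩ := exists_of_type (n := n) m (by omega) (fun a ha => (hm a ha).1) hev
    obtain ⟨χ, hgood, hv⟩ := exists_vanish hn g (hs fun a ha => (hm a ha).2) (by omega)
    exact ⟨χ, hgood, g, hord ▸ lcm_eight hd, hv⟩
  · obtain ⟨l, hl⟩ := ho
    obtain ⟨m, hm, hsum, hd, hev⟩ : ∃ m : Multiset ℕ, (∀ a ∈ m, 2 ≤ a) ∧ m.sum = 2 * l ∧
        (∀ a ∈ m, a ∣ 8) ∧ Even (m.sum + Multiset.card m) := by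
      rcases Nat.even_or_odd l with ⟨i, hi⟩ | ⟨i, hi⟩
      · refine ⟨Multiset.replicate l 2, fun a ha => ?_, ?_, fun a ha => ?_, ?_⟩
        · rw [Multiset.eq_of_mem_replicate ha]
        · simp [mul_comm]
        · rw [Multiset.eq_of_mem_replicate ha]; norm_num
        · simp; exact ⟨l + i, by omega⟩
      · refine ⟨4 ::ₘ Multiset.replicate (l - 2) 2, fun a ha => ?_, ?_, fun a ha => ?_, ?_⟩
        · rcases Multiset.mem_cons.1 ha with rfl | ha
          · norm_num
          · rw [Multiset.eq_of_mem_replicate ha]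
        · simp; omega
        · rcases Multiset.mem_cons.1 ha with rfl | ha
          · norm_num
          · rw [Multiset.eq_of_mem_replicate ha]; norm_num
        · simp; exact ⟨2 + (l - 2) + (l - 2 + 1) / 2, by omega⟩
    obtain ⟨g, hord, hf, -⟩ := exists_of_type (n := n) m (by omega) hm hev
    refine ⟨_, good_std hn, g, hord ▸ lcm_eight hd, ?_⟩
    show std _ g = 0
    simp [std, F, hf, hsum, show n - 2 * l = 1 by omega]

theorem exists_three_element (hn : 7 ≤ n) :
    ∃ χ : IrrCharacter (alternatingGroup (Fin n)),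
      Good n χ ∧ ∃ y : alternatingGroup (Fin n), orderOf y = 3 ∧
        (χ : alternatingGroup (Fin n) → ℂ) y = 0 := by
  obtain ⟨j, hj, hj3⟩ : ∃ j, 0 < j ∧ (n = 3 * j + 1 ∨ n = 3 * j + 2 ∨ n = 3 * j + 3) :=
    ⟨(n - 1) / 3, by omega, by omega⟩
  obtain ⟨g, hord, hf, hs⟩ := exists_of_type (n := n) (Multiset.replicate j 3)
    (by simp; omega) (fun a ha => by rw [Multiset.eq_of_mem_replicate ha]; norm_num)
    (by simp; exact ⟨2 * j, by omega⟩)
  obtain ⟨χ, hgood, hv⟩ := exists_vanish hn g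
    (hs fun a ha => by rw [Multiset.eq_of_mem_replicate ha]; norm_num) (by simp at hf; omega)
  refine ⟨χ, hgood, g, ?_, hv⟩
  rw [hord]
  refine Nat.dvd_antisymm (Multiset.lcm_dvd.2 fun a ha => ?_) ?_
  · rw [Multiset.eq_of_mem_replicate ha]
  · exact Multiset.dvd_lcm (Multiset.mem_replicate.2 ⟨hj.ne', rfl⟩)

end Cfsg.Lib.Char.TwoRow
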