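import Cfsg.Agent.Lib.Char.Formulas
import Mathlib.GroupTheory.RegularWreathProduct

/-!
# Extensions inside regular wreath products, and characters of the base group
-/

set_option autoImplicit false
set_option linter.unusedSectionVars false
set_option linter.style.haveILetI false

namespace Cfsg.Lib.Char.Wreath

open Cfsg
open scoped ComplexConjugate

universe u v

/-- Functoriality in the bottom group. -/
def mapLeft {D E Q : Type*} [Group D] [Group E] [Group Q] (f : D →* E) :
    D ≀ᵣ Q →* E ≀ᵣ Q where
  toFun x := ⟨fun q => f (x.left q), x.right⟩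
  map_one' := by ext <;> simp
  map_mul' x y := by ext <;> simp

theorem mapLeft_injective {D E Q : Type*} [Group D] [Group E] [Group Q] {f : D →* E}
    (hf : Function.Injective f) : Function.Injective (mapLeft (Q := Q) f) := fun x y h =>
  RegularWreathProduct.ext
    (funext fun q => hf (congrFun (congrArg (fun z : E ≀ᵣ Q => z.left) h) q))
    (congrArg (fun z : E ≀ᵣ Q => z.right) h :)

/-- A group embeds into the regular wreath product of a normal subgroup by the quotient. -/
theorem exists_embedding {G : Type u} [Group G] (N : Subgroup G) [N.Normal] :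
    ∃ f : G →* N ≀ᵣ (G ⧸ N), Function.Injective f := by
  have hout : ∀ a : G ⧸ N, (a.out : G ⧸ N) = a := QuotientGroup.out_eq'
  have hmem : ∀ (g : G) (x : G ⧸ N), x.out⁻¹ * g * ((g : G ⧸ N)⁻¹ * x).out ∈ N := by
    intro g x
    rw [← QuotientGroup.eq_one_iff]
    simp [hout]
  refine ⟨{ toFun := fun g => ⟨fun x => ⟨_, hmem g x⟩, (g : G ⧸ N)⟩
            map_one' := ?_
            map_mul' := fun g k => ?_ }, fun g k h => ?_⟩
  · ext x <;> simp
  · ext x
    · simp [mul_assoc]
    · simp
  · have hr : (g : G ⧸ N) = (k : G ⧸ N) := congrArg RegularWreathProduct.right h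
    have hl := congrArg Subtype.val (congrFun (congrArg RegularWreathProduct.left h) 1)
    simp only [MonoidHom.coe_mk, OneHom.coe_mk, hr] at hl
    exact mul_left_cancel (mul_right_cancel hl)

variable (D : Type u) [Group D] (Q : Type v) [Group Q]

/-- The base group. -/
def base : Subgroup (D ≀ᵣ Q) := (RegularWreathProduct.rightHom (D := D) (Q := Q)).ker

instance : (base D Q).Normal := MonoidHom.normal_ker _

variable {D Q}

theorem mem_base {x : D ≀ᵣ Q} : x ∈ base D Q ↔ x.right = 1 := Iff.rfl

/-- The base group is the group of functions. -/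
def baseEquiv : base D Q ≃* (Q → D) where
  toFun b := (b : D ≀ᵣ Q).left
  invFun f := ⟨⟨f, 1⟩, rfl⟩
  left_inv b := Subtype.ext (RegularWreathProduct.ext rfl (mem_base.1 b.2).symm)
  right_inv f := rfl
  map_mul' a b := by
    funext q
    simp [show (a : D ≀ᵣ Q).right = 1 from a.2]

theorem index_base [Finite D] [Finite Q] : (base D Q).index = Nat.card Q := by
  rw [base, Subgroup.index_ker, MonoidHom.range_eq_top.2 (fun q => ⟨⟨1, q⟩, rfl⟩), Subgroup.card_top]

theorem conj_left (g x : D ≀ᵣ Q) (hx : x.right = 1) (q : Q) :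
    (g * x * g⁻¹).left q = g.left q * x.left (g.right⁻¹ * q) * (g.left q)⁻¹ := by
  simp [hx]

/-- The product of characters of the factors. -/
noncomputable def prodChar [Fintype Q] (ψ : Q → D → ℂ) : base D Q → ℂ :=
  fun b => ∏ q, ψ q ((b : D ≀ᵣ Q).left q)

theorem prodChar_apply_one [Fintype Q] (ψ : Q → D → ℂ) :
    prodChar ψ 1 = ∏ q, ψ q 1 := by
  simp [prodChar]

theorem isCharacter_prodChar [Fintype Q] {ψ : Q → D → ℂ} (h : ∀ q, IsCharacter D (ψ q)) :
    IsCharacter (base D Q) (prodChar ψ) := by
  classical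
  suffices ∀ s : Finset Q,
      IsCharacter (base D Q) fun b => ∏ q ∈ s, ψ q ((b : D ≀ᵣ Q).left q) from this Finset.univ
  intro s
  induction s using Finset.induction_on with
  | empty => simpa using (isCharacter_one : IsCharacter (base D Q) fun _ => 1)
  | insert q s hq ih =>
    simp only [Finset.prod_insert hq]
    exact ((h q).comp ((Pi.evalMonoidHom (fun _ : Q => D) q).comp
      (baseEquiv (D := D) (Q := Q)).toMonoidHom)).mul ih

variable [Fintype D] [Fintype Q]

theorem classInner_prodChar [Fintype (base D Q)] (ψ φ : Q → D → ℂ) :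
    classInner (prodChar ψ) (prodChar φ) = ∏ q, classInner (ψ q) (φ q) := by
  classical
  simp only [classInner, prodChar, map_prod, ← Finset.prod_mul_distrib]
  rw [Finset.prod_mul_distrib, Finset.prod_const, Finset.card_univ, Fintype.prod_sum,
    inv_pow]
  congr 1
  · rw [Nat.card_congr (baseEquiv (D := D) (Q := Q)).toEquiv, Nat.card_fun, Nat.cast_pow,
      Nat.card_eq_fintype_card (α := Q)]
  · exact Fintype.sum_equiv (baseEquiv (D := D) (Q := Q)).toEquiv _ _ fun b => rfl

theorem isIrrCharacter_prodChar [Fintype (base D Q)] (ψ : Q → IrrCharacter D) :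
    IsIrrCharacter (base D Q) (prodChar fun q => (ψ q : D → ℂ)) :=
  isIrrCharacter_of_norm_one (isCharacter_prodChar fun q => (ψ q).2.isCharacter)
    (by rw [classInner_prodChar]; exact Finset.prod_eq_one fun q _ => classInner_irr_self (ψ q).2)

theorem prodChar_injective [Fintype (base D Q)] {ψ φ : Q → IrrCharacter D}
    (h : prodChar (fun q => (ψ q : D → ℂ)) = prodChar (fun q => (φ q : D → ℂ))) : ψ = φ := by
  funext q
  by_contra hne
  have h1 := classInner_irr_self (isIrrCharacter_prodChar ψ)
  nth_rewrite 2 [h] at h1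
  rw [classInner_prodChar, Finset.prod_eq_zero (Finset.mem_univ q)
    (classInner_irr_ne (ψ q).2 (φ q).2 fun e => hne (Subtype.ext e))] at h1
  exact zero_ne_one h1

/-- Every irreducible character of the base group is a product. -/
theorem exists_prodChar [Fintype (base D Q)] {θ : base D Q → ℂ}
    (hθ : IsIrrCharacter (base D Q) θ) :
    ∃ ψ : Q → IrrCharacter D, θ = prodChar fun q => (ψ q : D → ℂ) := by
  classical
  by_contra hcon
  push Not at hcon
  let Φ : (Q → IrrCharacter D) → IrrCharacter (base D Q) :=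
    fun ψ => ⟨_, isIrrCharacter_prodChar ψ⟩
  have hinj : Function.Injective Φ := fun a b h => prodChar_injective (congrArg Subtype.val h)
  have himg : ∑ χ ∈ Finset.univ.image Φ, (χ : base D Q → ℂ) 1 ^ 2 = (Nat.card (base D Q) : ℂ) := by
    rw [Finset.sum_image fun a _ b _ h => hinj h]
    simp only [Φ, prodChar_apply_one, ← Finset.prod_pow]
    rw [← Fintype.prod_sum (fun (_ : Q) (χ : IrrCharacter D) => (χ : D → ℂ) 1 ^ 2),
      Finset.prod_congr rfl fun _ _ => sum_sq_degree, Finset.prod_const, Finset.card_univ,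
      Nat.card_congr (baseEquiv (D := D) (Q := Q)).toEquiv, Nat.card_fun, Nat.cast_pow,
      Nat.card_eq_fintype_card (α := Q)]
  have hnot : (⟨θ, hθ⟩ : IrrCharacter (base D Q)) ∉ Finset.univ.image Φ := fun h => by
    obtain ⟨ψ, -, hψ⟩ := Finset.mem_image.1 h
    exact hcon ψ (congrArg Subtype.val hψ).symm
  have hall := sum_sq_degree (G := base D Q)
  rw [← Finset.sum_add_sum_compl (Finset.univ.image Φ), himg, add_eq_left] at hall
  have hcast : ∑ χ ∈ (Finset.univ.image Φ)ᶜ, charDegree (χ : base D Q → ℂ) ^ 2 = 0 := by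
    rw [Finset.sum_congr rfl fun χ _ => by rw [χ.2.apply_one_eq_charDegree]] at hall
    exact_mod_cast hall
  have := Finset.sum_eq_zero_iff.1 hcast _ (Finset.mem_compl.2 hnot)
  exact absurd (pow_eq_zero_iff two_ne_zero |>.1 this) hθ.charDegree_pos.ne'

end Cfsg.Lib.Char.Wreath
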