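import Cfsg.Agent.Lib.Block.CentralDefect
import Cfsg.Agent.Lib.Char.WreathEmbed
import Cfsg.Agent.Lib.Char.Quotient
import Cfsg.Agent.Lib.Char.TwoDegrees
import Cfsg.Agent.Lib.Char.Clifford

/-!
# Groups of central type from wreath products

A fully ramified faithful character and a group of prime order give a fully ramified faithful
character of a group whose central quotient contains the wreath product.
-/

set_option autoImplicit false
set_option linter.unusedSectionVars false
set_option linter.style.haveILetI false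

namespace Cfsg.Lib.Char

open Cfsg
open scoped ComplexConjugate

universe u

variable {G : Type u} [Group G] [Fintype G]

/-- The scalar by which the centre acts. -/
theorem exists_centre_hom (χ : IrrCharacter G) :
    ∃ ω : Subgroup.center G →* ℂˣ, ∀ (z : Subgroup.center G) (g : G),
      (χ : G → ℂ) ((z : G) * g) = (ω z : ℂ) * (χ : G → ℂ) g := by
  choose c hc hcg using fun z : Subgroup.center G => Block.exists_central_scalar χ z.2
  have hone : ∀ z : Subgroup.center G, c z * (χ : G → ℂ) 1 = (χ : G → ℂ) z := fun z => by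
    rw [← hcg z 1, mul_one]
  let ω₀ : Subgroup.center G →* ℂ :=
    { toFun := c
      map_one' := by
        refine mul_right_cancel₀ χ.2.apply_one_ne_zero ?_
        rw [hone, one_mul, OneMemClass.coe_one]
      map_mul' := fun a b => by
        refine mul_right_cancel₀ χ.2.apply_one_ne_zero ?_
        rw [hone, mul_assoc, hone, Subgroup.coe_mul, hcg] }
  exact ⟨ω₀.toHomUnits, fun z g => hcg z g⟩

/-- Fully ramified over the centre: vanishing outside. -/
theorem eq_zero_of_notMem_center (χ : IrrCharacter G)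
    (hd : charDegree (χ : G → ℂ) ^ 2 = (Subgroup.center G).index) {g : G}
    (hg : g ∉ Subgroup.center G) : (χ : G → ℂ) g = 0 := by
  classical
  obtain ⟨ω, hω⟩ := exists_centre_hom χ
  haveI := Fintype.ofFinite (Subgroup.center G)
  have hnorm : ∑ x : G, ‖(χ : G → ℂ) x‖ ^ 2 = (Nat.card G : ℝ) := by
    have h := classInner_irr_self χ.2
    rw [classInner, inv_mul_eq_one₀ card_cast_ne_zero] at h
    have h' := congrArg Complex.re h.symm
    rw [Complex.re_sum, Complex.natCast_re] at h'
    rw [← h']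
    refine Finset.sum_congr rfl fun x _ => ?_
    rw [Complex.mul_conj, Complex.ofReal_re, Complex.normSq_eq_norm_sq]
  have hin : ∑ x ∈ Finset.univ.filter (· ∈ Subgroup.center G), ‖(χ : G → ℂ) x‖ ^ 2 =
      (Nat.card G : ℝ) := by
    rw [Finset.sum_congr rfl (g := fun _ => (charDegree (χ : G → ℂ) : ℝ) ^ 2) fun x hx => by
      have hval := hω ⟨x, (Finset.mem_filter.1 hx).2⟩ 1
      have hn : ‖((ω ⟨x, (Finset.mem_filter.1 hx).2⟩ : ℂˣ) : ℂ)‖ = 1 := by
        refine Complex.norm_eq_one_of_pow_eq_one (n := Nat.card (Subgroup.center G)) ?_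
          Nat.card_pos.ne'
        rw [← Units.val_pow_eq_pow_val, ← map_pow, pow_card_eq_one', map_one, Units.val_one]
      rw [mul_one] at hval
      show ‖(χ : G → ℂ) x‖ ^ 2 = _
      rw [show (χ : G → ℂ) x = _ from hval, norm_mul, hn, one_mul,
        χ.2.apply_one_eq_charDegree, Complex.norm_natCast]]
    rw [Finset.sum_const, ← Fintype.card_subtype, nsmul_eq_mul]
    have e := (Subgroup.center G).card_mul_index
    rw [← hd] at e
    rw [← e]
    push_cast
    rw [Nat.card_eq_fintype_card]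
  rw [← Finset.sum_filter_add_sum_filter_not Finset.univ (· ∈ Subgroup.center G), hin,
    add_eq_left] at hnorm
  have := (Finset.sum_eq_zero_iff_of_nonneg fun x _ => by positivity).1 hnorm g
    (Finset.mem_filter.2 ⟨Finset.mem_univ g, hg⟩)
  simpa using this

/-- A group with a faithful character fully ramified over a centre of squarefree order with given
prime divisors, whose central quotient contains `G`. -/
def CentralTypeData (G : Type u) [Group G] : Prop :=
  ∃ (H : Type u) (_ : Group H) (_ : Finite H) (χ : IrrCharacter H),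
    (∀ h : H, (χ : H → ℂ) h = (χ : H → ℂ) 1 → h = 1) ∧
    (charDegree (χ : H → ℂ)) ^ 2 = (Subgroup.center H).index ∧
    (∃ f : G →* H ⧸ Subgroup.center H, Function.Injective f) ∧
    (∀ p : ℕ, p.Prime → ((p ∣ Nat.card H ↔ p ∣ Nat.card G) ∧
      (p ∣ Nat.card (Subgroup.center H) ↔ p ∣ Nat.card G))) ∧
    Squarefree (Nat.card (Subgroup.center H))

open Wreath in
theorem CentralTypeData.of_normal {G : Type u} [Group G] [Finite G] (N : Subgroup G) [N.Normal]
    (hp : N.index.Prime) (h : CentralTypeData N) : CentralTypeData G := by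
  classical
  obtain ⟨D, _, _, ψ, hfaith, hdeg, ⟨f, hf⟩, hprimes, hsq⟩ := h
  haveI := Fintype.ofFinite D
  set Q := G ⧸ N with hQdef
  haveI := Fintype.ofFinite Q
  have hQcard : Nat.card Q = N.index := (Subgroup.index_eq_card N).symm
  set p := N.index with hpdef
  haveI := Fact.mk hp
  haveI hQcyc : IsCyclic Q := isCyclic_of_prime_card hQcard
  letI : CommGroup Q := { (inferInstance : Group Q) with
    mul_comm := fun a b => (IsCyclic.commGroup (α := Q)).mul_comm a b }
  obtain ⟨g₀, hg₀⟩ := IsCyclic.exists_generator (α := Q)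
  -- an injective linear character of `Q`
  obtain ⟨ε, hε⟩ : ∃ ε : Q →* ℂˣ, ε g₀ ≠ 1 := by
    by_contra hall
    push Not at hall
    have h1 := eq_one_of_forall_hom (fun a b : Q => mul_comm a b) hall
    have h2 : Nat.card Q = 1 := by
      refine Nat.card_eq_one_iff_exists.2 ⟨1, fun x => ?_⟩
      obtain ⟨i, rfl⟩ := Subgroup.mem_zpowers_iff.1 (hg₀ x)
      show g₀ ^ i = 1
      rw [h1, one_zpow]
    exact hp.ne_one (hQcard ▸ h2)
  have hεinj : Function.Injective ε := by
    rw [← MonoidHom.ker_eq_bot_iff]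
    refine ((MonoidHom.ker ε).eq_bot_or_eq_top_of_prime_card (hp := ⟨hQcard ▸ hp⟩)).resolve_right
      fun e => hε (MonoidHom.mem_ker.1 (e ▸ Subgroup.mem_top g₀))
  -- second components affine
  let X : Subgroup ((D × Q) ≀ᵣ Q) :=
    { carrier := {w | ∃ (c : Q) (i : ℤ), ∀ q, (w.left q).2 = c * q ^ i}
      one_mem' := ⟨1, 0, fun q => by simp⟩
      mul_mem' := fun {a b} ⟨c, i, ha⟩ ⟨d, j, hb⟩ => ⟨c * d * (a.right⁻¹) ^ j, i + j, fun q => by
        simp only [RegularWreathProduct.mul_left, Pi.mul_apply, Prod.snd_mul, ha, hb, mul_zpow,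
          zpow_add]
        simp only [mul_comm, mul_left_comm, mul_assoc]⟩
      inv_mem' := fun {a} ⟨c, i, ha⟩ => ⟨(c * a.right ^ i)⁻¹, -i, fun q => by
        simp only [RegularWreathProduct.inv_left, Pi.inv_apply, Prod.snd_inv, ha, mul_zpow,
          mul_inv, zpow_neg]
        simp only [mul_comm, mul_left_comm]⟩ }
  haveI := Fintype.ofFinite X
  let πr : X →* Q := (RegularWreathProduct.rightHom (D := D × Q) (Q := Q)).comp X.subtype
  have hπr : Function.Surjective πr := fun q => ⟨⟨⟨1, q⟩, 1, 0, fun _ => by simp⟩, rfl⟩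
  set X₀ := πr.ker with hX₀
  haveI := Fintype.ofFinite X₀
  have hr : ∀ x : X₀, ((x : X) : (D × Q) ≀ᵣ Q).right = 1 := fun x => x.2
  let ev : Q → X₀ →* D × Q := fun q =>
    { toFun := fun x => ((x : X) : (D × Q) ≀ᵣ Q).left q
      map_one' := rfl
      map_mul' := fun x y => by simp [hr x] }
  set d := charDegree (ψ : D → ℂ) with hd
  let θ : X₀ → ℂ := fun x => (∏ q, (ψ : D → ℂ) (ev q x).1) * (ε (ev 1 x).2 : ℂ)
  have hθc : IsCharacter X₀ θ := by
    refine IsCharacter.mul ?_ ((isIrrCharacter_linear ε).isCharacter.comp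
      ((MonoidHom.snd D Q).comp (ev 1)))
    suffices ∀ s : Finset Q, IsCharacter X₀ fun x => ∏ q ∈ s, (ψ : D → ℂ) (ev q x).1 from
      this Finset.univ
    intro s
    induction s using Finset.induction_on with
    | empty => simpa using (isCharacter_one : IsCharacter X₀ fun _ => 1)
    | insert q s hq ih =>
      simp only [Finset.prod_insert hq]
      exact (ψ.2.isCharacter.comp ((MonoidHom.fst D Q).comp (ev q))).mul ih
  set χ : X → ℂ := indFun X₀ θ with hχ
  have hidx : X₀.index = p := by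
    rw [hX₀, Subgroup.index_ker, MonoidHom.range_eq_top.2 hπr, Subgroup.card_top, hQcard]
  have hθ1 : θ 1 = ((d ^ p : ℕ) : ℂ) := by
    simp only [θ, map_one, Prod.fst_one, Prod.snd_one, Units.val_one, mul_one, Finset.prod_const,
      Finset.card_univ, ψ.2.apply_one_eq_charDegree, ← hd]
    rw [← Nat.card_eq_fintype_card, hQcard, Nat.cast_pow]
  have hχ1 : χ 1 = ((p * d ^ p : ℕ) : ℂ) := by
    rw [hχ, indFun_apply_one, hidx, hθ1]
    push_cast
    rfl
  -- conjugation
  have hconst : ∀ x : X₀, ∃ (c : Q) (i : ℤ), ∀ q, (ev q x).2 = c * q ^ i := fun x => (x : X).2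
  have hconj : ∀ (g : X) (x : X₀) (q : Q),
      ((g : (D × Q) ≀ᵣ Q) * ((x : X) : (D × Q) ≀ᵣ Q) * (g : (D × Q) ≀ᵣ Q)⁻¹).left q =
        (g : (D × Q) ≀ᵣ Q).left q * ev ((g : (D × Q) ≀ᵣ Q).right⁻¹ * q) x *
          ((g : (D × Q) ≀ᵣ Q).left q)⁻¹ := fun g x q => Wreath.conj_left _ _ (hr x) q
  have hterm : ∀ (g : X) (x : X₀), θ ⟨g * x * g⁻¹, (inferInstance : X₀.Normal).conj_mem x x.2 g⟩ =
      (∏ q, (ψ : D → ℂ) (ev q x).1) * (ε (ev ((g : (D × Q) ≀ᵣ Q).right⁻¹) x).2 : ℂ) := by
    intro g x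
    simp only [θ, ev, MonoidHom.coe_mk, OneHom.coe_mk, Subgroup.coe_mul, InvMemClass.coe_inv]
    simp only [hconj, mul_one, Prod.fst_mul, Prod.snd_mul, Prod.fst_inv, Prod.snd_inv]
    congr 1
    · refine Fintype.prod_equiv (Equiv.mulLeft ((g : (D × Q) ≀ᵣ Q).right)⁻¹) _ _ fun q => ?_
      exact ψ.2.isClassFunction _ _
    · simp only [map_mul, map_inv]
      rw [mul_right_comm, mul_inv_cancel, one_mul]
      rfl
  have hval : ∀ x : X₀, χ x = if ∀ q, (ev q x).2 = (ev 1 x).2 then (p : ℂ) * θ x else 0 := by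
    intro x
    rw [hχ, indFun_normal_apply]
    split_ifs with hc
    · rw [Finset.sum_congr rfl fun g _ => (hterm g x).trans (by rw [hc]), Finset.sum_const,
        Finset.card_univ, nsmul_eq_mul, ← mul_assoc, ← Nat.card_eq_fintype_card,
        ← X₀.card_mul_index, hidx, Nat.cast_mul, inv_mul_cancel_left₀ card_cast_ne_zero]
    · obtain ⟨c, i, hx⟩ := hconst x
      obtain ⟨r, hr0⟩ : ∃ r : Q, (ε (r⁻¹ ^ i) : ℂˣ) ≠ 1 := by
        by_contra hall
        push Not at hall
        refine hc fun q => ?_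
        have h1 : (q ^ i) = 1 := hεinj (by rw [map_one]; simpa using hall q⁻¹)
        rw [hx, hx, h1, one_zpow]
      refine mul_eq_zero.2 (Or.inr ?_)
      refine eq_zero_of_mul_eq_self_left (fun e => hr0 (Units.ext e) :
        ((ε (r⁻¹ ^ i) : ℂˣ) : ℂ) ≠ 1) ?_
      rw [Finset.mul_sum]
      let a : X := ⟨⟨1, r⟩, 1, 0, fun _ => by simp⟩
      refine Fintype.sum_equiv (Equiv.mulLeft a) _ _ fun g => ?_
      rw [hterm, hterm, hx, hx]
      simp only [Equiv.coe_mulLeft, Subgroup.coe_mul, RegularWreathProduct.mul_right, a,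
        map_mul, mul_inv, mul_zpow, Units.val_mul]
      ring
  -- the scalar part
  let Y : Subgroup X :=
    { carrier := {x | πr x = 1 ∧ ∀ q, ((x : (D × Q) ≀ᵣ Q).left q).1 ∈ Subgroup.center D ∧
        ((x : (D × Q) ≀ᵣ Q).left q).2 = ((x : (D × Q) ≀ᵣ Q).left 1).2}
      one_mem' := ⟨map_one _, fun q => ⟨one_mem _, rfl⟩⟩
      mul_mem' := fun {a b} ha hb => ⟨by rw [map_mul, ha.1, hb.1, one_mul], fun q => by
        have har : (a : (D × Q) ≀ᵣ Q).right = 1 := ha.1
        simp only [Subgroup.coe_mul, RegularWreathProduct.mul_left, Pi.mul_apply, har, inv_one,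
          one_mul, Prod.fst_mul, Prod.snd_mul]
        exact ⟨mul_mem (ha.2 q).1 (hb.2 q).1, by rw [(ha.2 q).2, (hb.2 q).2]⟩⟩
      inv_mem' := fun {a} ha => ⟨by rw [map_inv, ha.1, inv_one], fun q => by
        have har : (a : (D × Q) ≀ᵣ Q).right = 1 := ha.1
        simp only [InvMemClass.coe_inv, RegularWreathProduct.inv_left, Pi.inv_apply, har, one_mul,
          Prod.fst_inv, Prod.snd_inv]
        exact ⟨inv_mem (ha.2 q).1, by rw [(ha.2 q).2]⟩⟩ }
  haveI := Fintype.ofFinite Y
  obtain ⟨ω, hω⟩ := exists_centre_hom ψ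
  have hωinj : Function.Injective ω := by
    rw [injective_iff_map_eq_one]
    intro z hz
    refine Subtype.ext (hfaith _ ?_)
    have := hω z 1
    rwa [mul_one, hz, Units.val_one, one_mul] at this
  let zc : Q → Y →* Subgroup.center D := fun q =>
    { toFun := fun y => ⟨(((y : X) : (D × Q) ≀ᵣ Q).left q).1, (y.2.2 q).1⟩
      map_one' := rfl
      map_mul' := fun a b => Subtype.ext (by
        simp [show ((a : X) : (D × Q) ≀ᵣ Q).right = 1 from a.2.1]) }
  let cc : Y →* Q :=
    { toFun := fun y => (((y : X) : (D × Q) ≀ᵣ Q).left 1).2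
      map_one' := rfl
      map_mul' := fun a b => by simp [show ((a : X) : (D × Q) ≀ᵣ Q).right = 1 from a.2.1] }
  let s : Y →* ℂˣ :=
    { toFun := fun y => (∏ q, ω (zc q y)) * ε (cc y)
      map_one' := by simp
      map_mul' := fun a b => by simp only [map_mul, Finset.prod_mul_distrib]; exact mul_mul_mul_comm _ _ _ _ }
  have hYval : ∀ y : Y, χ y = (s y : ℂ) * χ 1 := by
    intro y
    have h0 := hval ⟨y, y.2.1⟩
    rw [if_pos (show ∀ q, (ev q ⟨(y : X), y.2.1⟩).2 = (ev 1 ⟨(y : X), y.2.1⟩).2 from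
      fun q => (y.2.2 q).2)] at h0
    refine h0.trans ?_
    have hq : ∀ q, (ψ : D → ℂ) (((y : X) : (D × Q) ≀ᵣ Q).left q).1 = (ω (zc q y) : ℂ) * (d : ℂ) := by
      intro q
      have h1 := hω (zc q y) 1
      rwa [mul_one, ψ.2.apply_one_eq_charDegree, ← hd] at h1
    show (p : ℂ) * ((∏ q, (ψ : D → ℂ) (((y : X) : (D × Q) ≀ᵣ Q).left q).1) * (ε (cc y) : ℂ)) =
      (((∏ q, ω (zc q y)) * ε (cc y) : ℂˣ) : ℂ) * χ 1
    rw [Finset.prod_congr rfl fun q _ => hq q, Finset.prod_mul_distrib, Finset.prod_const,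
      Finset.card_univ, ← Nat.card_eq_fintype_card, hQcard, hχ1, Units.val_mul, Units.coe_prod]
    push_cast
    ring
  have hzero : ∀ x : X, x ∉ Y → χ x = 0 := by
    intro x hx
    by_cases hx0 : x ∈ X₀
    · have h0 := hval ⟨x, hx0⟩
      refine h0.trans ?_
      split_ifs with hc
      · obtain ⟨q, hq⟩ : ∃ q, ((x : (D × Q) ≀ᵣ Q).left q).1 ∉ Subgroup.center D := by
          by_contra hall
          push Not at hall
          exact hx ⟨hx0, fun q => ⟨hall q, hc q⟩⟩
        simp only [θ]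
        rw [Finset.prod_eq_zero (Finset.mem_univ q) (eq_zero_of_notMem_center ψ hdeg hq), zero_mul,
          mul_zero]
      · rfl
    · exact indFun_normal_of_notMem X₀ θ hx0
  -- cardinalities
  have hcardY : Nat.card Y = Nat.card (Subgroup.center D) ^ p * p := by
    let e : Y ≃ (Q → Subgroup.center D) × Q :=
      { toFun := fun y => (fun q => zc q y, cc y)
        invFun := fun t => ⟨⟨⟨fun q => ((t.1 q : D), t.2), 1⟩, t.2, 0, fun q => by simp⟩, rfl,
          fun q => ⟨(t.1 q).2, rfl⟩⟩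
        left_inv := fun y => Subtype.ext (Subtype.ext (RegularWreathProduct.ext
          (funext fun q => Prod.ext rfl ((y.2.2 q).2).symm) (y.2.1).symm))
        right_inv := fun t => rfl }
    rw [Nat.card_congr e, Nat.card_prod, Nat.card_fun, hQcard]
  have hcardX : Nat.card X = Nat.card D ^ p * (p * p) * p := by
    let eX : X → (Q → D) × (Q × Q) × Q := fun w => (fun q => ((w : (D × Q) ≀ᵣ Q).left q).1,
      (((w : (D × Q) ≀ᵣ Q).left 1).2, ((w : (D × Q) ≀ᵣ Q).left g₀).2), (w : (D × Q) ≀ᵣ Q).right)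
    have hbij : Function.Bijective eX := by
      constructor
      · intro a b hab
        obtain ⟨c, i, ha⟩ := a.2
        obtain ⟨c', j, hb⟩ := b.2
        simp only [eX, Prod.mk.injEq, ha, hb, one_zpow, mul_one] at hab
        obtain ⟨h1, ⟨h2, h3⟩, h4⟩ := hab
        subst h2
        have h5 : g₀ ^ i = g₀ ^ j := mul_left_cancel h3
        refine Subtype.ext (RegularWreathProduct.ext (funext fun q => Prod.ext (congrFun h1 q) ?_) h4)
        rw [ha, hb]
        obtain ⟨k, rfl⟩ := Subgroup.mem_zpowers_iff.1 (hg₀ q)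
        show c * (g₀ ^ k) ^ i = c * (g₀ ^ k) ^ j
        rw [← zpow_mul, ← zpow_mul, mul_comm k i, mul_comm k j, zpow_mul, zpow_mul, h5]
      · rintro ⟨u, ⟨c, b⟩, r⟩
        obtain ⟨i, hi⟩ := Subgroup.mem_zpowers_iff.1 (hg₀ (c⁻¹ * b))
        refine ⟨⟨⟨fun q => (u q, c * q ^ i), r⟩, c, i, fun q => rfl⟩, ?_⟩
        simp only [eX, one_zpow, mul_one, hi, mul_inv_cancel_left]
    rw [Nat.card_eq_of_bijective _ hbij, Nat.card_prod, Nat.card_prod, Nat.card_prod, Nat.card_fun,
      hQcard]
    ring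
  have hcard : Nat.card Y * (p * d ^ p) ^ 2 = Nat.card X := by
    rw [hcardY, hcardX, ← (Subgroup.center D).card_mul_index, ← hdeg, mul_pow]
    ring
  have hχc : IsCharacter X χ := isCharacter_indFun X₀ hθc
  have hsnorm : ∀ y : Y, (s y : ℂ) * conj (s y : ℂ) = 1 := fun y => by
    rw [Complex.mul_conj, Complex.normSq_eq_norm_sq, Complex.norm_eq_one_of_pow_eq_one
      (n := Nat.card Y) (by rw [← Units.val_pow_eq_pow_val, ← map_pow, pow_card_eq_one', map_one,
        Units.val_one]) Nat.card_pos.ne']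
    simp
  have hχirr : IsIrrCharacter X χ := by
    refine isIrrCharacter_of_norm_one hχc ?_
    rw [classInner, inv_mul_eq_one₀ card_cast_ne_zero, ← Finset.sum_subset
      (Finset.subset_univ (Finset.univ.filter (· ∈ Y))) fun x _ hx => by
        rw [hzero x (by simpa using hx), zero_mul]]
    rw [Finset.sum_congr rfl (g := fun _ => ((p * d ^ p : ℕ) : ℂ) ^ 2) fun x hx => by
      have e := hYval ⟨x, (Finset.mem_filter.1 hx).2⟩
      show χ x * conj (χ x) = _
      rw [show χ x = _ from e, map_mul, mul_mul_mul_comm, hsnorm, one_mul, hχ1, map_natCast, sq]]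
    rw [Finset.sum_const, ← Fintype.card_subtype, nsmul_eq_mul, ← hcard]
    push_cast
    rw [Nat.card_eq_fintype_card]
  -- pass to the faithful quotient
  set K := charKer hχc with hK
  haveI : K.Normal := charKer_normal hχc
  have hKY : K ≤ Y := by
    intro x hx
    by_contra hxY
    have h1 := (mem_charKer hχc).1 hx
    rw [hzero x hxY] at h1
    exact hχirr.apply_one_ne_zero h1.symm
  obtain ⟨η, hη, hηe⟩ := exists_deflate_irr K hχirr fun x hx => (mem_charKer hχc).1 hx
  haveI := Fintype.ofFinite (X ⧸ K)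
  set π := QuotientGroup.mk' K with hπ
  have hsurj : Function.Surjective π := QuotientGroup.mk'_surjective K
  have hηdeg : charDegree η = p * d ^ p := by
    have : η 1 = ((p * d ^ p : ℕ) : ℂ) := by rw [← hχ1, ← hηe 1, QuotientGroup.mk_one]
    rw [charDegree, this, Complex.natCast_re, Nat.floor_natCast]
  have hηfaith : ∀ h : X ⧸ K, η h = η 1 → h = 1 := by
    intro h hh
    obtain ⟨x, rfl⟩ := hsurj h
    refine (QuotientGroup.eq_one_iff x).2 ((mem_charKer hχc).2 ?_)
    rw [← hηe x, ← hηe 1, QuotientGroup.mk_one]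
    exact hh
  -- the centre is the image of the scalar part
  have hskerK : ∀ y : Y, s y = 1 → (y : X) ∈ K := fun y hy =>
    (mem_charKer hχc).2 (by rw [hYval, hy, Units.val_one, one_mul])
  have hsinv : ∀ (g : X) (y : Y) (hg : g * y * g⁻¹ ∈ Y), s ⟨g * y * g⁻¹, hg⟩ = s y := by
    intro g y hg
    have h1 := hχc.isClassFunction (y : X) g
    rw [hYval y, show χ (g * y * g⁻¹) = _ from hYval ⟨g * y * g⁻¹, hg⟩] at h1
    exact Units.ext (mul_right_cancel₀ hχirr.apply_one_ne_zero h1)
  have hYnormal : ∀ (g : X) (y : Y), g * (y : X) * g⁻¹ ∈ Y := by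
    intro g y
    by_contra hgy
    have h1 := hχc.isClassFunction (y : X) g
    rw [hzero _ hgy, hYval] at h1
    exact mul_ne_zero (s y).ne_zero hχirr.apply_one_ne_zero h1.symm
  have hcenter : Subgroup.center (X ⧸ K) = Y.map π := by
    refine le_antisymm (fun z hz => ?_) ?_
    · obtain ⟨x, rfl⟩ := hsurj z
      refine ⟨x, ?_, rfl⟩
      by_contra hxY
      obtain ⟨c, hc1, hc⟩ := Block.exists_central_scalar ⟨η, hη⟩ hz
      have h1 := hc 1
      rw [mul_one] at h1
      have h2 : η (π x) = 0 := (hηe x).trans (hzero x hxY)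
      rw [show (⟨η, hη⟩ : IrrCharacter (X ⧸ K)).1 (π x) = η (π x) from rfl, h2] at h1
      rcases mul_eq_zero.1 h1.symm with h3 | h3
      · rw [h3, zero_pow (orderOf_pos _).ne'] at hc1
        exact zero_ne_one hc1
      · exact hη.apply_one_ne_zero h3
    · rintro _ ⟨y, hy, rfl⟩
      rw [Subgroup.mem_center_iff]
      intro g'
      obtain ⟨g, rfl⟩ := hsurj g'
      have hk := hskerK ⟨g * y * g⁻¹ * y⁻¹, mul_mem (hYnormal g ⟨y, hy⟩) (inv_mem hy)⟩ (by
        rw [show (⟨g * y * g⁻¹ * y⁻¹, mul_mem (hYnormal g ⟨y, hy⟩) (inv_mem hy)⟩ : Y) =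
          ⟨g * y * g⁻¹, hYnormal g ⟨y, hy⟩⟩ * (⟨y, hy⟩ : Y)⁻¹ from rfl, map_mul, map_inv,
          hsinv g ⟨y, hy⟩ (hYnormal g ⟨y, hy⟩), mul_inv_cancel])
      have e := (QuotientGroup.eq_one_iff (N := K) _).2 hk
      simp only [hπ, QuotientGroup.mk'_apply]
      rw [← mul_inv_eq_iff_eq_mul, ← mul_inv_eq_one]
      simpa using e
  have hcomap : (Subgroup.center (X ⧸ K)).comap π = Y := by
    rw [hcenter, Subgroup.comap_map_eq, QuotientGroup.ker_mk', sup_eq_left.2 hKY]
  have hindex : (Subgroup.center (X ⧸ K)).index = (p * d ^ p) ^ 2 := by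
    rw [← Subgroup.index_comap_of_surjective _ hsurj, hcomap]
    exact Nat.eq_of_mul_eq_mul_left Nat.card_pos (Y.card_mul_index.trans hcard.symm)
  -- the order of the centre
  have hZcard : Nat.card (Subgroup.center (X ⧸ K)) = Nat.card s.range := by
    have hker : (π.comp Y.subtype).ker = s.ker := by
      ext y
      rw [MonoidHom.mem_ker, MonoidHom.mem_ker, MonoidHom.comp_apply, hπ, QuotientGroup.mk'_apply,
        QuotientGroup.eq_one_iff]
      refine ⟨fun hy => ?_, hskerK y⟩
      have h1 := (mem_charKer hχc).1 hy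
      rw [Y.subtype_apply, hYval] at h1
      exact Units.ext ((mul_eq_right₀ hχirr.apply_one_ne_zero).1 h1)
    rw [hcenter, ← Subgroup.index_ker, ← hker, Subgroup.index_ker, MonoidHom.range_comp,
      Subgroup.range_subtype]
  have hsωε : s.range = ω.range ⊔ ε.range := by
    refine le_antisymm ?_ (sup_le ?_ ?_)
    · rintro _ ⟨y, rfl⟩
      exact Subgroup.mul_mem_sup (Subgroup.prod_mem _ fun q _ => ⟨zc q y, rfl⟩) ⟨cc y, rfl⟩
    · rintro _ ⟨z, rfl⟩
      let y : Y := ⟨⟨⟨fun q => (if q = 1 then (z : D) else 1, 1), 1⟩, 1, 0, fun q => by simp⟩,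
        rfl, fun q => ⟨by by_cases hq : q = 1 <;> simp [hq, z.2], rfl⟩⟩
      refine ⟨y, ?_⟩
      show (∏ q, ω (zc q y)) * ε (cc y) = ω z
      rw [show cc y = 1 from rfl, map_one, mul_one, Finset.prod_eq_single (1 : Q)
        (fun q _ hq => by rw [show zc q y = 1 from Subtype.ext (if_neg hq), map_one])
        (fun h => absurd (Finset.mem_univ _) h), show zc 1 y = z from Subtype.ext (if_pos rfl)]
    · rintro _ ⟨c, rfl⟩
      let y : Y := ⟨⟨⟨fun _ => (1, c), 1⟩, c, 0, fun q => by simp⟩, rfl, fun q => ⟨one_mem _, rfl⟩⟩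
      refine ⟨y, ?_⟩
      show (∏ q, ω (zc q y)) * ε (cc y) = ε c
      rw [Finset.prod_eq_one (fun q _ => by rw [show zc q y = 1 from rfl, map_one]), one_mul]
      rfl
  have hωc : Nat.card ω.range = Nat.card (Subgroup.center D) :=
    (Nat.card_congr (MonoidHom.ofInjective hωinj).toEquiv).symm
  have hεc : Nat.card ε.range = p := by
    rw [← Nat.card_congr (MonoidHom.ofInjective hεinj).toEquiv, hQcard]
  set z := Nat.card (Subgroup.center D) with hz
  set t := Nat.card s.range with ht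
  haveI : Finite s.range := Finite.of_surjective _ s.rangeRestrict_surjective
  have hzt : z ∣ t := hωc ▸ Subgroup.card_dvd_of_le (hsωε ▸ le_sup_left)
  have hpt : p ∣ t := hεc ▸ Subgroup.card_dvd_of_le (hsωε ▸ le_sup_right)
  have htl : t ∣ Nat.lcm z p := by
    haveI : IsCyclic s.range := isCyclic_subgroup_units s.range
    rw [ht, ← IsCyclic.exponent_eq_card]
    refine Monoid.exponent_dvd_of_forall_pow_eq_one fun x => Subtype.ext ?_
    obtain ⟨a, ⟨za, rfl⟩, b, ⟨qb, rfl⟩, hab⟩ := Subgroup.mem_sup.1 (hsωε ▸ x.2 :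
      (x : ℂˣ) ∈ ω.range ⊔ ε.range)
    rw [SubgroupClass.coe_pow, OneMemClass.coe_one, ← hab, mul_pow]
    obtain ⟨i, hi⟩ := Nat.dvd_lcm_left z p
    obtain ⟨j, hj⟩ := Nat.dvd_lcm_right z p
    nth_rewrite 1 [hi]
    rw [hj, pow_mul, pow_mul, ← map_pow ω za z, ← map_pow ε qb p, hz, pow_card_eq_one', ← hQcard,
      pow_card_eq_one']
    simp
  have htsq : Squarefree t := by
    refine Squarefree.squarefree_of_dvd htl ?_
    by_cases hpz : p ∣ z
    · rwa [Nat.lcm_eq_left hpz]
    · have hcop := (hp.coprime_iff_not_dvd.2 hpz).symm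
      rw [hcop.lcm_eq_mul]
      exact (Nat.squarefree_mul hcop).2 ⟨hsq, hp.squarefree⟩
  have hGcard : Nat.card G = Nat.card N * p := (N.card_mul_index).symm
  have htprimes : ∀ r : ℕ, r.Prime → (r ∣ t ↔ r ∣ Nat.card G) := by
    intro r hr
    rw [hGcard, hr.dvd_mul]
    refine ⟨fun h => ?_, ?_⟩
    · have := h.trans (htl.trans (Nat.lcm_dvd_mul z p))
      exact (hr.dvd_mul.1 this).imp (fun h' => (hprimes r hr).2.1 h') id
    · rintro (h | h)
      · exact ((hprimes r hr).2.2 h).trans hzt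
      · exact h.trans hpt
  -- the embedding
  have hwr : ∃ F : (D ⧸ Subgroup.center D) ≀ᵣ Q →* (X ⧸ K) ⧸ Subgroup.center (X ⧸ K),
      Function.Injective F := by
    let j : D ≀ᵣ Q →* X := (Wreath.mapLeft (MonoidHom.inl D Q)).codRestrict X fun w =>
      ⟨1, 0, fun q => by simp [Wreath.mapLeft]⟩
    let J : D ≀ᵣ Q →* (X ⧸ K) ⧸ Subgroup.center (X ⧸ K) :=
      ((QuotientGroup.mk' _).comp π).comp j
    let P : D ≀ᵣ Q →* (D ⧸ Subgroup.center D) ≀ᵣ Q :=
      Wreath.mapLeft (QuotientGroup.mk' (Subgroup.center D))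
    have hP : Function.Surjective P := fun w =>
      ⟨⟨fun q => (w.left q).out, w.right⟩,
        RegularWreathProduct.ext (funext fun q => QuotientGroup.out_eq' _) rfl⟩
    have hJker : J.ker = P.ker := by
      have h1 : J.ker = (Y.comap j) := by
        rw [show J = ((QuotientGroup.mk' _).comp π).comp j from rfl, ← MonoidHom.comap_ker,
          ← MonoidHom.comap_ker, QuotientGroup.ker_mk', hcomap]
      rw [h1]
      ext w
      simp only [Subgroup.mem_comap, MonoidHom.mem_ker]
      constructor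
      · intro hw
        refine RegularWreathProduct.ext (funext fun q => ?_) hw.1
        exact (QuotientGroup.eq_one_iff _).2 (hw.2 q).1
      · intro hw
        have hwr' : w.right = 1 := congrArg (fun v : (D ⧸ Subgroup.center D) ≀ᵣ Q => v.right) hw
        exact ⟨hwr', fun q => ⟨(QuotientGroup.eq_one_iff _).1
          (congrFun (congrArg (fun v : (D ⧸ Subgroup.center D) ≀ᵣ Q => v.left) hw) q), rfl⟩⟩
    refine ⟨(QuotientGroup.lift P.ker J hJker.ge).comp
      (QuotientGroup.quotientKerEquivOfSurjective P hP).symm.toMonoidHom, ?_⟩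
    have hli : Function.Injective (QuotientGroup.lift P.ker J hJker.ge) := by
      rw [← MonoidHom.ker_eq_bot_iff, QuotientGroup.ker_lift, hJker]
      exact QuotientGroup.map_mk'_self _
    exact fun a b hab =>
      (QuotientGroup.quotientKerEquivOfSurjective P hP).symm.injective (hli hab)
  obtain ⟨F, hF⟩ := hwr
  obtain ⟨e, he⟩ := Wreath.exists_embedding N
  refine ⟨X ⧸ K, inferInstance, inferInstance, ⟨η, hη⟩, hηfaith, by rw [hindex, hηdeg],
    ⟨F.comp ((Wreath.mapLeft f).comp e), hF.comp ((Wreath.mapLeft_injective hf).comp he)⟩,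
    fun r hr => ⟨⟨fun h => ?_, fun h => ?_⟩, by rw [hZcard, htprimes r hr]⟩,
    by rw [hZcard]; exact htsq⟩
  · rw [← (Subgroup.center (X ⧸ K)).card_mul_index, hindex, hZcard] at h
    rcases hr.dvd_mul.1 h with h' | h'
    · exact (htprimes r hr).1 h'
    · rcases hr.dvd_mul.1 (hr.dvd_of_dvd_pow h') with h'' | h''
      · rw [hGcard]; exact h''.mul_left _
      · rw [hGcard]
        refine dvd_mul_of_dvd_left ((hprimes r hr).1.1 ?_) _
        exact (hr.dvd_of_dvd_pow h'').trans (degree_dvd_card ψ.2 ψ.2.apply_one_eq_charDegree)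
  · rw [← (Subgroup.center (X ⧸ K)).card_mul_index, hZcard]
    exact ((htprimes r hr).2 h).mul_right _

end Cfsg.Lib.Char
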