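import Cfsg.Agent.Lib.Char.WreathEmbed
import Cfsg.Agent.Lib.Char.Clifford2
import Cfsg.Agent.Lib.Char.Subconstituents
import Cfsg.Agent.Lib.Char.Constituents
import Cfsg.Agent.Lib.Char.Linear
import Cfsg.Agent.Lib.Char.TwoDegrees

/-!
# The wreath product of a monomial group by a group of prime order is monomial
-/

set_option autoImplicit false
set_option linter.unusedSectionVars false
set_option linter.style.haveILetI false

namespace Cfsg.Lib.Char

open Cfsg
open scoped ComplexConjugate

universe u

/-- All irreducible characters are induced from linear ones. -/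
def IsMonomialGroup (M : Type u) [Group M] [Fintype M] : Prop :=
  ∀ χ : M → ℂ, IsIrrCharacter M χ → ∃ (H : Subgroup M) (lam : H →* ℂˣ),
    χ = indFun H (fun h => (lam h : ℂ))

variable {G : Type u} [Group G] [Fintype G]

/-- A constituent of full degree is the induced character. -/
theorem eq_indFun_of_le_degree (H : Subgroup G) (lam : H →* ℂˣ) {χ : G → ℂ}
    (hχ : IsIrrCharacter G χ)
    (hc : classInner (indFun H fun h => (lam h : ℂ)) χ ≠ 0) (hd : H.index ≤ charDegree χ) :
    χ = indFun H (fun h => (lam h : ℂ)) := by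
  have hind : IsCharacter G (indFun H fun h => (lam h : ℂ)) :=
    isCharacter_indFun H (isIrrCharacter_linear lam).isCharacter
  have hle := degree_le_of_constituent hχ hind hc
  have hrest := isCharacter_sub_constituent hind hχ hc
  have h0 := hrest.eq_zero_of_degree (by
    rw [hχ.apply_one_eq_charDegree, indFun_apply_one] at hle
    simp only [map_one, Units.val_one, mul_one, Complex.natCast_re, Nat.cast_le] at hle
    rw [Pi.sub_apply, hχ.apply_one_eq_charDegree, indFun_apply_one, le_antisymm hle hd]
    simp)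
  exact (sub_eq_zero.1 h0).symm

theorem classInner_ne_zero_of_add {α β γ : G → ℂ} (hα : IsCharacter G α) (hβ : IsCharacter G β)
    (hγ : IsCharacter G γ) (h : classInner α γ ≠ 0) : classInner (α + β) γ ≠ 0 := by
  obtain ⟨a, ha⟩ := hα.exists_nat_classInner hγ
  obtain ⟨b, hb⟩ := hβ.exists_nat_classInner hγ
  rw [classInner_add_left, ha, hb]
  rw [ha, Nat.cast_ne_zero] at h
  rw [← Nat.cast_add, Nat.cast_ne_zero]
  omega

open Wreath in
/-- The wreath product of a monomial group by a group of prime order. -/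
theorem isMonomialGroup_wreath {D Q : Type u} [Group D] [Group Q] [Fintype D] [Fintype Q]
    [Fintype (D ≀ᵣ Q)] (hQ : (Nat.card Q).Prime) (hD : IsMonomialGroup D) :
    IsMonomialGroup (D ≀ᵣ Q) := by
  classical
  haveI := Fintype.ofFinite (base D Q)
  haveI := Fact.mk hQ
  haveI : IsCyclic Q := isCyclic_of_prime_card rfl
  intro χ hχ
  have hres : IsCharacter (base D Q) (fun b : base D Q => χ b) :=
    hχ.isCharacter.comp (base D Q).subtype
  obtain ⟨θ, hθ⟩ := exists_constituent hres (by simpa using hχ.apply_one_ne_zero)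
  obtain ⟨ψ, hψ⟩ := exists_prodChar θ.2
  choose K₀ lam₀ hlam₀ using fun φ : IrrCharacter D => hD φ φ.2
  set K := fun q => K₀ (ψ q) with hK
  haveI hKfin : ∀ q, Fintype (K q) := fun q => Fintype.ofFinite _
  have hψval : ∀ q, (ψ q : D → ℂ) 1 = ((K q).index : ℂ) := fun q => by
    conv_lhs => rw [hlam₀ (ψ q)]
    rw [indFun_apply_one]
    simp [K]
  -- the functions with values in the inducing subgroups
  let B₀ : Subgroup (D ≀ᵣ Q) :=
    { carrier := {x | x.right = 1 ∧ ∀ q, x.left q ∈ K q}
      one_mem' := ⟨rfl, fun q => (K q).one_mem⟩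
      mul_mem' := fun {x y} hx hy => ⟨by simp [hx.1, hy.1], fun q => by
        simpa [hx.1] using mul_mem (hx.2 q) (hy.2 q)⟩
      inv_mem' := fun {x} hx => ⟨by simp [hx.1], fun q => by
        simpa [hx.1] using inv_mem (hx.2 q)⟩ }
  haveI := Fintype.ofFinite B₀
  let ev : ∀ q, B₀ →* K q := fun q =>
    { toFun := fun x => ⟨(x : D ≀ᵣ Q).left q, x.2.2 q⟩
      map_one' := rfl
      map_mul' := fun x y => Subtype.ext (by simp [show (x : D ≀ᵣ Q).right = 1 from x.2.1]) }
  let Λ₀ : B₀ →* ℂˣ :=
    { toFun := fun x => ∏ q, lam₀ (ψ q) (ev q x)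
      map_one' := Finset.prod_eq_one fun q _ => by rw [map_one, map_one]
      map_mul' := fun x y => by simp only [map_mul, Finset.prod_mul_distrib] }
  let e₀ : B₀ ≃ ((q : Q) → K q) :=
    { toFun := fun x q => ev q x
      invFun := fun f => ⟨⟨fun q => f q, 1⟩, rfl, fun q => (f q).2⟩
      left_inv := fun x => Subtype.ext (RegularWreathProduct.ext rfl x.2.1.symm)
      right_inv := fun f => rfl }
  have hθres : classInner (fun x : B₀ => (θ : base D Q → ℂ) ⟨x, x.2.1⟩)
      (fun x => (Λ₀ x : ℂ)) ≠ 0 := by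
    have h1 : ∀ q, ∑ d : K q, (ψ q : D → ℂ) d * conj ((lam₀ (ψ q) d : ℂˣ) : ℂ) =
        (Nat.card (K q) : ℂ) := by
      intro q
      have h := classInner_indFun (K₀ (ψ q)) (fun d => (lam₀ (ψ q) d : ℂ))
        (ψ q).2.isClassFunction
      rw [← hlam₀, classInner_irr_self (ψ q).2] at h
      have h' := congrArg conj h.symm
      rw [classInner_conj_symm, map_one] at h'
      simp only [classInner] at h'
      rwa [inv_mul_eq_one₀ card_cast_ne_zero, eq_comm] at h'
    rw [classInner]
    refine mul_ne_zero (inv_ne_zero card_cast_ne_zero) ?_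
    rw [Fintype.sum_equiv e₀ (fun x => (θ : base D Q → ℂ) ⟨x, x.2.1⟩ * conj ((Λ₀ x : ℂˣ) : ℂ))
      (fun f => ∏ q, (ψ q : D → ℂ) (f q : D) * conj ((lam₀ (ψ q) (f q) : ℂˣ) : ℂ)) fun x => by
        simp only [hψ, prodChar, Λ₀, MonoidHom.coe_mk, OneHom.coe_mk, Units.coe_prod, map_prod,
          Finset.prod_mul_distrib]
        rfl]
    rw [← Fintype.prod_sum (fun q (d : K q) => (ψ q : D → ℂ) d * conj ((lam₀ (ψ q) d : ℂˣ) : ℂ)),
      Finset.prod_ne_zero_iff]
    intro q _
    rw [h1 q]
    exact card_cast_ne_zero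
  have hχB₀ : classInner (fun x : B₀ => χ x) (fun x => (Λ₀ x : ℂ)) ≠ 0 := by
    have hrest := isCharacter_sub_constituent hres θ.2 hθ
    let j : B₀ →* base D Q := Subgroup.inclusion fun x hx => hx.1
    have hsum : (fun x : B₀ => χ x) = (fun x => (θ : base D Q → ℂ) (j x)) +
        fun x => ((fun b : base D Q => χ b) - (θ : base D Q → ℂ)) (j x) := by
      funext x
      rw [Pi.add_apply, Pi.sub_apply, add_sub_cancel]
      rfl
    rw [hsum]
    exact classInner_ne_zero_of_add (θ.2.isCharacter.comp j) (hrest.comp j)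
      (isIrrCharacter_linear Λ₀).isCharacter hθres
  have hθ1 : (θ : base D Q → ℂ) 1 = ((∏ q, (K q).index : ℕ) : ℂ) := by
    rw [hψ, prodChar_apply_one, Nat.cast_prod]
    exact Finset.prod_congr rfl fun q _ => hψval q
  have hidx₀ : B₀.index = Nat.card Q * ∏ q, (K q).index := by
    have h1 := B₀.card_mul_index
    rw [RegularWreathProduct.card, Nat.card_congr e₀, Nat.card_pi] at h1
    have h2 : (∏ q, Nat.card (K q)) * ∏ q, (K q).index = Nat.card D ^ Nat.card Q := by
      rw [← Finset.prod_mul_distrib, Finset.prod_congr rfl fun q _ => (K q).card_mul_index,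
        Finset.prod_const, Finset.card_univ, Nat.card_eq_fintype_card (α := Q)]
    rw [← h2] at h1
    refine Nat.eq_of_mul_eq_mul_left (Finset.prod_pos fun q _ => Nat.card_pos) (h1.trans ?_)
    ring
  by_cases hcon : ∀ q, ψ q = ψ 1
  · -- invariant: extend to the wreath product of the inducing subgroup
    obtain ⟨c, hc⟩ : ∃ c, c = ψ 1 := ⟨_, rfl⟩
    obtain rfl : ψ = fun _ => c := funext fun q => (hcon q).trans hc.symm
    let H : Subgroup (D ≀ᵣ Q) :=
      { carrier := {x | ∀ q, x.left q ∈ K₀ c}
        one_mem' := fun q => (K₀ c).one_mem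
        mul_mem' := fun {x y} hx hy q => by simpa using mul_mem (hx q) (hy _)
        inv_mem' := fun {x} hx q => by simpa using inv_mem (hx _) }
    haveI := Fintype.ofFinite H
    let Λ : H →* ℂˣ :=
      { toFun := fun x => ∏ q, lam₀ c ⟨(x : D ≀ᵣ Q).left q, x.2 q⟩
        map_one' := Finset.prod_eq_one fun q _ => map_one (lam₀ c)
        map_mul' := fun x y => by
          rw [← Fintype.prod_equiv (Equiv.mulLeft ((x : D ≀ᵣ Q).right)⁻¹)
            (fun q => lam₀ c ⟨(y : D ≀ᵣ Q).left ((x : D ≀ᵣ Q).right⁻¹ * q), y.2 _⟩)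
            (fun q => lam₀ c ⟨(y : D ≀ᵣ Q).left q, y.2 q⟩) fun q => rfl, ← Finset.prod_mul_distrib]
          exact Finset.prod_congr rfl fun q _ => by rw [← map_mul]; rfl }
    let π : H →* Q := (RegularWreathProduct.rightHom (D := D) (Q := Q)).comp H.subtype
    haveI : Fintype (Q →* ℂˣ) := Fintype.ofFinite _
    have hex : ∃ μ : Q →* ℂˣ,
        classInner (fun x : H => χ x) (fun x => ((Λ * μ.comp π) x : ℂ)) ≠ 0 := by
      by_contra hno
      push Not at hno
      apply hχB₀
      have h0 : ∑ x : H, χ x * conj ((Λ x : ℂˣ) : ℂ) *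
          conj (∑ μ : Q →* ℂˣ, ((μ (π x) : ℂˣ) : ℂ)) = 0 := by
        simp only [map_sum, Finset.mul_sum]
        rw [Finset.sum_comm]
        refine Finset.sum_eq_zero fun μ _ => ?_
        have h := hno μ
        simp only [classInner, mul_eq_zero, inv_eq_zero, card_cast_ne_zero, false_or] at h
        refine Eq.trans (Finset.sum_congr rfl fun x _ => ?_) h
        simp [mul_assoc]
      letI : CommGroup Q := IsCyclic.commGroup
      have hμsum : ∀ q : Q, q ≠ 1 → ∑ μ : Q →* ℂˣ, ((μ q : ℂˣ) : ℂ) = 0 := by
        intro q hq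
        obtain ⟨μ₀, hμ₀⟩ : ∃ μ₀ : Q →* ℂˣ, μ₀ q ≠ 1 := by
          by_contra hall
          push Not at hall
          exact hq (eq_one_of_forall_hom (fun a b => mul_comm a b) hall)
        have h1 : ((μ₀ q : ℂˣ) : ℂ) * ∑ μ : Q →* ℂˣ, ((μ q : ℂˣ) : ℂ) =
            ∑ μ : Q →* ℂˣ, ((μ q : ℂˣ) : ℂ) := by
          rw [Finset.mul_sum]
          exact Fintype.sum_equiv (Equiv.mulLeft μ₀) _ _ fun μ => by simp
        exact eq_zero_of_mul_eq_self_left (fun e => hμ₀ (Units.ext e)) h1
      let j₀ : B₀ → H := fun x => ⟨x, x.2.2⟩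
      have h2 : ∑ x : H, χ x * conj ((Λ x : ℂˣ) : ℂ) *
          conj (∑ μ : Q →* ℂˣ, ((μ (π x) : ℂˣ) : ℂ)) =
          ∑ x : B₀, χ x * conj ((Λ₀ x : ℂˣ) : ℂ) * (Fintype.card (Q →* ℂˣ) : ℂ) := by
        symm
        refine (Finset.sum_nbij' (s := Finset.univ) (t := Finset.univ.filter fun x : H => π x = 1)
          j₀ (fun x => if hx : π x = 1 then ⟨x, hx, x.2⟩ else 1) ?_ ?_ ?_ ?_ ?_).trans
          (Finset.sum_subset (Finset.filter_subset _ _) ?_)
        · exact fun x _ => Finset.mem_filter.2 ⟨Finset.mem_univ _, x.2.1⟩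
        · exact fun x _ => Finset.mem_univ _
        · intro x _
          exact dif_pos (show π (j₀ x) = 1 from x.2.1)
        · intro x hx
          have hx' := (Finset.mem_filter.1 hx).2
          show j₀ (dite (π x = 1) _ _) = x
          rw [dif_pos hx']
        · intro x _
          rw [show π (j₀ x) = 1 from x.2.1]
          simp only [map_one, Units.val_one, Finset.sum_const, Finset.card_univ, nsmul_eq_mul,
            mul_one, map_natCast]
          rfl
        · intro x _ hx
          rw [hμsum _ (by simpa using hx), map_zero, mul_zero]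
      rw [h2, ← Finset.sum_mul, mul_eq_zero] at h0
      simp only [classInner, mul_eq_zero, inv_eq_zero]
      exact Or.inr (h0.resolve_right (Nat.cast_ne_zero.2 Fintype.card_ne_zero))
    obtain ⟨μ, hμ⟩ := hex
    refine ⟨H, Λ * μ.comp π, eq_indFun_of_le_degree H _ hχ ?_ ?_⟩
    · rw [classInner_indFun H _ hχ.isClassFunction, ← classInner_conj_symm]
      exact fun h => hμ (by simpa using h)
    · have hidx : H.index = ∏ _q : Q, (K₀ c).index := by
        have h1 := H.card_mul_index
        let eH : H ≃ (Q → K₀ c) × Q :=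
          { toFun := fun x => (fun q => ⟨(x : D ≀ᵣ Q).left q, x.2 q⟩, (x : D ≀ᵣ Q).right)
            invFun := fun f => ⟨⟨fun q => f.1 q, f.2⟩, fun q => (f.1 q).2⟩
            left_inv := fun x => rfl
            right_inv := fun f => rfl }
        rw [RegularWreathProduct.card, Nat.card_congr eH, Nat.card_prod, Nat.card_fun,
          ← (K₀ c).card_mul_index, mul_pow] at h1
        rw [Finset.prod_const, Finset.card_univ, ← Nat.card_eq_fintype_card]
        refine Nat.eq_of_mul_eq_mul_left (Nat.mul_pos (pow_pos Nat.card_pos _) Nat.card_pos)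
          (h1.trans ?_)
        ring
      have hle := degree_le_of_constituent θ.2 hres hθ
      simp only [OneMemClass.coe_one, hθ1, hχ.apply_one_eq_charDegree, Complex.natCast_re,
        Nat.cast_le] at hle
      exact hidx.le.trans hle
  · -- not invariant: induced from the base group
    have hin : inertia (base D Q) (θ : base D Q → ℂ) = base D Q := by
      refine le_antisymm (fun g hg => ?_) (le_inertia _ θ.2.isClassFunction)
      rw [mem_base]
      by_contra hg1
      apply hcon
      have hg' := (mem_inertia (base D Q)).1 hg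
      have hshift : ψ = fun q => ψ (g.right * q) := by
        refine prodChar_injective (hψ.symm.trans (hg'.symm.trans ?_))
        funext b
        rw [conjTwist_apply, hψ]
        simp only [prodChar]
        refine (Fintype.prod_equiv (Equiv.mulLeft g.right) _ _ fun q => ?_).symm
        rw [conj_left g b b.2]
        simp only [Equiv.coe_mulLeft, inv_mul_cancel_left]
        exact ((ψ (g.right * q)).2.isClassFunction _ _).symm
      intro q
      have htop : Subgroup.zpowers g.right = ⊤ := by
        refine ((Subgroup.zpowers g.right).eq_bot_or_eq_top_of_prime_card).resolve_left ?_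
        simpa using hg1
      obtain ⟨i, rfl⟩ := (isOfFinOrder_of_finite g.right).mem_powers_iff_mem_zpowers.2
        (htop ▸ Subgroup.mem_top q : q ∈ Subgroup.zpowers g.right)
      induction i with
      | zero => simp
      | succ i ih =>
        show ψ (g.right ^ (i + 1)) = ψ 1
        rw [pow_succ']
        exact (congrFun hshift _).symm.trans ih
    obtain ⟨hirr, hci⟩ := clifford_induce (base D Q) (T := base D Q) θ.2 le_rfl hin.symm
      (ψ := (θ : base D Q → ℂ)) θ.2 (by rw [classInner_irr_self θ.2]; exact one_ne_zero)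
    have hχeq : χ = indFun (base D Q) (θ : base D Q → ℂ) := by
      by_contra hne
      apply hθ
      rw [← classInner_conj_symm, ← classInner_indFun (base D Q) _ hχ.isClassFunction,
        classInner_irr_ne hirr hχ (Ne.symm hne), map_zero]
    refine ⟨B₀, Λ₀, eq_indFun_of_le_degree B₀ Λ₀ hχ ?_ (le_of_eq ?_)⟩
    · rw [classInner_indFun B₀ _ hχ.isClassFunction, ← classInner_conj_symm]
      exact fun h => hχB₀ (by simpa using h)
    · have h1 : χ 1 = ((Nat.card Q * ∏ q, (K q).index : ℕ) : ℂ) := by
        rw [hχeq, indFun_apply_one, index_base, hθ1]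
        push_cast
        rfl
      rw [hχ.apply_one_eq_charDegree, Nat.cast_inj] at h1
      rw [hidx₀, h1]

end Cfsg.Lib.Char
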