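import Cfsg.Agent.Lib.Char.ZassenhausOdd

/-!
# Zassenhaus groups whose two-point stabilizer lies in the derived group
-/

set_option autoImplicit false
set_option linter.style.haveILetI false

namespace Cfsg.Lib.Char

open Cfsg
open scoped commutatorElement Pointwise

universe u v

variable {G : Type u} {Ω : Type v} [Group G] [Finite G] [MulAction G Ω] [Fintype Ω]
  (hZ : IsZassenhausGroup G Ω) {a b : Ω} (hab : a ≠ b)
  (hodd : Odd (Nat.card ↥(MulAction.stabilizer G a ⊓ MulAction.stabilizer G b : Subgroup G)))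

local notation "DD" => (MulAction.stabilizer G a ⊓ MulAction.stabilizer G b : Subgroup G)

include hZ hab hodd

/-- The two-point stabilizer is a Hall subgroup. -/
theorem zas_D_coprime_index_gen : (Nat.card DD).Coprime (DD).index := by
  classical
  refine Nat.coprime_of_dvd fun r hr hrd hri => ?_
  haveI := Fact.mk hr
  have hr2 : r ≠ 2 := by
    rintro rfl
    obtain ⟨k, hk⟩ := hodd
    omega
  obtain ⟨x, hx⟩ := exists_prime_orderOf_dvd_card' r hrd
  rw [← Subgroup.orderOf_coe] at hx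
  have hx1 : (x : G) ≠ 1 := fun e => by rw [e, orderOf_one] at hx; exact hr.one_lt.ne hx
  have hP : IsPGroup r (Subgroup.zpowers (x : G)) :=
    IsPGroup.of_card (n := 1) (by rw [Nat.card_zpowers, hx, pow_one])
  have hmod := hP.card_modEq_card_fixedPoints (α := Ω)
  have hfix : MulAction.fixedPoints (Subgroup.zpowers (x : G)) Ω = {a, b} := by
    ext c
    constructor
    · intro hc
      by_contra hh
      simp only [Set.mem_insert_iff, Set.mem_singleton_iff, not_or] at hh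
      exact hx1 (hZ.2.2.1 _ a b c hab (Ne.symm hh.2) (Ne.symm hh.1) x.2.1 x.2.2
        (hc ⟨_, Subgroup.mem_zpowers _⟩))
    · intro hc
      rintro ⟨g, k, rfl⟩
      have : (x : G) ∈ MulAction.stabilizer G c := by
        rcases hc with rfl | rfl
        · exact x.2.1
        · exact x.2.2
      exact Subgroup.zpow_mem _ this k
  rw [hfix, Nat.card_eq_fintype_card, Nat.card_coe_set_eq, Set.ncard_pair hab] at hmod
  obtain ⟨-, hG⟩ := zas_card_group hZ hab
  have h3 := zas_two_lt_card hZ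
  set n := Fintype.card Ω
  have hidx : (DD).index = n * (n - 1) := by
    apply Nat.eq_of_mul_eq_mul_left (Nat.card_pos (α := ↥DD))
    rw [(DD).card_mul_index, hG]; ring
  rw [hidx] at hri
  rcases hr.dvd_mul.mp hri with h | h
  · have h2 : r ∣ 2 := (Nat.modEq_zero_iff_dvd).mp (hmod.symm.trans (Nat.modEq_zero_iff_dvd.mpr h))
    exact hr2 ((Nat.prime_dvd_prime_iff_eq hr Nat.prime_two).mp h2)
  · have h1 : r ∣ n - 2 := (Nat.modEq_iff_dvd' (by omega)).mp hmod.symm
    have : r ∣ (n - 1) - (n - 2) := Nat.dvd_sub h h1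
    rw [show (n - 1) - (n - 2) = 1 by omega] at this
    exact hr.not_dvd_one this

variable (hDG : (MulAction.stabilizer G a ⊓ MulAction.stabilizer G b : Subgroup G) ≤ commutator G)

include hDG

/-- A linear character of the two-point stabilizer invariant under the swap is trivial. -/
theorem zas_lin_eq_one_gen {s : G} (hsa : s • a = b) (hsb : s • b = a) (l : ↥DD →* ℂˣ)
    (hl : ∀ x : ↥DD, l ⟨s * x * s⁻¹, (zas_swap_conj hZ hab hsa hsb x.2).1⟩ = l x) : l = 1 := by
  have hfoc : (DD).focalSubgroup = DD := by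
    refine (Cfsg.Agent.S0080.result DD ?_).1.trans (inf_eq_right.mpr hDG)
    exact ((zas_D_coprime_index_gen hZ hab hodd).symm).coprime_dvd_right
      (Subgroup.relIndex_dvd_card _ _)
  have hle : (DD).focalSubgroup ≤ l.ker.map (DD).subtype := by
    rw [Subgroup.focalSubgroup_def, Subgroup.closure_le]
    rintro g ⟨hg, x, hx, u, rfl⟩
    refine ⟨⟨_, hg⟩, ?_, rfl⟩
    show l _ = 1
    have hy : u * x⁻¹ * u⁻¹ ∈ DD := by
      have := (DD).mul_mem ((DD).inv_mem hx) hg
      rwa [show x⁻¹ * ⁅x, u⁆ = u * x⁻¹ * u⁻¹ by rw [commutatorElement_def]; group] at this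
    rw [show (⟨⁅x, u⁆, hg⟩ : ↥DD) = ⟨x, hx⟩ * ⟨_, hy⟩ from Subtype.ext (by
      show ⁅x, u⁆ = x * (u * x⁻¹ * u⁻¹)
      rw [commutatorElement_def]; group), map_mul]
    by_cases hx1 : x = 1
    · subst hx1
      rw [← map_mul, show (⟨1, hx⟩ : ↥DD) * ⟨_, hy⟩ = 1 from Subtype.ext (by simp), map_one]
    rcases zas_set_stab hZ hab ((DD).inv_mem hx) (inv_ne_one.mpr hx1) hy with ⟨h1, h2⟩ | ⟨h1, h2⟩
    · have hu : u ∈ DD := ⟨h1, h2⟩
      rw [show (⟨_, hy⟩ : ↥DD) = ⟨u, hu⟩ * (⟨x, hx⟩ : ↥DD)⁻¹ * (⟨u, hu⟩ : ↥DD)⁻¹ from rfl, map_mul,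
        map_mul, map_inv, map_inv, mul_comm (l ⟨u, hu⟩), mul_inv_cancel_right, mul_inv_cancel]
    · have hd : s⁻¹ * u ∈ DD := ⟨show (s⁻¹ * u) • a = a by rw [mul_smul, h1, inv_smul_eq_iff, hsa],
        show (s⁻¹ * u) • b = b by rw [mul_smul, h2, inv_smul_eq_iff, hsb]⟩
      set w : ↥DD := ⟨s⁻¹ * u, hd⟩ * (⟨x, hx⟩ : ↥DD)⁻¹ * (⟨s⁻¹ * u, hd⟩ : ↥DD)⁻¹ with hw
      rw [show (⟨_, hy⟩ : ↥DD) = ⟨s * w * s⁻¹, (zas_swap_conj hZ hab hsa hsb w.2).1⟩ from
        Subtype.ext (by
          show u * x⁻¹ * u⁻¹ = s * ((s⁻¹ * u) * x⁻¹ * (s⁻¹ * u)⁻¹) * s⁻¹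
          group), hl, hw, map_mul, map_mul, map_inv, map_inv, mul_comm (l ⟨s⁻¹ * u, hd⟩),
        mul_inv_cancel_right, mul_inv_cancel]
  rw [hfoc] at hle
  refine MonoidHom.ext fun x => ?_
  obtain ⟨y, hy, hyx⟩ := hle x.2
  rw [← (Subtype.ext hyx : y = x)]
  exact hy

/-- An involution swapping the two points inverts their stabilizer. -/
theorem zas_invert_gen {s : G} (hs : orderOf s = 2) (hsa : s • a = b) (hsb : s • b = a) {x : G}
    (hx : x ∈ DD) : s * x * s⁻¹ = x⁻¹ := by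
  classical
  haveI := Fintype.ofFinite ↥DD
  have hss : s * s = 1 := by rw [← pow_two, ← hs, pow_orderOf_eq_one]
  let σ : ↥DD →* ↥DD :=
    { toFun := fun y => ⟨s * y * s⁻¹, (zas_swap_conj hZ hab hsa hsb y.2).1⟩
      map_one' := Subtype.ext (by simp)
      map_mul' := fun y z => Subtype.ext (by simp [mul_assoc]) }
  have hσσ : ∀ y, σ (σ y) = y := fun y => Subtype.ext (by
    show s * (s * y * s⁻¹) * s⁻¹ = y
    have : s⁻¹ = s := inv_eq_of_mul_eq_one_right hss
    rw [this, ← mul_assoc, ← mul_assoc, hss, one_mul, mul_assoc, hss, mul_one])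
  -- modulo the derived subgroup
  have hmod : ∀ y : ↥DD, y * σ y ∈ commutator ↥DD := by
    intro y
    haveI : Finite (Abelianization ↥DD) := Quotient.finite _
    have hinj : Abelianization.of (y * σ y) = 1 := by
      by_contra hne
      obtain ⟨φ, hφ⟩ := CommGroup.exists_apply_ne_one_of_hasEnoughRootsOfUnity
        (Abelianization ↥DD) ℂ hne
      let l₀ : ↥DD →* ℂˣ := φ.comp Abelianization.of
      have := zas_lin_eq_one_gen hZ hab hodd hDG hsa hsb (l₀ * l₀.comp σ) (fun z => by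
        show l₀ (σ z) * l₀ (σ (σ z)) = l₀ z * l₀ (σ z)
        rw [hσσ, mul_comm])
      have h1 : l₀ y * l₀ (σ y) = 1 := DFunLike.congr_fun this y
      exact hφ (by rw [← map_mul] at h1; exact h1)
    exact (QuotientGroup.eq_one_iff _).mp hinj
  haveI := zas_isZGroup hZ hab hodd
  haveI : IsCyclic (commutator ↥DD) := IsZGroup.isCyclic_commutator _
  -- the derived subgroup is central
  have hcent : commutator ↥DD ≤ Subgroup.center ↥DD := by
    intro z hz
    obtain ⟨z₀, hz₀⟩ := IsCyclic.exists_generator (α := commutator ↥DD)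
    have haut : ∀ f : ↥DD →* ↥DD, (∀ w ∈ commutator ↥DD, f w ∈ commutator ↥DD) →
        ∃ k : ℤ, ∀ w ∈ commutator ↥DD, f w = w ^ k := by
      intro f hf
      obtain ⟨k, hk⟩ := Subgroup.mem_zpowers_iff.mp (hz₀ ⟨f z₀, hf _ z₀.2⟩)
      refine ⟨k, fun w hw => ?_⟩
      obtain ⟨i, hi⟩ := Subgroup.mem_zpowers_iff.mp (hz₀ ⟨w, hw⟩)
      have hk' : ((z₀ : ↥DD)) ^ k = f z₀ := by rw [← SubgroupClass.coe_zpow, hk]
      have hi' : ((z₀ : ↥DD)) ^ i = w := by rw [← SubgroupClass.coe_zpow, hi]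
      rw [← hi', map_zpow, ← hk', ← zpow_mul, ← zpow_mul, mul_comm]
    have hnc : (commutator ↥DD).Normal := inferInstance
    have hσc : ∀ w ∈ commutator ↥DD, σ w ∈ commutator ↥DD := fun w hw =>
      (show (commutator ↥DD).map σ ≤ commutator ↥DD by
        rw [commutator_def, Subgroup.map_commutator]
        exact Subgroup.commutator_mono le_top le_top) (Subgroup.mem_map_of_mem σ hw)
    obtain ⟨m, hm⟩ := haut σ hσc
    refine Subgroup.mem_center_iff.mpr fun y => ?_
    obtain ⟨k, hk⟩ := haut (MulAut.conj y).toMonoidHom fun w hw => hnc.conj_mem w hw y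
    -- `σ y` and `y⁻¹` induce the same power map
    have hcomm : ∀ u w : ↥DD, u ∈ commutator ↥DD → w ∈ commutator ↥DD → u * w = w * u := fun u w hu hw => by
      letI := IsCyclic.commGroup (α := commutator ↥DD)
      exact congrArg Subtype.val (mul_comm (⟨u, hu⟩ : commutator ↥DD) ⟨w, hw⟩)
    have hσy : ∀ w ∈ commutator ↥DD, σ y * w * (σ y)⁻¹ = w ^ k := by
      intro w hw
      have h1 : y * σ w * y⁻¹ = (σ w) ^ k := hk _ (hσc w hw)
      have h2 := congrArg σ h1
      rw [map_mul, map_mul, map_inv, map_zpow, hσσ] at h2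
      exact h2
    have hinv : ∀ w ∈ commutator ↥DD, y⁻¹ * w * y = w ^ k := by
      intro w hw
      have hc := hmod y
      have h1 := hσy w hw
      rw [show σ y = y⁻¹ * (y * σ y) by group, mul_inv_rev, inv_inv] at h1
      calc y⁻¹ * w * y = y⁻¹ * ((y * σ y) * w * (y * σ y)⁻¹) * y := by
            rw [hcomm _ w hc hw, mul_inv_cancel_right]
        _ = w ^ k := by rw [← h1]; group
    have hfix : ∀ w ∈ commutator ↥DD, (y ^ 2) * w * (y ^ 2)⁻¹ = w := by
      intro w hw
      have hw' : y * w * y⁻¹ ∈ commutator ↥DD := hnc.conj_mem w hw y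
      have h1 : y * w * y⁻¹ = y⁻¹ * w * y := (hk w hw).trans (hinv w hw).symm
      calc y ^ 2 * w * (y ^ 2)⁻¹ = y * (y * w * y⁻¹) * y⁻¹ := by rw [pow_two]; group
        _ = w := by rw [h1]; group
    obtain ⟨j, hj⟩ := hodd
    have hyj : (y ^ 2) ^ (j + 1) = y := by
      rw [← pow_mul, show 2 * (j + 1) = Nat.card ↥DD + 1 by omega, pow_succ, pow_card_eq_one', one_mul]
    have h2 : Commute (y ^ 2) z := mul_inv_eq_iff_eq_mul.mp (hfix z hz)
    exact (hyj ▸ h2.pow_left (j + 1))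
  haveI : Group.IsNilpotent ↥DD := by
    have : Group.IsNilpotent (Abelianization ↥DD) := inferInstance
    exact Subgroup.isNilpotent_of_ker_le_center (Abelianization.of : ↥DD →* Abelianization ↥DD)
      (by rw [Abelianization.ker_of]; exact hcent)
  letI := IsCyclic.commGroup (α := ↥DD)
  have hbot : commutator ↥DD = ⊥ := by
    rw [commutator_def, Subgroup.commutator_eq_bot_iff_le_centralizer]
    intro u _ w _
    exact mul_comm w u
  have h := hmod ⟨x, hx⟩
  rw [hbot, Subgroup.mem_bot] at h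
  have h2 : x * (s * x * s⁻¹) = 1 := congrArg Subtype.val h
  exact (inv_eq_of_mul_eq_one_right h2).symm

theorem zas_D_comm_gen {x y : G} (hx : x ∈ DD) (hy : y ∈ DD) : x * y = y * x := by
  obtain ⟨s, hs, hsa, hsb⟩ := (Cfsg.Agent.S0740.result hZ hab).1
  have h1 := zas_invert_gen hZ hab hodd hDG hs hsa hsb ((DD).mul_mem hx hy)
  rw [show s * (x * y) * s⁻¹ = s * x * s⁻¹ * (s * y * s⁻¹) by group,
    zas_invert_gen hZ hab hodd hDG hs hsa hsb hx, zas_invert_gen hZ hab hodd hDG hs hsa hsb hy, mul_inv_rev] at h1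
  calc x * y = (y⁻¹ * x⁻¹)⁻¹ := by group
    _ = y * x := by rw [← h1]; group

end Cfsg.Lib.Char
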